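/-
Lib/Lead/Spectral.lean -- small toolkit on spectral spaces, built on Mathlib's compactness of the
constructible topology.
-/
import Mathlib.Topology.Spectral.ConstructibleTopology

set_option autoImplicit false
universe u v

namespace Groth.Agent.Lib.Lead

open Topology

/-- A spectral space is compact in its constructible topology (transported from Mathlib's instance on
the type synonym). -/
theorem compactSpace_constructibleTopology (X : Type u) [TopologicalSpace X] [SpectralSpace X] :
    @CompactSpace X (constructibleTopology X) :=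
  @Function.Surjective.compactSpace (WithConstructibleTopology X) X _ (constructibleTopology X) _
    (WithTopology.continuous_ofTopology _) inferInstance (WithTopology.ofTopology_surjective _)

/-- A quasi-compact open set is closed in the constructible topology. -/
theorem isClosed_constructibleTopology_of_isOpen_isCompact {X : Type u} [TopologicalSpace X]
    {U : Set X} (hU : IsOpen U) (hUc : IsCompact U) : IsClosed[constructibleTopology X] U := by
  refine @IsClosed.mk X (constructibleTopology X) _ ?_
  apply IsCompact.isOpen_constructibleTopology_of_isClosed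
  · simpa using hUc
  · exact hU.isClosed_compl

/-- An open set of a prespectral space is open in the constructible topology. -/
theorem isOpen_constructibleTopology_of_isOpen {X : Type u} [TopologicalSpace X] [PrespectralSpace X]
    {U : Set X} (hU : IsOpen U) : IsOpen[constructibleTopology X] U := by
  have hb := PrespectralSpace.isTopologicalBasis (X := X)
  rw [hb.open_eq_sUnion' hU]
  refine @isOpen_sUnion X (constructibleTopology X) _ ?_
  rintro W ⟨hW, -⟩
  exact hW.2.isOpen_constructibleTopology_of_isOpen hW.1

/-- A closed set of a prespectral space is closed in the constructible topology. -/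
theorem isClosed_constructibleTopology_of_isClosed {X : Type u} [TopologicalSpace X]
    [PrespectralSpace X] {Z : Set X} (hZ : IsClosed Z) : IsClosed[constructibleTopology X] Z := by
  refine @IsClosed.mk X (constructibleTopology X) _ ?_
  exact isOpen_constructibleTopology_of_isOpen hZ.isOpen_compl

/-- Patch compactness in a convenient form: a family of sets, each closed or quasi-compact open, with
empty intersection has a finite subfamily with empty intersection. -/
theorem exists_finset_iInter_eq_empty {X : Type u} [TopologicalSpace X] [SpectralSpace X]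
    {ι : Type v} (t : ι → Set X)
    (ht : ∀ i, IsClosed (t i) ∨ (IsOpen (t i) ∧ IsCompact (t i))) (h : (⋂ i, t i) = ∅) :
    ∃ u : Finset ι, (⋂ i ∈ u, t i) = ∅ := by
  have hcl : ∀ i, IsClosed[constructibleTopology X] (t i) := by
    intro i
    rcases ht i with h | h
    · exact isClosed_constructibleTopology_of_isClosed h
    · exact isClosed_constructibleTopology_of_isOpen_isCompact h.1 h.2
  obtain ⟨u, hu⟩ := @IsCompact.elim_finite_subfamily_closed X (constructibleTopology X) Set.univ ι
    (@isCompact_univ X (constructibleTopology X) (compactSpace_constructibleTopology X))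
    t hcl (by rw [h]; simp)
  rw [Set.univ_inter] at hu
  exact ⟨u, hu⟩

/-- In a spectral space, a point lying in every quasi-compact open neighbourhood of `x` specialises
to `x`. -/
theorem specializes_of_forall_isCompact_isOpen {X : Type u} [TopologicalSpace X] [PrespectralSpace X]
    {p x : X} (h : ∀ W : Set X, IsOpen W → IsCompact W → x ∈ W → p ∈ W) : p ⤳ x := by
  rw [specializes_iff_forall_open]
  intro O hO hxO
  obtain ⟨W, hW, hxW, hWO⟩ :=
    PrespectralSpace.isTopologicalBasis.exists_subset_of_mem_open hxO hO
  exact hWO (h W hW.1 hW.2 hxW)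

/-- Two distinct closed points of a spectral space can be separated by open sets, relative to any
set `Z` of closed points which is closed. -/
theorem exists_open_separation_closedPoints {X : Type u} [TopologicalSpace X] [SpectralSpace X]
    (Z : Set X) (hZ : IsClosed Z) (hZpts : ∀ z ∈ Z, IsClosed ({z} : Set X))
    {x y : X} (hxy : x ≠ y) :
    ∃ U V : Set X, IsOpen U ∧ IsOpen V ∧ x ∈ U ∧ y ∈ V ∧ U ∩ V ∩ Z = ∅ := by
  classical
  let ι := Option {W : Set X // IsOpen W ∧ IsCompact W ∧ (x ∈ W ∨ y ∈ W)}
  let t : ι → Set X := fun i => match i with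
    | none => Z
    | some W => (W : Set X)
  have ht : ∀ i, IsClosed (t i) ∨ (IsOpen (t i) ∧ IsCompact (t i)) := by
    intro i
    match i with
    | none => exact Or.inl hZ
    | some W => exact Or.inr ⟨W.2.1, W.2.2.1⟩
  have hempty : (⋂ i, t i) = ∅ := by
    rw [Set.eq_empty_iff_forall_notMem]
    intro p hp
    rw [Set.mem_iInter] at hp
    have hpZ : p ∈ Z := hp none
    have hpcl : IsClosed ({p} : Set X) := hZpts p hpZ
    have h1 : p ⤳ x := specializes_of_forall_isCompact_isOpen fun W hW hWc hxW =>
      hp (some ⟨W, hW, hWc, Or.inl hxW⟩)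
    have h2 : p ⤳ y := specializes_of_forall_isCompact_isOpen fun W hW hWc hyW =>
      hp (some ⟨W, hW, hWc, Or.inr hyW⟩)
    have e1 : x = p := by
      have := h1.mem_closed hpcl (Set.mem_singleton p)
      simpa using this
    have e2 : y = p := by
      have := h2.mem_closed hpcl (Set.mem_singleton p)
      simpa using this
    exact hxy (e1.trans e2.symm)
  obtain ⟨u, hu⟩ := exists_finset_iInter_eq_empty t ht hempty
  refine ⟨⋂ i ∈ u.filter (fun i : ι => ∃ W, i = some W ∧ x ∈ (W : Set X)), t i,
    ⋂ i ∈ u.filter (fun i : ι => ∃ W, i = some W ∧ x ∉ (W : Set X)), t i, ?_, ?_, ?_, ?_, ?_⟩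
  · refine isOpen_biInter_finset fun i hi => ?_
    obtain ⟨W, rfl, -⟩ := (Finset.mem_filter.1 hi).2
    exact W.2.1
  · refine isOpen_biInter_finset fun i hi => ?_
    obtain ⟨W, rfl, -⟩ := (Finset.mem_filter.1 hi).2
    exact W.2.1
  · simp only [Set.mem_iInter, Finset.mem_filter]
    rintro i ⟨-, W, rfl, hxW⟩
    exact hxW
  · simp only [Set.mem_iInter, Finset.mem_filter]
    rintro i ⟨-, W, rfl, hxW⟩
    exact W.2.2.2.resolve_left hxW
  · rw [Set.eq_empty_iff_forall_notMem]
    rintro p ⟨⟨hpU, hpV⟩, hpZ⟩
    have : p ∈ ⋂ i ∈ u, t i := by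
      simp only [Set.mem_iInter]
      intro i hi
      match i, hi with
      | none, _ => exact hpZ
      | some W, hi =>
        by_cases hxW : x ∈ (W : Set X)
        · simp only [Set.mem_iInter, Finset.mem_filter] at hpU
          exact hpU (some W) ⟨hi, W, rfl, hxW⟩
        · simp only [Set.mem_iInter, Finset.mem_filter] at hpV
          exact hpV (some W) ⟨hi, W, rfl, hxW⟩
    rw [hu] at this
    exact this

/-- In a spectral space, if the closed set `Z` consists of closed points, then the trace on `Z` of a
quasi-compact open set is closed. -/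
theorem isClosed_inter_of_closedPoints {X : Type u} [TopologicalSpace X] [SpectralSpace X]
    (Z : Set X) (hZ : IsClosed Z) (hZpts : ∀ z ∈ Z, IsClosed ({z} : Set X))
    {U : Set X} (hUc : IsCompact U) : IsClosed (U ∩ Z) := by
  rw [← isOpen_compl_iff, isOpen_iff_forall_mem_open]
  intro y hy
  by_cases hyZ : y ∈ Z
  · have hyU : y ∉ U := fun h => hy ⟨h, hyZ⟩
    have hK : IsCompact (U ∩ Z) := hUc.inter_right hZ
    have hsep : ∀ p : X, p ∈ U ∩ Z → ∃ A B : Set X, IsOpen A ∧ IsOpen B ∧ p ∈ A ∧ y ∈ B ∧
        A ∩ B ∩ Z = ∅ := by
      intro p hp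
      have hne : p ≠ y := fun h => hyU (h ▸ hp.1)
      exact exists_open_separation_closedPoints Z hZ hZpts hne
    choose! A B hA hB hpA hyB hAB using hsep
    obtain ⟨s, hsK, hsfin, hs⟩ := hK.elim_finite_subcover_image (b := U ∩ Z) (c := A)
      (fun p hp => hA p hp) (fun p hp => Set.mem_biUnion hp (hpA p hp))
    refine ⟨⋂ p ∈ s, B p, ?_, ?_, ?_⟩
    · intro q hq hqUZ
      rw [Set.mem_iInter₂] at hq
      obtain ⟨p, hps, hqA⟩ := Set.mem_iUnion₂.1 (hs hqUZ)
      have : q ∈ A p ∩ B p ∩ Z := ⟨⟨hqA, hq p hps⟩, hqUZ.2⟩
      rw [hAB p (hsK hps)] at this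
      exact this
    · exact hsfin.isOpen_biInter fun p hp => hB p (hsK hp)
    · rw [Set.mem_iInter₂]
      intro p hp
      exact hyB p (hsK hp)
  · exact ⟨Zᶜ, fun q hq hqUZ => hq hqUZ.2, hZ.isOpen_compl, hyZ⟩

end Groth.Agent.Lib.Lead
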