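import Mathlib.Topology.KrullDimension
import Mathlib.Topology.Separation.Basic
import Mathlib.Topology.Sober

/-! Points of a closed subset of Krull dimension `≤ 0` of a T0 space are closed. -/

namespace Groth.Agent.Lib.Lead.ZeroDimPts

theorem isClosed_singleton_of_dim_le_zero {α : Type*} [TopologicalSpace α] [T0Space α]
    {Z : Set α} (hZ : IsClosed Z) (hdim : topologicalKrullDim Z ≤ 0) {x : α} (hx : x ∈ Z) :
    IsClosed ({x} : Set α) := by
  rw [← closure_eq_iff_isClosed]
  refine Set.Subset.antisymm ?_ subset_closure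
  intro y hy
  have hyZ : y ∈ Z := (closure_minimal (Set.singleton_subset_iff.mpr hx) hZ) hy
  let x' : Z := ⟨x, hx⟩
  let y' : Z := ⟨y, hyZ⟩
  let Cx : TopologicalSpace.IrreducibleCloseds Z :=
    ⟨closure {x'}, isIrreducible_singleton.closure, isClosed_closure⟩
  let Cy : TopologicalSpace.IrreducibleCloseds Z :=
    ⟨closure {y'}, isIrreducible_singleton.closure, isClosed_closure⟩
  have hy' : y' ∈ closure ({x'} : Set Z) := by
    rw [closure_subtype, Set.image_singleton]
    exact hy
  have hle : Cy ≤ Cx := by
    intro z hz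
    have hz' : z ∈ closure ({y'} : Set Z) := hz
    exact (closure_minimal (Set.singleton_subset_iff.mpr hy') isClosed_closure) hz'
  have hdim' : Order.krullDim (TopologicalSpace.IrreducibleCloseds Z) ≤ 0 := hdim
  have hmin := (Order.krullDim_nonpos_iff_forall_isMin.mp hdim') Cx
  have hle' : Cx ≤ Cy := hmin hle
  have hx' : x' ∈ closure ({y'} : Set Z) := hle' (subset_closure (Set.mem_singleton x'))
  have h1 : x' ⤳ y' := specializes_iff_mem_closure.mpr hy'
  have h2 : y' ⤳ x' := specializes_iff_mem_closure.mpr hx'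
  have h3 : x' = y' := (h1.antisymm h2).eq
  have h4 : x = y := congrArg Subtype.val h3
  exact h4 ▸ Set.mem_singleton x

end Groth.Agent.Lib.Lead.ZeroDimPts
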