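import Groth.Agent.Lib.Lead.CycPullAlg
import Groth.Agent.Lib.Helper5.StalkKer

/-!
# Flat pullback of orders of vanishing (lead)

`pull_ord_formula`: for `f : X ⟶ Y` flat, `x` generic in its fibre, `ξ ⤳ f x` an immediate
specialization and `g ∈ κ(ξ)ˣ`:
`ord_{f x, ξ}(g) · ℓ(O_x/𝔪_{f x}O_x) = ∑_{ξ'} ℓ(O_ξ'/𝔪_ξ O_ξ') · ord_{x, ξ'}(g)`,
the sum over the generic points `ξ'` of the fibre over `ξ` that specialize to `x`.
-/

set_option autoImplicit false
universe u
open CategoryTheory AlgebraicGeometry IsLocalRing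

namespace Groth.Agent.Lib.Lead.CycPull

open Groth.Agent.Lib.Helper22.AssocLen
open Groth.Agent.Lib.Helper23.CycLib
open Groth.Agent.Lib.Helper12.Equidim (apply_fromSpecStalk)

section Dict
variable {X : Scheme.{u}}

/-- the prime of `O_{X,y}` of a generization `ξ` of `y`. -/
noncomputable def primeOf (y ξ : X) (h : ξ ⤳ y) : PrimeSpectrum (X.presheaf.stalk y) :=
  PrimeSpectrum.comap (X.presheaf.stalkSpecializes h).hom
    (IsLocalRing.closedPoint (X.presheaf.stalk ξ))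

theorem specializes_fromSpecStalk (y : X) (Q : PrimeSpectrum (X.presheaf.stalk y)) :
    X.fromSpecStalk y Q ⤳ y := by
  have : X.fromSpecStalk y Q ∈ Set.range (X.fromSpecStalk y) := ⟨Q, rfl⟩
  rw [Scheme.range_fromSpecStalk] at this
  exact this

theorem fromSpecStalk_primeOf (y ξ : X) (h : ξ ⤳ y) :
    X.fromSpecStalk y (primeOf y ξ h) = ξ := by
  have h1 := Scheme.SpecMap_stalkSpecializes_fromSpecStalk h
  have h2 := congrArg (fun g => g.base (IsLocalRing.closedPoint (X.presheaf.stalk ξ))) h1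
  simp only [Scheme.Hom.comp_base] at h2
  have h3 : X.fromSpecStalk y (primeOf y ξ h) =
      X.fromSpecStalk ξ (IsLocalRing.closedPoint (X.presheaf.stalk ξ)) := h2
  rw [h3, Scheme.fromSpecStalk_closedPoint]

theorem primeOf_asIdeal (y ξ : X) (h : ξ ⤳ y) :
    (primeOf y ξ h).asIdeal = RingHom.ker (Cyc.specMap y ξ h) := by
  ext a
  rw [RingHom.mem_ker]
  unfold Cyc.specMap
  rw [CommRingCat.hom_comp, RingHom.comp_apply]
  show (X.presheaf.stalkSpecializes h).hom a ∈ IsLocalRing.maximalIdeal _ ↔ _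
  exact (IsLocalRing.residue_eq_zero_iff _).symm

theorem primeOf_fromSpecStalk (y : X) (Q : PrimeSpectrum (X.presheaf.stalk y)) :
    primeOf y (X.fromSpecStalk y Q) (specializes_fromSpecStalk y Q) = Q :=
  (X.fromSpecStalk y).isEmbedding.injective (fromSpecStalk_primeOf y _ _)

theorem exists_eq_ker_specMap (y : X) (Q : Ideal (X.presheaf.stalk y)) (hQ : Q.IsPrime) :
    ∃ (z : X) (hz : z ⤳ y), Q = RingHom.ker (Cyc.specMap y z hz) := by
  refine ⟨X.fromSpecStalk y ⟨Q, hQ⟩, specializes_fromSpecStalk y ⟨Q, hQ⟩, ?_⟩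
  rw [← primeOf_asIdeal, primeOf_fromSpecStalk]

theorem ker_specMap_le_iff (y ξ₁ ξ₂ : X) (h₁ : ξ₁ ⤳ y) (h₂ : ξ₂ ⤳ y) :
    RingHom.ker (Cyc.specMap y ξ₁ h₁) ≤ RingHom.ker (Cyc.specMap y ξ₂ h₂) ↔ ξ₁ ⤳ ξ₂ := by
  rw [← primeOf_asIdeal, ← primeOf_asIdeal]
  constructor
  · intro hle
    have h3 : primeOf y ξ₁ h₁ ⤳ primeOf y ξ₂ h₂ :=
      (PrimeSpectrum.le_iff_specializes _ _).mp hle
    have h4 := h3.map (X.fromSpecStalk y).continuous
    rwa [fromSpecStalk_primeOf, fromSpecStalk_primeOf] at h4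
  · intro hs
    apply (PrimeSpectrum.le_iff_specializes _ _).mpr
    apply (X.fromSpecStalk y).isEmbedding.isInducing.specializes_iff.mp
    rw [fromSpecStalk_primeOf, fromSpecStalk_primeOf]
    exact hs

theorem ker_specMap_injective (y ξ₁ ξ₂ : X) (h₁ : ξ₁ ⤳ y) (h₂ : ξ₂ ⤳ y)
    (h : RingHom.ker (Cyc.specMap y ξ₁ h₁) = RingHom.ker (Cyc.specMap y ξ₂ h₂)) : ξ₁ = ξ₂ :=
  (((ker_specMap_le_iff y ξ₁ ξ₂ h₁ h₂).mp h.le).antisymm
    ((ker_specMap_le_iff y ξ₂ ξ₁ h₂ h₁).mp h.ge)).eq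

theorem ker_specMap_self (y : X) (h : y ⤳ y) :
    RingHom.ker (Cyc.specMap y y h) = maximalIdeal (X.presheaf.stalk y) := by
  rw [← primeOf_asIdeal]
  have : primeOf y y h = IsLocalRing.closedPoint (X.presheaf.stalk y) := by
    apply (X.fromSpecStalk y).isEmbedding.injective
    rw [fromSpecStalk_primeOf, Scheme.fromSpecStalk_closedPoint]
  rw [this]
  rfl

theorem ker_specMap_congr (y ζ ζ' : X) (e : ζ = ζ') (h : ζ ⤳ y) (h' : ζ' ⤳ y) :
    RingHom.ker (Cyc.specMap y ζ h) = RingHom.ker (Cyc.specMap y ζ' h') := by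
  subst e
  rfl

theorem specMap_eq_congr (y ζ ζ' : X) (e : ζ = ζ') (h : ζ ⤳ y) (h' : ζ' ⤳ y)
    (a : X.presheaf.stalk y) :
    Cyc.specMap y ζ' h' a = (X.residueFieldCongr e).hom (Cyc.specMap y ζ h a) := by
  subst e
  rw [Scheme.residueFieldCongr_refl]
  rfl

theorem isLocalization_stalkSpecializes (y ξ : X) (h : ξ ⤳ y) :
    letI := (X.presheaf.stalkSpecializes h).hom.toAlgebra
    haveI : (RingHom.ker (Cyc.specMap y ξ h)).IsPrime := RingHom.ker_isPrime _
    IsLocalization.AtPrime (X.presheaf.stalk ξ) (RingHom.ker (Cyc.specMap y ξ h)) := by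
  obtain ⟨_, ⟨U, hU0, rfl⟩, hxU, -⟩ :=
    X.isBasis_affineOpens.exists_subset_of_mem_open (Set.mem_univ y) isOpen_univ
  have hU : IsAffineOpen U := hU0
  have hx'U : ξ ∈ U := h.mem_open U.isOpen hxU
  letI algX := X.presheaf.algebra_section_stalk ⟨y, hxU⟩
  letI algX' := X.presheaf.algebra_section_stalk ⟨ξ, hx'U⟩
  have locX := hU.isLocalization_stalk ⟨y, hxU⟩
  have locX' := hU.isLocalization_stalk ⟨ξ, hx'U⟩
  letI : Algebra (X.presheaf.stalk y) (X.presheaf.stalk ξ) :=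
    (X.presheaf.stalkSpecializes h).hom.toAlgebra
  haveI : IsScalarTower Γ(X, U) (X.presheaf.stalk y) (X.presheaf.stalk ξ) :=
    IsScalarTower.of_algebraMap_eq' (by
      ext s
      exact (congr($(X.presheaf.germ_stalkSpecializes hxU h) s)).symm)
  have hle : (hU.primeIdealOf ⟨y, hxU⟩).asIdeal.primeCompl ≤
      (hU.primeIdealOf ⟨ξ, hx'U⟩).asIdeal.primeCompl := by
    intro a ha hmem
    exact ha (Groth.Agent.Lib.Helper5.StalkKer.primeIdealOf_le_of_specializes hU hxU hx'U h hmem)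
  haveI hloc := IsLocalization.isLocalization_of_submonoid_le (X.presheaf.stalk y)
    (X.presheaf.stalk ξ) _ _ hle
  haveI : (RingHom.ker (Cyc.specMap y ξ h)).IsPrime := RingHom.ker_isPrime _
  show IsLocalization (RingHom.ker (Cyc.specMap y ξ h)).primeCompl (X.presheaf.stalk ξ)
  refine IsLocalization.of_le (S := X.presheaf.stalk ξ)
    ((hU.primeIdealOf ⟨ξ, hx'U⟩).asIdeal.primeCompl.map
      (algebraMap Γ(X, U) (X.presheaf.stalk y))) _ ?_ ?_
  · rintro _ ⟨r, hr, rfl⟩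
    show algebraMap Γ(X, U) (X.presheaf.stalk y) r ∉ RingHom.ker (Cyc.specMap y ξ h)
    rw [RingHom.mem_ker]
    have hu : IsUnit (algebraMap Γ(X, U) (X.presheaf.stalk ξ) r) :=
      IsLocalization.map_units (X.presheaf.stalk ξ)
        (⟨r, hr⟩ : (hU.primeIdealOf ⟨ξ, hx'U⟩).asIdeal.primeCompl)
    have e1 : Cyc.specMap y ξ h (algebraMap Γ(X, U) (X.presheaf.stalk y) r) =
        X.residue ξ (algebraMap Γ(X, U) (X.presheaf.stalk ξ) r) :=
      Groth.Agent.Lib.Helper23.CycLib.specMap_germ y ξ h U hxU r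
    rw [e1]
    exact (hu.map (X.residue ξ).hom).ne_zero
  · intro s hs
    have hs' : Cyc.specMap y ξ h s ≠ 0 := fun h0 => hs (RingHom.mem_ker.mpr h0)
    show IsUnit ((X.presheaf.stalkSpecializes h).hom s)
    apply IsLocalRing.notMem_maximalIdeal.mp
    intro hmem
    apply hs'
    unfold Cyc.specMap
    rw [CommRingCat.hom_comp, RingHom.comp_apply]
    exact (IsLocalRing.residue_eq_zero_iff _).mpr hmem

theorem map_ker_specMap_eq_maximalIdeal (y ζ : X) (h : ζ ⤳ y) :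
    Ideal.map (X.presheaf.stalkSpecializes h).hom (RingHom.ker (Cyc.specMap y ζ h)) =
      maximalIdeal (X.presheaf.stalk ζ) := by
  letI := (X.presheaf.stalkSpecializes h).hom.toAlgebra
  haveI : (RingHom.ker (Cyc.specMap y ζ h)).IsPrime := RingHom.ker_isPrime _
  haveI := isLocalization_stalkSpecializes y ζ h
  exact IsLocalization.AtPrime.map_eq_maximalIdeal (RingHom.ker (Cyc.specMap y ζ h))
    (X.presheaf.stalk ζ)

theorem isFractionRing_locQuot (y ξ : X) (h : ξ ⤳ y) :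
    IsFractionRing (Cyc.LocQuot y ξ h) (X.residueField ξ) := by
  haveI : FaithfulSMul (Cyc.LocQuot y ξ h) (X.residueField ξ) := by
    rw [faithfulSMul_iff_algebraMap_injective, injective_iff_map_eq_zero]
    intro r hr
    obtain ⟨r, rfl⟩ := Ideal.Quotient.mk_surjective r
    rw [algebraMap_locQuot_mk] at hr
    exact Ideal.Quotient.eq_zero_iff_mem.mpr (RingHom.mem_ker.mpr hr)
  refine IsFractionRing.of_field _ _ (fun z => ?_)
  obtain ⟨s, rfl⟩ := X.residue_surjective ξ z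
  obtain ⟨V, hV, hxV, -⟩ := exists_isAffineOpen_mem_and_subset (x := y) (U := ⊤) trivial
  have hξV : ξ ∈ V := h.mem_open V.2 hxV
  obtain ⟨a, b, hb, hab⟩ := exists_germ_frac V hV ξ hξV s
  refine ⟨Ideal.Quotient.mk _ (X.presheaf.germ V y hxV a),
    Ideal.Quotient.mk _ (X.presheaf.germ V y hxV b), ?_⟩
  rw [algebraMap_locQuot_mk, algebraMap_locQuot_mk,
    Groth.Agent.Lib.Helper23.CycLib.specMap_germ,
    Groth.Agent.Lib.Helper23.CycLib.specMap_germ,
    eq_div_iff ((hb.map (X.residue ξ).hom).ne_zero)]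
  have := congrArg (X.residue ξ).hom hab
  rw [map_mul] at this
  exact this

theorem krullDimLE_one_locQuot (y ξ : X) (h : ξ ⤳ y)
    (himm : ∀ z : X, ξ ⤳ z → z ⤳ y → z = ξ ∨ z = y) :
    Ring.KrullDimLE 1 (Cyc.LocQuot y ξ h) := by
  haveI : (RingHom.ker (Cyc.specMap y ξ h)).IsPrime := RingHom.ker_isPrime _
  apply krullDimLE_one_quot
  intro Q hQ hle
  obtain ⟨z, hz, rfl⟩ := exists_eq_ker_specMap y Q hQ
  have h1 : ξ ⤳ z := (ker_specMap_le_iff y ξ z h hz).mp hle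
  rcases himm z h1 hz with h2 | h2
  · left
    exact ker_specMap_congr y z ξ h2 hz h
  · right
    rw [ker_specMap_congr y z y h2 hz (specializes_refl y), ker_specMap_self]

/-- the order along `ξ ⤳ y` of a quotient of two elements of the local ring. -/
theorem ordAt_eq_sub [IsLocallyNoetherian X] (y ξ : X) (h : ξ ⤳ y)
    (hdim : Ring.KrullDimLE 1 (Cyc.LocQuot y ξ h))
    (a c : X.presheaf.stalk y) (G : X.residueField ξ)
    (hG : G * Cyc.specMap y ξ h c = Cyc.specMap y ξ h a)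
    (ha : a ∉ RingHom.ker (Cyc.specMap y ξ h)) (hc : c ∉ RingHom.ker (Cyc.specMap y ξ h)) :
    Cyc.ordAt y ξ h G =
      ((Module.length (X.presheaf.stalk y) (X.presheaf.stalk y ⧸
        (RingHom.ker (Cyc.specMap y ξ h) ⊔ Ideal.span {a}))).toNat : ℤ) -
      ((Module.length (X.presheaf.stalk y) (X.presheaf.stalk y ⧸
        (RingHom.ker (Cyc.specMap y ξ h) ⊔ Ideal.span {c}))).toNat : ℤ) := by
  haveI := hdim
  haveI := isFractionRing_locQuot y ξ h
  haveI : Nontrivial (Cyc.LocQuot y ξ h) :=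
    (algebraMap (Cyc.LocQuot y ξ h) (X.residueField ξ)).domain_nontrivial
  unfold Cyc.ordAt
  have hmul : G * algebraMap (Cyc.LocQuot y ξ h) (X.residueField ξ)
      (Ideal.Quotient.mk _ c) =
      algebraMap (Cyc.LocQuot y ξ h) (X.residueField ξ) (Ideal.Quotient.mk _ a) := by
    rw [algebraMap_locQuot_mk, algebraMap_locQuot_mk, hG]
  have ha' : (Ideal.Quotient.mk (RingHom.ker (Cyc.specMap y ξ h)) a) ≠ 0 :=
    fun h0 => ha (Ideal.Quotient.eq_zero_iff_mem.mp h0)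
  have hc' : (Ideal.Quotient.mk (RingHom.ker (Cyc.specMap y ξ h)) c) ≠ 0 :=
    fun h0 => hc (Ideal.Quotient.eq_zero_iff_mem.mp h0)
  rw [Groth.Agent.S1905.log_of_mul hmul ha' hc', ord_quot_mk, ord_quot_mk]

end Dict


section Mor
variable {X Y : Scheme.{u}} (f : X ⟶ Y)

theorem comap_primeOf (x ξ' : X) (h : ξ' ⤳ x) :
    PrimeSpectrum.comap (f.stalkMap x).hom (primeOf x ξ' h) =
      primeOf (f x) (f ξ') (f.base.hom.map_specializes h) := by
  apply (Y.fromSpecStalk (f x)).isEmbedding.injective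
  rw [fromSpecStalk_primeOf, ← apply_fromSpecStalk f x, fromSpecStalk_primeOf]

theorem map_ker_le_iff (x ξ' : X) (h : ξ' ⤳ x) (ξ : Y) (hy : ξ ⤳ f x) :
    Ideal.map (f.stalkMap x).hom (RingHom.ker (Cyc.specMap (f x) ξ hy)) ≤
      RingHom.ker (Cyc.specMap x ξ' h) ↔ ξ ⤳ f ξ' := by
  rw [Ideal.map_le_iff_le_comap, ← primeOf_asIdeal x ξ' h]
  have h1 : Ideal.comap (f.stalkMap x).hom (primeOf x ξ' h).asIdeal =
      RingHom.ker (Cyc.specMap (f x) (f ξ') (f.base.hom.map_specializes h)) := by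
    rw [← primeOf_asIdeal, ← comap_primeOf f x ξ' h]
    rfl
  rw [h1]
  exact ker_specMap_le_iff (f x) ξ (f ξ') hy _

/-- the generic points of the fibre of `f` over `ξ` that specialize to `x`. -/
def GIdx (x : X) (ξ : Y) : Type u :=
  {ξ' : X // ξ' ⤳ x ∧ f ξ' = ξ ∧ ∀ y, f y = f ξ' → y ⤳ ξ' → y = ξ'}

/-- the multiplicity of the fibre at a point. -/
noncomputable def mult (x : X) : ℤ :=
  ((Module.length (X.presheaf.stalk x) (X.presheaf.stalk x ⧸
    Ideal.map (f.stalkMap x).hom (maximalIdeal (Y.presheaf.stalk (f x))))).toNat : ℤ)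

theorem mem_minimalPrimes_of_GIdx (x : X) (ξ : Y) (hy : ξ ⤳ f x) (ξ' : GIdx f x ξ) :
    RingHom.ker (Cyc.specMap x ξ'.1 ξ'.2.1) ∈
      (Module.annihilator (X.presheaf.stalk x) (X.presheaf.stalk x ⧸
        Ideal.map (f.stalkMap x).hom
          (RingHom.ker (Cyc.specMap (f x) ξ hy)))).minimalPrimes := by
  rw [Ideal.annihilator_quotient]
  obtain ⟨ξ', h', hfξ', hgen'⟩ := ξ'
  refine ⟨⟨RingHom.ker_isPrime _, ?_⟩, ?_⟩
  · exact (map_ker_le_iff f x ξ' h' ξ hy).mpr (specializes_of_eq hfξ'.symm)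
  · rintro Q ⟨hQ, hIQ⟩ hQle
    obtain ⟨z, hz, rfl⟩ := exists_eq_ker_specMap x Q hQ
    have h1 : z ⤳ ξ' := (ker_specMap_le_iff x z ξ' hz h').mp hQle
    have h2 : ξ ⤳ f z := (map_ker_le_iff f x z hz ξ hy).mp hIQ
    have h3 : f z ⤳ f ξ' := f.base.hom.map_specializes h1
    have h4 : f z = f ξ' := by
      rw [hfξ'] at h3 ⊢
      exact (h3.antisymm h2).eq
    have h5 : z = ξ' := hgen' z h4 h1
    subst h5
    exact le_refl _

theorem exists_GIdx_of_mem_minimalPrimes [Flat f] (x : X) (ξ : Y) (hy : ξ ⤳ f x)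
    (q : Ideal (X.presheaf.stalk x))
    (hq : q ∈ (Module.annihilator (X.presheaf.stalk x) (X.presheaf.stalk x ⧸
        Ideal.map (f.stalkMap x).hom
          (RingHom.ker (Cyc.specMap (f x) ξ hy)))).minimalPrimes) :
    ∃ ξ' : GIdx f x ξ, RingHom.ker (Cyc.specMap x ξ'.1 ξ'.2.1) = q := by
  rw [Ideal.annihilator_quotient] at hq
  obtain ⟨⟨hqp, hIq⟩, hmin⟩ := hq
  obtain ⟨ξ', h', rfl⟩ := exists_eq_ker_specMap x q hqp
  have h1 : ξ ⤳ f ξ' := (map_ker_le_iff f x ξ' h' ξ hy).mp hIq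
  have key : ∀ z : X, z ⤳ ξ' → ξ ⤳ f z → z = ξ' := by
    intro z hz1 hz2
    have hzx : z ⤳ x := hz1.trans h'
    have hle : RingHom.ker (Cyc.specMap x z hzx) ≤ RingHom.ker (Cyc.specMap x ξ' h') :=
      (ker_specMap_le_iff x z ξ' hzx h').mpr hz1
    have hI : Ideal.map (f.stalkMap x).hom (RingHom.ker (Cyc.specMap (f x) ξ hy)) ≤
        RingHom.ker (Cyc.specMap x z hzx) := (map_ker_le_iff f x z hzx ξ hy).mpr hz2
    have h2 := hmin ⟨RingHom.ker_isPrime _, hI⟩ hle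
    have h3 : ξ' ⤳ z := (ker_specMap_le_iff x ξ' z h' hzx).mp h2
    exact (hz1.antisymm h3).eq
  obtain ⟨ξ₀, hξ₀1, hξ₀2⟩ := (Flat.generalizingMap f) h1
  have h2 : ξ₀ = ξ' := key ξ₀ hξ₀1 (specializes_of_eq hξ₀2.symm)
  have hfξ' : f ξ' = ξ := by
    rw [← h2]
    exact hξ₀2
  refine ⟨⟨ξ', h', hfξ', ?_⟩, rfl⟩
  intro y hy1 hy2
  exact key y hy2 (specializes_of_eq (by rw [hy1, hfξ']))

theorem lam_eq_mult (x : X) (ξ : Y) (hy : ξ ⤳ f x) (ξ' : X) (h' : ξ' ⤳ x) (hfξ' : f ξ' = ξ) :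
    (haveI : (RingHom.ker (Cyc.specMap x ξ' h')).IsPrime := RingHom.ker_isPrime _
     lam (RingHom.ker (Cyc.specMap x ξ' h')) (X.presheaf.stalk x ⧸
        Ideal.map (f.stalkMap x).hom (RingHom.ker (Cyc.specMap (f x) ξ hy)))) =
      Module.length (X.presheaf.stalk ξ') (X.presheaf.stalk ξ' ⧸
        Ideal.map (f.stalkMap ξ').hom (maximalIdeal (Y.presheaf.stalk (f ξ')))) := by
  subst hfξ'
  letI := (X.presheaf.stalkSpecializes h').hom.toAlgebra
  haveI : (RingHom.ker (Cyc.specMap x ξ' h')).IsPrime := RingHom.ker_isPrime _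
  haveI := isLocalization_stalkSpecializes x ξ' h'
  rw [lam_quot_eq_length _ _ (X.presheaf.stalk ξ')]
  apply Groth.Agent.S6479.length_congr
  have hσ : (algebraMap (X.presheaf.stalk x) (X.presheaf.stalk ξ')).comp (f.stalkMap x).hom =
      (f.stalkMap ξ').hom.comp
        (Y.presheaf.stalkSpecializes (f.base.hom.map_specializes h')).hom :=
    (congrArg CommRingCat.Hom.hom (Scheme.Hom.stalkSpecializes_stalkMap f ξ' x h')).symm
  rw [Ideal.map_map, hσ,
    ← map_ker_specMap_eq_maximalIdeal (f x) (f ξ') (f.base.hom.map_specializes h'),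
    Ideal.map_map]

theorem length_fibre_ne_top [IsLocallyNoetherian X] (x : X)
    (hgen : ∀ y, f y = f x → y ⤳ x → y = x) :
    Module.length (X.presheaf.stalk x) (X.presheaf.stalk x ⧸
      Ideal.map (f.stalkMap x).hom (maximalIdeal (Y.presheaf.stalk (f x)))) ≠ ⊤ := by
  apply length_quot_ne_top_of_forall_prime
  intro Q hQ hle
  have h1 := (Groth.Agent.S6479.map_eq_iff f x ⟨Q, hQ⟩).mpr hle
  have h2 := hgen _ h1 (specializes_fromSpecStalk x ⟨Q, hQ⟩)
  have h3 : (⟨Q, hQ⟩ : PrimeSpectrum (X.presheaf.stalk x)) =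
      IsLocalRing.closedPoint (X.presheaf.stalk x) := by
    apply (X.fromSpecStalk x).isEmbedding.injective
    rw [h2, Scheme.fromSpecStalk_closedPoint]
  exact congrArg PrimeSpectrum.asIdeal h3

theorem pull_ord_formula [Flat f] [IsLocallyNoetherian X] [IsLocallyNoetherian Y]
    (x : X) (ξ : Y) (hy : ξ ⤳ f x) (hne : ξ ≠ f x)
    (himm : ∀ z : Y, ξ ⤳ z → z ⤳ f x → z = ξ ∨ z = f x)
    (hgen : ∀ y, f y = f x → y ⤳ x → y = x)
    (g : Y.residueField ξ) (hg : g ≠ 0) :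
    Cyc.ordAt (f x) ξ hy g * mult f x =
      ∑ᶠ ξ' : GIdx f x ξ, mult f ξ'.1 * Cyc.ordAt x ξ'.1 ξ'.2.1
        ((f.residueFieldMap ξ'.1).hom ((Y.residueFieldCongr ξ'.2.2.1.symm).hom g)) := by
  classical
  haveI hpprime : (RingHom.ker (Cyc.specMap (f x) ξ hy)).IsPrime := RingHom.ker_isPrime _
  have hφ : (f.stalkMap x).hom.Flat := Flat.stalkMap f x
  have hdimA : Ring.KrullDimLE 1
      (Y.presheaf.stalk (f x) ⧸ RingHom.ker (Cyc.specMap (f x) ξ hy)) :=
    krullDimLE_one_locQuot (f x) ξ hy himm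
  have hpm : RingHom.ker (Cyc.specMap (f x) ξ hy) ≠ maximalIdeal (Y.presheaf.stalk (f x)) := by
    intro h
    apply hne
    rw [← ker_specMap_self (f x) (specializes_refl _)] at h
    exact ker_specMap_injective (f x) ξ (f x) hy _ h
  have hfib := length_fibre_ne_top f x hgen
  haveI := isFractionRing_locQuot (f x) ξ hy
  obtain ⟨a', c', hc', hac⟩ := IsFractionRing.div_surjective (Cyc.LocQuot (f x) ξ hy) g
  obtain ⟨a, rfl⟩ := Ideal.Quotient.mk_surjective a'
  obtain ⟨c, rfl⟩ := Ideal.Quotient.mk_surjective c'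
  have hc0 : Cyc.specMap (f x) ξ hy c ≠ 0 := by
    have := IsFractionRing.to_map_ne_zero_of_mem_nonZeroDivisors
      (K := Y.residueField ξ) hc'
    rwa [algebraMap_locQuot_mk] at this
  have hgac : g * Cyc.specMap (f x) ξ hy c = Cyc.specMap (f x) ξ hy a := by
    rw [← hac, algebraMap_locQuot_mk, algebraMap_locQuot_mk, div_mul_cancel₀ _ hc0]
  have ha0 : Cyc.specMap (f x) ξ hy a ≠ 0 := by
    intro h0
    rw [h0] at hgac
    exact hg ((mul_eq_zero.mp hgac).resolve_right hc0)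
  have hap : a ∉ RingHom.ker (Cyc.specMap (f x) ξ hy) := fun h => ha0 (RingHom.mem_ker.mp h)
  have hcp : c ∉ RingHom.ker (Cyc.specMap (f x) ξ hy) := fun h => hc0 (RingHom.mem_ker.mp h)
  have hL := ordAt_eq_sub (f x) ξ hy hdimA a c g hgac hap hcp
  have hΨ : ∀ j : GIdx f x ξ, RingHom.ker (Cyc.specMap x j.1 j.2.1) ∈
      (Module.annihilator (X.presheaf.stalk x) (X.presheaf.stalk x ⧸
        Ideal.map (f.stalkMap x).hom
          (RingHom.ker (Cyc.specMap (f x) ξ hy)))).minimalPrimes :=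
    fun j => mem_minimalPrimes_of_GIdx f x ξ hy j
  have hcore := alg_core (f.stalkMap x).hom (RingHom.ker (Cyc.specMap (f x) ξ hy)) hφ hdimA
    hpm hfib
    (fun j : GIdx f x ξ => RingHom.ker (Cyc.specMap x j.1 j.2.1)) hΨ
    (by
      intro j j' h
      exact Subtype.ext (ker_specMap_injective x j.1 j'.1 j.2.1 j'.2.1 h))
    (fun q hq => exists_GIdx_of_mem_minimalPrimes f x ξ hy q hq)
    (fun j => Module.length (X.presheaf.stalk j.1) (X.presheaf.stalk j.1 ⧸
      Ideal.map (f.stalkMap j.1).hom (maximalIdeal (Y.presheaf.stalk (f j.1)))))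
    (fun j => lam_eq_mult f x ξ hy j.1 j.2.1 j.2.2.1)
    a c hap hcp
  have hdimB := (alg_main (f.stalkMap x).hom (RingHom.ker (Cyc.specMap (f x) ξ hy)) hφ hdimA
    hpm hfib).1
  unfold mult
  rw [hL, hcore]
  apply finsum_congr
  intro j
  haveI : (RingHom.ker (Cyc.specMap x j.1 j.2.1)).IsPrime := RingHom.ker_isPrime _
  have hdimj : Ring.KrullDimLE 1 (Cyc.LocQuot x j.1 j.2.1) :=
    krullDimLE_one_quot (RingHom.ker (Cyc.specMap x j.1 j.2.1))
      (hdimB ⟨RingHom.ker (Cyc.specMap x j.1 j.2.1), hΨ j⟩)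
  have hGj : (f.residueFieldMap j.1).hom ((Y.residueFieldCongr j.2.2.1.symm).hom g) *
      Cyc.specMap x j.1 j.2.1 ((f.stalkMap x).hom c) =
      Cyc.specMap x j.1 j.2.1 ((f.stalkMap x).hom a) := by
    rw [Groth.Agent.S1905.specMap_stalkMap, Groth.Agent.S1905.specMap_stalkMap,
      specMap_eq_congr (f x) ξ (f j.1) j.2.2.1.symm hy _ c,
      specMap_eq_congr (f x) ξ (f j.1) j.2.2.1.symm hy _ a, ← map_mul, ← map_mul, hgac]
  have haj : (f.stalkMap x).hom a ∉ RingHom.ker (Cyc.specMap x j.1 j.2.1) :=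
    notMem_of_mem_minimalPrimes (f.stalkMap x).hom (RingHom.ker (Cyc.specMap (f x) ξ hy)) hφ hap
      ⟨_, hΨ j⟩
  have hcj : (f.stalkMap x).hom c ∉ RingHom.ker (Cyc.specMap x j.1 j.2.1) :=
    notMem_of_mem_minimalPrimes (f.stalkMap x).hom (RingHom.ker (Cyc.specMap (f x) ξ hy)) hφ hcp
      ⟨_, hΨ j⟩
  rw [ordAt_eq_sub x j.1 j.2.1 hdimj _ _ _ hGj haj hcj]

end Mor


section Aux

theorem finsum_eq_of_injective_of_support {α β M : Type*} [AddCommMonoid M] (e : α → β)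
    (he : Function.Injective e) (F : β → M) (G : α → M) (h1 : ∀ a, F (e a) = G a)
    (h2 : ∀ b, b ∉ Set.range e → F b = 0) : ∑ᶠ b, F b = ∑ᶠ a, G a := by
  rw [← finsum_mem_univ F, finsum_mem_inter_support_eq' F Set.univ (Set.range e) ?_,
    finsum_mem_range he]
  · exact finsum_congr h1
  · intro b hb
    simp only [Set.mem_univ, true_iff]
    by_contra hne
    exact hb (h2 b hne)

variable {X Y : Scheme.{u}} (f : X ⟶ Y)

theorem exists_unit_specMap_eq (y ζ : Y) (h : ζ ⤳ y) (e : y = ζ) (g' : Y.residueField ζ)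
    (hg' : g' ≠ 0) : ∃ u : Y.presheaf.stalk y, IsUnit u ∧ Cyc.specMap y ζ h u = g' := by
  subst e
  obtain ⟨t, rfl⟩ := Y.residue_surjective y g'
  have ht : IsUnit t := by
    by_contra hnu
    apply hg'
    exact (IsLocalRing.residue_eq_zero_iff t).mpr ((IsLocalRing.mem_maximalIdeal t).mpr hnu)
  have hstalk : Y.presheaf.stalkSpecializes h = 𝟙 _ := Y.presheaf.stalkSpecializes_refl y
  refine ⟨t, ht, ?_⟩
  unfold Cyc.specMap
  rw [hstalk, Category.id_comp]

theorem ordAt_pull_unit (x ξ' : X) (h : ξ' ⤳ x) (u : Y.presheaf.stalk (f x)) (hu : IsUnit u) :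
    Cyc.ordAt x ξ' h ((f.residueFieldMap ξ').hom
      (Cyc.specMap (f x) (f ξ') (f.base.hom.map_specializes h) u)) = 0 := by
  rw [← Groth.Agent.S1905.specMap_stalkMap]
  have := ordFrac_algebraMap_unit (R := Cyc.LocQuot x ξ' h) (K := X.residueField ξ')
    (Ideal.Quotient.mk _ ((f.stalkMap x).hom u)) ((hu.map (f.stalkMap x).hom).map _)
  rw [algebraMap_locQuot_mk] at this
  unfold Cyc.ordAt
  exact this

/-- if `f x = f ξ'` then nonzero functions on `κ(f ξ')` have order zero along `ξ' ⤳ x`. -/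
theorem ordAt_pull_eq_zero_of_eq (x ξ' : X) (h : ξ' ⤳ x) (e : f x = f ξ')
    (g' : Y.residueField (f ξ')) (hg' : g' ≠ 0) :
    Cyc.ordAt x ξ' h ((f.residueFieldMap ξ').hom g') = 0 := by
  obtain ⟨u, hu, rfl⟩ := exists_unit_specMap_eq (f x) (f ξ') (f.base.hom.map_specializes h) e g' hg'
  exact ordAt_pull_unit f x ξ' h u hu

theorem maximalIdeal_stalk_eq_bot_of_eq_genericPoint [IsIntegral Y] (y : Y)
    (h : y = genericPoint Y) : maximalIdeal (Y.presheaf.stalk y) = ⊥ := by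
  subst h
  letI : Field (Y.presheaf.stalk (genericPoint Y)) := inferInstanceAs (Field Y.functionField)
  have hF : IsField (Y.presheaf.stalk (genericPoint Y)) :=
    Field.toIsField (Y.presheaf.stalk (genericPoint Y))
  exact IsLocalRing.isField_iff_maximalIdeal_eq.mp hF

theorem mult_of_generic [IsIntegral Y] (ξ : X) (h : f ξ = genericPoint Y) :
    mult f ξ = ((Module.length (X.presheaf.stalk ξ) (X.presheaf.stalk ξ)).toNat : ℤ) := by
  unfold mult
  have hI : Ideal.map (f.stalkMap ξ).hom (maximalIdeal (Y.presheaf.stalk (f ξ))) = ⊥ := by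
    rw [maximalIdeal_stalk_eq_bot_of_eq_genericPoint (f ξ) h, Ideal.map_bot]
  rw [Groth.Agent.S6479.length_congr _ _ hI,
    (Submodule.quotEquivOfEqBot (⊥ : Submodule (X.presheaf.stalk ξ) (X.presheaf.stalk ξ))
      rfl).length_eq]

theorem residueFieldCongr_ne_zero {y y' : Y} (e : y = y') (g : Y.residueField y) (hg : g ≠ 0) :
    (Y.residueFieldCongr e).hom g ≠ 0 := by
  subst e
  rw [Scheme.residueFieldCongr_refl]
  exact hg

end Aux

end Groth.Agent.Lib.Lead.CycPull
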