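import Groth.Agent.Lib.Lead.KosCechD

/-!
# Čech cohomology of a quasi-coherent module for the family `X_{f_j}` and Koszul limit cohomology

The comparison `Γ(W, O_X) ⊗ Γ(X, F) → Γ(W, F)` is bijective over the `X_g` (`X` quasi-compact
quasi-separated, `F` quasi-coherent), so the Čech complex of `F` is that of
`W ↦ Γ(W, O_X) ⊗ Γ(X, F)`.
-/

set_option autoImplicit false
set_option linter.style.haveILetI false
set_option linter.unusedSectionVars false
set_option linter.unusedVariables false

universe u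

open AlgebraicGeometry CategoryTheory CategoryTheory.Limits Opposite TopologicalSpace TensorProduct

namespace Groth.Agent.Lib.Lead.KosCechF

open Groth.Agent.Lib.Helper3.QCSec Groth.Agent.Lib.Lead.KosGeo Groth.Agent.Lib.Lead.KosCechP
  Groth.Agent.Lib.Lead.KosCechC Groth.Agent.Lib.Lead.KosCechE Groth.Agent.Lib.Lead.KosCechD
  Groth.Agent.Lib.Lead.KosVanish Groth.Agent.Lib.Helper4.KosLim
open Groth.Agent.Lib.Helper13 Groth.Agent.Lib.Helper13.CechBasic Groth.Agent.Lib.Helper13.CechLocal
  Groth.Agent.Lib.Helper13.CechLow Groth.Agent.Lib.Helper13.CechLES Groth.Agent.Lib.Helper13.CechH0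

variable {X : Scheme.{u}} (F : X.Modules)

noncomputable instance instModuleGamASecA (W : X.Opens) : Module (GamA X W) (SecA F W) :=
  inferInstanceAs (Module Γ(X, W) Γ(F, W))

lemma smul_def' (W : X.Opens) (a : Γ(X, ⊤)) (s : SecA F W) :
    a • s = (algebraMap Γ(X, ⊤) (GamA X W) a) • s := rfl

instance (W : X.Opens) : IsScalarTower Γ(X, ⊤) (GamA X W) (SecA F W) where
  smul_assoc a b s := by
    rw [smul_def', Algebra.smul_def, mul_smul]

lemma resL_smul' {W W' : X.Opens} (h : W' ≤ W) (b : GamA X W) (s : SecA F W) :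
    resL F h (b • s) = resA h b • resL F h s := by
  let b' : Γ(X, W) := b
  change toSecA F W' (res F h (b' • (toSecA F W).symm s)) =
    toSecA F W' (rres X h b' • res F h ((toSecA F W).symm s))
  rw [res_smul]

/-- `Γ(X, F) → Γ(W, F)`. -/
noncomputable def gL (W : X.Opens) : M0 F →ₗ[Γ(X, ⊤)] SecA F W :=
  (resL F (le_top : W ≤ ⊤)) ∘ₗ topL F

lemma gL_apply (W : X.Opens) (m : F.val.obj (op ⊤)) :
    gL F W m = toSecA F W (res F (le_top : W ≤ ⊤) (g0 F m)) := rfl

lemma resL_gL {W W' : X.Opens} (h : W' ≤ W) (m : F.val.obj (op ⊤)) :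
    resL F h (gL F W m) = gL F W' m := by
  change resL F h (resL F (le_top : W ≤ ⊤) (topL F m)) = resL F (le_top : W' ≤ ⊤) (topL F m)
  rw [resL_resL]

/-- `Γ(W, O) ⊗ Γ(X, F) → Γ(W, F)`. -/
noncomputable def tauL (W : X.Opens) : GamA X W ⊗[Γ(X, ⊤)] M0 F →ₗ[GamA X W] SecA F W :=
  (gL F W).liftBaseChange (GamA X W)

lemma tauL_tmul (W : X.Opens) (b : GamA X W) (m : M0 F) :
    tauL F W (b ⊗ₜ m) = b • gL F W m := rfl

lemma tauL_res {W W' : X.Opens} (h : W' ≤ W) (x : GamA X W ⊗[Γ(X, ⊤)] M0 F) :
    resL F h (tauL F W x) = tauL F W' (resT (M0 F) h x) := by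
  induction x using TensorProduct.induction_on with
  | zero => rw [map_zero, map_zero, map_zero, map_zero]
  | tmul b m => rw [tauL_tmul, resL_smul', resL_gL, resT_tmul, tauL_tmul]
  | add x y hx hy => rw [map_add, map_add, hx, hy, map_add, map_add]

/-- the comparison of presheaves. -/
noncomputable def tau : PN (M0 F) ⟶ F.presheaf where
  app W := (AddCommGrpCat.ofHom (tauL F W.unop).toAddMonoidHom :
    (PN (M0 F)).obj W ⟶ F.presheaf.obj W)
  naturality W W' h := by
    ext x
    exact (tauL_res F h.unop.le x).symm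

lemma tau_app_apply (W : X.Opens) (x : GamA X W ⊗[Γ(X, ⊤)] M0 F) :
    ((tau F).app (op W)).hom x = tauL F W x := rfl

section qc

variable [CompactSpace X] [QuasiSeparatedSpace X] [F.IsQuasicoherent]

lemma isLocalizedModule_gL (W : X.Opens) (g : Γ(X, ⊤)) (hW : W = X.basicOpen g) :
    IsLocalizedModule (Submonoid.powers g) (gL F W) := by
  have hloc : IsLocSec F ⊤ W le_top g :=
    isLocSec_of_isCompact F (isCompact_top' (X := X)) (isQS ⊤) g hW le_top
  apply IsLocalizedModule.Away.mk_of_addCommGroup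
  · exact (Module.End.isUnit_iff _).2 (smul_bijective_of_le_basicOpen F g hW.le)
  · intro y
    obtain ⟨n, s, hs⟩ := hloc.surj ((toSecA F W).symm y)
    refine ⟨n, (g0 F).symm s, ?_⟩
    rw [pow_smul_eq, gL_apply, AddEquiv.apply_symm_apply, hs]
  · intro m hm
    have h0 : res F (le_top : W ≤ ⊤) (g0 F m) = 0 := hm
    obtain ⟨n, hn⟩ := hloc.inj (g0 F m) h0
    refine ⟨n, (g0 F).injective ?_⟩
    rw [g0_pow_smul, hn, map_zero]

lemma tauL_bijective (W : X.Opens) (g : Γ(X, ⊤)) (hW : W = X.basicOpen g) :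
    Function.Bijective (tauL F W) := by
  haveI : IsLocalization (Submonoid.powers g) (GamA X W) := isLocalization_GamA W g hW
  haveI := isLocalizedModule_gL F W g hW
  have hbc : IsBaseChange (GamA X W) (gL F W) :=
    IsLocalizedModule.isBaseChange (Submonoid.powers g) (GamA X W) (gL F W)
  have e : ⇑(tauL F W) = ⇑hbc.equiv := by
    funext x
    induction x using TensorProduct.induction_on with
    | zero => rw [map_zero, map_zero]
    | tmul b m => rw [tauL_tmul, IsBaseChange.equiv_tmul]
    | add x y hx hy => rw [map_add, map_add, hx, hy]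
  rw [e]
  exact hbc.equiv.bijective

end qc

/-- a morphism of presheaves which is bijective on the iterated intersections induces an
isomorphism of Čech complexes. -/
lemma isIso_cech_map {ι : Type u} {P Q : (X.Opens)ᵒᵖ ⥤ AddCommGrpCat.{u}} (V : ι → X.Opens)
    (τ : P ⟶ Q)
    (h : ∀ (n : ℕ) (i : Fin (n + 1) → ι), Function.Bijective (τ.app (op (∏ᶜ (V ∘ i)))).hom) :
    IsIso ((cechComplexFunctor V).map τ) := by
  haveI : ∀ n, IsIso (((cechComplexFunctor V).map τ).f n) := by
    intro n
    rw [ConcreteCategory.isIso_iff_bijective]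
    constructor
    · intro x y hxy
      apply ext_elem
      intro i
      apply (h n i).1
      rw [← map_proj_apply, ← map_proj_apply]
      exact congrArg _ hxy
    · intro y
      choose x hx using fun i => (h n i).2 ((proj V Q n i).hom y)
      refine ⟨mk V P x, ?_⟩
      apply ext_elem
      intro i
      exact (map_proj_apply V τ n i _).trans (by rw [proj_mk, hx])
  exact HomologicalComplex.Hom.isIso_of_components _

section main

variable [CompactSpace X] [QuasiSeparatedSpace X] [F.IsQuasicoherent] {ι : Type u} [Fintype ι]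
  (f : ι → Γ(X, ⊤)) (fs : List Γ(X, ⊤)) (hf : ∀ j, f j ∈ fs) (hfs : ∀ a ∈ fs, ∃ j, f j = a)

include hf hfs in
/-- **Čech cohomology of a quasi-coherent module with respect to the `X_{f_j}` is Koszul limit
cohomology of the global sections, in degrees `≥ 1`.** -/
theorem nonempty_cechH_equiv_TT (p : ℕ) :
    Nonempty ((cx (VV f) F.presheaf).homology (p + 1) ≃+ TT fs (M0 F) (p + 2)) := by
  haveI := isIso_cech_map (VV f) (tau F)
    (fun n i => tauL_bijective F _ (gg f i) (prod_eq_basicOpen f i))
  let e1 : (cx (VV f) (PN (M0 F))).homology (p + 1) ≅ (cx (VV f) F.presheaf).homology (p + 1) :=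
    (HomologicalComplex.homologyFunctor _ _ (p + 1)).mapIso
      (asIso ((cechComplexFunctor (VV f)).map (tau F)))
  let e2 := augmentHomologyIso (cx (VV f) (PN (M0 F))) (ε (augTop f) (PN (M0 F)))
    (ε_d (augTop f) (PN (M0 F))) p
  obtain ⟨e3⟩ := nonempty_Haug_equiv_TT f fs hf hfs (p + 2) (M0 F)
  exact ⟨(e1.symm ≪≫ e2.symm).addCommGroupIsoToAddEquiv.trans e3⟩

end main

end Groth.Agent.Lib.Lead.KosCechF
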