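import Groth.Agent.S7662
import Groth.Agent.Lib.Helper7.RedLib
import Mathlib

/-! Lead: reduction lemma for S7660 (asked by helper28, bulletin #951). -/

set_option autoImplicit false
universe u
open CategoryTheory CategoryTheory.Limits AlgebraicGeometry TopologicalSpace

namespace Groth.Agent.Lib.Lead.AffImgReduce

section topology
variable {α : Type*} [TopologicalSpace α]

theorem eq_of_specializes_generic [T0Space α] {ξ y : α}
    (hξ : closure ({ξ} : Set α) ∈ irreducibleComponents α) (h : y ⤳ ξ) : y = ξ := by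
  have h1 : closure ({ξ} : Set α) ⊆ closure {y} :=
    (isClosed_closure.closure_subset_iff).mpr
      (Set.singleton_subset_iff.mpr (specializes_iff_mem_closure.mp h))
  have h2 : closure ({y} : Set α) ⊆ closure {ξ} := hξ.2 (isIrreducible_singleton.closure) h1
  have h3 : ξ ⤳ y := specializes_iff_mem_closure.mpr (h2 (subset_closure rfl))
  exact (h.antisymm h3).eq

theorem closure_mem_irreducibleComponents_of_forall [QuasiSober α] {η : α}
    (h : ∀ y, y ⤳ η → y = η) : closure ({η} : Set α) ∈ irreducibleComponents α := by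
  refine ⟨isIrreducible_singleton.closure, fun W hW hle => ?_⟩
  have hWc : IsIrreducible (closure W) := hW.closure
  have hy : closure {hWc.genericPoint} = closure W :=
    (hWc.isGenericPoint_genericPoint isClosed_closure).def
  have hsp : hWc.genericPoint ⤳ η := by
    rw [specializes_iff_mem_closure, hy]; exact subset_closure (hle (subset_closure rfl))
  have hyη := h _ hsp
  calc W ⊆ closure W := subset_closure
    _ = closure {hWc.genericPoint} := hy.symm
    _ = closure {η} := by rw [hyη]

end topology

theorem isIntegral_subscheme {X : Scheme.{u}} (Z : Closeds X) (hZ : IsIrreducible (Z : Set X)) :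
    IsIntegral (Scheme.IdealSheafData.vanishingIdeal Z).subscheme := by
  haveI : IsReduced (Scheme.IdealSheafData.vanishingIdeal Z).subscheme :=
    Groth.Agent.Lib.Helper7.isReduced_vanishingIdeal_subscheme Z
  haveI : IrreducibleSpace (Scheme.IdealSheafData.vanishingIdeal Z).subscheme := by
    have hemb : Topology.IsEmbedding (Scheme.IdealSheafData.vanishingIdeal Z).subschemeι :=
      (Scheme.IdealSheafData.vanishingIdeal Z).subschemeι.isClosedEmbedding.isEmbedding
    have hrange : Set.range (Scheme.IdealSheafData.vanishingIdeal Z).subschemeι = (Z : Set X) := by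
      rw [Scheme.IdealSheafData.range_subschemeι,
        Scheme.IdealSheafData.coe_support_vanishingIdeal]
    have hirr : IsIrreducible (Set.range (Scheme.IdealSheafData.vanishingIdeal Z).subschemeι) := by
      rw [hrange]; exact hZ
    haveI : IrreducibleSpace (Set.range (Scheme.IdealSheafData.vanishingIdeal Z).subschemeι) :=
      Subtype.irreducibleSpace hirr
    exact hemb.toHomeomorph.irreducibleSpace_iff.mpr inferInstance
  exact isIntegral_of_irreducibleSpace_of_isReduced _

theorem surj_comp {A B C : CommRingCat.{u}} (a : A ⟶ B) (b : B ⟶ C)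
    (ha : Function.Surjective a) (hb : Function.Surjective b) : Function.Surjective (a ≫ b) := by
  intro z
  obtain ⟨y, rfl⟩ := hb z
  obtain ⟨x, rfl⟩ := ha y
  exact ⟨x, by simp⟩

theorem surj_of_comp {A B C : CommRingCat.{u}} (a : A ⟶ B) (b : B ⟶ C)
    (h : Function.Surjective (a ≫ b)) : Function.Surjective b := by
  intro z
  obtain ⟨x, hx⟩ := h z
  exact ⟨a x, by simpa using hx⟩

theorem stalkMap_injective_of_integral {T' X' : Scheme.{u}} [IsIntegral T'] [IsIntegral X']
    (f' : T' ⟶ X') (hgen : f' (genericPoint T') = genericPoint X') (t' : T') :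
    Function.Injective (f'.stalkMap t') := by
  have hsp : genericPoint T' ⤳ t' := (genericPoint_spec T').specializes trivial
  have h1 : Function.Injective
      (X'.presheaf.stalkSpecializes (f'.base.hom.map_specializes hsp)) := by
    have key : ∀ (y : X') (_ : y = genericPoint X') (h : y ⤳ f' t'),
        Function.Injective (X'.presheaf.stalkSpecializes h) := by
      rintro y rfl h
      exact IsFractionRing.injective (X'.presheaf.stalk (f' t')) X'.functionField
    exact key _ hgen _
  have h2 : Function.Injective (f'.stalkMap (genericPoint T')) := by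
    have hF : IsField (X'.presheaf.stalk (f' (genericPoint T'))) :=
      isField_stalk_of_closure_mem_irreducibleComponents X' _
        (by rw [hgen]; simp [irreducibleComponents_eq_singleton])
    letI := hF.toField
    exact (f'.stalkMap (genericPoint T')).hom.injective
  intro a b hab
  apply h1
  apply h2
  have := congrArg (T'.presheaf.stalkSpecializes hsp) hab
  rw [Scheme.Hom.stalkSpecializes_stalkMap_apply, Scheme.Hom.stalkSpecializes_stalkMap_apply]
  exact this

theorem lift_gen {T X : Scheme.{u}} (f : T ⟶ X) (t : T) (hiso : IsIso (f.stalkMap t)) {ξ : X}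
    (hξ : closure ({ξ} : Set X) ∈ irreducibleComponents X) (hsp : ξ ⤳ f t) :
    ∃ η : T, η ⤳ t ∧ f η = ξ ∧ closure ({η} : Set T) ∈ irreducibleComponents T := by
  haveI := hiso
  obtain ⟨p, hp⟩ : ξ ∈ Set.range (X.fromSpecStalk (f t)) := by
    rw [Scheme.range_fromSpecStalk]; exact hsp
  haveI : IsIso (Spec.map (f.stalkMap t)) := inferInstance
  obtain ⟨q, hq⟩ := (Spec.map (f.stalkMap t)).homeomorph.surjective p
  have hq' : Spec.map (f.stalkMap t) q = p := hq
  have hsq : Spec.map (f.stalkMap t) ≫ X.fromSpecStalk (f t) = T.fromSpecStalk t ≫ f :=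
    Scheme.SpecMap_stalkMap_fromSpecStalk ..
  have hval : ∀ q', f (T.fromSpecStalk t q') = X.fromSpecStalk (f t) (Spec.map (f.stalkMap t) q') := by
    intro q'
    rw [← Scheme.Hom.comp_apply, ← Scheme.Hom.comp_apply, hsq]
  have hsp' : ∀ q', T.fromSpecStalk t q' ⤳ t := by
    intro q'
    have : T.fromSpecStalk t q' ∈ Set.range (T.fromSpecStalk t) := ⟨q', rfl⟩
    rw [Scheme.range_fromSpecStalk] at this
    exact this
  have hfη : f (T.fromSpecStalk t q) = ξ := by rw [hval, hq', hp]
  refine ⟨T.fromSpecStalk t q, hsp' q, hfη, ?_⟩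
  apply closure_mem_irreducibleComponents_of_forall
  intro η' hη'
  have hη't : η' ⤳ t := hη'.trans (hsp' q)
  obtain ⟨q', rfl⟩ : η' ∈ Set.range (T.fromSpecStalk t) := by
    rw [Scheme.range_fromSpecStalk]; exact hη't
  have h1 : f (T.fromSpecStalk t q') ⤳ f (T.fromSpecStalk t q) := hη'.map f.continuous
  rw [hfη] at h1
  have h3 := eq_of_specializes_generic hξ h1
  rw [hval] at h3
  have h4 : X.fromSpecStalk (f t) (Spec.map (f.stalkMap t) q')
      = X.fromSpecStalk (f t) (Spec.map (f.stalkMap t) q) := by rw [h3, hq', hp]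
  have h5 : Spec.map (f.stalkMap t) q' = Spec.map (f.stalkMap t) q :=
    (X.fromSpecStalk (f t)).isEmbedding.injective h4
  have h6 : q' = q := (Spec.map (f.stalkMap t)).homeomorph.injective h5
  rw [h6]

theorem reduce {T X : Scheme.{u}} (f : T ⟶ X) [IsAffine T] [QuasiSeparatedSpace X]
    (hX : (irreducibleComponents (X : Type u)).Finite)
    (hgen : ∀ η : T, closure ({η} : Set T) ∈ irreducibleComponents (T : Type u) →
      closure ({(f.base η)} : Set X) ∈ irreducibleComponents (X : Type u))
    (hinj : ∀ η η' : T, closure ({η} : Set T) ∈ irreducibleComponents (T : Type u) →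
      closure ({η'} : Set T) ∈ irreducibleComponents (T : Type u) → f.base η = f.base η' → η = η')
    (s : Finset T) (hs : ∀ t ∈ s, IsIso (f.stalkMap t))
    (H : ∀ (T' X' : Scheme.{u}) (f' : T' ⟶ X') [IsAffine T'] [IsIntegral T'] [IsIntegral X']
      [QuasiSeparatedSpace X'],
      f'.base (genericPoint T') = genericPoint X' → ∀ s' : Finset T',
      (∀ t ∈ s', IsIso (f'.stalkMap t)) →
      ∃ U : X'.Opens, IsAffineOpen U ∧ ∀ t ∈ s', f'.base t ∈ U) :
    ∃ U : X.Opens, IsAffineOpen U ∧ ∀ t ∈ s, f.base t ∈ U := by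
  classical
  have key := Groth.Agent.S7662.result X hX (s.image (fun t => f.base t))
  refine (key ?_).imp fun U hU => ⟨hU.1, fun t ht => hU.2 _ (Finset.mem_image_of_mem _ ht)⟩
  intro Z hZ
  have hZirr : IsIrreducible Z := hZ.1
  have hZcl : IsClosed Z := isClosed_of_mem_irreducibleComponents Z hZ
  generalize hZC : (⟨Z, isClosed_of_mem_irreducibleComponents Z hZ⟩ : Closeds X) = ZC
  have hZCcoe : (ZC : Set X) = Z := by rw [← hZC]; rfl
  by_cases hne : ∃ t ∈ s, f.base t ∈ Z
  swap
  · refine ⟨⊥, isAffineOpen_bot _, fun x hx hxZ => ?_⟩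
    obtain ⟨t, ht, rfl⟩ := Finset.mem_image.mp hx
    exact absurd ⟨t, ht, hxZ⟩ hne
  obtain ⟨t₀, ht₀, ht₀Z⟩ := hne
  -- generic point of Z
  have hξZ : closure ({hZirr.genericPoint} : Set X) = Z :=
    (hZirr.isGenericPoint_genericPoint hZcl).def
  generalize hZirr.genericPoint = ξ at hξZ
  have hξ : closure ({ξ} : Set X) ∈ irreducibleComponents X := by rw [hξZ]; exact hZ
  have hsp : ∀ t : T, f.base t ∈ Z → ξ ⤳ f.base t := fun t ht => by
    rw [specializes_iff_mem_closure, hξZ]; exact ht
  have hlift : ∀ t ∈ s, f.base t ∈ Z → ∃ η : T, η ⤳ t ∧ f.base η = ξ ∧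
      closure ({η} : Set T) ∈ irreducibleComponents T :=
    fun t ht htZ => lift_gen f t (hs t ht) hξ (hsp t htZ)
  obtain ⟨η, hηt₀, hηξ, hηc⟩ := hlift t₀ ht₀ ht₀Z
  have hη_all : ∀ t ∈ s, f.base t ∈ Z → η ⤳ t := by
    intro t ht htZ
    obtain ⟨η', h1, h2, h3⟩ := hlift t ht htZ
    have : η' = η := hinj η' η h3 hηc (h2.trans hηξ.symm)
    rw [← this]; exact h1
  -- the closed subschemes
  have hWirr : IsIrreducible ((⟨closure {η}, isClosed_closure⟩ : Closeds T) : Set T) :=
    isIrreducible_singleton.closure
  generalize hW : (⟨closure {η}, isClosed_closure⟩ : Closeds T) = W at hWirr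
  have hWcoe : (W : Set T) = closure {η} := by rw [← hW]; rfl
  haveI : IsIntegral (Scheme.IdealSheafData.vanishingIdeal W).subscheme :=
    isIntegral_subscheme W hWirr
  haveI : IsIntegral (Scheme.IdealSheafData.vanishingIdeal ZC).subscheme :=
    isIntegral_subscheme ZC (by rw [hZCcoe]; exact hZirr)
  haveI : IsAffine (Scheme.IdealSheafData.vanishingIdeal W).subscheme :=
    isAffine_of_isAffineHom (Scheme.IdealSheafData.vanishingIdeal W).subschemeι
  haveI : QuasiSeparatedSpace (Scheme.IdealSheafData.vanishingIdeal ZC).subscheme :=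
    quasiSeparatedSpace_of_quasiSeparated (Scheme.IdealSheafData.vanishingIdeal ZC).subschemeι
  have hrT : Set.range (Scheme.IdealSheafData.vanishingIdeal W).subschemeι = closure {η} := by
    rw [Scheme.IdealSheafData.range_subschemeι, Scheme.IdealSheafData.coe_support_vanishingIdeal,
      hWcoe]
  have hrZ : Set.range (Scheme.IdealSheafData.vanishingIdeal ZC).subschemeι = Z := by
    rw [Scheme.IdealSheafData.range_subschemeι, Scheme.IdealSheafData.coe_support_vanishingIdeal,
      hZCcoe]
  generalize (Scheme.IdealSheafData.vanishingIdeal W) = IT at *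
  generalize (Scheme.IdealSheafData.vanishingIdeal ZC) = IZ at *
  -- the lift
  have hsub : Set.range (IT.subschemeι ≫ f) ⊆ Set.range IZ.subschemeι := by
    rintro _ ⟨y, rfl⟩
    rw [hrZ, ← hξZ]
    have hy : IT.subschemeι y ∈ closure ({η} : Set T) := hrT ▸ Set.mem_range_self y
    have h1 : η ⤳ IT.subschemeι y := specializes_iff_mem_closure.mpr hy
    have h2 := h1.map f.continuous
    rw [show f η = ξ from hηξ] at h2
    rw [Scheme.Hom.comp_apply]
    exact specializes_iff_mem_closure.mp h2
  obtain ⟨f', hf'⟩ := Groth.Agent.Lib.Helper7.exists_lift_of_isReduced_of_range_subset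
    (IT.subschemeι ≫ f) IZ.subschemeι hsub
  have hgT : IT.subschemeι (genericPoint IT.subscheme) = η := by
    have h1 : closure ({IT.subschemeι (genericPoint IT.subscheme)} : Set T) = closure {η} := by
      rw [← Set.image_singleton, IT.subschemeι.isClosedEmbedding.closure_image_eq,
        (genericPoint_spec IT.subscheme).def, ← hrT]
      simp
    exact IsGenericPoint.eq (S := closure {η}) h1 rfl
  have hgZ : IZ.subschemeι (genericPoint IZ.subscheme) = ξ := by
    have h1 : closure ({IZ.subschemeι (genericPoint IZ.subscheme)} : Set X) = closure {ξ} := by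
      rw [← Set.image_singleton, IZ.subschemeι.isClosedEmbedding.closure_image_eq,
        (genericPoint_spec IZ.subscheme).def, hξZ, ← hrZ]
      simp
    exact IsGenericPoint.eq (S := closure {ξ}) h1 rfl
  have hfgen : f' (genericPoint IT.subscheme) = genericPoint IZ.subscheme := by
    apply IZ.subschemeι.isClosedEmbedding.injective
    rw [hgZ, ← Scheme.Hom.comp_apply, hf', Scheme.Hom.comp_apply, hgT]
    exact hηξ
  let s' : Finset IT.subscheme :=
    s.preimage IT.subschemeι (IT.subschemeι.isClosedEmbedding.injective.injOn)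
  have hs'mem : ∀ t', t' ∈ s' ↔ IT.subschemeι t' ∈ s := fun t' => Finset.mem_preimage
  have hs' : ∀ t' ∈ s', IsIso (f'.stalkMap t') := by
    intro t' ht'
    have ht : IT.subschemeι t' ∈ s := (hs'mem t').mp ht'
    haveI := hs _ ht
    rw [ConcreteCategory.isIso_iff_bijective]
    refine ⟨stalkMap_injective_of_integral f' hfgen t', ?_⟩
    have hcomp : ∀ g : IT.subscheme ⟶ X, g = IT.subschemeι ≫ f →
        Function.Surjective (g.stalkMap t') := by
      rintro _ rfl
      rw [Scheme.Hom.stalkMap_comp]
      exact surj_comp _ _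
        (ConcreteCategory.bijective_of_isIso (f.stalkMap (IT.subschemeι t'))).2
        (IT.subschemeι.stalkMap_surjective t')
    have hcomp' := hcomp _ hf'
    rw [Scheme.Hom.stalkMap_comp] at hcomp'
    exact surj_of_comp _ _ hcomp'
  obtain ⟨U, hU, hUmem⟩ := H IT.subscheme IZ.subscheme f' hfgen s' hs'
  refine ⟨U, hU, fun x hx hxZ => ?_⟩
  obtain ⟨t, ht, rfl⟩ := Finset.mem_image.mp hx
  have hηt : η ⤳ t := hη_all t ht hxZ
  obtain ⟨t', rfl⟩ : t ∈ Set.range IT.subschemeι := by
    rw [hrT]; exact specializes_iff_mem_closure.mp hηt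
  have ht' : t' ∈ s' := (hs'mem t').mpr ht
  refine ⟨f' t', hUmem t' ht', ?_⟩
  rw [← Scheme.Hom.comp_apply, hf', Scheme.Hom.comp_apply]

end Groth.Agent.Lib.Lead.AffImgReduce
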