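import Mathlib
import Groth.Prelude
import Groth.Agent.Lib.Helper4.KosComp
import Groth.Agent.Lib.Helper4.LC3
import Groth.Agent.Lib.Helper28.DepthLoc

/-!
# Koszul colimit vanishing, depth, and transport of depth (lead)
-/

set_option autoImplicit false
set_option linter.style.haveILetI false
set_option linter.unusedSectionVars false
universe u

open RingTheory.Sequence

namespace Groth.Agent.Lib.Lead.HZDepthA

open Groth.Agent.Lib.Helper4 Groth.Agent.Lib.Helper4.LC

section kos

variable {A : Type u} [CommRing A] [IsNoetherianRing A]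

/-- Vanishing of the Koszul colimits below `n` is `depth_I ≥ n`. -/
theorem koszul_vanish_iff (fs : List A) (N : Type u) [AddCommGroup N] [Module A N]
    [Module.Finite A N] (n : ℕ) :
    (∀ i : ℕ, i < n → Subsingleton (CohIII.koszulHLim fs (ModuleCat.of A N) i)) ↔
      (n : ℕ∞) ≤ LocCoh.idealDepth (Ideal.span {a | a ∈ fs}) N := by
  have key : ∀ i : ℕ, Subsingleton (CohIII.koszulHLim fs (ModuleCat.of A N) i) ↔
      Subsingleton (HH (Ideal.span {a | a ∈ fs}) (ModuleCat.of A N) i) := by
    intro i
    obtain ⟨e⟩ := Groth.Agent.Lib.Helper4.KosComp.nonempty_localCohomology_equiv fs N i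
    rw [← subsingleton_H_iff]
    exact e.toEquiv.subsingleton_congr.symm
  constructor
  · intro h
    by_cases hIM : (Ideal.span {a | a ∈ fs}) • (⊤ : Submodule A N) = ⊤
    · rw [idealDepth_of_smul_top_eq _ hIM]; exact le_top
    · obtain ⟨d, hd⟩ := ENat.ne_top_iff_exists.1 (idealDepth_ne_top _ hIM)
      by_contra hlt
      rw [← hd] at hlt
      have hdn : d < n := by exact_mod_cast not_le.1 hlt
      have h1 := (key d).1 (h d hdn)
      haveI := HH.nontrivial_of_idealDepth_eq (Ideal.span {a | a ∈ fs}) d N hIM hd.symm
      exact not_subsingleton _ h1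
  · intro h i hi
    rw [key]
    exact HH.subsingleton_of_lt_idealDepth _ N i (lt_of_lt_of_le (by exact_mod_cast hi) h)

/-- `depth_I N ≥ n` iff `depth N_p ≥ n` for all primes `p ⊇ I`. -/
theorem le_idealDepth_iff_forall_localization (I : Ideal A) (N : Type u) [AddCommGroup N]
    [Module A N] [Module.Finite A N] (n : ℕ) :
    (n : ℕ∞) ≤ LocCoh.idealDepth I N ↔
      ∀ (p : Ideal A) [p.IsPrime], I ≤ p →
        (n : ℕ∞) ≤ LocCoh.depth (Localization.AtPrime p) (LocalizedModule p.primeCompl N) := by
  constructor
  · intro h p _ hIp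
    by_cases hnt : Nontrivial (LocalizedModule p.primeCompl N)
    · exact le_trans h (Groth.Agent.Lib.Helper28.idealDepth_le_depth_localization I p hIp)
    · rw [not_nontrivial_iff_subsingleton] at hnt
      rw [depth_eq_top_of_subsingleton]
      exact le_top
  · intro h
    exact Groth.Agent.Lib.Helper28.le_idealDepth_of_forall_localization I n
      (fun p _ hIp _ => h p hIp)

end kos

section transport

variable {R R' : Type u} [CommRing R] [CommRing R']

/-- Depth along a ring isomorphism (module structure pulled back). -/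
theorem idealDepth_compHom (σ : R ≃+* R') (I : Ideal R) (I' : Ideal R')
    (hI : ∀ r, r ∈ I ↔ σ r ∈ I') (M' : Type u) [AddCommGroup M'] [Module R' M'] :
    letI : Module R M' := Module.compHom M' (σ : R →+* R')
    LocCoh.idealDepth I M' = LocCoh.idealDepth I' M' := by
  letI modR : Module R M' := Module.compHom M' (σ : R →+* R')
  letI algR : Algebra R R' := (σ : R →+* R').toAlgebra
  haveI : IsScalarTower R R' M' := ⟨fun r r' m => by
    change (σ r * r') • m = σ r • (r' • m)
    rw [mul_smul]⟩
  have hreg : ∀ rs : List R, IsWeaklyRegular M' rs ↔ IsWeaklyRegular M' (rs.map σ) := fun rs =>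
    (isWeaklyRegular_map_algebraMap_iff R' M' rs).symm
  have hmem1 : ∀ m : M', m ∈ I • (⊤ : Submodule R M') → m ∈ I' • (⊤ : Submodule R' M') := by
    intro m hm
    refine Submodule.smul_induction_on hm (fun r hr n _ => ?_) (fun x y hx hy => add_mem hx hy)
    change σ r • n ∈ _
    exact Submodule.smul_mem_smul ((hI r).1 hr) Submodule.mem_top
  have hmem2 : ∀ m : M', m ∈ I' • (⊤ : Submodule R' M') → m ∈ I • (⊤ : Submodule R M') := by
    intro m hm
    refine Submodule.smul_induction_on hm (fun r' hr' n _ => ?_) (fun x y hx hy => add_mem hx hy)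
    have h1 : r' • n = (σ.symm r') • n := by
      change r' • n = σ (σ.symm r') • n
      rw [σ.apply_symm_apply]
    rw [h1]
    exact Submodule.smul_mem_smul ((hI _).2 (by rw [σ.apply_symm_apply]; exact hr'))
      Submodule.mem_top
  have htop : I • (⊤ : Submodule R M') = ⊤ ↔ I' • (⊤ : Submodule R' M') = ⊤ := by
    constructor
    · intro h
      rw [eq_top_iff]
      intro m _
      exact hmem1 m (by rw [h]; exact Submodule.mem_top)
    · intro h
      rw [eq_top_iff]
      intro m _
      exact hmem2 m (by rw [h]; exact Submodule.mem_top)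
  by_cases hIM : I • (⊤ : Submodule R M') = ⊤
  · rw [idealDepth_of_smul_top_eq I hIM, idealDepth_of_smul_top_eq I' (htop.1 hIM)]
  · rw [idealDepth_of_smul_top_ne I hIM, idealDepth_of_smul_top_ne I' (fun h => hIM (htop.2 h))]
    apply le_antisymm
    · refine iSup₂_le fun rs hrs => ?_
      refine le_iSup₂_of_le (rs.map σ) ⟨(hreg rs).1 hrs.1, fun r' hr' => ?_⟩ (by simp)
      obtain ⟨r, hr, rfl⟩ := List.mem_map.1 hr'
      exact (hI r).1 (hrs.2 r hr)
    · refine iSup₂_le fun rs' hrs' => ?_
      have hback : (rs'.map σ.symm).map σ = rs' := by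
        rw [List.map_map]
        conv_rhs => rw [← List.map_id rs']
        apply List.map_congr_left
        intro a _
        simp
      refine le_iSup₂_of_le (rs'.map σ.symm) ⟨(hreg _).2 (by rw [hback]; exact hrs'.1),
        fun r hr => ?_⟩ (by simp)
      obtain ⟨r', hr', rfl⟩ := List.mem_map.1 hr
      exact (hI _).2 (by rw [σ.apply_symm_apply]; exact hrs'.2 r' hr')

/-- Depth of local rings along a ring isomorphism. -/
theorem depth_compHom [IsLocalRing R] [IsLocalRing R'] (σ : R ≃+* R') (M' : Type u)
    [AddCommGroup M'] [Module R' M'] :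
    letI : Module R M' := Module.compHom M' (σ : R →+* R')
    LocCoh.depth R M' = LocCoh.depth R' M' := by
  unfold LocCoh.depth
  apply idealDepth_compHom σ
  intro r
  rw [IsLocalRing.mem_maximalIdeal, IsLocalRing.mem_maximalIdeal, mem_nonunits_iff,
    mem_nonunits_iff]
  exact not_congr (MulEquiv.isUnit_map σ.toMulEquiv).symm

end transport

section loc

/-- The depth of a localized module, for any model of the localization. -/
theorem depth_eq_of_isLocalizedModule {A : Type u} [CommRing A] (p : Ideal A) [p.IsPrime]
    (S : Type u) [CommRing S] [IsLocalRing S] [Algebra A S] [IsLocalization.AtPrime S p]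
    {N : Type u} [AddCommGroup N] [Module A N]
    {N' : Type u} [AddCommGroup N'] [Module A N'] [Module S N'] [IsScalarTower A S N']
    (g : N →ₗ[A] N') [IsLocalizedModule p.primeCompl g] :
    LocCoh.depth S N' =
      LocCoh.depth (Localization.AtPrime p) (LocalizedModule p.primeCompl N) := by
  let σ : Localization.AtPrime p ≃ₐ[A] S := IsLocalization.algEquiv p.primeCompl _ _
  letI modL : Module (Localization.AtPrime p) N' :=
    Module.compHom N' ((σ.toRingEquiv : Localization.AtPrime p ≃+* S) : Localization.AtPrime p →+* S)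
  haveI : IsScalarTower A (Localization.AtPrime p) N' := ⟨fun a r n => by
    change σ (a • r) • n = a • (σ r • n)
    rw [map_smul, smul_assoc]⟩
  have h1 : LocCoh.depth (Localization.AtPrime p) N' = LocCoh.depth S N' :=
    depth_compHom σ.toRingEquiv N'
  let e : LocalizedModule p.primeCompl N ≃ₗ[Localization.AtPrime p] N' :=
    (IsLocalizedModule.iso p.primeCompl g).extendScalarsOfIsLocalization p.primeCompl
      (Localization.AtPrime p)
  have h2 := Groth.Agent.Lib.Helper28.idealDepth_congr e
    (IsLocalRing.maximalIdeal (Localization.AtPrime p))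
  rw [← h1]
  exact h2.symm

end loc

end Groth.Agent.Lib.Lead.HZDepthA
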