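import Mathlib
import Groth.Prelude.Def_CohB1
import Groth.Agent.Lib.Helper4.Unmixed
import Groth.Agent.Lib.Helper12.DimFT

/-!
# Topology of projective space `Proj k[x_0..x_n]` versus homogeneous primes

Points of `ProjectiveSpectrum (CohB1.polyGrading n k)` are relevant homogeneous primes of
`k[x_0, …, x_n]`.  We collect: construction of points from primes, existence of points on
intersections of few hypersurfaces (Krull's height theorem), the comparison between the topological
Krull dimension of closed subsets and the order-theoretic Krull dimension of the poset of points, and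
some facts on principal homogeneous primes.
-/

set_option autoImplicit false

namespace Groth.Agent.Lib.Lead.ProjTop

open MvPolynomial AlgebraicGeometry TopologicalSpace

universe u

variable (k : Type u) [Field k] (n : ℕ)

/-- points of projective `n`-space -/
abbrev PS := ProjectiveSpectrum (CohB1.polyGrading n k)

/-- the polynomial ring -/
abbrev SR := MvPolynomial (Fin (n + 1)) k

lemma decompose_eq (f : SR k n) (j : ℕ) :
    ((DirectSum.decompose (CohB1.polyGrading n k) f) j : SR k n) = homogeneousComponent j f :=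
  MvPolynomial.decomposition.decompose'_apply (σ := Fin (n + 1)) (R := k) f j

lemma decompose_zero_eq (f : SR k n) :
    ((DirectSum.decompose (CohB1.polyGrading n k) f) 0 : SR k n) = C (coeff 0 f) := by
  rw [decompose_eq, homogeneousComponent_zero]

/-- a proper homogeneous ideal consists of polynomials without constant term
(after helper4's `Unmixed2`). -/
lemma constantCoeff_eq_zero_of_mem (Q : Ideal (SR k n))
    (hQ : Q.IsHomogeneous (CohB1.polyGrading n k)) (hQtop : Q ≠ ⊤)
    (p : SR k n) (hp : p ∈ Q) : constantCoeff p = 0 := by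
  rw [constantCoeff_eq]
  by_contra hne
  have h0 : ((DirectSum.decompose (CohB1.polyGrading n k) p) 0 : SR k n) ∈ Q := hQ 0 hp
  rw [decompose_zero_eq] at h0
  exact hQtop (Ideal.eq_top_of_isUnit_mem _ h0 ((IsUnit.mk0 _ hne).map C))

/-- minimal primes over a homogeneous ideal are homogeneous (after helper4's `Unmixed2`). -/
lemma isHomogeneous_of_mem_minimalPrimes (J Q : Ideal (SR k n))
    (hJ : J.IsHomogeneous (CohB1.polyGrading n k)) (hQ : Q ∈ J.minimalPrimes) :
    Q.IsHomogeneous (CohB1.polyGrading n k) := by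
  have hQprime : Q.IsPrime := hQ.1.1
  have hprime := Ideal.IsPrime.homogeneousCore (𝒜 := CohB1.polyGrading n k) hQprime
  have hmono : (J.homogeneousCore (CohB1.polyGrading n k)).toIdeal ≤
      (Q.homogeneousCore (CohB1.polyGrading n k)).toIdeal :=
    Ideal.homogeneousCore_mono (CohB1.polyGrading n k) hQ.1.2
  rw [hJ.toIdeal_homogeneousCore_eq_self] at hmono
  have h2 : Q ≤ (Q.homogeneousCore (CohB1.polyGrading n k)).toIdeal :=
    hQ.2 ⟨hprime, hmono⟩ (Ideal.toIdeal_homogeneousCore_le _ Q)
  have h3 : (Q.homogeneousCore (CohB1.polyGrading n k)).toIdeal = Q :=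
    le_antisymm (Ideal.toIdeal_homogeneousCore_le _ Q) h2
  rw [← h3]
  exact (Q.homogeneousCore (CohB1.polyGrading n k)).isHomogeneous

/-- the point of `Proj` given by a relevant homogeneous prime. -/
noncomputable def mkPt (P : Ideal (SR k n)) (hP : P.IsPrime)
    (hh : P.IsHomogeneous (CohB1.polyGrading n k))
    (hirr : ¬ (HomogeneousIdeal.irrelevant (CohB1.polyGrading n k)).toIdeal ≤ P) : PS k n where
  asHomogeneousIdeal := ⟨P, hh⟩
  isPrime := hP
  not_irrelevant_le := fun h => hirr (fun x hx => h hx)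

lemma exists_pt_of_prime (P : Ideal (SR k n)) (hP : P.IsPrime)
    (hh : P.IsHomogeneous (CohB1.polyGrading n k))
    (hirr : ¬ (HomogeneousIdeal.irrelevant (CohB1.polyGrading n k)).toIdeal ≤ P) :
    ∃ x : PS k n, x.asHomogeneousIdeal.toIdeal = P := ⟨mkPt k n P hP hh hirr, rfl⟩

lemma X_mem_irrelevant (i : Fin (n + 1)) :
    (X i : SR k n) ∈ (HomogeneousIdeal.irrelevant (CohB1.polyGrading n k)).toIdeal :=
  HomogeneousIdeal.mem_irrelevant_of_mem _ zero_lt_one (isHomogeneous_X k i)

lemma not_irr_le_of_height (P : Ideal (SR k n)) [P.IsPrime]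
    (hht : P.height < ((n + 1 : ℕ) : ℕ∞)) :
    ¬ (HomogeneousIdeal.irrelevant (CohB1.polyGrading n k)).toIdeal ≤ P := by
  intro hle
  have hX : ∀ i, (X i : SR k n) ∈ P := fun i => hle (X_mem_irrelevant k n i)
  have h1 := Groth.Agent.Lib.Helper4.Unmixed.le_height_of_X_mem k n P hX
  exact absurd (lt_of_le_of_lt h1 hht) (lt_irrefl _)

lemma irrelevant_le_of_X_mem (P : Ideal (SR k n)) (hX : ∀ i, (X i : SR k n) ∈ P) :
    (HomogeneousIdeal.irrelevant (CohB1.polyGrading n k)).toIdeal ≤ P := by
  intro a ha
  have h1 : GradedRing.proj (CohB1.polyGrading n k) 0 a = 0 :=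
    (HomogeneousIdeal.mem_irrelevant_iff _ a).1 ha
  rw [GradedRing.proj_apply, decompose_zero_eq] at h1
  have h2 : coeff 0 a = 0 := (map_eq_zero_iff C (C_injective _ _)).1 h1
  have h3 : a ∈ Ideal.span (X '' (Set.univ : Set (Fin (n + 1))) : Set (SR k n)) := by
    rw [mem_ideal_span_X_image]
    intro m hm
    have hm0 : m ≠ 0 := by
      rintro rfl
      exact (mem_support_iff.1 hm) h2
    obtain ⟨i, hi⟩ := DFunLike.ne_iff.1 hm0
    exact ⟨i, Set.mem_univ _, by simpa using hi⟩
  have h4 : Ideal.span (X '' (Set.univ : Set (Fin (n + 1))) : Set (SR k n)) ≤ P := by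
    rw [Ideal.span_le]
    rintro _ ⟨i, -, rfl⟩
    exact hX i
  exact h4 h3

lemma exists_X_notMem (x : PS k n) : ∃ i, (X i : SR k n) ∉ x.asHomogeneousIdeal.toIdeal := by
  by_contra hcon
  push Not at hcon
  exact x.not_irrelevant_le (fun a ha => irrelevant_le_of_X_mem k n _ hcon ha)

lemma mem_zeroLocus_iff (s : Set (SR k n)) (x : PS k n) :
    x ∈ ProjectiveSpectrum.zeroLocus (CohB1.polyGrading n k) s ↔
      Ideal.span s ≤ x.asHomogeneousIdeal.toIdeal := by
  rw [ProjectiveSpectrum.mem_zeroLocus, Ideal.span_le]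
  rfl

/-- the irrelevant maximal ideal as a point of `Spec`. -/
noncomputable def mIrr : PrimeSpectrum (SR k n) :=
  ⟨RingHom.ker (constantCoeff : SR k n →+* k), RingHom.ker_isPrime _⟩

/-- the prime ideal of a point of `Proj`. -/
noncomputable def pr (x : PS k n) : PrimeSpectrum (SR k n) :=
  ⟨x.asHomogeneousIdeal.toIdeal, x.isPrime⟩

lemma pr_le_iff (x y : PS k n) : pr k n x ≤ pr k n y ↔ x ≤ y :=
  ⟨fun h a ha => h ha, fun h a ha => h ha⟩

lemma pr_strictMono : StrictMono (pr k n) := by
  intro x y h
  exact lt_of_le_not_ge ((pr_le_iff k n x y).2 h.le) (fun hge => h.not_ge ((pr_le_iff k n y x).1 hge))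

lemma pr_lt (x : PS k n) : pr k n x < mIrr k n := by
  have hle : x.asHomogeneousIdeal.toIdeal ≤ RingHom.ker (constantCoeff : SR k n →+* k) := by
    intro f hf
    exact (RingHom.mem_ker).2 (constantCoeff_eq_zero_of_mem k n _
      x.asHomogeneousIdeal.isHomogeneous x.isPrime.ne_top f hf)
  have hle' : pr k n x ≤ mIrr k n := hle
  refine lt_of_le_of_ne hle' ?_
  intro heq
  have hI : x.asHomogeneousIdeal.toIdeal = RingHom.ker (constantCoeff : SR k n →+* k) :=
    congrArg PrimeSpectrum.asIdeal heq
  obtain ⟨i, hi⟩ := exists_X_notMem k n x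
  apply hi
  rw [hI, RingHom.mem_ker, constantCoeff_X]

lemma dimS : Order.krullDim (PrimeSpectrum (SR k n)) = ((n + 1 : ℕ) : WithBot ℕ∞) := by
  have h : ringKrullDim (SR k n) = ((n + 1 : ℕ) : WithBot ℕ∞) := by
    rw [MvPolynomial.ringKrullDim_of_isNoetherianRing, ringKrullDim_eq_zero_of_field, Nat.card_fin,
      zero_add]
  exact h

lemma height_add_coheight (y : PrimeSpectrum (SR k n)) :
    (Order.height y : ℕ∞) + Order.coheight y = ((n + 1 : ℕ) : ℕ∞) := by
  have hd : ringKrullDim (SR k n) = ((n + 1 : ℕ) : WithBot ℕ∞) := dimS k n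
  have hfin : Order.height y < ⊤ := by
    have h1 := Order.height_le_krullDim y
    rw [dimS] at h1
    have h3 : (Order.height y : ℕ∞) ≤ ((n + 1 : ℕ) : ℕ∞) := by exact_mod_cast h1
    exact lt_of_le_of_lt h3 (ENat.coe_lt_top _)
  obtain ⟨m, hm⟩ := ENat.ne_top_iff_exists.mp hfin.ne
  exact Groth.Agent.Lib.Helper12.DimFT.height_add_coheight k (SR k n) (n + 1) hd m y hm.symm

/-! ### existence of points -/

/-- fewer than `n + 1` forms (here: a finite set `s` of polynomials without constant term spanning a
homogeneous ideal) have a common zero in `P^n`: there is a point of `Proj` containing them, which is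
moreover a minimal prime over their span. -/
lemma exists_pt (s : Set (SR k n)) (hs : s.Finite) (hc : s.ncard < n + 1)
    (hJ : (Ideal.span s).IsHomogeneous (CohB1.polyGrading n k))
    (h0 : ∀ a ∈ s, constantCoeff a = 0) :
    ∃ x : PS k n, x.asHomogeneousIdeal.toIdeal ∈ (Ideal.span s).minimalPrimes := by
  have hle : Ideal.span s ≤ RingHom.ker (constantCoeff : SR k n →+* k) := by
    rw [Ideal.span_le]
    intro x hx
    exact (RingHom.mem_ker).2 (h0 x hx)
  haveI : (RingHom.ker (constantCoeff : SR k n →+* k)).IsPrime := RingHom.ker_isPrime _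
  obtain ⟨P, hPmin, -⟩ := Ideal.exists_minimalPrimes_le hle
  haveI hPp : P.IsPrime := hPmin.1.1
  have hPh : P.IsHomogeneous (CohB1.polyGrading n k) :=
    isHomogeneous_of_mem_minimalPrimes k n _ P hJ hPmin
  have hht : P.height < ((n + 1 : ℕ) : ℕ∞) := by
    have h := Ideal.height_le_card_of_mem_minimalPrimes_span hs hPmin
    refine lt_of_le_of_lt h ?_
    exact_mod_cast hc
  exact ⟨mkPt k n P hPp hPh (not_irr_le_of_height k n P hht), hPmin⟩

/-! ### principal primes -/

lemma principal_of_minimal (f : SR k n) (hf0 : f ≠ 0) (p : Ideal (SR k n))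
    (hp : p ∈ (Ideal.span ({f} : Set (SR k n))).minimalPrimes) :
    ∃ π : SR k n, Prime π ∧ π ∣ f ∧ p = Ideal.span {π} := by
  haveI hpp : p.IsPrime := hp.1.1
  have hfp : f ∈ p := hp.1.2 (Ideal.subset_span rfl)
  obtain ⟨s, hs, hsf⟩ := UniqueFactorizationMonoid.exists_prime_factors f hf0
  obtain ⟨u, hu⟩ := hsf.symm
  have hsp : s.prod ∈ p := by rw [← hu]; exact Ideal.mul_mem_right _ _ hfp
  obtain ⟨π, hπs, hπp⟩ := (hpp.multiset_prod_mem_iff_exists_mem s).1 hsp
  have hπ : Prime π := hs π hπs
  have hdvd : π ∣ f := (Multiset.dvd_prod hπs).trans hsf.dvd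
  have hle : Ideal.span {π} ≤ p := (Ideal.span_le).2 (Set.singleton_subset_iff.2 hπp)
  refine ⟨π, hπ, hdvd, le_antisymm ?_ hle⟩
  apply hp.2 ⟨Ideal.isPrime_span_singleton_of_prime hπ, ?_⟩ hle
  rw [Ideal.span_singleton_le_span_singleton]
  exact hdvd

lemma span_prime_mem_minimalPrimes (f π : SR k n) (hf0 : f ≠ 0) (hπ : Prime π) (hdvd : π ∣ f) :
    Ideal.span ({π} : Set (SR k n)) ∈ (Ideal.span ({f} : Set (SR k n))).minimalPrimes := by
  have hP : (Ideal.span ({π} : Set (SR k n))).IsPrime := Ideal.isPrime_span_singleton_of_prime hπ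
  refine ⟨⟨hP, (Ideal.span_singleton_le_span_singleton).2 hdvd⟩, ?_⟩
  rintro Q ⟨hQp, hfQ⟩ hQP
  have hfQ' : f ∈ Q := hfQ (Ideal.subset_span rfl)
  obtain ⟨s, hs, hsf⟩ := UniqueFactorizationMonoid.exists_prime_factors f hf0
  obtain ⟨u, hu⟩ := hsf.symm
  have hsp : s.prod ∈ Q := by rw [← hu]; exact Ideal.mul_mem_right _ _ hfQ'
  obtain ⟨ρ, hρs, hρQ⟩ := (hQp.multiset_prod_mem_iff_exists_mem s).1 hsp
  have hρ : Prime ρ := hs ρ hρs
  have hρπ : ρ ∈ Ideal.span ({π} : Set (SR k n)) := hQP hρQ
  rw [Ideal.mem_span_singleton] at hρπ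
  obtain ⟨c, hc⟩ := hρπ
  have hcu : IsUnit c := by
    rcases hρ.irreducible.isUnit_or_isUnit hc with h | h
    · exact absurd h hπ.not_unit
    · exact h
  obtain ⟨c', rfl⟩ := hcu
  have hπQ : π ∈ Q := by
    have h1 : π = ρ * ((c'⁻¹ : (SR k n)ˣ) : SR k n) := by
      rw [hc, mul_assoc, Units.mul_inv, mul_one]
    rw [h1]
    exact Ideal.mul_mem_right _ _ hρQ
  exact (Ideal.span_le).2 (Set.singleton_subset_iff.2 hπQ)

/-- a generator of a principal homogeneous ideal is homogeneous. -/
lemma isHomogeneous_of_span (π : SR k n) (hπ0 : π ≠ 0)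
    (h : (Ideal.span ({π} : Set (SR k n))).IsHomogeneous (CohB1.polyGrading n k)) :
    π.IsHomogeneous π.totalDegree := by
  have hcomp : ∀ j, homogeneousComponent j π ≠ 0 → j = π.totalDegree := by
    intro j hj
    have hmem : homogeneousComponent j π ∈ Ideal.span ({π} : Set (SR k n)) := by
      have h0 : ((DirectSum.decompose (CohB1.polyGrading n k) π) j : SR k n) ∈
          Ideal.span ({π} : Set (SR k n)) := h j (Ideal.mem_span_singleton_self π)
      rw [decompose_eq] at h0
      exact h0
    rw [Ideal.mem_span_singleton] at hmem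
    obtain ⟨c, hc⟩ := hmem
    have hc0 : c ≠ 0 := by
      rintro rfl
      rw [mul_zero] at hc
      exact hj hc
    have htd : (homogeneousComponent j π).totalDegree = j :=
      (homogeneousComponent_isHomogeneous j π).totalDegree hj
    have htd2 : (homogeneousComponent j π).totalDegree = π.totalDegree + c.totalDegree := by
      rw [hc, totalDegree_mul_of_isDomain hπ0 hc0]
    have hle : j ≤ π.totalDegree := by
      by_contra hlt
      push Not at hlt
      exact hj (homogeneousComponent_eq_zero _ _ hlt)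
    omega
  have hsum : ∑ i ∈ Finset.range (π.totalDegree + 1), homogeneousComponent i π = π :=
    sum_homogeneousComponent π
  have hsingle : ∑ i ∈ Finset.range (π.totalDegree + 1), homogeneousComponent i π =
      homogeneousComponent π.totalDegree π := by
    apply Finset.sum_eq_single_of_mem π.totalDegree (Finset.mem_range.2 (Nat.lt_succ_self _))
    intro j _ hjne
    by_contra hj
    exact hjne (hcomp j hj)
  have heq : homogeneousComponent π.totalDegree π = π := hsingle.symm.trans hsum
  have hh := homogeneousComponent_isHomogeneous π.totalDegree π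
  rw [heq] at hh
  exact hh

/-! ### topology versus order -/

theorem quasiSober_PS : QuasiSober (PS k n) :=
  inferInstanceAs (QuasiSober ↥(Proj (CohB1.polyGrading n k)))

theorem mem_closure_singleton_iff (x y : PS k n) :
    y ∈ closure ({x} : Set (PS k n)) ↔ x ≤ y :=
  (ProjectiveSpectrum.le_iff_mem_closure _ x y).symm

theorem closure_singleton_eq (x : PS k n) : closure ({x} : Set (PS k n)) = Set.Ici x := by
  ext y
  rw [mem_closure_singleton_iff, Set.mem_Ici]

theorem mem_of_le_of_isClosed {Y : Set (PS k n)} (hY : IsClosed Y) {x y : PS k n} (hx : x ∈ Y)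
    (hxy : x ≤ y) : y ∈ Y :=
  closure_minimal (Set.singleton_subset_iff.2 hx) hY ((mem_closure_singleton_iff k n x y).2 hxy)

theorem closure_subset_iff (a b : PS k n) :
    closure ({a} : Set (PS k n)) ⊆ closure ({b} : Set (PS k n)) ↔ b ≤ a :=
  ⟨fun h => (mem_closure_singleton_iff k n b a).1 (h (subset_closure rfl)),
    fun h => closure_minimal
      (Set.singleton_subset_iff.2 ((mem_closure_singleton_iff k n b a).2 h)) isClosed_closure⟩

theorem exists_generic (X : Set (PS k n)) (hc : IsClosed X) (hi : IsIrreducible X) :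
    ∃ x : PS k n, closure ({x} : Set (PS k n)) = X := by
  haveI := quasiSober_PS k n
  exact ⟨hi.genericPoint, by rw [hi.genericPoint_closure_eq, hc.closure_eq]⟩

theorem mem_closure_sub (Y : Set (PS k n)) (a b : ↥Y) :
    a ∈ closure ({b} : Set ↥Y) ↔ b.1 ≤ a.1 := by
  rw [closure_subtype, Set.image_singleton, mem_closure_singleton_iff]

/-- the topological Krull dimension of a closed subset of `P^n` is the Krull dimension of its poset
of points. -/
theorem topDim_closed (Y : Set (PS k n)) (hY : IsClosed Y) :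
    topologicalKrullDim ↥Y = Order.krullDim ↥Y := by
  haveI := quasiSober_PS k n
  haveI : QuasiSober ↥Y := hY.isClosedEmbedding_subtypeVal.quasiSober
  apply le_antisymm
  · rw [← Order.krullDim_orderDual (α := ↥Y)]
    unfold topologicalKrullDim
    let gp : IrreducibleCloseds ↥Y → ↥Y := fun Z => Z.isIrreducible.genericPoint
    have hgp : ∀ Z : IrreducibleCloseds ↥Y, closure ({gp Z} : Set ↥Y) = (Z : Set ↥Y) := by
      intro Z
      have h := Z.isIrreducible.genericPoint_closure_eq
      rw [Z.isClosed.closure_eq] at h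
      exact h
    refine Order.krullDim_le_of_strictMono (fun Z => OrderDual.toDual (gp Z)) ?_
    intro Z1 Z2 h
    show gp Z2 < gp Z1
    have h12 : (Z1 : Set ↥Y) ⊆ (Z2 : Set ↥Y) := SetLike.coe_subset_coe.2 h.le
    have hm1 : gp Z1 ∈ (Z1 : Set ↥Y) := by rw [← hgp Z1]; exact subset_closure rfl
    have hle : (gp Z2).1 ≤ (gp Z1).1 :=
      (mem_closure_sub k n Y _ _).1 (by rw [hgp Z2]; exact h12 hm1)
    refine lt_of_le_not_ge (show gp Z2 ≤ gp Z1 from hle) (fun hge => ?_)
    have hm2 : gp Z2 ∈ closure ({gp Z1} : Set ↥Y) := (mem_closure_sub k n Y _ _).2 hge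
    rw [hgp Z1] at hm2
    have h21 : (Z2 : Set ↥Y) ⊆ (Z1 : Set ↥Y) := by
      rw [← hgp Z2]
      exact closure_minimal (Set.singleton_subset_iff.2 hm2) Z1.isClosed
    exact absurd h (not_lt_of_ge (SetLike.coe_subset_coe.1 h21))
  · rw [← Order.krullDim_orderDual (α := ↥Y)]
    unfold topologicalKrullDim
    let Zc : (↥Y)ᵒᵈ → IrreducibleCloseds ↥Y := fun y =>
      ⟨closure ({OrderDual.ofDual y} : Set ↥Y), isIrreducible_singleton.closure, isClosed_closure⟩
    refine Order.krullDim_le_of_strictMono Zc ?_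
    intro a b h
    have hlt : OrderDual.ofDual b < OrderDual.ofDual a := h
    have hsub : (Zc a : Set ↥Y) ⊆ (Zc b : Set ↥Y) :=
      closure_minimal (Set.singleton_subset_iff.2 ((mem_closure_sub k n Y _ _).2 hlt.le))
        isClosed_closure
    refine lt_of_le_not_ge (SetLike.coe_subset_coe.1 hsub) (fun hge => ?_)
    have hsub' : (Zc b : Set ↥Y) ⊆ (Zc a : Set ↥Y) := SetLike.coe_subset_coe.2 hge
    have hm : OrderDual.ofDual b ∈ closure ({OrderDual.ofDual a} : Set ↥Y) :=
      hsub' (subset_closure rfl)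
    exact absurd ((mem_closure_sub k n Y _ _).1 hm) (not_le_of_gt hlt)

/-- the coheight of an irreducible closed subset of `P^n` is the height of its generic point in the
poset of points. -/
theorem coheight_irreducibleCloseds (Z : IrreducibleCloseds (PS k n)) (x : PS k n)
    (hx : closure ({x} : Set (PS k n)) = (Z : Set (PS k n))) :
    Order.coheight Z = Order.height x := by
  haveI := quasiSober_PS k n
  apply le_antisymm
  · let gp : IrreducibleCloseds (PS k n) → PS k n := fun W => W.isIrreducible.genericPoint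
    have hgp : ∀ W : IrreducibleCloseds (PS k n),
        closure ({gp W} : Set (PS k n)) = (W : Set (PS k n)) := by
      intro W
      have h := W.isIrreducible.genericPoint_closure_eq
      rw [W.isClosed.closure_eq] at h
      exact h
    let G : (IrreducibleCloseds (PS k n))ᵒᵈ → PS k n := fun W => gp (OrderDual.ofDual W)
    have hG : StrictMono G := by
      intro W1 W2 h
      obtain ⟨V1, hV1⟩ : ∃ V1 : IrreducibleCloseds (PS k n), V1 = OrderDual.ofDual W1 := ⟨_, rfl⟩
      obtain ⟨V2, hV2⟩ : ∃ V2 : IrreducibleCloseds (PS k n), V2 = OrderDual.ofDual W2 := ⟨_, rfl⟩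
      have h' : V2 < V1 := by rw [hV1, hV2]; exact h
      have hsub : (V2 : Set (PS k n)) ⊆ (V1 : Set (PS k n)) := SetLike.coe_subset_coe.2 h'.le
      rw [← hgp V2, ← hgp V1, closure_subset_iff] at hsub
      show gp (OrderDual.ofDual W1) < gp (OrderDual.ofDual W2)
      rw [← hV1, ← hV2]
      refine lt_of_le_not_ge hsub (fun hge => ?_)
      have hsub2 := (closure_subset_iff k n _ _).2 hge
      rw [hgp V2, hgp V1] at hsub2
      exact absurd h' (not_lt_of_ge (SetLike.coe_subset_coe.1 hsub2))
    have h1 := Order.height_le_height_apply_of_strictMono G hG (OrderDual.toDual Z)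
    have h2 : G (OrderDual.toDual Z) = x := by
      apply le_antisymm
      · apply (mem_closure_singleton_iff k n _ _).1
        show x ∈ closure ({gp Z} : Set (PS k n))
        rw [hgp Z, ← hx]
        exact subset_closure rfl
      · apply (mem_closure_singleton_iff k n _ _).1
        show gp Z ∈ closure ({x} : Set (PS k n))
        rw [hx, ← hgp Z]
        exact subset_closure rfl
    rw [h2] at h1
    exact h1
  · let F : PS k n → (IrreducibleCloseds (PS k n))ᵒᵈ := fun y =>
      OrderDual.toDual
        ⟨closure ({y} : Set (PS k n)), isIrreducible_singleton.closure, isClosed_closure⟩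
    have hF : StrictMono F := by
      intro a b h
      show (⟨closure ({b} : Set (PS k n)), isIrreducible_singleton.closure, isClosed_closure⟩ :
        IrreducibleCloseds (PS k n)) <
        ⟨closure ({a} : Set (PS k n)), isIrreducible_singleton.closure, isClosed_closure⟩
      refine lt_of_le_not_ge (SetLike.coe_subset_coe.1 ((closure_subset_iff k n b a).2 h.le))
        (fun hge => ?_)
      have h2 : closure ({a} : Set (PS k n)) ⊆ closure ({b} : Set (PS k n)) :=
        SetLike.coe_subset_coe.2 hge
      exact absurd ((closure_subset_iff k n a b).1 h2) (not_le_of_gt h)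
    have h1 := Order.height_le_height_apply_of_strictMono F hF x
    have h2 : F x = OrderDual.toDual Z := by
      show OrderDual.toDual _ = OrderDual.toDual Z
      congr 1
      exact IrreducibleCloseds.ext hx
    rw [h2] at h1
    exact h1

/-- the generic point of `P^n`. -/
noncomputable def botPt : PS k n :=
  mkPt k n ⊥ Ideal.isPrime_bot (Ideal.IsHomogeneous.bot _)
    (fun h => X_ne_zero (R := k) (0 : Fin (n + 1)) ((Ideal.mem_bot).1 (h (X_mem_irrelevant k n 0))))

lemma botPt_le (x : PS k n) : botPt k n ≤ x := by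
  intro a ha
  have ha' : a ∈ (⊥ : Ideal (SR k n)) := ha
  rw [Ideal.mem_bot] at ha'
  rw [ha']
  exact zero_mem _

end Groth.Agent.Lib.Lead.ProjTop
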