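import Groth.Agent.Lib.Lead.C1Cap
import Groth.Agent.Lib.Helper3.PbBasic

/-!
# Rational sections of a pulled back invertible module along a closed immersion

* `pull_coord`: change of local generator, compatibly on `X` and on the pullback;
* `exists_pull_section`: for a closed immersion `i : D ⟶ X`, a nonzero rational section of `L` at
  `i ξ` induces a nonzero rational section of `i^*L` at `ξ` with the same orders along all
  specializations.
-/

set_option autoImplicit false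
universe u
open CategoryTheory CategoryTheory.Limits AlgebraicGeometry TopologicalSpace Opposite
open Scheme.Modules

namespace Groth.Agent.Lib.Lead.C1Pull

open Groth.Agent.Lib.Helper3 Groth.Agent.Lib.Helper3.QCSec Groth.Agent.Lib.Helper3.InvGen
  Groth.Agent.Lib.Helper3.PbBasic Groth.Agent.Lib.Lead.C1Cap

variable {X D : Scheme.{u}}

theorem isUnit_of_smul_gen {L : X.Modules} {U : X.Opens} {e : Γ(L, U)} (hg : IsGen L U e) (x : X)
    (hx : x ∈ U) (a : X.presheaf.stalk x) (t : L.presheaf.stalk x)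
    (ht : Submodule.span (X.presheaf.stalk x) {t} = ⊤) (h : t = a • L.presheaf.germ U x hx e) :
    IsUnit a := by
  obtain ⟨u, hu, htu⟩ := exists_unit_of_span hg x hx t ht
  have h0 : (a - u) • L.presheaf.germ U x hx e = 0 := by
    rw [sub_smul, ← h, ← htu, sub_self]
  have h1 := stalk_inj hg x hx _ h0
  rw [sub_eq_zero.mp h1]
  exact hu

/-- Change of generator, compatibly on `X` and on the pullback to `D`. -/
theorem pull_coord (i : D ⟶ X) (L : X.Modules) {V V' : X.Opens} (e : Γ(L, V)) {e' : Γ(L, V')}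
    (hg' : IsGen L V' e') (ξ : D) (hξV : i ξ ∈ V) (hξV' : i ξ ∈ V') :
    ∃ a : X.presheaf.stalk (i ξ),
      L.presheaf.germ V (i ξ) hξV e = a • L.presheaf.germ V' (i ξ) hξV' e' ∧
      ((Scheme.Modules.pullback i).obj L).presheaf.germ (i ⁻¹ᵁ V) ξ hξV (pull i L V e) =
        (i.stalkMap ξ).hom a •
          ((Scheme.Modules.pullback i).obj L).presheaf.germ (i ⁻¹ᵁ V') ξ hξV'
            (pull i L V' e') := by
  have hl : V ⊓ V' ≤ V := inf_le_left
  have hr : V ⊓ V' ≤ V' := inf_le_right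
  have hξW : i ξ ∈ V ⊓ V' := ⟨hξV, hξV'⟩
  obtain ⟨u, hu⟩ := (hg' (V ⊓ V') hr).2 (res L hl e)
  have hu' : u • res L hr e' = res L hl e := hu
  refine ⟨X.presheaf.germ (V ⊓ V') (i ξ) hξW u, ?_, ?_⟩
  · rw [← germ_res L hl (i ξ) hξW e, ← germ_res L hr (i ξ) hξW e',
      ← QS.germ_smul L (i ξ) hξW u (res L hr e'), hu']
  · have hl' : i ⁻¹ᵁ (V ⊓ V') ≤ i ⁻¹ᵁ V := fun _ hx => hl hx
    have hr' : i ⁻¹ᵁ (V ⊓ V') ≤ i ⁻¹ᵁ V' := fun _ hx => hr hx
    have hξW' : ξ ∈ i ⁻¹ᵁ (V ⊓ V') := hξW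
    rw [← germ_res ((Scheme.Modules.pullback i).obj L) hl' ξ hξW' (pull i L V e),
      ← germ_res ((Scheme.Modules.pullback i).obj L) hr' ξ hξW' (pull i L V' e'),
      res_pull i L hl e, res_pull i L hr e', ← hu', pull_smul, QS.germ_smul]
    congr 1
    exact (Scheme.Hom.germ_stalkMap_apply i (V ⊓ V') ξ hξW u).symm

theorem mk_ne_zero_of_isUnit {L : X.Modules} {U : X.Opens} {e : Γ(L, U)} (hg : IsGen L U e)
    (ξ : X) (hξ : ξ ∈ U) (a : X.presheaf.stalk ξ) (ha : IsUnit a) :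
    (Submodule.Quotient.mk (a • L.presheaf.germ U ξ hξ e) : Cyc.secFibre L ξ) ≠ 0 := by
  intro h0
  rw [Submodule.Quotient.mk_eq_zero] at h0
  exact (IsLocalRing.mem_maximalIdeal _).mp (mem_of_smul_mem hg ξ hξ _ h0) ha

/-- The rational sections with coordinates `ψ` (on `X`) and `i^♯ ψ` (on `D`) with respect to a
generator and its pullback have the same orders. -/
theorem secOrdAt_pull (i : D ⟶ X) [IsClosedImmersion i] {L : X.Modules}
    (hL : PicF.IsInvertible L) {V : X.Opens} {e : Γ(L, V)} (hg : IsGen L V e) (ξ : D)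
    (hξV : i ξ ∈ V) (ψ : X.presheaf.stalk (i ξ)) (hψ : IsUnit ψ) (d : D) (h : ξ ⤳ d)
    (h' : i ξ ⤳ i d) :
    Cyc.secOrdAt ((Scheme.Modules.pullback i).obj L) ξ d h
        (Submodule.Quotient.mk ((i.stalkMap ξ).hom ψ •
          ((Scheme.Modules.pullback i).obj L).presheaf.germ (i ⁻¹ᵁ V) ξ hξV (pull i L V e))) =
      Cyc.secOrdAt L (i ξ) (i d) h'
        (Submodule.Quotient.mk (ψ • L.presheaf.germ V (i ξ) hξV e)) := by
  obtain ⟨V', e', hdV', hg'⟩ := exists_isGen hL (i d)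
  have hξV' : i ξ ∈ V' := h'.mem_open V'.2 hdV'
  obtain ⟨a, ha1, ha2⟩ := pull_coord i L e hg' ξ hξV hξV'
  have hau : IsUnit a :=
    isUnit_of_smul_gen hg' (i ξ) hξV' a _ (span_germ_eq_top hg (i ξ) hξV) ha1
  have hg'D := isGen_pull i hg'
  have hdV'D : d ∈ i ⁻¹ᵁ V' := hdV'
  have hres : D.residue ξ ((i.stalkMap ξ).hom (ψ * a)) =
      (i.residueFieldMap ξ).hom (X.residue (i ξ) (ψ * a)) := by
    change (i.stalkMap ξ ≫ D.residue ξ).hom (ψ * a) =
      (X.residue (i ξ) ≫ i.residueFieldMap ξ).hom (ψ * a)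
    rw [Scheme.residue_residueFieldMap]
  rw [ha1, ha2, ← mul_smul, ← mul_smul, ← map_mul,
    secOrdAt_eq hg' h' hdV' (ψ * a) (hψ.mul hau),
    secOrdAt_eq hg'D h hdV'D ((i.stalkMap ξ).hom (ψ * a)) ((hψ.mul hau).map _), hres,
    Groth.Agent.Lib.Lead.CycClosed.ordAt_closedImmersion i d ξ h (X.residue (i ξ) (ψ * a))]

/-- A nonzero rational section of `L` at `i ξ` induces a nonzero rational section of `i^*L` at `ξ`
with the same order along every specialization. -/
theorem exists_pull_section (i : D ⟶ X) [IsClosedImmersion i] {L : X.Modules}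
    (hL : PicF.IsInvertible L) (ξ : D) (s : Cyc.secFibre L (i ξ)) (hs : s ≠ 0) :
    ∃ t' : Cyc.secFibre ((Scheme.Modules.pullback i).obj L) ξ, t' ≠ 0 ∧
      ∀ (d : D) (h : ξ ⤳ d) (h' : i ξ ⤳ i d),
        Cyc.secOrdAt ((Scheme.Modules.pullback i).obj L) ξ d h t' =
          Cyc.secOrdAt L (i ξ) (i d) h' s := by
  obtain ⟨V, e, hξV, hg⟩ := exists_isGen hL (i ξ)
  obtain ⟨ψ, hψ, rfl⟩ := exists_coord_unit hg (i ξ) hξV s hs
  have hψD : IsUnit ((i.stalkMap ξ).hom ψ) := hψ.map _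
  exact ⟨Submodule.Quotient.mk ((i.stalkMap ξ).hom ψ •
      ((Scheme.Modules.pullback i).obj L).presheaf.germ (i ⁻¹ᵁ V) ξ hξV (pull i L V e)),
    mk_ne_zero_of_isUnit (isGen_pull i hg) ξ hξV _ hψD,
    fun d h h' => secOrdAt_pull i hL hg ξ hξV ψ hψ d h h'⟩

/-- Conversely, a nonzero rational section of `i^*L` at `η` comes from a nonzero rational section
of `L` at `i η` with the same orders. -/
theorem exists_section_of_pull (i : D ⟶ X) [IsClosedImmersion i] {L : X.Modules}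
    (hL : PicF.IsInvertible L) (η : D)
    (t : Cyc.secFibre ((Scheme.Modules.pullback i).obj L) η) (ht : t ≠ 0) :
    ∃ s' : Cyc.secFibre L (i η), s' ≠ 0 ∧
      ∀ (d : D) (h : η ⤳ d) (h' : i η ⤳ i d),
        Cyc.secOrdAt ((Scheme.Modules.pullback i).obj L) η d h t =
          Cyc.secOrdAt L (i η) (i d) h' s' := by
  obtain ⟨V, e, hηV, hg⟩ := exists_isGen hL (i η)
  have hgD := isGen_pull i hg
  have hηVD : η ∈ i ⁻¹ᵁ V := hηV
  obtain ⟨φ, hφ, rfl⟩ := exists_coord_unit hgD η hηVD t ht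
  obtain ⟨ψ, hψφ⟩ := i.stalkMap_surjective η φ
  have hψφ' : (i.stalkMap η).hom ψ = φ := hψφ
  subst hψφ'
  have hψ : IsUnit ψ := (isUnit_map_iff (i.stalkMap η).hom ψ).mp hφ
  exact ⟨Submodule.Quotient.mk (ψ • L.presheaf.germ V (i η) hηV e),
    mk_ne_zero_of_isUnit hg (i η) hηV ψ hψ,
    fun d h h' => secOrdAt_pull i hL hg η hηV ψ hψ d h h'⟩

end Groth.Agent.Lib.Lead.C1Pull
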