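import Mathlib
import Groth.Prelude
import Groth.Agent.Lib.Helper3.FreeBasis
import Groth.Agent.Lib.Helper3.QCExact
import Groth.Agent.Lib.Helper13.KInjSch

/-!
# Stalks of injective `O_X`-modules on locally Noetherian schemes are injective (lead)
-/

set_option autoImplicit false
set_option linter.style.haveILetI false
universe u

open CategoryTheory CategoryTheory.Limits AlgebraicGeometry TopologicalSpace Opposite
open Scheme.Modules

namespace Groth.Agent.Lib.Lead.StalkInj

open Groth.Agent.Lib.Helper3 Groth.Agent.Lib.Helper3.QCSec Groth.Agent.Lib.Helper3.InvGen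
  Groth.Agent.Lib.Helper3.FreeBasis

variable {X : Scheme.{u}}

theorem res_sum' (M : X.Modules) {A B : X.Opens} (h : A ≤ B) {ι : Type*} (s : Finset ι)
    (t : ι → Γ(M, B)) : res M h (∑ i ∈ s, t i) = ∑ i ∈ s, res M h (t i) :=
  _root_.map_sum _ t s

theorem rres_sum' {A B : X.Opens} (h : A ≤ B) {ι : Type*} (s : Finset ι)
    (t : ι → Γ(X, B)) : rres X h (∑ i ∈ s, t i) = ∑ i ∈ s, rres X h (t i) :=
  _root_.map_sum _ t s

theorem rres_zero' {A B : X.Opens} (h : A ≤ B) : rres X h (0 : Γ(X, B)) = 0 :=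
  _root_.map_zero _

/-- relations among sections of `O` over an affine `W`, generated by finitely many relations `ρ`
which kill the sections `μ` over `V ≤ W`, kill `μ` over every open of `V`. -/
theorem relations_kill (W V : X.Opens) (hW : IsAffineOpen W) (hVW : V ≤ W)
    (I : X.Modules) {n k : ℕ}
    (α : Fin n → Γ(X, W)) (μ : Fin n → Γ(I, V)) (ρ : Fin k → Fin n → Γ(X, W))
    (h1 : ∀ r : Fin n → Γ(X, W), ∑ i, r i * α i = 0 →
      r ∈ Submodule.span Γ(X, W) (Set.range ρ))
    (h2 : ∀ l, ∑ i, rres X hVW (ρ l i) • μ i = 0)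
    (V'' : X.Opens) (hV'' : V'' ≤ V) (a : Fin n → Γ(X, V''))
    (ha : ∑ i, a i * rres X (hV''.trans hVW) (α i) = 0) :
    ∑ i, a i • res I hV'' (μ i) = 0 := by
  classical
  let J : Type u := {f : Γ(X, W) // X.basicOpen f ≤ V''}
  have hcov : V'' ≤ ⨆ f : J, X.basicOpen f.1 := by
    intro y hy
    obtain ⟨f, hf1, hf2⟩ := hW.exists_basicOpen_le (V := V'') ⟨y, hy⟩ (hVW (hV'' hy))
    exact Opens.mem_iSup.mpr ⟨⟨f, hf1⟩, hf2⟩
  refine sec_eq_of_locally_eq I (fun f : J => X.basicOpen f.1) V'' (fun f => f.2) hcov _ 0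
    (fun f => ?_)
  obtain ⟨f, hD⟩ := f
  show res I hD (∑ i, a i • res I hV'' (μ i)) = res I hD 0
  rw [res_zero, res_sum']
  simp only [res_smul, res_res]
  -- notation
  set ν : Fin n → Γ(I, X.basicOpen f) := fun i => res I (hD.trans hV'') (μ i) with hν
  set b : Fin n → Γ(X, X.basicOpen f) := fun i => rres X hD (a i) with hb
  show ∑ i, b i • ν i = 0
  have hloc : IsLocalization.Away f Γ(X, X.basicOpen f) := hW.isLocalization_basicOpen f
  have halg : ∀ r : Γ(X, W), algebraMap Γ(X, W) Γ(X, X.basicOpen f) r =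
      rres X (X.basicOpen_le f) r := fun r => rfl
  obtain ⟨c, hc⟩ := IsLocalization.exist_integer_multiples (Submonoid.powers f) Finset.univ b
  have hc' : ∀ i, ∃ r : Γ(X, W), algebraMap Γ(X, W) Γ(X, X.basicOpen f) r =
      algebraMap Γ(X, W) Γ(X, X.basicOpen f) (c : Γ(X, W)) * b i := by
    intro i
    obtain ⟨r, hr⟩ := hc i (Finset.mem_univ i)
    refine ⟨r, hr.trans ?_⟩
    rw [Algebra.smul_def]
  choose r hr using hc'
  -- (A)
  have hA : algebraMap Γ(X, W) Γ(X, X.basicOpen f) (∑ i, r i * α i) = 0 := by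
    rw [_root_.map_sum]
    simp only [_root_.map_mul, hr]
    have h3 : ∀ i, algebraMap Γ(X, W) Γ(X, X.basicOpen f) (α i) =
        rres X hD (rres X (hV''.trans hVW) (α i)) := by
      intro i
      rw [halg, rres_rres]
    simp only [h3]
    have h4 : ∑ i, algebraMap Γ(X, W) Γ(X, X.basicOpen f) (c : Γ(X, W)) * b i *
        rres X hD (rres X (hV''.trans hVW) (α i)) =
        algebraMap Γ(X, W) Γ(X, X.basicOpen f) (c : Γ(X, W)) *
          rres X hD (∑ i, a i * rres X (hV''.trans hVW) (α i)) := by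
      rw [rres_sum', Finset.mul_sum]
      refine Finset.sum_congr rfl fun i _ => ?_
      rw [rres_mul, mul_assoc]
    rw [h4, ha, rres_zero', mul_zero]
  obtain ⟨m', hm'⟩ := (IsLocalization.map_eq_zero_iff (Submonoid.powers f)
    Γ(X, X.basicOpen f) _).1 hA
  -- (B)
  have hB : (fun i => (m' : Γ(X, W)) * r i) ∈ Submodule.span Γ(X, W) (Set.range ρ) := by
    apply h1
    have : ∑ i, (m' : Γ(X, W)) * r i * α i = (m' : Γ(X, W)) * ∑ i, r i * α i := by
      rw [Finset.mul_sum]
      refine Finset.sum_congr rfl fun i _ => ?_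
      rw [mul_assoc]
    rw [this, hm']
  obtain ⟨c', hc'⟩ := (Submodule.mem_span_range_iff_exists_fun Γ(X, W)).1 hB
  -- (C)
  have hC : ∑ i, algebraMap Γ(X, W) Γ(X, X.basicOpen f) ((m' : Γ(X, W)) * r i) • ν i = 0 := by
    have h5 : ∀ i, (m' : Γ(X, W)) * r i = ∑ l, c' l * ρ l i := by
      intro i
      have := congrFun hc' i
      rw [Finset.sum_apply] at this
      simp only [Pi.smul_apply, smul_eq_mul] at this
      exact this.symm
    simp only [h5, _root_.map_sum, Finset.sum_smul, _root_.map_mul, mul_smul]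
    rw [Finset.sum_comm]
    refine Finset.sum_eq_zero fun l _ => ?_
    rw [← Finset.smul_sum]
    have h6 : ∑ i, algebraMap Γ(X, W) Γ(X, X.basicOpen f) (ρ l i) • ν i =
        res I (hD.trans hV'') (∑ i, rres X hVW (ρ l i) • μ i) := by
      rw [res_sum']
      refine Finset.sum_congr rfl fun i _ => ?_
      rw [res_smul, rres_rres]
      rfl
    rw [h6, h2 l, res_zero, smul_zero]
  -- (D), (E)
  have hD' : ∑ i, algebraMap Γ(X, W) Γ(X, X.basicOpen f) ((m' : Γ(X, W)) * r i) • ν i =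
      (algebraMap Γ(X, W) Γ(X, X.basicOpen f) ((m' : Γ(X, W)) * (c : Γ(X, W)))) •
        ∑ i, b i • ν i := by
    rw [Finset.smul_sum]
    refine Finset.sum_congr rfl fun i _ => ?_
    rw [_root_.map_mul, hr, _root_.map_mul, ← mul_smul, mul_assoc]
  have hu : IsUnit (algebraMap Γ(X, W) Γ(X, X.basicOpen f) ((m' : Γ(X, W)) * (c : Γ(X, W)))) :=
    IsLocalization.map_units Γ(X, X.basicOpen f) (m' * c)
  rw [hD'] at hC
  exact (hu.smul_eq_zero).1 hC

theorem restrict_smul (M : X.Modules) (V : X.Opens) (V' : (V : Scheme.{u}).Opens)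
    (c : Γ((V : Scheme.{u}), V')) (s : Γ(M.restrict V.ι, V')) :
    c • s = (show Γ(M.restrict V.ι, V') from
      ((V.ι.appIso V').inv c) • (show Γ(M, V.ι ''ᵁ V') from s)) := rfl

theorem smul_struct (U : X.Opens) (a : Γ(X, U)) (s : Γ(Coh.structureModule X, U)) :
    a • s = ofFun U (a * toFun U s) := rfl

/-- the extension step: over an open `V` of an affine `W` on which `I` is injective, sections `μ`
satisfying the relations of `α` are of the form `α • m`. -/
theorem exists_section (W V : X.Opens) (hW : IsAffineOpen W) (hVW : V ≤ W)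
    (I : X.Modules) (hI : Injective (I.restrict V.ι)) {n k : ℕ}
    (α : Fin n → Γ(X, W)) (μ : Fin n → Γ(I, V)) (ρ : Fin k → Fin n → Γ(X, W))
    (h1 : ∀ r : Fin n → Γ(X, W), ∑ i, r i * α i = 0 →
      r ∈ Submodule.span Γ(X, W) (Set.range ρ))
    (h2 : ∀ l, ∑ i, rres X hVW (ρ l i) • μ i = 0) :
    ∃ m : Γ(I, V), ∀ i, rres X hVW (α i) • m = μ i := by
  have H := relations_kill W V hW hVW I α μ ρ h1 h2
  let T : (V : Scheme.{u}).Modules := (Coh.structureModule X).restrict V.ι
  let αV : Fin n → Γ(Coh.structureModule X, V) := fun i => ofFun V (rres X hVW (α i))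
  let αh : FlatMod.freeMod (V : Scheme.{u}) n ⟶ T := homOfSecs (Coh.structureModule X) V αV
  let Ψ : FlatMod.freeMod (V : Scheme.{u}) n ⟶ I.restrict V.ι := homOfSecs I V μ
  have hker : kernel.ι αh ≫ Ψ = 0 := by
    apply Scheme.Modules.hom_ext
    intro V'
    ext t
    set t' := (kernel.ι αh).app V' t with ht'
    have hα : αh.app V' t' = 0 := by
      have : (kernel.ι αh ≫ αh).app V' t = 0 := by rw [kernel.condition]; rfl
      exact this
    show Ψ.app V' t' = 0
    rw [eq_sum_bsec n V' t'] at hα ⊢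
    rw [app_sum] at hα ⊢
    simp only [Scheme.Modules.Hom.app_smul] at hα ⊢
    simp only [Ψ, homOfSecs_bsec]
    have e2 : ∀ i, (show Γ(Coh.structureModule X, V.ι ''ᵁ V') from
        αh.app V' (bsec n i V')) = res (Coh.structureModule X) (V.ι_image_le V') (αV i) :=
      fun i => homOfSecs_bsec (Coh.structureModule X) V αV i V'
    set c : Fin n → Γ((V : Scheme.{u}), V') :=
      fun i => toFun V' ((proj (V : Scheme.{u}) n i).app V' t') with hc
    have hα' : ∑ i, c i • (show Γ(T, V') from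
        res (Coh.structureModule X) (V.ι_image_le V') (αV i)) = 0 :=
      (Finset.sum_congr rfl (fun i _ => congrArg (fun z : Γ(T, V') => c i • z) (e2 i).symm)).trans hα
    refine H (V.ι ''ᵁ V') (V.ι_image_le V') (fun i => (V.ι.appIso V').inv (c i)) ?_
    refine Eq.trans (Finset.sum_congr rfl (fun i _ => ?_)) hα'
    refine Eq.trans ?_ (restrict_smul (Coh.structureModule X) V V' (c i) _).symm
    show _ = ofFun (V.ι ''ᵁ V') ((V.ι.appIso V').inv (c i) *
      rres X (V.ι_image_le V') (rres X hVW (α i)))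
    rw [rres_rres]
    rfl
  let φ : Abelian.coimage αh ⟶ I.restrict V.ι := cokernel.desc (kernel.ι αh) Ψ hker
  haveI := hI
  let ψ : T ⟶ I.restrict V.ι := Injective.factorThru φ (Abelian.factorThruCoimage αh)
  have hψ : αh ≫ ψ = Ψ := by
    have h3 : Abelian.coimage.π αh ≫ Abelian.factorThruCoimage αh ≫ ψ = Ψ := by
      rw [Injective.comp_factorThru]
      exact cokernel.π_desc _ _ _
    rw [← Category.assoc, Abelian.coimage.fac] at h3
    exact h3
  have htop : V ≤ V.ι ''ᵁ ⊤ := le_of_eq V.ι_image_top.symm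
  let one' : Γ(T, ⊤) := ofFun (V.ι ''ᵁ ⊤) 1
  let m' : Γ(I, V.ι ''ᵁ ⊤) := ψ.app ⊤ one'
  refine ⟨res I htop m', fun i => ?_⟩
  have e1 : (show Γ(I, V.ι ''ᵁ ⊤) from Ψ.app ⊤ (bsec n i ⊤)) =
      res I (V.ι_image_le ⊤) (μ i) := homOfSecs_bsec I V μ i ⊤
  have e2 : (show Γ(Coh.structureModule X, V.ι ''ᵁ ⊤) from αh.app ⊤ (bsec n i ⊤)) =
      res (Coh.structureModule X) (V.ι_image_le ⊤) (αV i) :=
    homOfSecs_bsec (Coh.structureModule X) V αV i ⊤
  have e3 : Ψ.app ⊤ (bsec n i ⊤) = ψ.app ⊤ (αh.app ⊤ (bsec n i ⊤)) := by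
    rw [← hψ]; rfl
  let a0 : Γ(X, V.ι ''ᵁ ⊤) := rres X ((V.ι_image_le ⊤).trans hVW) (α i)
  let r0 : Γ((V : Scheme.{u}), ⊤) := (V.ι.appIso ⊤).hom a0
  have e4 : αh.app ⊤ (bsec n i ⊤) = r0 • one' := by
    refine Eq.trans e2 ?_
    refine Eq.trans ?_ (restrict_smul (Coh.structureModule X) V ⊤ r0 one').symm
    show ofFun (V.ι ''ᵁ ⊤) (rres X (V.ι_image_le ⊤) (rres X hVW (α i))) =
      ofFun (V.ι ''ᵁ ⊤) ((V.ι.appIso ⊤).inv ((V.ι.appIso ⊤).hom a0) * 1)
    rw [rres_rres, mul_one, Iso.hom_inv_id_apply]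
  have e5 : res I (V.ι_image_le ⊤) (μ i) = a0 • m' := by
    refine e1.symm.trans (e3.trans ?_)
    rw [e4, Scheme.Modules.Hom.app_smul]
    refine (restrict_smul I V ⊤ r0 (ψ.app ⊤ one')).trans ?_
    show (V.ι.appIso ⊤).inv ((V.ι.appIso ⊤).hom a0) • m' = a0 • m'
    rw [Iso.hom_inv_id_apply]
  have e6 := congrArg (res I htop) e5
  rw [res_res, res_self, res_smul, rres_rres] at e6
  exact e6.symm

/-- **Stalks of injective modules are injective** on a locally Noetherian scheme. -/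
theorem stalk_injective [IsLocallyNoetherian X] (I : X.Modules) (hI : Injective I) (x : X) :
    Module.Injective (X.presheaf.stalk x) (I.presheaf.stalk x) := by
  classical
  apply Module.Baer.injective
  intro 𝔞 g
  obtain ⟨W, hW, hxW⟩ : ∃ W : X.Opens, IsAffineOpen W ∧ x ∈ W := by
    obtain ⟨_, ⟨W, hW, rfl⟩, hxW, -⟩ :=
      X.isBasis_affineOpens.exists_subset_of_mem_open (Set.mem_univ x) isOpen_univ
    exact ⟨W, hW, hxW⟩
  haveI : IsNoetherianRing Γ(X, W) := IsLocallyNoetherian.component_noetherian ⟨W, hW⟩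
  letI alg : Algebra Γ(X, W) (X.presheaf.stalk x) :=
    TopCat.Presheaf.algebra_section_stalk X.presheaf ⟨x, hxW⟩
  have halg : ∀ r : Γ(X, W), algebraMap Γ(X, W) (X.presheaf.stalk x) r =
      X.presheaf.germ W x hxW r := fun r => rfl
  haveI hloc : IsLocalization.AtPrime (X.presheaf.stalk x)
      (hW.primeIdealOf ⟨x, hxW⟩).asIdeal := hW.isLocalization_stalk ⟨x, hxW⟩
  set 𝔞' : Ideal Γ(X, W) := 𝔞.comap (algebraMap Γ(X, W) (X.presheaf.stalk x)) with h𝔞'
  have hmap : 𝔞'.map (algebraMap Γ(X, W) (X.presheaf.stalk x)) = 𝔞 :=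
    IsLocalization.map_under (hW.primeIdealOf ⟨x, hxW⟩).asIdeal.primeCompl _ 𝔞
  obtain ⟨n, α, hα⟩ := Submodule.fg_iff_exists_fin_generating_family.1
    ((isNoetherianRing_iff_ideal_fg Γ(X, W)).1 inferInstance 𝔞')
  have hαmem : ∀ i, algebraMap Γ(X, W) (X.presheaf.stalk x) (α i) ∈ 𝔞 := by
    intro i
    have : α i ∈ 𝔞' := by rw [← hα]; exact Submodule.subset_span (Set.mem_range_self i)
    exact this
  let β : Fin n → 𝔞 := fun i => ⟨algebraMap Γ(X, W) (X.presheaf.stalk x) (α i), hαmem i⟩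
  let mm : Fin n → I.presheaf.stalk x := fun i => g (β i)
  -- relations
  let L : (Fin n → Γ(X, W)) →ₗ[Γ(X, W)] Γ(X, W) := Fintype.linearCombination Γ(X, W) α
  obtain ⟨k, ρ, hρ⟩ := Submodule.fg_iff_exists_fin_generating_family.1
    (IsNoetherian.noetherian (LinearMap.ker L))
  have h1 : ∀ r : Fin n → Γ(X, W), ∑ i, r i * α i = 0 →
      r ∈ Submodule.span Γ(X, W) (Set.range ρ) := by
    intro r hr
    rw [hρ, LinearMap.mem_ker, Fintype.linearCombination_apply]
    simpa [smul_eq_mul] using hr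
  have hrel : ∀ l, ∑ i, algebraMap Γ(X, W) (X.presheaf.stalk x) (ρ l i) • mm i = 0 := by
    intro l
    have h3 : ρ l ∈ LinearMap.ker L := by
      rw [← hρ]; exact Submodule.subset_span (Set.mem_range_self l)
    rw [LinearMap.mem_ker, Fintype.linearCombination_apply] at h3
    have h4 : ∑ i, algebraMap Γ(X, W) (X.presheaf.stalk x) (ρ l i) • β i = 0 := by
      apply Subtype.ext
      rw [Submodule.coe_sum]
      simp only [Submodule.coe_smul, Submodule.coe_zero]
      show ∑ i, algebraMap Γ(X, W) (X.presheaf.stalk x) (ρ l i) •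
        algebraMap Γ(X, W) (X.presheaf.stalk x) (α i) = 0
      rw [← _root_.map_zero (algebraMap Γ(X, W) (X.presheaf.stalk x)), ← h3, _root_.map_sum]
      refine Finset.sum_congr rfl fun i _ => ?_
      rw [smul_eq_mul, smul_eq_mul, _root_.map_mul]
    have h5 := congrArg g h4
    rw [_root_.map_sum, _root_.map_zero] at h5
    refine Eq.trans (Finset.sum_congr rfl fun i _ => ?_) h5
    exact (g.map_smul _ _).symm
  -- sections
  have hex : ∀ i, ∃ (Vi : X.Opens) (hxi : x ∈ Vi) (s : Γ(I, Vi)),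
      I.presheaf.germ Vi x hxi s = mm i :=
    fun i => TopCat.Presheaf.exists_germ_eq I.presheaf (mm i)
  choose Vi hxi si hsi using hex
  have hmem_iInf : ∀ (n' : ℕ) (Q : Fin n' → X.Opens), (∀ i, x ∈ Q i) → x ∈ ⨅ i, Q i := by
    intro n' Q hQ
    rw [← SetLike.mem_coe, Opens.coe_iInf, Set.mem_iInter]
    exact hQ
  let V0 : X.Opens := W ⊓ ⨅ i, Vi i
  have hxV0 : x ∈ V0 := ⟨hxW, hmem_iInf n Vi hxi⟩
  have hV0W : V0 ≤ W := inf_le_left
  have hV0i : ∀ i, V0 ≤ Vi i := fun i => inf_le_right.trans (iInf_le _ i)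
  let μ0 : Fin n → Γ(I, V0) := fun i => res I (hV0i i) (si i)
  have hμ0 : ∀ i, I.presheaf.germ V0 x hxV0 (μ0 i) = mm i := by
    intro i
    rw [← hsi i]
    exact TopCat.Presheaf.germ_res_apply I.presheaf (homOfLE (hV0i i)) x hxV0 (si i)
  let σ : Fin k → Γ(I, V0) := fun l => ∑ i, rres X hV0W (ρ l i) • μ0 i
  have hσ : ∀ l, I.presheaf.germ V0 x hxV0 (σ l) = 0 := by
    intro l
    show I.presheaf.germ V0 x hxV0 (∑ i, rres X hV0W (ρ l i) • μ0 i) = 0
    rw [_root_.map_sum, ← hrel l]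
    refine Finset.sum_congr rfl fun i _ => ?_
    rw [Mero.germ_smul, hμ0 i, halg]
    congr 1
    exact TopCat.Presheaf.germ_res_apply X.presheaf (homOfLE hV0W) x hxV0 (ρ l i)
  have hex2 : ∀ l, ∃ (Wl : X.Opens) (_ : x ∈ Wl) (hle : Wl ≤ V0), res I hle (σ l) = 0 := by
    intro l
    obtain ⟨Wl, hxl, iU, iV, e⟩ := TopCat.Presheaf.germ_eq I.presheaf x hxV0 hxV0 (σ l) 0
      ((hσ l).trans (_root_.map_zero _).symm)
    refine ⟨Wl, hxl, iU.le, ?_⟩
    exact e.trans (_root_.map_zero _)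
  choose Wl hxl hle hres using hex2
  let V : X.Opens := V0 ⊓ ⨅ l, Wl l
  have hxV : x ∈ V := ⟨hxV0, hmem_iInf k Wl hxl⟩
  have hVV0 : V ≤ V0 := inf_le_left
  have hVW : V ≤ W := hVV0.trans hV0W
  let μ : Fin n → Γ(I, V) := fun i => res I hVV0 (μ0 i)
  have h2 : ∀ l, ∑ i, rres X hVW (ρ l i) • μ i = 0 := by
    intro l
    have hVl : V ≤ Wl l := inf_le_right.trans (iInf_le _ l)
    have h5 : res I hVV0 (σ l) = 0 := by
      have := congrArg (res I hVl) (hres l)
      rw [res_res, res_zero] at this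
      exact this
    rw [← h5]
    show _ = res I hVV0 (∑ i, rres X hV0W (ρ l i) • μ0 i)
    rw [res_sum']
    refine Finset.sum_congr rfl fun i _ => ?_
    rw [res_smul, rres_rres]
  have hIV : Injective (I.restrict V.ι) :=
    Groth.Agent.Lib.Helper13.KInjSch.injective_restrict V I hI
  obtain ⟨m, hm⟩ := exists_section W V hW hVW I hIV α μ ρ h1 h2
  let mx := I.presheaf.germ V x hxV m
  have hkey : ∀ i, algebraMap Γ(X, W) (X.presheaf.stalk x) (α i) • mx = mm i := by
    intro i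
    have h6 := congrArg (I.presheaf.germ V x hxV) (hm i)
    rw [Mero.germ_smul] at h6
    have h7 : I.presheaf.germ V x hxV (μ i) = mm i := by
      rw [← hμ0 i]
      exact TopCat.Presheaf.germ_res_apply I.presheaf (homOfLE hVV0) x hxV (μ0 i)
    have h8 : X.presheaf.germ V x hxV (rres X hVW (α i)) =
        algebraMap Γ(X, W) (X.presheaf.stalk x) (α i) := by
      rw [halg]
      exact TopCat.Presheaf.germ_res_apply X.presheaf (homOfLE hVW) x hxV (α i)
    rw [h7, h8] at h6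
    exact h6
  refine ⟨LinearMap.toSpanSingleton (X.presheaf.stalk x) (I.presheaf.stalk x) mx, ?_⟩
  intro y hy
  rw [LinearMap.toSpanSingleton_apply]
  have hy' : y ∈ Submodule.span (X.presheaf.stalk x)
      (Set.range (fun i => algebraMap Γ(X, W) (X.presheaf.stalk x) (α i))) := by
    have h10 : 𝔞 = Ideal.span
        (Set.range (fun i => algebraMap Γ(X, W) (X.presheaf.stalk x) (α i))) := by
      have h11 : 𝔞' = Ideal.span (Set.range α) := hα.symm
      rw [← hmap, h11, Ideal.map_span, ← Set.range_comp]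
      rfl
    rw [h10] at hy
    exact hy
  obtain ⟨cc, hcc⟩ := (Submodule.mem_span_range_iff_exists_fun _).1 hy'
  have h9 : (⟨y, hy⟩ : 𝔞) = ∑ i, cc i • β i := by
    apply Subtype.ext
    rw [Submodule.coe_sum]
    simp only [Submodule.coe_smul]
    exact hcc.symm
  rw [h9, _root_.map_sum]
  simp only [_root_.map_smul]
  rw [← hcc, Finset.sum_smul]
  refine Finset.sum_congr rfl fun i _ => ?_
  rw [smul_assoc, hkey i]

end Groth.Agent.Lib.Lead.StalkInj
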