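/-
Lead library: descent of elements along universally injective ("pure") ring maps.

* `exists_of_eq`: if `N → S ⊗ N` is injective for `N = (S ⊗ M)/M`, then an element `x : S ⊗ M`
  whose two images in `(S ⊗ S) ⊗ M` agree comes from `M`;
* `injective_mk_pi`: purity of a product of algebras from joint purity of the factors;
* `eq_zero_of_forall_prime`, `tmul_eq_zero_of_faithfullyFlat`: the family of faithfully flat
  extensions of all the local rings of `R` is jointly pure;
* `piMat`: a family of homomorphisms to matrix algebras as a homomorphism to the matrix algebra over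
  the product.
-/
import Mathlib

set_option autoImplicit false

namespace Groth.Agent.Lib.Lead.PureDescent

open scoped TensorProduct

universe u v w w'

section descent

variable {R : Type u} [CommRing R] (S : Type v) [CommRing S] [Algebra R S] (M : Type w)
  [AddCommGroup M] [Module R M]

theorem exists_of_eq (x : S ⊗[R] M)
    (hpure : Function.Injective (TensorProduct.mk R S
      ((S ⊗[R] M) ⧸ LinearMap.range (TensorProduct.mk R S M 1)) 1))
    (hx : LinearMap.rTensor M (Algebra.TensorProduct.includeLeft : S →ₐ[R] S ⊗[R] S).toLinearMap x =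
      LinearMap.rTensor M
        (Algebra.TensorProduct.includeRight : S →ₐ[R] S ⊗[R] S).toLinearMap x) :
    ∃ m : M, x = 1 ⊗ₜ[R] m := by
  obtain ⟨π, hπ⟩ : ∃ π : S ⊗[R] M →ₗ[R]
      (S ⊗[R] M) ⧸ LinearMap.range (TensorProduct.mk R S M 1),
      π = (LinearMap.range (TensorProduct.mk R S M 1)).mkQ := ⟨_, rfl⟩
  obtain ⟨Θ, hΘ⟩ : ∃ Θ : (S ⊗[R] S) ⊗[R] M →ₗ[R]
      S ⊗[R] ((S ⊗[R] M) ⧸ LinearMap.range (TensorProduct.mk R S M 1)),
      Θ = (LinearMap.lTensor S π).comp (TensorProduct.assoc R S S M).toLinearMap := ⟨_, rfl⟩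
  have hπ0 : ∀ m : M, π (1 ⊗ₜ[R] m) = 0 := by
    intro m
    rw [hπ, Submodule.mkQ_apply, Submodule.Quotient.mk_eq_zero]
    exact ⟨m, rfl⟩
  have h1 : Θ.comp (LinearMap.rTensor M
      (Algebra.TensorProduct.includeLeft : S →ₐ[R] S ⊗[R] S).toLinearMap) = 0 := by
    refine TensorProduct.ext' fun s m => ?_
    rw [hΘ]
    simp only [LinearMap.comp_apply, LinearMap.rTensor_tmul, AlgHom.toLinearMap_apply,
      Algebra.TensorProduct.includeLeft_apply, LinearEquiv.coe_coe, TensorProduct.assoc_tmul,
      LinearMap.lTensor_tmul, LinearMap.zero_apply]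
    rw [hπ0, TensorProduct.tmul_zero]
  have h2 : Θ.comp (LinearMap.rTensor M
      (Algebra.TensorProduct.includeRight : S →ₐ[R] S ⊗[R] S).toLinearMap) =
      (TensorProduct.mk R S _ 1).comp π := by
    refine TensorProduct.ext' fun s m => ?_
    rw [hΘ]
    simp only [LinearMap.comp_apply, LinearMap.rTensor_tmul, AlgHom.toLinearMap_apply,
      Algebra.TensorProduct.includeRight_apply, LinearEquiv.coe_coe, TensorProduct.assoc_tmul,
      LinearMap.lTensor_tmul, TensorProduct.mk_apply]
  have h3 : (TensorProduct.mk R S _ 1) (π x) = 0 := by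
    have e1 := LinearMap.congr_fun h1 x
    have e2 := LinearMap.congr_fun h2 x
    rw [LinearMap.comp_apply] at e1 e2
    rw [hx] at e1
    rw [e1, LinearMap.comp_apply, LinearMap.zero_apply] at e2
    exact e2.symm
  have h4 : π x = 0 := hpure (by rw [h3, map_zero])
  rw [hπ, Submodule.mkQ_apply, Submodule.Quotient.mk_eq_zero] at h4
  obtain ⟨m, hm⟩ := h4
  exact ⟨m, hm.symm⟩

end descent

section purity

variable {R : Type u} [CommRing R]

theorem injective_mk_pi {Λ : Type w'} (S : Λ → Type v) [∀ i, CommRing (S i)]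
    [∀ i, Algebra R (S i)] (N : Type w) [AddCommGroup N] [Module R N]
    (h : ∀ n : N, (∀ i, (1 : S i) ⊗ₜ[R] n = 0) → n = 0) :
    Function.Injective (TensorProduct.mk R (∀ i, S i) N 1) := by
  rw [injective_iff_map_eq_zero]
  intro n hn
  refine h n fun i => ?_
  have h1 := congrArg (LinearMap.rTensor N (Pi.evalAlgHom R S i).toLinearMap) hn
  rw [TensorProduct.mk_apply, LinearMap.rTensor_tmul, map_zero] at h1
  simpa using h1

theorem eq_zero_of_forall_prime (N : Type w) [AddCommGroup N] [Module R N] (n : N)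
    (h : ∀ p : PrimeSpectrum R, (1 : Localization.AtPrime p.asIdeal) ⊗ₜ[R] n = 0) : n = 0 := by
  refine Module.eq_zero_of_localization_maximal (fun P _ => Localization.AtPrime P ⊗[R] N)
    (fun P _ => TensorProduct.mk R (Localization.AtPrime P) N 1) n fun P hP => ?_
  exact h ⟨P, hP.isPrime⟩

theorem tmul_eq_zero_of_faithfullyFlat (R₁ : Type v) [CommRing R₁] [Algebra R R₁] (T : Type w)
    [CommRing T] [Algebra R T] [Algebra R₁ T] [IsScalarTower R R₁ T] [Module.FaithfullyFlat R₁ T]
    (N : Type w') [AddCommGroup N] [Module R N] (n : N) (h : (1 : T) ⊗ₜ[R] n = 0) :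
    (1 : R₁) ⊗ₜ[R] n = 0 := by
  apply Module.FaithfullyFlat.tensorProduct_mk_injective (A := R₁) (B := T) (R₁ ⊗[R] N)
  rw [TensorProduct.mk_apply, map_zero]
  apply (TensorProduct.AlgebraTensorModule.cancelBaseChange R R₁ T T N).injective
  rw [TensorProduct.AlgebraTensorModule.cancelBaseChange_tmul, one_smul, h, map_zero]

end purity

section pimat

variable {R : Type u} [CommRing R] {A : Type v} [Ring A] [Algebra R A] {Λ : Type w'}
  (S : Λ → Type w) [∀ i, CommRing (S i)] [∀ i, Algebra R (S i)] {ι : Type*} [Fintype ι]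
  [DecidableEq ι]

/-- A family of homomorphisms `A → M_ι(S i)` as a homomorphism `A → M_ι(Π S i)`. -/
noncomputable def piMat (ρ : ∀ i, A →ₐ[R] Matrix ι ι (S i)) : A →ₐ[R] Matrix ι ι (∀ i, S i) where
  toFun a := Matrix.of fun x y i => ρ i a x y
  map_one' := by
    ext x y i
    simp only [Matrix.of_apply, map_one, Matrix.one_apply]
    split_ifs <;> rfl
  map_mul' a b := by
    ext x y i
    simp only [Matrix.of_apply, map_mul, Matrix.mul_apply, Finset.sum_apply, Pi.mul_apply]
  map_zero' := by
    ext x y i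
    simp
  map_add' a b := by
    ext x y i
    simp
  commutes' r := by
    ext x y i
    simp only [Matrix.of_apply, AlgHom.commutes, Matrix.algebraMap_matrix_apply,
      Pi.algebraMap_apply]
    split_ifs <;> simp

theorem piMat_eval (ρ : ∀ i, A →ₐ[R] Matrix ι ι (S i)) (i : Λ) :
    (Pi.evalAlgHom R S i).mapMatrix.comp (piMat S ρ) = ρ i := by
  refine AlgHom.ext fun a => ?_
  ext x y
  rfl

end pimat

end Groth.Agent.Lib.Lead.PureDescent
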