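import Groth.Agent.Lib.Lead.HZDepthS

/-!
# Local cohomology sheaves and depth: the key comparison over an affine open (lead)
-/

set_option autoImplicit false
set_option linter.style.haveILetI false
set_option linter.unusedSectionVars false
universe u

open CategoryTheory CategoryTheory.Limits Opposite TopologicalSpace AlgebraicGeometry

namespace Groth.Agent.Lib.Lead.HZDepthK

open Groth.Agent.Lib.Helper3

variable {X : Scheme.{u}} (M : X.Modules)

/-- The depth of the stalk of a quasi-coherent module at a point of an affine open. -/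
theorem depth_stalk_eq [M.IsQuasicoherent] {V' : X.Opens} (hV' : IsAffineOpen V') (x : X)
    (hx' : x ∈ V') :
    LocCoh.depth (X.presheaf.stalk x) (M.presheaf.stalk x) =
      LocCoh.depth (Localization.AtPrime (hV'.primeIdealOf ⟨x, hx'⟩).asIdeal)
        (LocalizedModule (hV'.primeIdealOf ⟨x, hx'⟩).asIdeal.primeCompl Γ(M, V')) := by
  letI algA : Algebra Γ(X, V') (X.presheaf.stalk x) :=
    TopCat.Presheaf.algebra_section_stalk X.presheaf (U := V') ⟨x, hx'⟩
  letI modAF : Module Γ(X, V') (M.presheaf.stalk x) :=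
    Module.compHom _ (algebraMap Γ(X, V') (X.presheaf.stalk x))
  haveI : IsScalarTower Γ(X, V') (X.presheaf.stalk x) (M.presheaf.stalk x) :=
    ⟨fun a s m => by
      change (a • s) • m = algebraMap Γ(X, V') (X.presheaf.stalk x) a • (s • m)
      rw [Algebra.smul_def, mul_smul]⟩
  let gF : Γ(M, V') →ₗ[Γ(X, V')] M.presheaf.stalk x :=
    { toFun := M.presheaf.germ V' x hx'
      map_add' := map_add _
      map_smul' := fun r m => QS.germ_smul M x hx' r m }
  haveI hgF : IsLocalizedModule (hV'.primeIdealOf ⟨x, hx'⟩).asIdeal.primeCompl gF :=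
    QS.isLocalizedModule_germ hV' M x hx' (fun r z => rfl) gF (fun m => rfl)
  haveI := hV'.isLocalization_stalk ⟨x, hx'⟩
  exact HZDepthA.depth_eq_of_isLocalizedModule _ (X.presheaf.stalk x) gF

theorem depth_localization_congr {A : Type u} [CommRing A] (p q : Ideal A) [p.IsPrime] [q.IsPrime]
    (h : p = q) (N : Type u) [AddCommGroup N] [Module A N] :
    LocCoh.depth (Localization.AtPrime p) (LocalizedModule p.primeCompl N) =
      LocCoh.depth (Localization.AtPrime q) (LocalizedModule q.primeCompl N) := by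
  subst h; rfl

/-- `depth_I Γ(V', M) ≥ n` iff the stalks of `M` at the points of `V(I) ⊆ V'` have depth `≥ n`. -/
theorem le_idealDepth_iff_stalks [IsLocallyNoetherian X] [M.IsQuasicoherent] [M.IsFiniteType]
    {V' : X.Opens} (hV' : IsAffineOpen V') (I : Ideal Γ(X, V')) (n : ℕ) :
    (n : ℕ∞) ≤ LocCoh.idealDepth I Γ(M, V') ↔
      ∀ (x : X) (hx' : x ∈ V'), I ≤ (hV'.primeIdealOf ⟨x, hx'⟩).asIdeal →
        (n : ℕ∞) ≤ LocCoh.depth (X.presheaf.stalk x) (M.presheaf.stalk x) := by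
  haveI : IsNoetherianRing Γ(X, V') := IsLocallyNoetherian.component_noetherian ⟨V', hV'⟩
  haveI : Module.Finite Γ(X, V') Γ(M, V') := QCProps.finite_sections M hV'
  rw [HZDepthA.le_idealDepth_iff_forall_localization I Γ(M, V') n]
  constructor
  · intro h4 x hx' hle
    rw [depth_stalk_eq M hV' x hx']
    exact h4 _ hle
  · intro h5 p hpprime hle
    let y : PrimeSpectrum Γ(X, V') := ⟨p, hpprime⟩
    have hx' : hV'.fromSpec y ∈ V' := by
      have h0 : hV'.fromSpec y ∈ hV'.fromSpec.opensRange := ⟨y, rfl⟩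
      rwa [hV'.opensRange_fromSpec] at h0
    have hpx : hV'.primeIdealOf ⟨hV'.fromSpec y, hx'⟩ = y := by
      apply hV'.fromSpec.isOpenEmbedding.injective
      exact hV'.fromSpec_primeIdealOf ⟨hV'.fromSpec y, hx'⟩
    have hp : (hV'.primeIdealOf ⟨hV'.fromSpec y, hx'⟩).asIdeal = p := by rw [hpx]
    rw [← depth_localization_congr _ p hp, ← depth_stalk_eq M hV' _ hx']
    exact h5 _ hx' (hp ▸ hle)

section transfer

variable (V : X.Opens)

/-- the identity, between the two spellings of the ring of functions on `V`. -/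
def φ : Γ((V : Scheme.{u}), ⊤) ≃+* Γ(X, V.ι ''ᵁ ⊤) := RingEquiv.refl _

/-- the identity, between the two spellings of the module of sections over `V`. -/
noncomputable def ψ : ((M.restrict V.ι).val.obj (op ⊤)) ≃+ Γ(M, V.ι ''ᵁ ⊤) := AddEquiv.refl _

theorem ψ_smul (a : Γ((V : Scheme.{u}), ⊤)) (n : (M.restrict V.ι).val.obj (op ⊤)) :
    ψ M V (a • n) = φ V a • ψ M V n := by
  have h2 : (V.ι.appIso ⊤).inv.hom a = φ V a := by
    rw [Scheme.Opens.ι_appIso]; rfl
  have h1 : ψ M V (a • n) = ((V.ι.appIso ⊤).inv.hom a) • ψ M V n := rfl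
  rw [h1, h2]

theorem idealDepth_restrict_top (I : Ideal Γ((V : Scheme.{u}), ⊤)) :
    LocCoh.idealDepth I ((M.restrict V.ι).val.obj (op ⊤)) =
      LocCoh.idealDepth (Ideal.comap ((φ V).symm : Γ(X, V.ι ''ᵁ ⊤) →+* Γ((V : Scheme.{u}), ⊤)) I)
        Γ(M, V.ι ''ᵁ ⊤) := by
  letI modZ : Module Γ((V : Scheme.{u}), ⊤) Γ(M, V.ι ''ᵁ ⊤) :=
    Module.compHom _ ((φ V : Γ((V : Scheme.{u}), ⊤) ≃+* Γ(X, V.ι ''ᵁ ⊤)) :
      Γ((V : Scheme.{u}), ⊤) →+* Γ(X, V.ι ''ᵁ ⊤))
  let ψ' : ((M.restrict V.ι).val.obj (op ⊤)) ≃ₗ[Γ((V : Scheme.{u}), ⊤)] Γ(M, V.ι ''ᵁ ⊤) :=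
    { ψ M V with map_smul' := fun a n => ψ_smul M V a n }
  have h1 := Groth.Agent.Lib.Helper28.idealDepth_congr ψ' I
  have h2 := HZDepthA.idealDepth_compHom (φ V) I
    (Ideal.comap ((φ V).symm : Γ(X, V.ι ''ᵁ ⊤) →+* Γ((V : Scheme.{u}), ⊤)) I)
    (fun r => by rw [Ideal.mem_comap]; simp) Γ(M, V.ι ''ᵁ ⊤)
  rw [h1]
  exact h2

end transfer

/-- **Key comparison** over an affine open `V` of a locally Noetherian scheme. -/
theorem affine_key [IsLocallyNoetherian X] (U : X.Opens) [M.IsQuasicoherent] [M.IsFiniteType]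
    (n : ℕ) (V : X.Opens) (hV : IsAffineOpen V) :
    (∀ i : ℕ, i < n → Subsingleton
        (LocCohZ.HZ (X := X.carrier) (Coh.toAb M) i (inf_le_left : V ⊓ U ≤ V))) ↔
      ∀ x : X, x ∈ V → x ∉ U →
        (n : ℕ∞) ≤ LocCoh.depth (X.presheaf.stalk x) (M.presheaf.stalk x) := by
  haveI hZaff : IsAffine (V : Scheme.{u}) := hV
  haveI : IsNoetherian (V : Scheme.{u}) := {}
  haveI hNft : (M.restrict V.ι).IsFiniteType := QCProps.isFiniteType_restrict V.ι M
  haveI hfin : Module.Finite Γ((V : Scheme.{u}), ⊤) ((M.restrict V.ι).val.obj (op ⊤)) :=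
    QCProps.finite_sections (M.restrict V.ι) (isAffineOpen_top (V : Scheme.{u}))
  haveI hnoeth : IsNoetherianRing Γ((V : Scheme.{u}), ⊤) :=
    IsLocallyNoetherian.component_noetherian ⟨⊤, isAffineOpen_top (V : Scheme.{u})⟩
  have hV' : IsAffineOpen (V.ι ''ᵁ ⊤) := by rw [Scheme.Opens.ι_image_top]; exact hV
  obtain ⟨fs, hfs⟩ := HZDepthS.exists_list_basicOpen (V : Scheme.{u})
    ((Opens.map (CohCx.incl V)).obj (V ⊓ U)) (NoetherianSpace.isCompact _)
  have step12 : ∀ i : ℕ, Subsingleton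
      (LocCohZ.HZ (X := X.carrier) (Coh.toAb M) i (inf_le_left : V ⊓ U ≤ V)) ↔
      Subsingleton (CohIII.koszulHLim fs
        (ModuleCat.of Γ((V : Scheme.{u}), ⊤) ((M.restrict V.ι).val.obj (op ⊤))) i) := by
    intro i
    obtain ⟨e, -⟩ := Groth.Agent.S6026.result (X := X.carrier) (inf_le_left : V ⊓ U ≤ V) i
    rw [(e (Coh.toAb M)).toEquiv.subsingleton_congr]
    exact HZDepthS.hz_iff' (V : Scheme.{u}) (M.restrict V.ι) fs _ hfs i
  have step3 := HZDepthA.koszul_vanish_iff fs ((M.restrict V.ι).val.obj (op ⊤)) n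
  have hmemU : ∀ (x : X) (hx : x ∈ V),
      x ∈ U ↔ ∃ f ∈ fs, x ∈ X.basicOpen (φ V f) := by
    intro x hx
    let z : (V : Scheme.{u}) := ⟨x, hx⟩
    have h1 : x ∈ U ↔ z ∈ HZDepthS.Wf (V : Scheme.{u}) fs := by
      rw [← hfs]
      exact ⟨fun h => ⟨hx, h⟩, fun h => h.2⟩
    have hb : ∀ f : Γ((V : Scheme.{u}), ⊤),
        x ∈ X.basicOpen (φ V f) ↔ z ∈ (V : Scheme.{u}).basicOpen f := by
      intro f
      have h2 : X.basicOpen (φ V f) = V.ι ''ᵁ (V : Scheme.{u}).basicOpen f :=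
        (Scheme.Opens.ι_image_basicOpen V f).symm
      rw [h2]
      exact Scheme.Opens.mem_ι_image_iff (x := z)
    rw [h1]
    change z ∈ (⨆ i : Fin fs.length, (V : Scheme.{u}).basicOpen (fs.get i)) ↔ _
    rw [Opens.mem_iSup]
    constructor
    · rintro ⟨i, hi⟩
      exact ⟨fs.get i, List.get_mem _ _, (hb _).2 hi⟩
    · rintro ⟨f, hf, hxf⟩
      obtain ⟨i, rfl⟩ := List.get_of_mem hf
      exact ⟨i, (hb _).1 hxf⟩
  have hprime : ∀ (x : X) (hx : x ∈ V) (hx' : x ∈ V.ι ''ᵁ ⊤),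
      Ideal.comap ((φ V).symm : Γ(X, V.ι ''ᵁ ⊤) →+* Γ((V : Scheme.{u}), ⊤))
        (Ideal.span {a | a ∈ fs}) ≤ (hV'.primeIdealOf ⟨x, hx'⟩).asIdeal ↔ x ∉ U := by
    intro x hx hx'
    rw [hmemU x hx]
    constructor
    · rintro h ⟨f, hf, hxf⟩
      refine ((mem_basicOpen_iff_notMem_primeIdealOf hV' x hx' (φ V f)).1 hxf) (h ?_)
      rw [Ideal.mem_comap]
      have : ((φ V).symm : Γ(X, V.ι ''ᵁ ⊤) →+* Γ((V : Scheme.{u}), ⊤)) (φ V f) = f :=
        (φ V).symm_apply_apply f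
      rw [this]
      exact Ideal.subset_span hf
    · intro h r hr
      rw [Ideal.mem_comap] at hr
      have hle : (Ideal.span {a | a ∈ fs} : Ideal Γ((V : Scheme.{u}), ⊤)) ≤
          Ideal.comap ((φ V : Γ((V : Scheme.{u}), ⊤) ≃+* Γ(X, V.ι ''ᵁ ⊤)) :
            Γ((V : Scheme.{u}), ⊤) →+* Γ(X, V.ι ''ᵁ ⊤)) (hV'.primeIdealOf ⟨x, hx'⟩).asIdeal := by
        rw [Ideal.span_le]
        intro f hf
        change φ V f ∈ (hV'.primeIdealOf ⟨x, hx'⟩).asIdeal
        by_contra hfp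
        exact h ⟨f, hf, (mem_basicOpen_iff_notMem_primeIdealOf hV' x hx' (φ V f)).2 hfp⟩
      have h3 := hle hr
      rw [Ideal.mem_comap] at h3
      have : ((φ V : Γ((V : Scheme.{u}), ⊤) ≃+* Γ(X, V.ι ''ᵁ ⊤)) :
          Γ((V : Scheme.{u}), ⊤) →+* Γ(X, V.ι ''ᵁ ⊤))
          (((φ V).symm : Γ(X, V.ι ''ᵁ ⊤) →+* Γ((V : Scheme.{u}), ⊤)) r) = r :=
        (φ V).apply_symm_apply r
      rwa [this] at h3
  rw [show (∀ i : ℕ, i < n → Subsingleton
        (LocCohZ.HZ (X := X.carrier) (Coh.toAb M) i (inf_le_left : V ⊓ U ≤ V))) ↔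
      (∀ i : ℕ, i < n → Subsingleton (CohIII.koszulHLim fs
        (ModuleCat.of Γ((V : Scheme.{u}), ⊤) ((M.restrict V.ι).val.obj (op ⊤))) i)) from
    forall_congr' fun i => imp_congr_right fun _ => step12 i, step3,
    idealDepth_restrict_top M V, le_idealDepth_iff_stalks M hV']
  constructor
  · intro h x hx hxU
    have hx' : x ∈ V.ι ''ᵁ ⊤ := by rw [Scheme.Opens.ι_image_top]; exact hx
    exact h x hx' ((hprime x hx hx').2 hxU)
  · intro h x hx' hle
    have hx : x ∈ V := by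
      have h0 := hx'
      rwa [Scheme.Opens.ι_image_top] at h0
    exact h x hx ((hprime x hx hx').1 hle)

end Groth.Agent.Lib.Lead.HZDepthK
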