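import Mathlib
import Groth.Prelude
import Groth.Agent.Lib.Helper20.QcohVanishCore
import Groth.Agent.Lib.Helper22.HHofRpush

/-!
# Vanishing of `H^p(X, F)` over an affine base from stalkwise vanishing of `R^p f_* F`

Glue of two team lemmas: helper20's "a sheaf of abelian groups with zero stalks is zero" and
helper22's "`R^p f_* F = 0` over an affine base gives `H^p(X, F) = 0`" (Leray collapse, helper13).
-/

set_option autoImplicit false

universe u

open CategoryTheory CategoryTheory.Limits AlgebraicGeometry

namespace Groth.Agent.Lib.Lead.HHStalk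

theorem subsingleton_HH_of_forall_isZero_stalk {X Y : Scheme.{u}} (f : X ⟶ Y)
    [QuasiCompact f] [QuasiSeparated f] [IsAffine Y] (F : X.Modules) [F.IsQuasicoherent] (p : ℕ)
    (h : ∀ y : Y, Limits.IsZero
      (TopCat.Presheaf.stalk ((Coh.RpushAb f p).obj (Coh.toAb F)).obj y)) :
    Subsingleton (Coh.HH X F p) :=
  Groth.Agent.Lib.Helper22.HHofRpush.subsingleton_HH_of_isZero_RpushAb f F p
    (Groth.Agent.Lib.Helper20.QcohVanishCore.isZero_of_forall_isZero_stalk _ h)

end Groth.Agent.Lib.Lead.HHStalk
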