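/-
Lead library: Milnor patching.  For a fibre square `B' = B ×_A A'` (with `A' → A` surjective) and
a `B'`-module `P` with maps to a `B`-module `N` and an `A'`-module `M'` identifying `P` with the
glued module `N ×_φ M'`, the base changes `B ⊗ P → N` and `A' ⊗ P → M'` are bijective.
-/
import Mathlib
import Groth.Prelude.Def_EtMil

set_option autoImplicit false
universe u
open TensorProduct

namespace Groth.Agent.Lib.Lead.MilnorGlue

/-- If `R → S` is surjective and `1 ⊗ m = 0` in `S ⊗ M` then `m ∈ (ker) • M`. -/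
theorem mem_smul_of_tmul_eq_zero {R S : Type u} [CommRing R] [CommRing S] [Algebra R S]
    (hs : Function.Surjective (algebraMap R S)) {M : Type u} [AddCommGroup M] [Module R M] (m : M)
    (h : ((1 : S) ⊗ₜ[R] m : S ⊗[R] M) = 0) :
    m ∈ (RingHom.ker (algebraMap R S)) • (⊤ : Submodule R M) := by
  have hex : Function.Exact ((RingHom.ker (algebraMap R S)).subtype : _ →ₗ[R] R)
      (Algebra.linearMap R S) := by
    intro r
    rw [Algebra.linearMap_apply]
    constructor
    · intro hr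
      exact ⟨⟨r, RingHom.mem_ker.2 hr⟩, rfl⟩
    · rintro ⟨i, rfl⟩
      exact RingHom.mem_ker.1 i.2
  have hex2 := rTensor_exact M hex hs
  have h1 : (LinearMap.rTensor M (Algebra.linearMap R S)) ((1 : R) ⊗ₜ[R] m) = 0 := by
    rw [LinearMap.rTensor_tmul, Algebra.linearMap_apply, map_one, h]
  obtain ⟨w, hw⟩ := (hex2 _).1 h1
  have key : ∀ w : (RingHom.ker (algebraMap R S)) ⊗[R] M,
      TensorProduct.lid R M (LinearMap.rTensor M
        ((RingHom.ker (algebraMap R S)).subtype : _ →ₗ[R] R) w) ∈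
        (RingHom.ker (algebraMap R S)) • (⊤ : Submodule R M) := by
    intro w
    induction w using TensorProduct.induction_on with
    | zero => rw [map_zero, map_zero]; exact Submodule.zero_mem _
    | tmul i m₀ =>
      rw [LinearMap.rTensor_tmul, TensorProduct.lid_tmul]
      exact Submodule.smul_mem_smul i.2 Submodule.mem_top
    | add x y hx hy => rw [map_add, map_add]; exact Submodule.add_mem _ hx hy
  have h2 := key w
  rw [hw, TensorProduct.lid_tmul, one_smul] at h2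
  exact h2

section glue

variable {B' B A' A : Type u} [CommRing B'] [CommRing B] [CommRing A'] [CommRing A]
  [Algebra B' B] [Algebra B' A'] [Algebra B A] [Algebra A' A] [Algebra B' A]
  [IsScalarTower B' B A] [IsScalarTower B' A' A]
  (hsq : EtMil.IsFibreSquare B' B A' A)
  {P N M' : Type u} [AddCommGroup P] [Module B' P]
  [AddCommGroup N] [Module B N] [Module B' N] [IsScalarTower B' B N]
  [AddCommGroup M'] [Module A' M'] [Module B' M'] [IsScalarTower B' A' M']
  (p₁ : P →ₗ[B'] N) (p₂ : P →ₗ[B'] M') (φ : A ⊗[B] N ≃ₗ[A] A ⊗[A'] M')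
  (hinj : ∀ x : P, p₁ x = 0 → p₂ x = 0 → x = 0)
  (himg : ∀ (n : N) (m' : M'), φ ((1 : A) ⊗ₜ[B] n) = (1 : A) ⊗ₜ[A'] m' ↔
    ∃ x : P, p₁ x = n ∧ p₂ x = m')

include hsq in
theorem surjective_fst : Function.Surjective (algebraMap B' B) := by
  intro b
  obtain ⟨a', ha'⟩ := hsq.1 (algebraMap B A b)
  obtain ⟨b', hb', -⟩ := (hsq.2 b a' ha'.symm).exists
  exact ⟨b', hb'⟩

include hsq himg in
theorem exists_fst (n : N) : ∃ x, p₁ x = n := by
  obtain ⟨m', hm'⟩ := TensorProduct.mk_surjective A' M' A hsq.1 (φ (1 ⊗ₜ n))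
  rw [TensorProduct.mk_apply] at hm'
  obtain ⟨x, hx, -⟩ := (himg n m').1 hm'.symm
  exact ⟨x, hx⟩

include hsq himg in
theorem liftFst_surjective : Function.Surjective (LinearMap.liftBaseChange B p₁) := by
  intro n
  obtain ⟨x, hx⟩ := exists_fst hsq p₁ p₂ φ himg n
  exact ⟨1 ⊗ₜ x, by rw [LinearMap.liftBaseChange_tmul, one_smul, hx]⟩

include hsq himg in
theorem liftSnd_surjective : Function.Surjective (LinearMap.liftBaseChange A' p₂) := by
  intro m'
  have key1 : ∀ m'' : M', ((1 : A) ⊗ₜ[A'] m'' : A ⊗[A'] M') = 0 →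
      m'' ∈ LinearMap.range (LinearMap.liftBaseChange A' p₂) := by
    intro m'' h
    obtain ⟨x, -, hx⟩ := (himg 0 m'').1 (by rw [TensorProduct.tmul_zero, map_zero, h])
    exact ⟨1 ⊗ₜ x, by rw [LinearMap.liftBaseChange_tmul, one_smul, hx]⟩
  have key2 : ∀ y : A ⊗[B] N, ∃ q ∈ LinearMap.range (LinearMap.liftBaseChange A' p₂),
      ((1 : A) ⊗ₜ[A'] q : A ⊗[A'] M') = φ y := by
    intro y
    induction y using TensorProduct.induction_on with
    | zero => exact ⟨0, Submodule.zero_mem _, by rw [TensorProduct.tmul_zero, map_zero]⟩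
    | tmul a n =>
      obtain ⟨a', rfl⟩ := hsq.1 a
      obtain ⟨x, rfl⟩ := exists_fst hsq p₁ p₂ φ himg n
      refine ⟨a' • p₂ x, ⟨a' ⊗ₜ x, by rw [LinearMap.liftBaseChange_tmul]⟩, ?_⟩
      have h1 : φ ((1 : A) ⊗ₜ[B] p₁ x) = (1 : A) ⊗ₜ[A'] p₂ x := (himg _ _).2 ⟨x, rfl, rfl⟩
      have h2 : (algebraMap A' A a') ⊗ₜ[B] p₁ x =
          algebraMap A' A a' • ((1 : A) ⊗ₜ[B] p₁ x) := by
        rw [TensorProduct.smul_tmul', smul_eq_mul, mul_one]
      rw [h2, map_smul, h1, TensorProduct.smul_tmul', smul_eq_mul, mul_one,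
        ← TensorProduct.smul_tmul, Algebra.smul_def, mul_one]
    | add y z hy hz =>
      obtain ⟨q1, hq1, h1⟩ := hy
      obtain ⟨q2, hq2, h2⟩ := hz
      exact ⟨q1 + q2, Submodule.add_mem _ hq1 hq2, by
        rw [TensorProduct.tmul_add, map_add, h1, h2]⟩
  obtain ⟨q, hq, hq'⟩ := key2 (φ.symm (1 ⊗ₜ m'))
  rw [LinearEquiv.apply_symm_apply] at hq'
  have h3 := key1 (m' - q) (by rw [TensorProduct.tmul_sub, hq', sub_self])
  have h4 := Submodule.add_mem _ h3 hq
  rw [sub_add_cancel] at h4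
  exact h4

include hsq in
/-- Elements of `I • (A' ⊗ P)` are of the form `1 ⊗ x₀` with `x₀` in `J P`. -/
theorem exists_of_mem_smul (w : A' ⊗[B'] P)
    (hw : w ∈ (RingHom.ker (algebraMap A' A)) • (⊤ : Submodule A' (A' ⊗[B'] P))) :
    ∃ x₀ : P, p₁ x₀ = 0 ∧ ((1 : B) ⊗ₜ[B'] x₀ : B ⊗[B'] P) = 0 ∧ w = (1 : A') ⊗ₜ[B'] x₀ := by
  refine Submodule.smul_induction_on hw ?_ ?_
  · intro i hi z hztop
    clear hztop
    induction z using TensorProduct.induction_on with
    | zero => exact ⟨0, map_zero _, TensorProduct.tmul_zero _ _, by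
        rw [smul_zero, TensorProduct.tmul_zero]⟩
    | tmul a' x =>
      have hia : algebraMap B A 0 = algebraMap A' A (i * a') := by
        rw [map_zero, map_mul, RingHom.mem_ker.1 hi, zero_mul]
      obtain ⟨j, hj1, hj2⟩ := (hsq.2 0 (i * a') hia).exists
      refine ⟨j • x, ?_, ?_, ?_⟩
      · rw [map_smul, ← IsScalarTower.algebraMap_smul B j (p₁ x), hj1, zero_smul]
      · rw [TensorProduct.tmul_smul, TensorProduct.smul_tmul', Algebra.smul_def, hj1, zero_mul,
          TensorProduct.zero_tmul]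
      · have hL : i • (a' ⊗ₜ[B'] x) = (i * a') ⊗ₜ[B'] x := by
          rw [TensorProduct.smul_tmul', smul_eq_mul]
        have hR : ((1 : A') ⊗ₜ[B'] (j • x) : A' ⊗[B'] P) = (i * a') ⊗ₜ[B'] x := by
          rw [TensorProduct.tmul_smul, TensorProduct.smul_tmul', Algebra.smul_def, hj2, mul_one]
        rw [hL, hR]
    | add z₁ z₂ h₁ h₂ =>
      obtain ⟨x₁, hx₁, hx₁', hx₁''⟩ := h₁
      obtain ⟨x₂, hx₂, hx₂', hx₂''⟩ := h₂
      exact ⟨x₁ + x₂, by rw [map_add, hx₁, hx₂, add_zero],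
        by rw [TensorProduct.tmul_add, hx₁', hx₂', add_zero],
        by rw [smul_add, hx₁'', hx₂'', TensorProduct.tmul_add]⟩
  · rintro w₁ w₂ ⟨x₁, hx₁, hx₁', hx₁''⟩ ⟨x₂, hx₂, hx₂', hx₂''⟩
    exact ⟨x₁ + x₂, by rw [map_add, hx₁, hx₂, add_zero],
      by rw [TensorProduct.tmul_add, hx₁', hx₂', add_zero],
      by rw [hx₁'', hx₂'', TensorProduct.tmul_add]⟩

include hsq hinj himg in
theorem liftFst_injective : Function.Injective (LinearMap.liftBaseChange B p₁) := by
  rw [injective_iff_map_eq_zero]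
  intro z hz
  obtain ⟨x, rfl⟩ := TensorProduct.mk_surjective B' P B (surjective_fst hsq) z
  rw [TensorProduct.mk_apply] at hz ⊢
  rw [LinearMap.liftBaseChange_tmul, one_smul] at hz
  have h1 : ((1 : A) ⊗ₜ[A'] p₂ x : A ⊗[A'] M') = 0 := by
    have := (himg (p₁ x) (p₂ x)).2 ⟨x, rfl, rfl⟩
    rw [hz, TensorProduct.tmul_zero, map_zero] at this
    exact this.symm
  have h2 := mem_smul_of_tmul_eq_zero hsq.1 (p₂ x) h1
  have h3 : ∀ m ∈ (RingHom.ker (algebraMap A' A)) • (⊤ : Submodule A' M'),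
      ∃ w ∈ (RingHom.ker (algebraMap A' A)) • (⊤ : Submodule A' (A' ⊗[B'] P)),
        LinearMap.liftBaseChange A' p₂ w = m := by
    intro m hm
    refine Submodule.smul_induction_on hm ?_ ?_
    · intro i hi m' _
      obtain ⟨z, rfl⟩ := liftSnd_surjective hsq p₁ p₂ φ himg m'
      exact ⟨i • z, Submodule.smul_mem_smul hi Submodule.mem_top, map_smul _ _ _⟩
    · rintro m₁ m₂ ⟨w₁, hw₁, rfl⟩ ⟨w₂, hw₂, rfl⟩
      exact ⟨w₁ + w₂, Submodule.add_mem _ hw₁ hw₂, map_add _ _ _⟩
  obtain ⟨w, hw, hwm⟩ := h3 _ h2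
  obtain ⟨x₀, hx₀, hx₀', rfl⟩ := exists_of_mem_smul hsq p₁ w hw
  rw [LinearMap.liftBaseChange_tmul, one_smul] at hwm
  have hxx : x - x₀ = 0 := hinj _ (by rw [map_sub, hz, hx₀, sub_zero])
    (by rw [map_sub, hwm, sub_self])
  rw [sub_eq_zero.1 hxx]
  exact hx₀'

include hsq hinj himg in
theorem liftSnd_injective : Function.Injective (LinearMap.liftBaseChange A' p₂) := by
  have hF : ∀ w : A ⊗[A'] (A' ⊗[B'] P),
      LinearMap.lTensor A (LinearMap.liftBaseChange A' p₂) w =
        φ (LinearEquiv.lTensor A (LinearEquiv.ofBijective (LinearMap.liftBaseChange B p₁)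
          ⟨liftFst_injective hsq p₁ p₂ φ hinj himg, liftFst_surjective hsq p₁ p₂ φ himg⟩)
          ((TensorProduct.AlgebraTensorModule.cancelBaseChange B' B A A P).symm
            (TensorProduct.AlgebraTensorModule.cancelBaseChange B' A' A A P w))) := by
    intro w
    induction w using TensorProduct.induction_on with
    | zero => simp only [map_zero]
    | tmul a z =>
      induction z using TensorProduct.induction_on with
      | zero => simp only [TensorProduct.tmul_zero, map_zero]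
      | tmul a' x =>
        rw [LinearMap.lTensor_tmul, LinearMap.liftBaseChange_tmul,
          TensorProduct.AlgebraTensorModule.cancelBaseChange_tmul,
          TensorProduct.AlgebraTensorModule.cancelBaseChange_symm_tmul,
          LinearEquiv.lTensor_tmul, LinearEquiv.ofBijective_apply,
          LinearMap.liftBaseChange_tmul, one_smul]
        have h1 : φ ((1 : A) ⊗ₜ[B] p₁ x) = (1 : A) ⊗ₜ[A'] p₂ x := (himg _ _).2 ⟨x, rfl, rfl⟩
        have h2 : (a' • a) ⊗ₜ[B] p₁ x = (a' • a) • ((1 : A) ⊗ₜ[B] p₁ x) := by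
          rw [TensorProduct.smul_tmul', smul_eq_mul, mul_one]
        rw [h2, map_smul, h1, TensorProduct.smul_tmul', smul_eq_mul, mul_one,
          ← TensorProduct.smul_tmul]
      | add z₁ z₂ h₁ h₂ =>
        rw [TensorProduct.tmul_add, map_add, h₁, h₂]
        simp only [map_add]
    | add w₁ w₂ h₁ h₂ =>
      rw [map_add, h₁, h₂]
      simp only [map_add]
  rw [injective_iff_map_eq_zero]
  intro z hz
  have h1 : ((1 : A) ⊗ₜ[A'] z : A ⊗[A'] (A' ⊗[B'] P)) = 0 := by
    have h2 := hF ((1 : A) ⊗ₜ[A'] z)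
    rw [LinearMap.lTensor_tmul, hz, TensorProduct.tmul_zero] at h2
    have h3 := (LinearEquiv.map_eq_zero_iff φ).1 h2.symm
    have h4 := (LinearEquiv.map_eq_zero_iff _).1 h3
    have h5 := (LinearEquiv.map_eq_zero_iff _).1 h4
    exact (LinearEquiv.map_eq_zero_iff _).1 h5
  have h2 := mem_smul_of_tmul_eq_zero hsq.1 z h1
  obtain ⟨x₀, hx₀, -, rfl⟩ := exists_of_mem_smul hsq p₁ z h2
  rw [LinearMap.liftBaseChange_tmul, one_smul] at hz
  rw [hinj x₀ hx₀ hz, TensorProduct.tmul_zero]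

end glue

end Groth.Agent.Lib.Lead.MilnorGlue
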