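import Groth.Agent.Lib.Lead.KosVanish
import Groth.Agent.Lib.Helper3.QCSec

/-!
# Sections of a quasi-coherent module over unions of `X_f` and Koszul cohomology (geometric input)

`X` quasi-compact quasi-separated, `F` quasi-coherent, `fs : List Γ(X, ⊤)`.
* `SecA F V`: `Γ(V, F)` as a module over the global functions.
* `resL`, `iotaL`: linear restriction maps.
* `ker_iota_torsion`, `subsingleton_TT_E`: the hypotheses of the dimension shifting of `KosVanish`.
-/

set_option autoImplicit false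
set_option linter.style.haveILetI false
set_option linter.unusedSectionVars false
set_option linter.unusedVariables false

universe u

open AlgebraicGeometry CategoryTheory Opposite TopologicalSpace

namespace Groth.Agent.Lib.Lead.KosGeo

open Groth.Agent.Lib.Helper3.QCSec Groth.Agent.Lib.Lead.KosVanish Groth.Agent.Lib.Helper4.KosLim

variable {X : Scheme.{u}} (F : X.Modules)

/-- `Γ(V, F)` as a module over the global functions. -/
def SecA (F : X.Modules) (V : X.Opens) : Type u := Γ(F, V)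

noncomputable instance (V : X.Opens) : AddCommGroup (SecA F V) := inferInstanceAs (AddCommGroup Γ(F, V))

noncomputable instance (V : X.Opens) : Module Γ(X, ⊤) (SecA F V) :=
  Module.compHom Γ(F, V) (X.presheaf.map (homOfLE (le_top : V ≤ ⊤)).op).hom

/-- the identity `Γ(F, V) → SecA F V`. -/
noncomputable def toSecA (V : X.Opens) : Γ(F, V) ≃+ SecA F V := AddEquiv.refl _

lemma smul_toSecA (V : X.Opens) (a : Γ(X, ⊤)) (s : Γ(F, V)) :
    a • toSecA F V s = toSecA F V (rres X (le_top : V ≤ ⊤) a • s) := rfl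

lemma pow_smul_eq (V : X.Opens) (a : Γ(X, ⊤)) (n : ℕ) (s : SecA F V) :
    a ^ n • s = toSecA F V ((rres X (le_top : V ≤ ⊤) a) ^ n • (toSecA F V).symm s) := by
  rw [← rres_pow]
  rfl

lemma pow_smul_toSecA (V : X.Opens) (a : Γ(X, ⊤)) (n : ℕ) (s : Γ(F, V)) :
    a ^ n • toSecA F V s = toSecA F V ((rres X (le_top : V ≤ ⊤) a) ^ n • s) := by
  rw [smul_toSecA, rres_pow]

/-- linear restriction maps. -/
noncomputable def resL {V W : X.Opens} (h : W ≤ V) : SecA F V →ₗ[Γ(X, ⊤)] SecA F W where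
  toFun s := toSecA F W (res F h ((toSecA F V).symm s))
  map_add' a b := by
    change toSecA F W (res F h ((toSecA F V).symm a + (toSecA F V).symm b)) = _
    have : res F h ((toSecA F V).symm a + (toSecA F V).symm b) =
        res F h ((toSecA F V).symm a) + res F h ((toSecA F V).symm b) := _root_.map_add _ _ _
    rw [this]
    rfl
  map_smul' a s := by
    change toSecA F W (res F h (rres X (le_top : V ≤ ⊤) a • (toSecA F V).symm s)) =
      toSecA F W (rres X (le_top : W ≤ ⊤) a • res F h ((toSecA F V).symm s))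
    rw [res_smul, rres_rres]

lemma resL_apply {V W : X.Opens} (h : W ≤ V) (s : Γ(F, V)) :
    resL F h (toSecA F V s) = toSecA F W (res F h s) := rfl

lemma resL_resL {V W W' : X.Opens} (h : W ≤ V) (h' : W' ≤ W) (s : SecA F V) :
    resL F h' (resL F h s) = resL F (h'.trans h) s := by
  change toSecA F W' (res F h' (res F h ((toSecA F V).symm s))) = _
  rw [res_res]
  rfl

lemma isUnit_rres_of_le_basicOpen (f : Γ(X, ⊤)) {W : X.Opens} (hW : W ≤ X.basicOpen f) :
    IsUnit (rres X (le_top : W ≤ ⊤) f) := by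
  have h1 : IsUnit (rres X (le_top : X.basicOpen f ≤ ⊤) f) :=
    X.toRingedSpace.isUnit_res_basicOpen f
  have h2 : rres X (le_top : W ≤ ⊤) f = rres X hW (rres X (le_top : X.basicOpen f ≤ ⊤) f) :=
    (rres_rres hW le_top f).symm
  rw [h2]
  exact h1.map (X.presheaf.map (homOfLE hW).op).hom

lemma smul_bijective_of_le_basicOpen (f : Γ(X, ⊤)) {W : X.Opens} (hW : W ≤ X.basicOpen f) :
    Function.Bijective (fun s : SecA F W => f • s) := by
  obtain ⟨u, hu⟩ := isUnit_rres_of_le_basicOpen f hW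
  refine Function.bijective_iff_has_inverse.mpr
    ⟨fun s => toSecA F W ((↑u⁻¹ : Γ(X, W)) • (toSecA F W).symm s), ?_, ?_⟩
  · intro s
    change toSecA F W ((↑u⁻¹ : Γ(X, W)) • (rres X (le_top : W ≤ ⊤) f • (toSecA F W).symm s)) = s
    rw [← hu, smul_smul, Units.inv_mul, one_smul]
    rfl
  · intro s
    change toSecA F W (rres X (le_top : W ≤ ⊤) f • ((↑u⁻¹ : Γ(X, W)) • (toSecA F W).symm s)) = s
    rw [← hu, smul_smul, Units.mul_inv, one_smul]
    rfl

lemma eq_zero_of_pow_smul_eq_zero (f : Γ(X, ⊤)) {W : X.Opens} (hW : W ≤ X.basicOpen f) (n : ℕ)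
    (s : SecA F W) (h : f ^ n • s = 0) : s = 0 := by
  induction n with
  | zero => simpa using h
  | succ k ih =>
    apply ih
    apply (smul_bijective_of_le_basicOpen F f hW).1
    change f • (f ^ k • s) = f • 0
    rw [smul_zero, ← mul_smul, ← pow_succ', h]

section main

variable [CompactSpace X] [QuasiSeparatedSpace X] [F.IsQuasicoherent] (fs : List Γ(X, ⊤))

/-- `U = ⋃ X_{f_i}`. -/
abbrev UU : X.Opens := ⨆ i : Fin fs.length, X.basicOpen (fs.get i)

lemma le_UU (i : Fin fs.length) : X.basicOpen (fs.get i) ≤ UU fs :=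
  le_iSup (fun i : Fin fs.length => X.basicOpen (fs.get i)) i

lemma isCompact_top' : IsCompact ((⊤ : X.Opens) : Set X) := by
  rw [Opens.coe_top]; exact isCompact_univ

lemma isCompact_UU : IsCompact ((UU fs : X.Opens) : Set X) := by
  rw [Opens.coe_iSup]
  exact isCompact_iUnion (fun i => isCompact_basicOpen X (isCompact_top' (X := X)) (fs.get i))

lemma isQS (V : X.Opens) : IsQuasiSeparated (V : Set X) :=
  (isQuasiSeparated_univ (α := X)).of_subset (Set.subset_univ _)

lemma locTop (i : Fin fs.length) :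
    IsLocSec F ⊤ (X.basicOpen (fs.get i)) le_top (fs.get i) :=
  isLocSec_of_isCompact F (isCompact_top' (X := X)) (isQS ⊤) (fs.get i) rfl le_top

lemma basicOpen_rres_UU (j : Fin fs.length) :
    X.basicOpen (fs.get j) = X.basicOpen (rres X (le_top : UU fs ≤ ⊤) (fs.get j)) := by
  have h := Scheme.basicOpen_res X (fs.get j) (homOfLE (le_top : UU fs ≤ ⊤)).op
  exact ((inf_eq_right.mpr (le_UU fs j)).symm.trans h.symm)

lemma locUU (j : Fin fs.length) :
    IsLocSec F (UU fs) (X.basicOpen (fs.get j)) (le_UU fs j)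
      (rres X (le_top : UU fs ≤ ⊤) (fs.get j)) :=
  isLocSec_of_isCompact F (isCompact_UU fs) (isQS _) _ (basicOpen_rres_UU fs j) (le_UU fs j)

/-- the module of global sections, as in the statements. -/
noncomputable abbrev M0 : ModuleCat.{u} Γ(X, ⊤) := ModuleCat.of Γ(X, ⊤) (F.val.obj (op ⊤))

/-- `∏ Γ(X_{f_i}, F)`. -/
noncomputable abbrev EE : ModuleCat.{u} Γ(X, ⊤) :=
  ModuleCat.of Γ(X, ⊤) (∀ i : Fin fs.length, SecA F (X.basicOpen (fs.get i)))

/-- global sections as elements of `SecA F ⊤`. -/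
noncomputable def topL : (F.val.obj (op ⊤)) →ₗ[Γ(X, ⊤)] SecA F ⊤ where
  toFun m := toSecA F ⊤ m
  map_add' _ _ := rfl
  map_smul' a m := by
    change toSecA F ⊤ (a • m) = toSecA F ⊤ (rres X (le_top : (⊤ : X.Opens) ≤ ⊤) a • m)
    rw [rres_self]

/-- the identification of the two spellings of the global sections. -/
noncomputable def g0 : (F.val.obj (op ⊤)) ≃+ Γ(F, ⊤) where
  toFun m := (toSecA F ⊤).symm (topL F m)
  invFun s := s
  left_inv _ := rfl
  right_inv _ := rfl
  map_add' _ _ := rfl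

lemma g0_smul (a : Γ(X, ⊤)) (m : F.val.obj (op ⊤)) : g0 F (a • m) = a • g0 F m := rfl

lemma g0_pow_smul (a : Γ(X, ⊤)) (n : ℕ) (m : F.val.obj (op ⊤)) :
    g0 F (a ^ n • m) = a ^ n • g0 F m := rfl

/-- `Γ(X, F) → ∏ Γ(X_{f_i}, F)`. -/
noncomputable def iotaL :
    (F.val.obj (op ⊤)) →ₗ[Γ(X, ⊤)] (∀ i : Fin fs.length, SecA F (X.basicOpen (fs.get i))) :=
  LinearMap.pi (fun i => (resL F (le_top : X.basicOpen (fs.get i) ≤ ⊤)) ∘ₗ topL F)

/-- `Γ(U, F) → ∏ Γ(X_{f_i}, F)`. -/
noncomputable def phiL :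
    SecA F (UU fs) →ₗ[Γ(X, ⊤)] (∀ i : Fin fs.length, SecA F (X.basicOpen (fs.get i))) :=
  LinearMap.pi (fun i => resL F (le_UU fs i))

/-- `Γ(X, F) → Γ(U, F)`. -/
noncomputable def rhoL : (F.val.obj (op ⊤)) →ₗ[Γ(X, ⊤)] SecA F (UU fs) :=
  (resL F (le_top : UU fs ≤ ⊤)) ∘ₗ topL F

lemma phiL_rhoL (m : F.val.obj (op ⊤)) : phiL F fs (rhoL F fs m) = iotaL F fs m := by
  funext i
  change resL F (le_UU fs i) (resL F (le_top : UU fs ≤ ⊤) (topL F m)) =
    resL F (le_top : X.basicOpen (fs.get i) ≤ ⊤) (topL F m)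
  rw [resL_resL]

lemma iotaL_apply (m : F.val.obj (op ⊤)) (i : Fin fs.length) :
    iotaL F fs m i = toSecA F _ (res F (le_top : X.basicOpen (fs.get i) ≤ ⊤) (g0 F m)) := rfl

lemma phiL_apply (s : Γ(F, UU fs)) (i : Fin fs.length) :
    phiL F fs (toSecA F _ s) i = toSecA F _ (res F (le_UU fs i) s) := rfl

lemma rhoL_apply (m : F.val.obj (op ⊤)) :
    rhoL F fs m = toSecA F _ (res F (le_top : UU fs ≤ ⊤) (g0 F m)) := rfl

/-- the kernel of `ι` is `(f)`-power torsion. -/
lemma ker_iota_torsion (m : F.val.obj (op ⊤)) (hm : iotaL F fs m = 0) :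
    ∀ f ∈ fs, ∃ k : ℕ, f ^ k • m = 0 := by
  intro f hf
  obtain ⟨i, rfl⟩ := List.mem_iff_get.mp hf
  have h0 : res F (le_top : X.basicOpen (fs.get i) ≤ ⊤) (g0 F m) = 0 := congrFun hm i
  obtain ⟨k, hk⟩ := (locTop F fs i).inj (g0 F m) h0
  refine ⟨k, (g0 F).injective ?_⟩
  rw [g0_pow_smul, hk, map_zero]

/-- `∏ Γ(X_{f_i}, F)` is acyclic. -/
lemma subsingleton_TT_EE (p : ℕ) : Subsingleton (TT fs (EE F fs) p) :=
  subsingleton_TT_pi fs (fun i : Fin fs.length => SecA F (X.basicOpen (fs.get i)))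
    (fun i => fs.get i) (fun i => List.get_mem _ _)
    (fun i => smul_bijective_of_le_basicOpen F (fs.get i) le_rfl) p

lemma phiL_injective : Function.Injective (phiL F fs) := by
  rw [injective_iff_map_eq_zero]
  intro s hs
  obtain ⟨s0, rfl⟩ := (toSecA F (UU fs)).surjective s
  have h0 : s0 = 0 := by
    apply TopCat.Sheaf.eq_of_locally_eq' ⟨F.presheaf, F.isSheaf⟩
      (fun i : Fin fs.length => X.basicOpen (fs.get i)) (UU fs) (fun i => homOfLE (le_UU fs i))
      le_rfl
    intro i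
    change res F (le_UU fs i) s0 = res F (le_UU fs i) 0
    rw [res_zero]
    exact congrFun hs i
  rw [h0, map_zero]

/-- every section over `U`, multiplied by a power of `f_j`, comes from a global section. -/
lemma exists_pow_smul_eq_rhoL (s : SecA F (UU fs)) (j : Fin fs.length) :
    ∃ (n : ℕ) (m : F.val.obj (op ⊤)), fs.get j ^ n • s = rhoL F fs m := by
  obtain ⟨s0, rfl⟩ := (toSecA F (UU fs)).surjective s
  obtain ⟨n, m, hm⟩ := (locTop F fs j).surj (res F (le_UU fs j) s0)
  have hs' : res F (le_UU fs j)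
      ((rres X (le_top : UU fs ≤ ⊤) (fs.get j)) ^ n • s0 - res F (le_top : UU fs ≤ ⊤) m) = 0 := by
    rw [res_sub, res_pow_smul, rres_rres, res_res, hm, sub_self]
  obtain ⟨n', hn'⟩ := (locUU F fs j).inj _ hs'
  refine ⟨n' + n, (g0 F).symm ((fs.get j) ^ n' • m), ?_⟩
  rw [rhoL_apply, pow_smul_toSecA, AddEquiv.apply_symm_apply, res_pow_smul]
  congr 1
  rw [smul_sub, sub_eq_zero, ← mul_smul, ← pow_add] at hn'
  exact hn'

/-- gluing. -/
lemma exists_phiL_eq (e : ∀ i : Fin fs.length, SecA F (X.basicOpen (fs.get i)))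
    (he : ∀ j : Fin fs.length, ∃ (n : ℕ) (m : F.val.obj (op ⊤)), fs.get j ^ n • e = iotaL F fs m) :
    ∃ s : SecA F (UU fs), phiL F fs s = e := by
  have hcompat : TopCat.Presheaf.IsCompatible F.presheaf
      (fun i : Fin fs.length => X.basicOpen (fs.get i)) (fun i => (toSecA F _).symm (e i)) := by
    intro i j
    change res F (inf_le_left : X.basicOpen (fs.get i) ⊓ X.basicOpen (fs.get j) ≤ _)
        ((toSecA F _).symm (e i)) =
      res F (inf_le_right : X.basicOpen (fs.get i) ⊓ X.basicOpen (fs.get j) ≤ _)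
        ((toSecA F _).symm (e j))
    obtain ⟨n, m, hm⟩ := he j
    have hi : (rres X (le_top : X.basicOpen (fs.get i) ≤ ⊤) (fs.get j)) ^ n •
        (toSecA F _).symm (e i) = res F (le_top : X.basicOpen (fs.get i) ≤ ⊤) (g0 F m) := by
      have := congrFun hm i
      rw [iotaL_apply] at this
      have h1 : (fs.get j ^ n • e) i = fs.get j ^ n • e i := rfl
      rw [h1, pow_smul_eq] at this
      exact (toSecA F _).injective this
    have hj : (rres X (le_top : X.basicOpen (fs.get j) ≤ ⊤) (fs.get j)) ^ n •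
        (toSecA F _).symm (e j) = res F (le_top : X.basicOpen (fs.get j) ≤ ⊤) (g0 F m) := by
      have := congrFun hm j
      rw [iotaL_apply] at this
      have h1 : (fs.get j ^ n • e) j = fs.get j ^ n • e j := rfl
      rw [h1, pow_smul_eq] at this
      exact (toSecA F _).injective this
    have hi' := congrArg (res F (inf_le_left :
      X.basicOpen (fs.get i) ⊓ X.basicOpen (fs.get j) ≤ X.basicOpen (fs.get i))) hi
    have hj' := congrArg (res F (inf_le_right :
      X.basicOpen (fs.get i) ⊓ X.basicOpen (fs.get j) ≤ X.basicOpen (fs.get j))) hj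
    rw [res_pow_smul, rres_rres, res_res] at hi' hj'
    have hu : IsUnit ((rres X (le_top : X.basicOpen (fs.get i) ⊓ X.basicOpen (fs.get j) ≤ ⊤)
        (fs.get j)) ^ n) := (isUnit_rres_of_le_basicOpen (fs.get j) inf_le_right).pow n
    exact hu.smul_left_cancel.mp (hi'.trans hj'.symm)
  obtain ⟨s, hs, -⟩ := TopCat.Sheaf.existsUnique_gluing' ⟨F.presheaf, F.isSheaf⟩
    (fun i : Fin fs.length => X.basicOpen (fs.get i)) (UU fs) (fun i => homOfLE (le_UU fs i)) le_rfl
    (fun i => (toSecA F _).symm (e i)) hcompat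
  refine ⟨toSecA F _ s, ?_⟩
  funext i
  rw [phiL_apply]
  exact congrArg (toSecA F _) (hs i)

end main

end Groth.Agent.Lib.Lead.KosGeo
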