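/-
Column-vector modules over matrix rings over a division ring: `D^n` is a simple `M_n(D)`-module with
endomorphism algebra `Dᵐᵒᵖ`; simple modules over a simple Artinian ring are all isomorphic.
(lead)
-/
import Mathlib.LinearAlgebra.Matrix.Action
import Mathlib.RingTheory.SimpleModule.WedderburnArtin
import Mathlib.RingTheory.SimpleRing.Matrix
import Mathlib.Algebra.Algebra.Equiv

set_option autoImplicit false
set_option linter.style.haveILetI false

namespace Groth.Agent.Lib.Lead.MatrixModule

universe u v w

/-- Over a simple Artinian ring all simple modules are isomorphic. -/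
theorem nonempty_linearEquiv_of_isSimpleModule (R : Type u) [Ring R] [IsSimpleRing R]
    [IsArtinianRing R] (M : Type v) (N : Type w) [AddCommGroup M] [Module R M] [AddCommGroup N]
    [Module R N] [IsSimpleModule R M] [IsSimpleModule R N] : Nonempty (M ≃ₗ[R] N) := by
  have h := IsSimpleRing.isIsotypic R (M × N)
  let m1 := LinearMap.range (LinearMap.inl R M N)
  let m2 := LinearMap.range (LinearMap.inr R M N)
  have e1 : M ≃ₗ[R] m1 := LinearEquiv.ofInjective _ LinearMap.inl_injective
  have e2 : N ≃ₗ[R] m2 := LinearEquiv.ofInjective _ LinearMap.inr_injective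
  haveI : IsSimpleModule R m1 := IsSimpleModule.congr e1.symm
  haveI : IsSimpleModule R m2 := IsSimpleModule.congr e2.symm
  obtain ⟨f⟩ := h m1 m2
  exact ⟨e1.trans (f.symm.trans e2.symm)⟩

section simple

variable {D : Type u} [DivisionRing D] {n : Type v} [Fintype n] [DecidableEq n]

/-- `D^n` is a simple module over `M_n(D)`. -/
theorem isSimpleModule_vec [Nonempty n] : IsSimpleModule (Matrix n n D) (n → D) := by
  rw [isSimpleModule_iff_toSpanSingleton_surjective]
  refine ⟨inferInstance, fun v hv w => ?_⟩
  obtain ⟨i, hi⟩ : ∃ i, v i ≠ 0 := by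
    by_contra h
    push_neg at h
    exact hv (funext h)
  refine ⟨Matrix.of fun j l => if l = i then w j * (v i)⁻¹ else 0, ?_⟩
  rw [LinearMap.toSpanSingleton_apply]
  ext j
  rw [Matrix.smul_eq_mulVec, Matrix.mulVec, dotProduct, Finset.sum_eq_single i]
  · simp [inv_mul_cancel_right₀ hi]
  · intro l _ hl; simp [hl]
  · intro h; exact absurd (Finset.mem_univ i) h

/-- Right multiplication by `d` on column vectors, as an `M_n(D)`-linear endomorphism. -/
def rmul (d : Dᵐᵒᵖ) : Module.End (Matrix n n D) (n → D) where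
  toFun v := fun j => v j * d.unop
  map_add' v w := by ext j; simp [add_mul]
  map_smul' A v := by
    ext j
    simp only [RingHom.id_apply, Matrix.smul_eq_mulVec, Matrix.mulVec, dotProduct,
      Finset.sum_mul, mul_assoc]

@[simp] theorem rmul_apply (d : Dᵐᵒᵖ) (v : n → D) (j : n) : rmul d v j = v j * d.unop := rfl

variable (k : Type w) [Field k] [Algebra k D]

/-- `Dᵐᵒᵖ → End_{M_n(D)}(D^n)` as a `k`-algebra hom. -/
def rmulAlgHom : Dᵐᵒᵖ →ₐ[k] Module.End (Matrix n n D) (n → D) where
  toFun := rmul
  map_one' := by ext v j; simp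
  map_mul' a b := by ext v j; simp [mul_assoc]
  map_zero' := by ext v j; simp
  map_add' a b := by ext v j; simp [mul_add]
  commutes' c := by
    ext v j
    simp [Algebra.smul_def, Algebra.commutes]

theorem rmulAlgHom_bijective [Nonempty n] :
    Function.Bijective (rmulAlgHom (D := D) (n := n) k) := by
  obtain ⟨i₀⟩ := ‹Nonempty n›
  constructor
  · intro a b hab
    have := congrFun (LinearMap.congr_fun hab (Pi.single i₀ 1)) i₀
    simp only [rmulAlgHom, AlgHom.coe_mk, RingHom.coe_mk, MonoidHom.coe_mk, OneHom.coe_mk,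
      rmul_apply, Pi.single_eq_same, one_mul] at this
    exact MulOpposite.unop_injective this
  · intro f
    refine ⟨MulOpposite.op (f (Pi.single i₀ 1) i₀), ?_⟩
    apply LinearMap.ext
    intro v
    set A : Matrix n n D := Matrix.of fun j l => if l = i₀ then v j else 0 with hA
    have hv : v = A • (Pi.single i₀ (1 : D) : n → D) := by
      ext j
      rw [Matrix.smul_eq_mulVec, Matrix.mulVec_single_one]
      simp [hA]
    conv_rhs => rw [hv, map_smul]
    ext j
    rw [Matrix.smul_eq_mulVec, Matrix.mulVec, dotProduct, Finset.sum_eq_single i₀]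
    · simp [rmulAlgHom, hA]
    · intro l _ hl; simp [hA, hl]
    · intro h; exact absurd (Finset.mem_univ _) h

/-- `Dᵐᵒᵖ ≃ₐ[k] End_{M_n(D)}(D^n)`. -/
noncomputable def endEquiv [Nonempty n] : Dᵐᵒᵖ ≃ₐ[k] Module.End (Matrix n n D) (n → D) :=
  AlgEquiv.ofBijective (rmulAlgHom k) (rmulAlgHom_bijective k)

end simple

end Groth.Agent.Lib.Lead.MatrixModule
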