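/-
Lib/Lead/CSA.lean -- first steps of the theory of central simple algebras over a field:
sub-bimodules of `M ⊗[k] B` for `B` central simple are generated by their elements `m ⊗ 1`.
-/
import Mathlib.Algebra.Central.Defs
import Mathlib.RingTheory.SimpleRing.Basic
import Mathlib.RingTheory.TwoSidedIdeal.Operations
import Mathlib.LinearAlgebra.TensorProduct.Basis
import Mathlib.LinearAlgebra.TensorProduct.RightExactness
import Mathlib.LinearAlgebra.Basis.VectorSpace
import Mathlib.RingTheory.TensorProduct.Basic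
import Mathlib.RingTheory.Flat.Basic

set_option autoImplicit false
universe u v w

namespace Groth.Agent.Lib.Lead.CSA

open TensorProduct

section bimodule

variable {k : Type u} [Field k] {M : Type v} [AddCommGroup M] [Module k M]
  {B : Type w} [Ring B] [Algebra k B]

/-- Left multiplication by `c` on the second factor of `M ⊗[k] B`. -/
noncomputable def Lc (M : Type v) [AddCommGroup M] [Module k M] (c : B) :
    M ⊗[k] B →ₗ[k] M ⊗[k] B := LinearMap.lTensor M (LinearMap.mulLeft k c)

/-- Right multiplication by `c` on the second factor of `M ⊗[k] B`. -/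
noncomputable def Rc (M : Type v) [AddCommGroup M] [Module k M] (c : B) :
    M ⊗[k] B →ₗ[k] M ⊗[k] B := LinearMap.lTensor M (LinearMap.mulRight k c)

@[simp] theorem Lc_tmul (c : B) (m : M) (b : B) : Lc M c (m ⊗ₜ[k] b) = m ⊗ₜ[k] (c * b) := by
  simp [Lc]

@[simp] theorem Rc_tmul (c : B) (m : M) (b : B) : Rc M c (m ⊗ₜ[k] b) = m ⊗ₜ[k] (b * c) := by
  simp [Rc]

variable {ι : Type*} [DecidableEq ι] (ℬ : Module.Basis ι k M)

theorem coeff_Lc (c : B) (x : M ⊗[k] B) (i : ι) :
    equivFinsuppOfBasisLeft ℬ (Lc M c x) i = c * equivFinsuppOfBasisLeft ℬ x i := by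
  induction x using TensorProduct.induction_on with
  | zero => simp
  | tmul a b =>
    rw [Lc_tmul, equivFinsuppOfBasisLeft_apply_tmul_apply, equivFinsuppOfBasisLeft_apply_tmul_apply,
      mul_smul_comm]
  | add x y hx hy =>
    rw [map_add, map_add, map_add, Finsupp.add_apply, Finsupp.add_apply, hx, hy, mul_add]

theorem coeff_Rc (c : B) (x : M ⊗[k] B) (i : ι) :
    equivFinsuppOfBasisLeft ℬ (Rc M c x) i = equivFinsuppOfBasisLeft ℬ x i * c := by
  induction x using TensorProduct.induction_on with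
  | zero => simp
  | tmul a b =>
    rw [Rc_tmul, equivFinsuppOfBasisLeft_apply_tmul_apply, equivFinsuppOfBasisLeft_apply_tmul_apply,
      smul_mul_assoc]
  | add x y hx hy =>
    rw [map_add, map_add, map_add, Finsupp.add_apply, Finsupp.add_apply, hx, hy, add_mul]

/-- **Key lemma.** Let `B` be a central simple `k`-algebra and `M` a `k`-vector space. A nonzero
`k`-subspace of `M ⊗[k] B` stable under left and right multiplication by `B` on the second factor
contains a nonzero element of the form `m ⊗ 1`. -/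
theorem exists_tmul_one_mem [IsSimpleRing B] [Algebra.IsCentral k B]
    (N : Submodule k (M ⊗[k] B))
    (hL : ∀ (c : B) (x : M ⊗[k] B), x ∈ N → Lc M c x ∈ N)
    (hR : ∀ (c : B) (x : M ⊗[k] B), x ∈ N → Rc M c x ∈ N)
    (hN : N ≠ ⊥) : ∃ m : M, m ≠ 0 ∧ m ⊗ₜ[k] (1 : B) ∈ N := by
  classical
  haveI : Nontrivial B := inferInstance
  let ℬ := Module.Basis.ofVectorSpace k M
  let Φ := equivFinsuppOfBasisLeft (N := B) ℬ
  obtain ⟨x₀, hx₀N, hx₀⟩ : ∃ x ∈ N, x ≠ 0 := by
    by_contra h
    push_neg at h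
    exact hN ((Submodule.eq_bot_iff N).2 h)
  have hP : ∃ n : ℕ, ∃ x ∈ N, x ≠ 0 ∧ (Φ x).support.card = n := ⟨_, x₀, hx₀N, hx₀, rfl⟩
  obtain ⟨x, hxN, hx, hxn⟩ := Nat.find_spec hP
  have hmin : ∀ y ∈ N, y ≠ 0 → (Φ x).support.card ≤ (Φ y).support.card := by
    intro y hyN hy
    rw [hxn]
    exact Nat.find_min' hP ⟨y, hyN, hy, rfl⟩
  have hΦx : Φ x ≠ 0 := (LinearEquiv.map_ne_zero_iff Φ).2 hx
  obtain ⟨i₀, hi₀⟩ := Finsupp.support_nonempty_iff.2 hΦx
  -- the two-sided ideal of possible `i₀`-coefficients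
  let S : TwoSidedIdeal B := TwoSidedIdeal.mk'
    {b | ∃ y ∈ N, (Φ y).support ⊆ (Φ x).support ∧ Φ y i₀ = b}
    ⟨0, N.zero_mem, by simp, by simp⟩
    (by
      rintro b b' ⟨y, hy, hys, rfl⟩ ⟨y', hy', hys', rfl⟩
      refine ⟨y + y', N.add_mem hy hy', ?_, by simp⟩
      rw [map_add]
      exact Finsupp.support_add.trans (Finset.union_subset hys hys'))
    (by
      rintro b ⟨y, hy, hys, rfl⟩
      refine ⟨-y, N.neg_mem hy, ?_, by simp⟩
      rw [map_neg, Finsupp.support_neg]
      exact hys)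
    (by
      rintro c b ⟨y, hy, hys, rfl⟩
      refine ⟨Lc M c y, hL c y hy, ?_, coeff_Lc ℬ c y i₀⟩
      intro i hi
      rw [Finsupp.mem_support_iff] at hi
      refine hys (Finsupp.mem_support_iff.2 fun h0 => hi ?_)
      change equivFinsuppOfBasisLeft ℬ (Lc M c y) i = 0
      rw [coeff_Lc]
      change c * Φ y i = 0
      rw [h0, mul_zero])
    (by
      rintro b c ⟨y, hy, hys, rfl⟩
      refine ⟨Rc M c y, hR c y hy, ?_, coeff_Rc ℬ c y i₀⟩
      intro i hi
      rw [Finsupp.mem_support_iff] at hi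
      refine hys (Finsupp.mem_support_iff.2 fun h0 => hi ?_)
      change equivFinsuppOfBasisLeft ℬ (Rc M c y) i = 0
      rw [coeff_Rc]
      change Φ y i * c = 0
      rw [h0, zero_mul])
  have hb₀ : Φ x i₀ ∈ S := (TwoSidedIdeal.mem_mk' _ _ _ _ _ _ _).2 ⟨x, hxN, subset_rfl, rfl⟩
  have hb₀ne : Φ x i₀ ≠ 0 := Finsupp.mem_support_iff.1 hi₀
  have h1 : (1 : B) ∈ S := IsSimpleRing.one_mem_of_ne_zero_mem S hb₀ne hb₀
  obtain ⟨y, hyN, hysupp, hy1⟩ := (TwoSidedIdeal.mem_mk' _ _ _ _ _ _ _).1 h1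
  have hy : y ≠ 0 := by
    rintro rfl
    rw [map_zero, Finsupp.zero_apply] at hy1
    exact zero_ne_one hy1
  -- commutators vanish by minimality
  have hcomm : ∀ c : B, Lc M c y - Rc M c y = 0 := by
    intro c
    by_contra hz
    have hzN : Lc M c y - Rc M c y ∈ N := N.sub_mem (hL c y hyN) (hR c y hyN)
    have hzi : ∀ i, Φ (Lc M c y - Rc M c y) i = c * Φ y i - Φ y i * c := by
      intro i
      rw [map_sub, Finsupp.sub_apply]
      change equivFinsuppOfBasisLeft ℬ (Lc M c y) i - equivFinsuppOfBasisLeft ℬ (Rc M c y) i = _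
      rw [coeff_Lc, coeff_Rc]
    have hzsupp : (Φ (Lc M c y - Rc M c y)).support ⊆ (Φ x).support.erase i₀ := by
      intro i hi
      rw [Finsupp.mem_support_iff, hzi] at hi
      rw [Finset.mem_erase]
      refine ⟨?_, hysupp (Finsupp.mem_support_iff.2 fun h0 => hi ?_)⟩
      · rintro rfl
        apply hi
        rw [hy1, mul_one, one_mul, sub_self]
      · rw [h0, mul_zero, zero_mul, sub_zero]
    have h1 := hmin _ hzN hz
    have h2 : ((Φ x).support.erase i₀).card < (Φ x).support.card :=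
      Finset.card_erase_lt_of_mem hi₀
    have h3 := Finset.card_le_card hzsupp
    omega
  have hcentral : ∀ i, ∃ r : k, algebraMap k B r = Φ y i := by
    intro i
    have hmem : Φ y i ∈ Subalgebra.center k B := by
      rw [Subalgebra.mem_center_iff]
      intro c
      have h := congrArg (fun t => Φ t i) (hcomm c)
      simp only [map_zero, Finsupp.zero_apply] at h
      rw [map_sub, Finsupp.sub_apply] at h
      change equivFinsuppOfBasisLeft ℬ (Lc M c y) i - equivFinsuppOfBasisLeft ℬ (Rc M c y) i = 0 at h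
      rw [coeff_Lc, coeff_Rc] at h
      exact sub_eq_zero.1 h
    have := Algebra.IsCentral.out hmem
    rwa [Algebra.mem_bot] at this
  choose r hr using hcentral
  have hya : y = (∑ i ∈ (Φ y).support, r i • ℬ i) ⊗ₜ[k] (1 : B) := by
    conv_lhs => rw [← Φ.symm_apply_apply y]
    change (equivFinsuppOfBasisLeft ℬ).symm (Φ y) = _
    rw [equivFinsuppOfBasisLeft_symm_apply, Finsupp.sum, TensorProduct.sum_tmul]
    refine Finset.sum_congr rfl fun i _ => ?_
    rw [← hr i, Algebra.algebraMap_eq_smul_one, TensorProduct.smul_tmul]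
  refine ⟨∑ i ∈ (Φ y).support, r i • ℬ i, ?_, ?_⟩
  · intro ha
    apply hy
    rw [hya, ha, zero_tmul]
  · rw [← hya]
    exact hyN

end bimodule

section algebra

variable {k : Type u} [Field k] {A : Type v} [Ring A] [Algebra k A]
  {B : Type w} [Ring B] [Algebra k B]

theorem one_tmul_mul (c : B) (x : A ⊗[k] B) : (1 ⊗ₜ[k] c) * x = Lc A c x := by
  induction x using TensorProduct.induction_on with
  | zero => simp
  | tmul a b => rw [Algebra.TensorProduct.tmul_mul_tmul, one_mul, Lc_tmul]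
  | add x y hx hy => rw [mul_add, map_add, hx, hy]

theorem mul_one_tmul (c : B) (x : A ⊗[k] B) : x * (1 ⊗ₜ[k] c) = Rc A c x := by
  induction x using TensorProduct.induction_on with
  | zero => simp
  | tmul a b => rw [Algebra.TensorProduct.tmul_mul_tmul, mul_one, Rc_tmul]
  | add x y hx hy => rw [add_mul, map_add, hx, hy]

/-- A two-sided ideal of a `k`-algebra, as a `k`-subspace. -/
def toSubmodule {R : Type*} [Ring R] [Algebra k R] (I : TwoSidedIdeal R) : Submodule k R where
  carrier := {x | x ∈ I}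
  add_mem' := fun hx hy => I.add_mem hx hy
  zero_mem' := I.zero_mem
  smul_mem' := fun r x hx => by
    change r • x ∈ I
    rw [Algebra.smul_def]
    exact I.mul_mem_left _ _ hx

@[simp] theorem mem_toSubmodule {R : Type*} [Ring R] [Algebra k R] (I : TwoSidedIdeal R) (x : R) :
    x ∈ toSubmodule (k := k) I ↔ x ∈ I := Iff.rfl

/-- A nonzero two-sided ideal of `A ⊗[k] B`, `B` central simple, contains a nonzero `a ⊗ 1`. -/
theorem exists_tmul_one_mem_ideal [IsSimpleRing B] [Algebra.IsCentral k B]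
    (I : TwoSidedIdeal (A ⊗[k] B)) (hI : I ≠ ⊥) : ∃ a : A, a ≠ 0 ∧ a ⊗ₜ[k] (1 : B) ∈ I := by
  refine exists_tmul_one_mem (toSubmodule (k := k) I) ?_ ?_ ?_
  · intro c x hx
    rw [← one_tmul_mul]
    exact I.mul_mem_left _ _ hx
  · intro c x hx
    rw [← mul_one_tmul]
    exact I.mul_mem_right _ _ hx
  · intro h
    apply hI
    rw [eq_bot_iff]
    intro x hx
    have : x ∈ toSubmodule (k := k) I := hx
    rw [h, Submodule.mem_bot] at this
    rw [this]
    exact (⊥ : TwoSidedIdeal (A ⊗[k] B)).zero_mem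

/-- The two-sided ideal `{a | a ⊗ 1 ∈ I}` of `A`. -/
def contract (I : TwoSidedIdeal (A ⊗[k] B)) : TwoSidedIdeal A :=
  TwoSidedIdeal.mk' {a | a ⊗ₜ[k] (1 : B) ∈ I}
    (by simp [I.zero_mem])
    (by
      intro a a' ha ha'
      change (a + a') ⊗ₜ[k] (1 : B) ∈ I
      rw [add_tmul]
      exact I.add_mem ha ha')
    (by
      intro a ha
      change (-a) ⊗ₜ[k] (1 : B) ∈ I
      rw [neg_tmul]
      exact I.neg_mem ha)
    (by
      intro x a ha
      change (x * a) ⊗ₜ[k] (1 : B) ∈ I
      have : (x * a) ⊗ₜ[k] (1 : B) = (x ⊗ₜ[k] (1 : B)) * (a ⊗ₜ[k] (1 : B)) := by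
        rw [Algebra.TensorProduct.tmul_mul_tmul, mul_one]
      rw [this]
      exact I.mul_mem_left _ _ ha)
    (by
      intro a x ha
      change (a * x) ⊗ₜ[k] (1 : B) ∈ I
      have : (a * x) ⊗ₜ[k] (1 : B) = (a ⊗ₜ[k] (1 : B)) * (x ⊗ₜ[k] (1 : B)) := by
        rw [Algebra.TensorProduct.tmul_mul_tmul, mul_one]
      rw [this]
      exact I.mul_mem_right _ _ ha)

@[simp] theorem mem_contract (I : TwoSidedIdeal (A ⊗[k] B)) (a : A) :
    a ∈ contract I ↔ a ⊗ₜ[k] (1 : B) ∈ I := by
  simp [contract]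

theorem nontrivial_tensor [Nontrivial A] [Nontrivial B] : Nontrivial (A ⊗[k] B) := by
  have hinj : Function.Injective (Algebra.TensorProduct.includeLeft : A →ₐ[k] A ⊗[k] B) :=
    Algebra.TensorProduct.includeLeft_injective (algebraMap k B).injective
  exact hinj.nontrivial

/-- The tensor product of a simple algebra with a central simple algebra is simple. -/
theorem isSimpleRing_tensor [IsSimpleRing A] [IsSimpleRing B] [Algebra.IsCentral k B] :
    IsSimpleRing (A ⊗[k] B) := by
  haveI : Nontrivial (A ⊗[k] B) := nontrivial_tensor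
  refine IsSimpleRing.of_eq_bot_or_eq_top fun I => ?_
  by_cases hI : I = ⊥
  · exact Or.inl hI
  · right
    obtain ⟨a, ha, haI⟩ := exists_tmul_one_mem_ideal I hI
    have h1 : (1 : A) ∈ contract I :=
      IsSimpleRing.one_mem_of_ne_zero_mem (contract I) ha ((mem_contract I a).2 haI)
    have h2 : (1 : A ⊗[k] B) ∈ I := by
      rw [Algebra.TensorProduct.one_def]
      exact (mem_contract I 1).1 h1
    exact (TwoSidedIdeal.one_mem_iff I).1 h2

end algebra

end Groth.Agent.Lib.Lead.CSA
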