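/-
Lib/Lead/SkolemNoether.lean -- modules over simple Artinian algebras are classified by dimension;
the Skolem–Noether theorem.
-/
import Groth.Agent.Lib.Lead.CSA
import Mathlib.RingTheory.SimpleModule.WedderburnArtin
import Mathlib.LinearAlgebra.Dimension.Constructions
import Mathlib.LinearAlgebra.FiniteDimensional.Basic
import Mathlib.Algebra.Algebra.Bilinear
import Mathlib.Algebra.Module.Opposite
import Mathlib.RingTheory.Finiteness.Basic

set_option autoImplicit false
universe u v w w'

namespace Groth.Agent.Lib.Lead.CSA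

open TensorProduct

section classify

variable {k : Type u} [Field k] {R : Type v} [Ring R] [Algebra k R]
  [IsSimpleRing R] [IsArtinianRing R]
  {M : Type w} [AddCommGroup M] [Module k M] [Module R M] [IsScalarTower k R M]
  {N : Type w'} [AddCommGroup N] [Module k N] [Module R N] [IsScalarTower k R N]

/-- Over a simple Artinian `k`-algebra, two finite-dimensional modules of the same `k`-dimension are
isomorphic. -/
theorem nonempty_linearEquiv_of_finrank_eq [FiniteDimensional k M] [FiniteDimensional k N]
    (h : Module.finrank k M = Module.finrank k N) : Nonempty (M ≃ₗ[R] N) := by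
  classical
  by_cases hM : Subsingleton M
  · have hN : Subsingleton N := by
      rw [← Module.finrank_zero_iff (R := k), ← h, Module.finrank_zero_iff]
      exact hM
    exact ⟨{ toFun := fun _ => 0, invFun := fun _ => 0, map_add' := by simp, map_smul' := by simp,
             left_inv := fun _ => Subsingleton.elim _ _, right_inv := fun _ => Subsingleton.elim _ _ }⟩
  · rw [not_subsingleton_iff_nontrivial] at hM
    haveI : Module.Finite R M := Module.Finite.of_restrictScalars_finite k R M
    haveI : Module.Finite R N := Module.Finite.of_restrictScalars_finite k R N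
    haveI : Nontrivial (M × N) := inferInstance
    obtain ⟨S, hS⟩ := IsAtomic.exists_atom (Submodule R (M × N))
    rw [← isSimpleModule_iff_isAtom] at hS
    have hP := IsSimpleRing.isIsotypic R (M × N) S
    have hMS : IsIsotypicOfType R M S :=
      hP.of_injective (LinearMap.inl R M N) LinearMap.inl_injective
    have hNS : IsIsotypicOfType R N S :=
      hP.of_injective (LinearMap.inr R M N) LinearMap.inr_injective
    obtain ⟨n, ⟨e⟩⟩ := hMS.linearEquiv_fun
    obtain ⟨m, ⟨e'⟩⟩ := hNS.linearEquiv_fun
    haveI : Module.Finite k S :=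
      Module.Finite.of_injective (S.subtype.restrictScalars k) S.injective_subtype
    haveI : Nontrivial S := IsSimpleModule.nontrivial R S
    have hpos : 0 < Module.finrank k S := Module.finrank_pos
    have h1 : Module.finrank k M = n * Module.finrank k S := by
      rw [LinearEquiv.finrank_eq (e.restrictScalars k), Module.finrank_pi_fintype]
      simp
    have h2 : Module.finrank k N = m * Module.finrank k S := by
      rw [LinearEquiv.finrank_eq (e'.restrictScalars k), Module.finrank_pi_fintype]
      simp
    have hnm : n = m := by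
      have : n * Module.finrank k S = m * Module.finrank k S := by rw [← h1, ← h2, h]
      exact Nat.eq_of_mul_eq_mul_right hpos this
    subst hnm
    exact ⟨e.trans e'.symm⟩

end classify

section skolem

variable {k : Type u} [Field k] {A : Type v} [Ring A] [Algebra k A] {B : Type w} [Ring B]
  [Algebra k B]

instance isCentral_mop [Algebra.IsCentral k A] : Algebra.IsCentral k Aᵐᵒᵖ := by
  constructor
  intro x hx
  rw [Subalgebra.mem_center_iff] at hx
  have hmem : MulOpposite.unop x ∈ Subalgebra.center k A := by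
    rw [Subalgebra.mem_center_iff]
    intro b
    have h := congrArg MulOpposite.unop (hx (MulOpposite.op b))
    simpa using h.symm
  obtain ⟨r, hr⟩ := Algebra.mem_bot.1 (Algebra.IsCentral.out hmem)
  rw [Algebra.mem_bot]
  refine ⟨r, ?_⟩
  apply MulOpposite.unop_injective
  rw [← hr]
  rfl

/-- Right multiplication, as an algebra map from the opposite algebra. -/
noncomputable def rmulOp (k : Type u) [Field k] (A : Type v) [Ring A] [Algebra k A] :
    Aᵐᵒᵖ →ₐ[k] Module.End k A :=
  AlgHom.ofLinearMap
    ((LinearMap.mul k A).flip ∘ₗ (MulOpposite.opLinearEquiv k).symm.toLinearMap)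
    (by ext v; simp)
    (by intro x y; ext v; simp [mul_assoc])

@[simp] theorem rmulOp_apply (a : Aᵐᵒᵖ) (v : A) : rmulOp k A a v = v * MulOpposite.unop a := by
  simp [rmulOp]

/-- The action of `B ⊗ Aᵒᵖ` on `A` through an algebra map `φ : B → A`:
`(b ⊗ a) • v = φ b * v * a`. -/
noncomputable def rep (φ : B →ₐ[k] A) : B ⊗[k] Aᵐᵒᵖ →ₐ[k] Module.End k A :=
  Algebra.TensorProduct.lift ((Algebra.lmul k A).comp φ) (rmulOp k A)
    (fun b a => by
      rw [commute_iff_eq]
      ext v
      simp [mul_assoc])

@[simp] theorem rep_tmul (φ : B →ₐ[k] A) (b : B) (a : Aᵐᵒᵖ) (v : A) :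
    rep φ (b ⊗ₜ[k] a) v = φ b * v * MulOpposite.unop a := by
  simp [rep, mul_assoc]

/-- `A` with the `B ⊗ Aᵒᵖ`-module structure given by `φ`. -/
def Twist (_φ : B →ₐ[k] A) : Type v := A

noncomputable instance (φ : B →ₐ[k] A) : AddCommGroup (Twist φ) := inferInstanceAs (AddCommGroup A)
noncomputable instance (φ : B →ₐ[k] A) : Module k (Twist φ) := inferInstanceAs (Module k A)
noncomputable instance (φ : B →ₐ[k] A) : Module (B ⊗[k] Aᵐᵒᵖ) (Twist φ) :=
  Module.compHom A (rep φ).toRingHom

theorem twist_smul_def (φ : B →ₐ[k] A) (r : B ⊗[k] Aᵐᵒᵖ) (v : Twist φ) :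
    r • v = (rep φ r) (show A from v) := rfl

instance (φ : B →ₐ[k] A) : IsScalarTower k (B ⊗[k] Aᵐᵒᵖ) (Twist φ) := by
  constructor
  intro c r v
  rw [twist_smul_def, twist_smul_def, map_smul]
  rfl

instance (φ : B →ₐ[k] A) [FiniteDimensional k A] : FiniteDimensional k (Twist φ) :=
  inferInstanceAs (FiniteDimensional k A)

/-- View an element of `A` in `Twist φ`. -/
def Twist.mk (φ : B →ₐ[k] A) (a : A) : Twist φ := a

/-- View an element of `Twist φ` in `A`. -/
def Twist.val {φ : B →ₐ[k] A} (v : Twist φ) : A := v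

@[simp] theorem Twist.val_mk (φ : B →ₐ[k] A) (a : A) : (Twist.mk φ a).val = a := rfl

theorem Twist.val_injective (φ : B →ₐ[k] A) : Function.Injective (Twist.val (φ := φ)) :=
  fun _ _ h => h

theorem Twist.val_smul_tmul (φ : B →ₐ[k] A) (b : B) (a : Aᵐᵒᵖ) (v : Twist φ) :
    ((b ⊗ₜ[k] a) • v).val = φ b * v.val * MulOpposite.unop a := by
  rw [twist_smul_def]
  exact rep_tmul φ b a v

/-- **Skolem–Noether**, in the form `x * f b = g b * x` for a unit `x`. -/
theorem skolem_noether_aux [Algebra.IsCentral k A] [IsSimpleRing A] [FiniteDimensional k A]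
    [IsSimpleRing B] (f g : B →ₐ[k] A) :
    ∃ x : Aˣ, ∀ b : B, (x : A) * f b = g b * (x : A) := by
  haveI : FiniteDimensional k B :=
    FiniteDimensional.of_injective f.toLinearMap (RingHom.injective f.toRingHom)
  haveI : IsSimpleRing (B ⊗[k] Aᵐᵒᵖ) := isSimpleRing_tensor
  haveI : IsArtinianRing (B ⊗[k] Aᵐᵒᵖ) := IsArtinianRing.of_finite k _
  have he' : Nonempty (Twist f ≃ₗ[B ⊗[k] Aᵐᵒᵖ] Twist g) :=
    nonempty_linearEquiv_of_finrank_eq (k := k) (R := B ⊗[k] Aᵐᵒᵖ)
      (M := Twist f) (N := Twist g) rfl
  obtain ⟨e⟩ := he'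
  have he : ∀ v : A, (e (Twist.mk f v)).val = (e (Twist.mk f 1)).val * v := by
    intro v
    have h1 : Twist.mk f v = ((1 : B) ⊗ₜ[k] MulOpposite.op v) • Twist.mk f 1 := by
      apply Twist.val_injective
      rw [Twist.val_smul_tmul]
      simp
    rw [h1, map_smul, Twist.val_smul_tmul]
    simp
  have hfb : ∀ b : B, (e (Twist.mk f 1)).val * f b = g b * (e (Twist.mk f 1)).val := by
    intro b
    have h1 : Twist.mk f (f b) = (b ⊗ₜ[k] MulOpposite.op (1 : A)) • Twist.mk f 1 := by
      apply Twist.val_injective
      rw [Twist.val_smul_tmul]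
      simp
    have h2 := he (f b)
    rw [h1, map_smul, Twist.val_smul_tmul] at h2
    simpa using h2.symm
  obtain ⟨y, hy⟩ := e.surjective (Twist.mk g 1)
  have hxy : (e (Twist.mk f 1)).val * y.val = 1 := by
    have := he y.val
    rw [← this]
    change (e y).val = 1
    rw [hy]
    rfl
  have hyx : y.val * (e (Twist.mk f 1)).val = 1 := by
    have h3 : e (Twist.mk f (y.val * (e (Twist.mk f 1)).val)) = e (Twist.mk f 1) := by
      apply Twist.val_injective
      rw [he, ← mul_assoc, hxy, one_mul]
    exact congrArg Twist.val (e.injective h3)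
  exact ⟨⟨(e (Twist.mk f 1)).val, y.val, hxy, hyx⟩, hfb⟩

/-- **Skolem–Noether**: two algebra maps from a simple algebra into a finite central simple algebra
differ by conjugation by a unit. -/
theorem skolem_noether [Algebra.IsCentral k A] [IsSimpleRing A] [FiniteDimensional k A]
    [IsSimpleRing B] (f g : B →ₐ[k] A) :
    ∃ x : Aˣ, ∀ b : B, f b = (x : A) * g b * ((x⁻¹ : Aˣ) : A) := by
  obtain ⟨x, hx⟩ := skolem_noether_aux g f
  refine ⟨x, fun b => ?_⟩
  rw [hx b, mul_assoc, Units.mul_inv, mul_one]

end skolem

end Groth.Agent.Lib.Lead.CSA
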