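/-
Splitting fields of central simple algebras: base change of a central algebra is central, and a
central simple algebra of dimension `m^2` is split by `K` as soon as it admits a `k`-algebra map to a
`K`-algebra of `K`-dimension `m^2` (e.g. `M_m(K)` or `End_K(V)`, `dim V = m`).  (lead)
-/
import Groth.Agent.Lib.Lead.CSA
import Groth.Prelude.Def_Curves
import Mathlib.LinearAlgebra.Matrix.ToLin
import Mathlib.Algebra.Central.Basic
import Mathlib.Algebra.Central.Matrix
import Mathlib.Algebra.Central.TensorProduct
import Mathlib.RingTheory.Congruence.Basic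
import Mathlib.RingTheory.SimpleRing.Congr
import Mathlib.RingTheory.SimpleRing.Matrix
import Mathlib.LinearAlgebra.Dimension.Free
import Mathlib.LinearAlgebra.Dimension.Constructions
import Mathlib.LinearAlgebra.FiniteDimensional.Lemmas

set_option autoImplicit false
set_option linter.style.haveILetI false

namespace Groth.Agent.Lib.Lead.Split

open TensorProduct

universe u v w w'

section central

variable {k : Type u} [Field k] {A : Type v} [Ring A] [Algebra k A]

/-- Base change of a central algebra over a field to a field extension is central. -/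
theorem isCentral_baseChange (K : Type w) [Field K] [Algebra k K] [Algebra.IsCentral k A] :
    Algebra.IsCentral K (K ⊗[k] A) := by
  classical
  refine ⟨fun z hz => ?_⟩
  rw [Subalgebra.mem_center_iff] at hz
  let ℬ := Module.Free.chooseBasis k K
  set c := equivFinsuppOfBasisLeft ℬ z with hc
  have hcomm : ∀ (a : A) i, a * c i = c i * a := by
    intro a i
    have h := hz ((1 : K) ⊗ₜ[k] a)
    rw [CSA.one_tmul_mul, CSA.mul_one_tmul] at h
    have h2 := congrArg (fun y => equivFinsuppOfBasisLeft ℬ y i) h
    simp only [CSA.coeff_Lc, CSA.coeff_Rc] at h2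
    exact h2
  have hcen : ∀ i, ∃ t : k, c i = algebraMap k A t := fun i =>
    (Algebra.IsCentral.mem_center_iff k).1 (Subalgebra.mem_center_iff.2 (fun a => hcomm a i))
  let g : A → k := fun a =>
    if h : ∃ t : k, a = algebraMap k A t then (if a = 0 then 0 else h.choose) else 0
  have hg0 : g 0 = 0 := by simp [g]
  have hg : ∀ i, algebraMap k A (g (c i)) = c i := by
    intro i
    by_cases h0 : c i = 0
    · rw [h0, hg0, map_zero]
    · have h := hcen i
      simp only [g, dif_pos h, if_neg h0]
      exact h.choose_spec.symm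
  let κ : K := ℬ.repr.symm (c.mapRange g hg0)
  have hz' : z = κ ⊗ₜ[k] (1 : A) := by
    apply (equivFinsuppOfBasisLeft ℬ).injective
    ext i
    rw [← hc, equivFinsuppOfBasisLeft_apply_tmul_apply]
    simp only [κ, LinearEquiv.apply_symm_apply, Finsupp.mapRange_apply]
    rw [← Algebra.algebraMap_eq_smul_one, hg]
  rw [hz']
  exact Algebra.mem_bot.2 ⟨κ, rfl⟩

/-- If a matrix algebra of positive size over `D` is central, so is `D`. -/
theorem isCentral_of_matrix {K : Type u} [Field K] {D : Type v} [Ring D] [Algebra K D]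
    {n : Type w} [Fintype n] [DecidableEq n] [Nonempty n]
    [h : Algebra.IsCentral K (Matrix n n D)] : Algebra.IsCentral K D := by
  refine ⟨fun z hz => ?_⟩
  have h1 : Matrix.scalarAlgHom n K z ∈ Subalgebra.center K (Matrix n n D) := by
    rw [Matrix.subalgebraCenter_eq_scalarAlgHom_map]
    exact ⟨z, hz, rfl⟩
  obtain ⟨t, ht⟩ := (Algebra.IsCentral.mem_center_iff K).1 h1
  obtain ⟨i⟩ := ‹Nonempty n›
  have h2 := congrFun (congrFun ht i) i
  simp [Matrix.algebraMap_matrix_apply] at h2
  exact Algebra.mem_bot.2 ⟨t, h2.symm⟩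

end central

section descent

variable {k : Type u} [Field k] {A : Type v} [Ring A] [Algebra k A] {K : Type w} [Field K]
  [Algebra k K]

theorem finrank_of_splits_equiv {n : ℕ} (e : K ⊗[k] A ≃ₐ[K] Matrix (Fin n) (Fin n) K) :
    Module.finrank k A = n ^ 2 := by
  rw [← Module.finrank_baseChange (R := K) (S := k) (M' := A),
    LinearEquiv.finrank_eq e.toLinearEquiv, Module.finrank_matrix]
  simp [sq]

/-- An algebra split by a field extension is finite central simple. -/
theorem csa_of_splits (h : Curves.Splits k A K) :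
    Algebra.IsCentral k A ∧ IsSimpleRing A ∧ FiniteDimensional k A := by
  classical
  obtain ⟨n, hn, ⟨e⟩⟩ := h
  haveI : Nonempty (Fin n) := ⟨⟨0, Nat.pos_of_ne_zero hn⟩⟩
  have hfr : Module.finrank k A = n ^ 2 := finrank_of_splits_equiv e
  have hpos : 0 < Module.finrank k A := by
    rw [hfr]; exact Nat.pos_of_ne_zero (pow_ne_zero 2 hn)
  haveI hfin : Module.Finite k A := Module.finite_of_finrank_pos hpos
  haveI : Nontrivial A := Module.nontrivial_of_finrank_pos hpos
  haveI hsK : IsSimpleRing (K ⊗[k] A) := IsSimpleRing.of_ringEquiv e.symm.toRingEquiv inferInstance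
  haveI hcK : Algebra.IsCentral K (K ⊗[k] A) := ⟨fun z hz => by
    have h1 : e z ∈ Subalgebra.center K (Matrix (Fin n) (Fin n) K) := by
      rw [Subalgebra.mem_center_iff] at hz ⊢
      intro b
      have h2 := congrArg e (hz (e.symm b))
      simpa using h2
    obtain ⟨κ, hκ⟩ := (Algebra.IsCentral.mem_center_iff K).1 h1
    refine Algebra.mem_bot.2 ⟨κ, ?_⟩
    apply e.injective
    rw [hκ, AlgEquiv.commutes]⟩
  have hincl : Function.Injective (Algebra.TensorProduct.includeRight : A →ₐ[k] K ⊗[k] A) :=
    Algebra.TensorProduct.includeRight_injective (algebraMap k K).injective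
  refine ⟨⟨fun a ha => ?_⟩, ?_, hfin⟩
  · have h1 : (1 : K) ⊗ₜ[k] a ∈ Subalgebra.center k (K ⊗[k] A) :=
      Algebra.TensorProduct.includeRight_map_center_le k K A ⟨a, ha, rfl⟩
    have h2 : (1 : K) ⊗ₜ[k] a ∈ Subalgebra.center K (K ⊗[k] A) := by
      rw [Subalgebra.mem_center_iff] at h1 ⊢
      exact h1
    obtain ⟨κ, hκ⟩ := (Algebra.IsCentral.mem_center_iff K).1 h2
    let ℬ := Module.Free.chooseBasis k K
    obtain ⟨i, hi⟩ : ∃ i, ℬ.repr 1 i ≠ 0 := by
      by_contra hcon
      push_neg at hcon
      have h0 : ℬ.repr (1 : K) = 0 := Finsupp.ext hcon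
      exact one_ne_zero ((LinearEquiv.map_eq_zero_iff _).1 h0)
    have h3 := congrArg (fun y => equivFinsuppOfBasisLeft ℬ y i) hκ
    simp only [Algebra.TensorProduct.algebraMap_apply, equivFinsuppOfBasisLeft_apply_tmul_apply,
      Algebra.algebraMap_self, RingHom.id_apply] at h3
    refine Algebra.mem_bot.2 ⟨(ℬ.repr 1 i)⁻¹ * ℬ.repr κ i, ?_⟩
    rw [Algebra.algebraMap_eq_smul_one, mul_smul, ← h3, smul_smul, inv_mul_cancel₀ hi, one_smul]
  · refine IsSimpleRing.of_eq_bot_or_eq_top fun I => ?_
    by_cases hI : I = ⊤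
    · exact Or.inr hI
    · left
      haveI : Nontrivial I.ringCon.Quotient := by
        refine nontrivial_of_ne (0 : I.ringCon.Quotient) 1 ?_
        intro h01
        apply hI
        rw [← TwoSidedIdeal.one_mem_iff, TwoSidedIdeal.mem_iff]
        exact (RingCon.eq _).1 h01.symm
      let π : A →ₐ[k] I.ringCon.Quotient := RingCon.mkₐ k I.ringCon
      let Φ : K ⊗[k] A →ₐ[K] K ⊗[k] I.ringCon.Quotient :=
        Algebra.TensorProduct.map (AlgHom.id K K) π
      haveI : Nontrivial (K ⊗[k] I.ringCon.Quotient) := CSA.nontrivial_tensor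
      have hΦ : Function.Injective Φ := (Φ : K ⊗[k] A →+* K ⊗[k] I.ringCon.Quotient).injective
      rw [eq_bot_iff]
      intro a ha
      have hπ : π a = 0 := by
        show (a : I.ringCon.Quotient) = ((0 : A) : I.ringCon.Quotient)
        exact (RingCon.eq _).2 ((TwoSidedIdeal.mem_iff _ _).1 ha)
      have h1 : Φ ((1 : K) ⊗ₜ[k] a) = 0 := by
        simp only [Φ, Algebra.TensorProduct.map_tmul, hπ, TensorProduct.tmul_zero]
      have h0 : (1 : K) ⊗ₜ[k] a = 0 := hΦ (h1.trans (map_zero Φ).symm)
      have ha0 : a = 0 := hincl (h0.trans (map_zero _).symm)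
      rw [ha0]
      exact (⊥ : TwoSidedIdeal A).zero_mem

end descent

section split

variable {k : Type u} [Field k] {A : Type v} [Ring A] [Algebra k A] [Algebra.IsCentral k A]
  [IsSimpleRing A] [FiniteDimensional k A] {K : Type w} [Field K] [Algebra k K]

/-- A `k`-algebra map from a central simple `k`-algebra `A` to a nontrivial `K`-algebra of
`K`-dimension `dim_k A` induces an isomorphism from `K ⊗ A`. -/
theorem nonempty_algEquiv_of_algHom {E' : Type w'} [Ring E'] [Nontrivial E'] [Algebra K E']
    [Algebra k E'] [IsScalarTower k K E'] [FiniteDimensional K E'] (ρ : A →ₐ[k] E')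
    (h : Module.finrank K E' = Module.finrank k A) : Nonempty (K ⊗[k] A ≃ₐ[K] E') := by
  haveI : IsSimpleRing (K ⊗[k] A) := CSA.isSimpleRing_tensor
  let φ : K ⊗[k] A →ₐ[K] E' := Algebra.TensorProduct.lift (Algebra.ofId K E') ρ
    (fun x y => Algebra.commute_algebraMap_left x (ρ y))
  have hinj : Function.Injective φ := (φ : K ⊗[k] A →+* E').injective
  have hfin : Module.finrank K (K ⊗[k] A) = Module.finrank K E' := by
    rw [Module.finrank_baseChange, h]
  have hsurj : Function.Surjective φ :=
    (LinearMap.injective_iff_surjective_of_finrank_eq_finrank hfin (f := φ.toLinearMap)).1 hinj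
  exact ⟨AlgEquiv.ofBijective φ ⟨hinj, hsurj⟩⟩

/-- A central simple algebra of dimension `m^2` with a `k`-algebra map to `M_m(K)` is split by `K`. -/
theorem splits_of_algHom_matrix (m : ℕ) (hm : m ≠ 0) (ρ : A →ₐ[k] Matrix (Fin m) (Fin m) K)
    (h : Module.finrank k A = m ^ 2) : Curves.Splits k A K := by
  haveI : Nonempty (Fin m) := ⟨⟨0, Nat.pos_of_ne_zero hm⟩⟩
  refine ⟨m, hm, nonempty_algEquiv_of_algHom ρ ?_⟩
  rw [h, Module.finrank_matrix]
  simp [sq]

/-- A central simple algebra of dimension `m^2` acting `K`-linearly on an `m`-dimensional `K`-space is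
split by `K`. -/
theorem splits_of_algHom_end {V : Type w'} [AddCommGroup V] [Module K V] [Module k V]
    [IsScalarTower k K V] [FiniteDimensional K V] (hV : Module.finrank K V ≠ 0)
    (ρ : A →ₐ[k] Module.End K V) (h : Module.finrank k A = Module.finrank K V ^ 2) :
    Curves.Splits k A K := by
  let e : Module.End K V ≃ₐ[K] Matrix (Fin (Module.finrank K V)) (Fin (Module.finrank K V)) K :=
    algEquivMatrix (Module.finBasis K V)
  exact splits_of_algHom_matrix _ hV (((e.restrictScalars k : Module.End K V ≃ₐ[k] _) :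
    Module.End K V →ₐ[k] _).comp ρ) h

/-- A splitting field stays a splitting field after enlarging it. -/
theorem splits_of_tower {K' : Type w'} [Field K'] [Algebra k K'] [Algebra K K']
    [IsScalarTower k K K'] (h : Curves.Splits k A K) : Curves.Splits k A K' := by
  obtain ⟨n, hn, ⟨e⟩⟩ := h
  have hA := finrank_of_splits_equiv e
  let ρ : A →ₐ[k] Matrix (Fin n) (Fin n) K' :=
    ((IsScalarTower.toAlgHom k K K').mapMatrix).comp
      (((e.restrictScalars k : K ⊗[k] A ≃ₐ[k] Matrix (Fin n) (Fin n) K) :
        K ⊗[k] A →ₐ[k] Matrix (Fin n) (Fin n) K).comp Algebra.TensorProduct.includeRight)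
  exact splits_of_algHom_matrix n hn ρ hA

end split

end Groth.Agent.Lib.Lead.Split
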