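/-
Splitting and Brauer equivalence: matrix algebras over a central simple algebra have the same
splitting fields; endomorphism algebras of modules over simple algebras.  (lead)
-/
import Groth.Agent.Lib.Lead.Split
import Groth.Agent.Lib.Lead.SkolemNoether
import Groth.Agent.Lib.Lead.MatrixModule
import Groth.Agent.S0193
import Mathlib.Algebra.BrauerGroup.Defs
import Mathlib.Data.Matrix.Composition
import Mathlib.LinearAlgebra.Matrix.Reindex
import Mathlib.Algebra.Algebra.Opposite

set_option autoImplicit false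
set_option linter.style.haveILetI false
set_option linter.unusedSectionVars false

namespace Groth.Agent.Lib.Lead.Brauer

open TensorProduct

universe u v w w'

/-- If a matrix ring of positive size over `B` is simple then so is `B`. -/
theorem isSimpleRing_of_matrix (ι : Type v) [Fintype ι] [Nonempty ι] (B : Type u) [Ring B]
    [h : IsSimpleRing (Matrix ι ι B)] : IsSimpleRing B where
  simple :=
    letI := Classical.decEq ι
    haveI := h.simple
    (TwoSidedIdeal.orderIsoMatrix (R := B) (n := ι)).isSimpleOrder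

/-- For a module `V` over a simple finite-dimensional `k`-algebra `R`:
`M_N(End_R V) ≅ M_m(Rᵒᵖ)` with `N = dim R`, `m = dim V`. -/
theorem exists_matrix_end_algEquiv (k : Type u) [Field k] (R : Type v) [Ring R] [Algebra k R]
    [IsSimpleRing R] [FiniteDimensional k R] (V : Type w) [AddCommGroup V] [Module k V]
    [Module R V] [IsScalarTower k R V] [FiniteDimensional k V] :
    Nonempty (Matrix (Fin (Module.finrank k R)) (Fin (Module.finrank k R)) (Module.End R V) ≃ₐ[k]
      Matrix (Fin (Module.finrank k V)) (Fin (Module.finrank k V)) Rᵐᵒᵖ) := by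
  haveI : IsArtinianRing R := IsArtinianRing.of_finite k _
  have he : Nonempty ((Fin (Module.finrank k R) → V) ≃ₗ[R] (Fin (Module.finrank k V) → R)) := by
    apply CSA.nonempty_linearEquiv_of_finrank_eq (k := k)
    rw [Module.finrank_pi_fintype, Module.finrank_pi_fintype]
    simp only [Finset.sum_const, Finset.card_univ, Fintype.card_fin, smul_eq_mul]
    exact mul_comm _ _
  obtain ⟨e⟩ := he
  exact ⟨(endVecAlgEquivMatrixEnd (Fin (Module.finrank k R)) k R V).symm.trans <|
    (e.conjAlgEquiv k).trans <|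
    (endVecAlgEquivMatrixEnd (Fin (Module.finrank k V)) k R R).trans <|
    (AlgEquiv.moduleEndSelf k).symm.mapMatrix⟩

section split

variable {k : Type u} [Field k] {A : Type v} [Ring A] [Algebra k A] [Algebra.IsCentral k A]
  [IsSimpleRing A] [FiniteDimensional k A] {K : Type w} [Field K] [Algebra k K]

/-- The `k`-algebra map `A → M_n(K)` attached to a splitting. -/
noncomputable def algHomOfSplit {n : ℕ} (e : K ⊗[k] A ≃ₐ[K] Matrix (Fin n) (Fin n) K) :
    A →ₐ[k] Matrix (Fin n) (Fin n) K :=
  ((e.restrictScalars k : K ⊗[k] A ≃ₐ[k] Matrix (Fin n) (Fin n) K) :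
    K ⊗[k] A →ₐ[k] Matrix (Fin n) (Fin n) K).comp Algebra.TensorProduct.includeRight

/-- Splitting fields of `A` and of `Aᵒᵖ` agree. -/
theorem splits_op (h : Curves.Splits k A K) : Curves.Splits k Aᵐᵒᵖ K := by
  obtain ⟨n, hn, ⟨e⟩⟩ := h
  have hA := Split.finrank_of_splits_equiv e
  refine Split.splits_of_algHom_matrix n hn
    (((Matrix.transposeAlgEquiv (Fin n) k K).symm :
      (Matrix (Fin n) (Fin n) K)ᵐᵒᵖ →ₐ[k] Matrix (Fin n) (Fin n) K).comp
      (AlgHom.op (algHomOfSplit e))) ?_
  rw [← hA]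
  exact LinearEquiv.finrank_eq (MulOpposite.opLinearEquiv k).symm

/-- Transfer of splitting along an isomorphism. -/
theorem splits_of_algEquiv {A' : Type w'} [Ring A'] [Algebra k A'] [Algebra.IsCentral k A']
    [IsSimpleRing A'] [FiniteDimensional k A'] (f : A' ≃ₐ[k] A) (h : Curves.Splits k A K) :
    Curves.Splits k A' K := by
  obtain ⟨n, hn, ⟨e⟩⟩ := h
  have hA := Split.finrank_of_splits_equiv e
  refine Split.splits_of_algHom_matrix n hn ((algHomOfSplit e).comp (f : A' →ₐ[k] A)) ?_
  rw [← hA]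
  exact LinearEquiv.finrank_eq f.toLinearEquiv

/-- A splitting field of `A` splits the matrix algebras over `A`. -/
theorem splits_matrix (b : ℕ) (hb : b ≠ 0) (h : Curves.Splits k A K) :
    Curves.Splits k (Matrix (Fin b) (Fin b) A) K := by
  haveI : Nonempty (Fin b) := ⟨⟨0, Nat.pos_of_ne_zero hb⟩⟩
  obtain ⟨n, hn, ⟨e⟩⟩ := h
  have hA := Split.finrank_of_splits_equiv e
  refine Split.splits_of_algHom_matrix (b * n) (Nat.mul_ne_zero hb hn)
    (((Matrix.reindexAlgEquiv k K finProdFinEquiv :
        Matrix (Fin b × Fin n) (Fin b × Fin n) K ≃ₐ[k] Matrix (Fin (b * n)) (Fin (b * n)) K) :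
        Matrix (Fin b × Fin n) (Fin b × Fin n) K →ₐ[k] Matrix (Fin (b * n)) (Fin (b * n)) K).comp
      (((Matrix.compAlgEquiv (Fin b) (Fin n) K k :
        Matrix (Fin b) (Fin b) (Matrix (Fin n) (Fin n) K) ≃ₐ[k] _) :
        Matrix (Fin b) (Fin b) (Matrix (Fin n) (Fin n) K) →ₐ[k] _).comp
      (algHomOfSplit e).mapMatrix)) ?_
  rw [Module.finrank_matrix, hA]
  simp; ring

/-- If `K` splits a matrix algebra of positive size over `A`, then `K` splits `A`. -/
theorem splits_of_splits_matrix (a : ℕ) (ha : a ≠ 0)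
    (h : Curves.Splits k (Matrix (Fin a) (Fin a) A) K) : Curves.Splits k A K := by
  classical
  haveI : Nonempty (Fin a) := ⟨⟨0, Nat.pos_of_ne_zero ha⟩⟩
  obtain ⟨N, hN, ⟨eN⟩⟩ := h
  haveI : IsSimpleRing (K ⊗[k] A) := CSA.isSimpleRing_tensor
  haveI : Algebra.IsCentral K (K ⊗[k] A) := Split.isCentral_baseChange K
  haveI : IsArtinianRing (K ⊗[k] A) := IsArtinianRing.of_finite K _
  obtain ⟨s, hs, D', _, _, _, ⟨eW⟩⟩ :=
    IsSimpleRing.exists_algEquiv_matrix_divisionRing_finite K (K ⊗[k] A)
  haveI : Nonempty (Fin s) := ⟨⟨0, Nat.pos_of_ne_zero (NeZero.ne s)⟩⟩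
  haveI : Algebra.IsCentral K (Matrix (Fin s) (Fin s) D') := Algebra.IsCentral.of_algEquiv K _ _ eW
  haveI : Algebra.IsCentral K D' := Split.isCentral_of_matrix (n := Fin s)
  letI : Algebra k D' := Algebra.compHom D' (algebraMap k K)
  haveI : IsScalarTower k K D' := IsScalarTower.of_algebraMap_eq (fun _ => rfl)
  let ρ : Matrix (Fin a) (Fin a) A →ₐ[k] Matrix (Fin a) (Fin a) (Matrix (Fin s) (Fin s) D') :=
    (((eW.restrictScalars k : K ⊗[k] A ≃ₐ[k] Matrix (Fin s) (Fin s) D') :
      K ⊗[k] A →ₐ[k] Matrix (Fin s) (Fin s) D').comp Algebra.TensorProduct.includeRight).mapMatrix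
  have h1 : Module.finrank K (Matrix (Fin s) (Fin s) D') = Module.finrank k A := by
    rw [← LinearEquiv.finrank_eq eW.toLinearEquiv, Module.finrank_baseChange]
  have hdim : Module.finrank K (Matrix (Fin a) (Fin a) (Matrix (Fin s) (Fin s) D')) =
      Module.finrank k (Matrix (Fin a) (Fin a) A) := by
    rw [Module.finrank_matrix, h1, Module.finrank_matrix]
  obtain ⟨e1⟩ := Split.nonempty_algEquiv_of_algHom (K := K) ρ hdim
  let e2 : Matrix (Fin (a * s)) (Fin (a * s)) D' ≃ₐ[K] Matrix (Fin N) (Fin N) K :=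
    ((Matrix.reindexAlgEquiv K D' finProdFinEquiv).symm.trans
      (Matrix.compAlgEquiv (Fin a) (Fin s) D' K).symm).trans (e1.symm.trans eN)
  obtain ⟨eD⟩ := Groth.Agent.S0193.result K D' K (a * s) N
    (Nat.mul_ne_zero ha (NeZero.ne s)) hN e2
  exact ⟨s, NeZero.ne s, ⟨eW.trans eD.mapMatrix⟩⟩

/-- A central simple algebra of dimension `[k':k]^2` containing `k'` is split by `k'`. -/
theorem splits_of_algHom_field {k' : Type w} [Field k'] [Algebra k k'] [FiniteDimensional k k']
    (ι : k' →ₐ[k] A) (hdim : Module.finrank k A = Module.finrank k k' ^ 2) :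
    Curves.Splits k A k' := by
  let σ : k' →ₐ[k] Module.End A A :=
    ((AlgEquiv.moduleEndSelf k : Aᵐᵒᵖ ≃ₐ[k] Module.End A A) : Aᵐᵒᵖ →ₐ[k] Module.End A A).comp
      (ι.toOpposite (fun x y => (Commute.all x y).map ι))
  letI modK : Module k' A := Module.compHom A (σ : k' →+* Module.End A A)
  have hsm : ∀ (c : k') (v : A), c • v = σ c v := fun _ _ => rfl
  haveI : IsScalarTower k k' A :=
    ⟨fun t c v => by rw [hsm, hsm, map_smul, LinearMap.smul_apply]⟩
  haveI : SMulCommClass A k' A :=
    ⟨fun a c v => by rw [hsm, hsm]; exact ((σ c).map_smul a v).symm⟩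
  haveI : FiniteDimensional k' A := Module.Finite.of_restrictScalars_finite k k' A
  let ρ : A →ₐ[k] Module.End k' A := Algebra.lsmul k k' A
  have hV := Module.finrank_mul_finrank k k' A
  have hr : 0 < Module.finrank k k' := Module.finrank_pos
  have hV' : Module.finrank k' A = Module.finrank k k' := by
    rw [hdim, sq] at hV
    exact Nat.eq_of_mul_eq_mul_left hr hV
  exact Split.splits_of_algHom_end (by rw [hV']; exact hr.ne') ρ (by rw [hV', hdim])

end split

end Groth.Agent.Lib.Lead.Brauer
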