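/-
Lead library: reduced norms I.
* two algebra maps `A → M_n(E)` from a central simple algebra are conjugate (Skolem–Noether),
* the reduced norm can be computed from any algebra map to matrices of the right size,
* for matrices over a commutative ring the difference is nilpotent,
* `det (1 + N) = 1` for nilpotent `N` over a field.
-/
import Mathlib
import Groth.Prelude.Def_GSzCSA
import Groth.Agent.Lib.Lead.Brauer

set_option autoImplicit false
set_option linter.style.haveILetI false

namespace Groth.Agent.Lib.Lead.RedNorm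

open scoped TensorProduct

universe u v w w' w''

section conj

variable {k : Type u} [Field k] {A : Type v} [Ring A] [Algebra k A] [Algebra.IsCentral k A]
  [IsSimpleRing A] [FiniteDimensional k A]

theorem algHomOfSplit_apply {K : Type w} [Field K] [Algebra k K] {n : ℕ}
    (φ : K ⊗[k] A ≃ₐ[K] Matrix (Fin n) (Fin n) K) (a : A) :
    Brauer.algHomOfSplit φ a = φ (1 ⊗ₜ[k] a) := rfl

/-- Two `k`-algebra maps from a central simple algebra to `M_n(E)`, `E` a field, are conjugate. -/
theorem exists_conj {E : Type w} [Field E] [Algebra k E] {n : ℕ} (hn : n ≠ 0)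
    (f g : A →ₐ[k] Matrix (Fin n) (Fin n) E) :
    ∃ U : (Matrix (Fin n) (Fin n) E)ˣ, ∀ a : A,
      f a = (U : Matrix (Fin n) (Fin n) E) * g a *
        ((U⁻¹ : (Matrix (Fin n) (Fin n) E)ˣ) : Matrix (Fin n) (Fin n) E) := by
  haveI : Nonempty (Fin n) := ⟨⟨0, Nat.pos_of_ne_zero hn⟩⟩
  haveI : IsSimpleRing (E ⊗[k] A) := CSA.isSimpleRing_tensor
  let F : E ⊗[k] A →ₐ[E] Matrix (Fin n) (Fin n) E :=
    Algebra.TensorProduct.lift (Algebra.ofId E _) f
      (fun x y => Algebra.commute_algebraMap_left x (f y))
  let G : E ⊗[k] A →ₐ[E] Matrix (Fin n) (Fin n) E :=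
    Algebra.TensorProduct.lift (Algebra.ofId E _) g
      (fun x y => Algebra.commute_algebraMap_left x (g y))
  obtain ⟨U, hU⟩ := CSA.skolem_noether F G
  refine ⟨U, fun a => ?_⟩
  have h := hU (1 ⊗ₜ[k] a)
  simpa only [F, G, Algebra.TensorProduct.lift_tmul, map_one, one_mul] using h

theorem size_eq {K : Type w} [Field K] [Algebra k K] {r n : ℕ}
    (φ : K ⊗[k] A ≃ₐ[K] Matrix (Fin r) (Fin r) K) (hn : Module.finrank k A = n ^ 2) : r = n := by
  have h1 := Split.finrank_of_splits_equiv φ
  rw [hn] at h1
  exact (Nat.pow_left_injective two_ne_zero h1).symm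

/-- The reduced norm can be computed from any `k`-algebra map to matrices of the right size. -/
theorem algebraMap_redNorm {N : A →* k} (hN : CSAGal.IsRedNorm k A N) {F : Type w} [Field F]
    [Algebra k F] {n : ℕ} (hn : Module.finrank k A = n ^ 2)
    (ρ : A →ₐ[k] Matrix (Fin n) (Fin n) F) (a : A) :
    algebraMap k F (N a) = (ρ a).det := by
  obtain ⟨K, _, _, _, r, φ, hφ⟩ := hN
  obtain rfl := size_eq φ hn
  have hr : r ≠ 0 := by
    rintro rfl
    have := Module.finrank_pos (R := k) (M := A)
    rw [hn] at this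
    simp at this
  let i : K →ₐ[k] AlgebraicClosure F := IsAlgClosed.lift
  let i' : F →ₐ[k] AlgebraicClosure F := IsScalarTower.toAlgHom k F (AlgebraicClosure F)
  obtain ⟨U, hU⟩ := exists_conj hr (i.mapMatrix.comp (Brauer.algHomOfSplit φ)) (i'.mapMatrix.comp ρ)
  have h1 := congrArg Matrix.det (hU a)
  rw [Matrix.det_mul, Matrix.det_mul, mul_right_comm, ← Matrix.det_mul, Units.mul_inv,
    Matrix.det_one, one_mul, AlgHom.comp_apply, AlgHom.comp_apply, algHomOfSplit_apply,
    ← AlgHom.map_det, ← AlgHom.map_det, ← hφ, i.commutes, ← i'.commutes] at h1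
  exact i'.toRingHom.injective h1

/-- The same for an arbitrary finite index type. -/
theorem algebraMap_redNorm' {N : A →* k} (hN : CSAGal.IsRedNorm k A N) {F : Type w} [Field F]
    [Algebra k F] {I : Type w'} [Fintype I] [DecidableEq I]
    (hI : Module.finrank k A = Fintype.card I ^ 2)
    (ρ : A →ₐ[k] Matrix I I F) (a : A) :
    algebraMap k F (N a) = (ρ a).det := by
  have h := algebraMap_redNorm hN hI
    (((Matrix.reindexAlgEquiv k F (Fintype.equivFin I)) :
      Matrix I I F →ₐ[k] Matrix (Fin (Fintype.card I)) (Fin (Fintype.card I)) F).comp ρ) a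
  rw [h, AlgHom.comp_apply]
  exact Matrix.det_reindexAlgEquiv k F _ _

end conj

section nil

/-- For an algebra map to matrices over a commutative ring, the determinant differs from the
reduced norm by a nilpotent element. -/
theorem isNilpotent_det_sub {K : Type u} [Field K] {A₁ : Type v} [Ring A₁] [Algebra K A₁]
    [Algebra.IsCentral K A₁] [IsSimpleRing A₁] [FiniteDimensional K A₁]
    {N' : A₁ →* K} (hN' : CSAGal.IsRedNorm K A₁ N') {I : Type w'} [Fintype I] [DecidableEq I]
    (hI : Module.finrank K A₁ = Fintype.card I ^ 2)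
    {R : Type w} [CommRing R] (j : K →+* R) (ρ : A₁ →+* Matrix I I R)
    (hρ : ∀ c : K, ρ (algebraMap K A₁ c) = Matrix.scalar I (j c)) (x : A₁) :
    IsNilpotent ((ρ x).det - j (N' x)) := by
  rw [← mem_nilradical, nilradical_eq_sInf, Ideal.mem_sInf]
  intro p hp
  haveI : p.IsPrime := hp
  let π : R →+* FractionRing (R ⧸ p) :=
    (algebraMap (R ⧸ p) (FractionRing (R ⧸ p))).comp (Ideal.Quotient.mk p)
  letI : Algebra K (FractionRing (R ⧸ p)) := (π.comp j).toAlgebra
  let ρκ : A₁ →ₐ[K] Matrix I I (FractionRing (R ⧸ p)) :=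
    { toRingHom := (π.mapMatrix).comp ρ
      commutes' := fun c => by
        show π.mapMatrix (ρ (algebraMap K A₁ c)) = algebraMap K (Matrix I I (FractionRing (R ⧸ p))) c
        rw [hρ]
        ext a b
        simp only [RingHom.mapMatrix_apply, Matrix.map_apply, Matrix.scalar_apply,
          Matrix.diagonal_apply, Matrix.algebraMap_matrix_apply]
        split_ifs
        · rfl
        · exact map_zero π }
  have h := algebraMap_redNorm' hN' hI ρκ x
  have h' : π (j (N' x)) = π ((ρ x).det) := by
    rw [RingHom.map_det]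
    exact h
  have h0 : π ((ρ x).det - j (N' x)) = 0 := by rw [map_sub, h', sub_self]
  have h1 : Ideal.Quotient.mk p ((ρ x).det - j (N' x)) = 0 :=
    (IsFractionRing.injective (R ⧸ p) (FractionRing (R ⧸ p))) (by rw [map_zero]; exact h0)
  exact Ideal.Quotient.eq_zero_iff_mem.1 h1

theorem det_one_add_of_isNilpotent {F : Type u} [Field F] {I : Type v} [Fintype I] [DecidableEq I]
    (M : Matrix I I F) (hM : IsNilpotent M) : (1 + M).det = 1 := by
  have h1 : M.charpoly = Polynomial.X ^ Fintype.card I :=
    sub_eq_zero.1 (Matrix.isNilpotent_charpoly_sub_pow_of_isNilpotent hM).eq_zero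
  have h2 := Matrix.eval_charpoly M (-1)
  rw [h1, Polynomial.eval_pow, Polynomial.eval_X] at h2
  have h3 : Matrix.scalar I (-1 : F) - M = -(1 + M) := by
    rw [map_neg, map_one, neg_add, sub_eq_add_neg]
  rw [h3, Matrix.det_neg] at h2
  have h4 : ((-1 : F) ^ Fintype.card I) * ((-1) ^ Fintype.card I) = 1 := by
    rw [← mul_pow]
    simp
  calc (1 + M).det = ((-1 : F) ^ Fintype.card I * (-1) ^ Fintype.card I) * (1 + M).det := by
        rw [h4, one_mul]
    _ = (-1) ^ Fintype.card I * ((-1) ^ Fintype.card I * (1 + M).det) := by ring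
    _ = (-1) ^ Fintype.card I * (-1) ^ Fintype.card I := by rw [← h2]
    _ = 1 := h4

end nil

end Groth.Agent.Lib.Lead.RedNorm
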