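import Mathlib
import Groth.Prelude.Def_QFDual

/-!
# Associated primes of `B ⊗_{B'} Hom_A(B', A)`

* `mem_ass_tensor_iff`: if `R → S` induces an isomorphism `R_{q ∩ R} ≅ S_q`, then
  `q ∈ Ass_S (S ⊗_R N) ↔ q ∩ R ∈ Ass_R N`.
* `bijective_localRingHom_of_isOpenImmersion`: an open immersion `Spec S → Spec R` induces isomorphisms on
  local rings.
* `comap_mem_ass_of_mem_ass_omega`, `mem_ass_omega_of_comap_mem_ass`: for `B'` finite over a Noetherian ring `A`,
  `Ass_{B'} Hom_A(B', A)` is the set of primes lying over `Ass_A A`.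
-/

set_option autoImplicit false
set_option linter.style.haveILetI false

universe u v

namespace Groth.Agent.Lib.Lead.AssOmega

open TensorProduct

section L1

variable {R S : Type u} [CommRing R] [CommRing S] [Algebra R S] [IsNoetherianRing R] [IsNoetherianRing S]
  (N : Type v) [AddCommGroup N] [Module R N]

theorem mem_ass_tensor_iff (q : Ideal S) [q.IsPrime]
    (hbij : Function.Bijective
      (Localization.localRingHom (q.comap (algebraMap R S)) q (algebraMap R S) rfl)) :
    q ∈ associatedPrimes S (S ⊗[R] N) ↔ q.comap (algebraMap R S) ∈ associatedPrimes R N := by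
  haveI hq'prime : (q.comap (algebraMap R S)).IsPrime := Ideal.comap_isPrime _ _
  let Sq := Localization.AtPrime q
  -- (α) `S_q` is the localization of `R` at `q ∩ R`
  haveI hloc : IsLocalization (q.comap (algebraMap R S)).primeCompl Sq := by
    let e0 : Localization.AtPrime (q.comap (algebraMap R S)) ≃+* Sq := RingEquiv.ofBijective _ hbij
    let e : Localization.AtPrime (q.comap (algebraMap R S)) ≃ₐ[R] Sq :=
      { e0 with
        commutes' := fun r => by
          change Localization.localRingHom (q.comap (algebraMap R S)) q (algebraMap R S) rfl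
            (algebraMap R _ r) = algebraMap R Sq r
          rw [Localization.localRingHom_to_map]
          exact (IsScalarTower.algebraMap_apply R S Sq r).symm }
    exact IsLocalization.isLocalization_of_algEquiv (q.comap (algebraMap R S)).primeCompl e
  -- the two localization maps into `S_q ⊗_R N`
  let g : N →ₗ[R] Sq ⊗[R] N := TensorProduct.mk R Sq N 1
  have hg : IsBaseChange Sq g := TensorProduct.isBaseChange R N Sq
  haveI hgloc : IsLocalizedModule (q.comap (algebraMap R S)).primeCompl g :=
    (isLocalizedModule_iff_isBaseChange (q.comap (algebraMap R S)).primeCompl Sq g).mpr hg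
  let f0 : N →ₗ[R] S ⊗[R] N := TensorProduct.mk R S N 1
  have hf0 : IsBaseChange S f0 := TensorProduct.isBaseChange R N S
  let h : S ⊗[R] N →ₗ[S] Sq ⊗[R] N :=
    TensorProduct.AlgebraTensorModule.map (Algebra.linearMap S Sq) (LinearMap.id : N →ₗ[R] N)
  have hcomp : (h.restrictScalars R) ∘ₗ f0 = g := by
    ext n
    simp [h, f0, g]
  have hh : IsBaseChange Sq h := IsBaseChange.of_comp hf0 (hcomp ▸ hg)
  haveI hhloc : IsLocalizedModule q.primeCompl h :=
    (isLocalizedModule_iff_isBaseChange q.primeCompl Sq h).mpr hh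
  have E1 := Module.associatedPrimes.preimage_comap_associatedPrimes_eq_associatedPrimes_of_isLocalizedModule
    q.primeCompl Sq h
  have E2 := Module.associatedPrimes.preimage_comap_associatedPrimes_eq_associatedPrimes_of_isLocalizedModule
    (q.comap (algebraMap R S)).primeCompl Sq g
  have hm1 : Ideal.comap (algebraMap S Sq) (IsLocalRing.maximalIdeal Sq) = q :=
    Localization.AtPrime.under_maximalIdeal
  have hm2 : Ideal.comap (algebraMap R Sq) (IsLocalRing.maximalIdeal Sq) = q.comap (algebraMap R S) := by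
    rw [IsScalarTower.algebraMap_eq R S Sq, ← Ideal.comap_comap, hm1]
  have e1 : IsLocalRing.maximalIdeal Sq ∈ associatedPrimes Sq (Sq ⊗[R] N) ↔
      q ∈ associatedPrimes S (S ⊗[R] N) := by
    rw [← E1, Set.mem_preimage, hm1]
  have e2 : IsLocalRing.maximalIdeal Sq ∈ associatedPrimes Sq (Sq ⊗[R] N) ↔
      q.comap (algebraMap R S) ∈ associatedPrimes R N := by
    rw [← E2, Set.mem_preimage, hm2]
  exact e1.symm.trans e2

end L1

section L2

open AlgebraicGeometry CategoryTheory

theorem bijective_localRingHom_of_isOpenImmersion {R S : Type u} [CommRing R] [CommRing S] [Algebra R S]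
    (h : IsOpenImmersion (Spec.map (CommRingCat.ofHom (algebraMap R S))))
    (q : Ideal S) [q.IsPrime] :
    Function.Bijective
      (Localization.localRingHom (q.comap (algebraMap R S)) q (algebraMap R S) rfl) := by
  haveI : IsOpenImmersion (Spec.map (CommRingCat.ofHom (algebraMap R S))) := h
  let p : ↥(Spec (CommRingCat.of S)) := (⟨q, inferInstance⟩ : PrimeSpectrum S)
  have h1 : IsIso ((Spec.map (CommRingCat.ofHom (algebraMap R S))).stalkMap p) := inferInstance
  have h2 := (MorphismProperty.isomorphisms CommRingCat).arrow_mk_iso_iff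
    (Scheme.arrowStalkMapSpecIso (CommRingCat.ofHom (algebraMap R S)) p)
  have h3 := h2.mp ((MorphismProperty.isomorphisms.iff _).mpr h1)
  have h4 := (MorphismProperty.isomorphisms.iff _).mp h3
  exact (ConcreteCategory.isIso_iff_bijective _).mp h4

end L2

section Functional

theorem exists_functional (D E : Type u) [CommRing D] [IsDomain D] [CommRing E] [IsDomain E]
    [Algebra D E] [FaithfulSMul D E] [Module.Finite D E] : ∃ lam : E →ₗ[D] D, lam 1 ≠ 0 := by
  classical
  let K := FractionRing D
  let j : E →ₗ[D] K ⊗[D] E := TensorProduct.mk D K E 1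
  have hj1 : j 1 ≠ 0 := by
    have hinj : Function.Injective (LinearMap.lTensor K (Algebra.linearMap D E)) :=
      Module.Flat.lTensor_preserves_injective_linearMap _ (FaithfulSMul.algebraMap_injective D E)
    intro h0
    have h1 : (LinearMap.lTensor K (Algebra.linearMap D E)) ((1 : K) ⊗ₜ[D] (1 : D)) = 0 := by
      simpa [j] using h0
    have h2 := hinj (h1.trans (map_zero _).symm)
    have h3 := congrArg (TensorProduct.rid D K) h2
    simp at h3
  obtain ⟨ℓ, hℓ⟩ : ∃ ℓ : Module.Dual K (K ⊗[D] E), ℓ (j 1) ≠ 0 := by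
    by_contra hcon
    push Not at hcon
    exact hj1 ((Module.forall_dual_apply_eq_zero_iff K (j 1)).mp hcon)
  let μ : E →ₗ[D] K := (ℓ.restrictScalars D) ∘ₗ j
  obtain ⟨s, hs⟩ := (Module.Finite.fg_top : (⊤ : Submodule D E).FG)
  obtain ⟨d, hd⟩ := IsLocalization.exist_integer_multiples_of_finset (nonZeroDivisors D) (s.image μ)
  let ν : E →ₗ[D] K := (d : D) • μ
  let inj : D →ₗ[D] K := Algebra.linearMap D K
  have hinjK : Function.Injective inj := IsFractionRing.injective D K
  have hrange : LinearMap.range ν ≤ LinearMap.range inj := by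
    rw [LinearMap.range_eq_map, ← hs, Submodule.map_span, Submodule.span_le]
    rintro _ ⟨e, he, rfl⟩
    obtain ⟨r, hr⟩ := hd (μ e) (Finset.mem_image_of_mem μ he)
    exact ⟨r, by simpa [ν, inj] using hr⟩
  let lam : E →ₗ[D] D := (LinearEquiv.ofInjective inj hinjK).symm.toLinearMap ∘ₗ
      (LinearMap.codRestrict (LinearMap.range inj) ν (fun e => hrange ⟨e, rfl⟩))
  refine ⟨lam, ?_⟩
  intro h0
  have h1 : inj (lam 1) = ν 1 := by
    have := (LinearEquiv.ofInjective inj hinjK).apply_symm_apply ⟨ν 1, hrange ⟨1, rfl⟩⟩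
    exact congrArg Subtype.val this
  rw [h0, map_zero] at h1
  have h2 : (d : D) • ℓ (j 1) = 0 := h1.symm
  rw [Algebra.smul_def, mul_eq_zero] at h2
  rcases h2 with h2 | h2
  · have : (d : D) = 0 := (IsFractionRing.injective D K) (by rw [h2, map_zero])
    exact nonZeroDivisors.ne_zero d.2 this
  · exact hℓ h2

theorem functional_mul_ne_zero {D E : Type u} [CommRing D] [IsDomain D] [CommRing E] [IsDomain E]
    [Algebra D E] [Algebra.IsIntegral D E] (lam : E →ₗ[D] D) (hlam : lam ≠ 0) (c : E) (hc : c ≠ 0) :
    ∃ x, lam (c * x) ≠ 0 := by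
  by_contra hcon
  push Not at hcon
  have hne := Ideal.comap_ne_bot_of_integral_mem (R := D) (I := Ideal.span {c}) hc
    (Ideal.mem_span_singleton_self c) (Algebra.IsIntegral.isIntegral c)
  obtain ⟨d, hdmem, hd0⟩ := Submodule.exists_mem_ne_zero_of_ne_bot hne
  obtain ⟨e, he⟩ := Ideal.mem_span_singleton'.mp (Ideal.mem_comap.mp hdmem)
  apply hlam
  ext x
  have h1 : d • lam x = 0 := by
    rw [← map_smul, Algebra.smul_def, ← he, mul_comm e c, mul_assoc]
    exact hcon _
  exact (smul_eq_zero.mp h1).resolve_left hd0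

end Functional

section L34

variable {A B' : Type u} [CommRing A] [CommRing B'] [Algebra A B'] [IsNoetherianRing A] [Module.Finite A B']

theorem comap_mem_ass_of_mem_ass_omega (q' : Ideal B')
    (h : q' ∈ associatedPrimes B' (Disc.Omega A B')) :
    q'.comap (algebraMap A B') ∈ associatedPrimes A A := by
  classical
  haveI : IsNoetherianRing B' := Algebra.FiniteType.isNoetherianRing A B'
  obtain ⟨hprime, φ, hφ⟩ := (isAssociatedPrime_iff).mp h
  haveI := hprime
  obtain ⟨s, hs⟩ := (Module.Finite.fg_top : (⊤ : Submodule A B').FG)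
  have key : ∀ a : A, a ∈ q'.comap (algebraMap A B') ↔ ∀ b ∈ s, a * φ.toLinearMap b = 0 := by
    intro a
    rw [Ideal.mem_comap, hφ, Submodule.mem_colon_singleton, Submodule.mem_bot]
    constructor
    · intro h0 b _
      have h1 := congrArg (fun ψ : Disc.Omega A B' => ψ.toLinearMap b) h0
      simp only [Disc.Omega.smul_toLinearMap_apply, Disc.Omega.zero_toLinearMap,
        LinearMap.zero_apply] at h1
      rw [← Algebra.smul_def, map_smul, smul_eq_mul] at h1
      exact h1
    · intro h0
      apply Disc.Omega.ext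
      apply LinearMap.ext
      intro x
      simp only [Disc.Omega.smul_toLinearMap_apply, Disc.Omega.zero_toLinearMap, LinearMap.zero_apply]
      rw [← Algebra.smul_def, map_smul, smul_eq_mul]
      have hx : x ∈ Submodule.span A (s : Set B') := hs ▸ Submodule.mem_top
      induction hx using Submodule.span_induction with
      | mem y hy => exact h0 y hy
      | zero => simp
      | add y z _ _ hy hz => rw [map_add, mul_add, hy, hz, add_zero]
      | smul c y _ hy => rw [map_smul, smul_eq_mul, mul_left_comm, hy, mul_zero]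
  have hp : (q'.comap (algebraMap A B')).IsPrime := Ideal.comap_isPrime _ _
  have heq : q'.comap (algebraMap A B') =
      s.inf (fun b => (⊥ : Submodule A A).colon {φ.toLinearMap b}) := by
    ext a
    rw [key, Submodule.mem_finsetInf]
    simp only [Submodule.mem_colon_singleton, Submodule.mem_bot, smul_eq_mul]
  obtain ⟨b, hb, hle⟩ := (Ideal.IsPrime.inf_le' hp).mp (le_of_eq heq.symm)
  refine (isAssociatedPrime_iff).mpr ⟨hp, φ.toLinearMap b, le_antisymm ?_ hle⟩
  rw [heq]
  exact Finset.inf_le hb

theorem mem_ass_omega_of_comap_mem_ass (q' : Ideal B') [q'.IsPrime]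
    (h : q'.comap (algebraMap A B') ∈ associatedPrimes A A) :
    q' ∈ associatedPrimes B' (Disc.Omega A B') := by
  haveI : IsNoetherianRing B' := Algebra.FiniteType.isNoetherianRing A B'
  obtain ⟨hp, a₀, ha₀⟩ := (isAssociatedPrime_iff).mp h
  let p : Ideal A := q'.comap (algebraMap A B')
  haveI : p.IsPrime := hp
  haveI : q'.LiesOver p := ⟨rfl⟩
  let π : B' →ₗ[A] (B' ⧸ q') := (Ideal.Quotient.mkₐ A q').toLinearMap
  have hπ : Function.Surjective π := Ideal.Quotient.mk_surjective
  haveI : Module.Finite A (B' ⧸ q') := Module.Finite.of_surjective π hπ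
  haveI : Module.Finite (A ⧸ p) (B' ⧸ q') := Module.Finite.of_restrictScalars_finite A (A ⧸ p) (B' ⧸ q')
  obtain ⟨lam, hlam1⟩ := exists_functional (A ⧸ p) (B' ⧸ q')
  have hlam : lam ≠ 0 := fun h0 => hlam1 (by rw [h0]; rfl)
  have hker : p ≤ LinearMap.ker (LinearMap.toSpanSingleton A A a₀) := by
    intro x hx
    have hx' : x ∈ (⊥ : Submodule A A).colon {a₀} := ha₀ ▸ hx
    rw [Submodule.mem_colon_singleton, Submodule.mem_bot] at hx'
    rw [LinearMap.mem_ker, LinearMap.toSpanSingleton_apply]
    exact hx'
  let ι : (A ⧸ p) →ₗ[A] A := Submodule.liftQ p (LinearMap.toSpanSingleton A A a₀) hker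
  have hι : Function.Injective ι := by
    rw [← LinearMap.ker_eq_bot]
    apply Submodule.ker_liftQ_eq_bot
    intro x hx
    rw [LinearMap.mem_ker, LinearMap.toSpanSingleton_apply] at hx
    change x ∈ q'.comap (algebraMap A B')
    rw [ha₀, Submodule.mem_colon_singleton, Submodule.mem_bot]
    exact hx
  let φ : Disc.Omega A B' := ⟨ι ∘ₗ (lam.restrictScalars A) ∘ₗ π⟩
  have hφ : ∀ x : B', φ.toLinearMap x = ι (lam (Ideal.Quotient.mk q' x)) := fun x => rfl
  refine (isAssociatedPrime_iff).mpr ⟨inferInstance, φ, ?_⟩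
  ext b
  rw [Submodule.mem_colon_singleton, Submodule.mem_bot]
  constructor
  · intro hb
    apply Disc.Omega.ext
    apply LinearMap.ext
    intro x
    rw [Disc.Omega.smul_toLinearMap_apply, Disc.Omega.zero_toLinearMap, LinearMap.zero_apply, hφ]
    have : Ideal.Quotient.mk q' (b * x) = 0 :=
      Ideal.Quotient.eq_zero_iff_mem.mpr (Ideal.mul_mem_right _ _ hb)
    rw [this, map_zero, map_zero]
  · intro hb
    by_contra hbq
    have hc : Ideal.Quotient.mk q' b ≠ 0 := fun h0 => hbq (Ideal.Quotient.eq_zero_iff_mem.mp h0)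
    obtain ⟨xbar, hx⟩ := functional_mul_ne_zero lam hlam _ hc
    obtain ⟨x, rfl⟩ := Ideal.Quotient.mk_surjective xbar
    have h1 := congrArg (fun ψ : Disc.Omega A B' => ψ.toLinearMap x) hb
    simp only [Disc.Omega.smul_toLinearMap_apply, Disc.Omega.zero_toLinearMap,
      LinearMap.zero_apply] at h1
    rw [hφ, map_mul] at h1
    exact hx (hι (h1.trans (map_zero ι).symm))

end L34

end Groth.Agent.Lib.Lead.AssOmega
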