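/-
Lead library: fibrewise criteria.

* `subsingleton_of_fibres`: a finite module all of whose fibres `κ(p) ⊗ M` vanish is zero,
* `bijective_of_fibres`: a linear map from a finite module to a finite projective module which is
  bijective on all fibres is bijective,
* `faithful_of_fibres`: a projective algebra with non-zero fibres is faithful,
* `mulLeftRight_baseChange_bijective_iff`: base change of the Azumaya map `A ⊗ Aᵒᵖ → End A`
  (adapted from helper29's proof of S19588).
-/
import Mathlib

set_option autoImplicit false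
universe u v w
open TensorProduct

namespace Groth.Agent.Lib.Lead.AzumayaFibre

open MulOpposite

theorem subsingleton_of_fibres {R : Type u} [CommRing R] (M : Type v) [AddCommGroup M] [Module R M]
    [Module.Finite R M]
    (h : ∀ (p : Ideal R) [p.IsPrime], Subsingleton (p.ResidueField ⊗[R] M)) : Subsingleton M := by
  rw [← Module.support_eq_empty_iff (R := R)]
  ext p
  simp only [Set.mem_empty_iff_false, iff_false]
  rw [Module.mem_support_iff_nontrivial_residueField_tensorProduct]
  haveI := h p.asIdeal
  exact not_nontrivial _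

theorem bijective_of_fibres {R : Type u} [CommRing R] {P : Type v} {Q : Type w} [AddCommGroup P]
    [Module R P] [AddCommGroup Q] [Module R Q] [Module.Finite R P] [Module.Finite R Q]
    [Module.Projective R Q] (φ : P →ₗ[R] Q)
    (h : ∀ (p : Ideal R) [p.IsPrime], Function.Bijective (LinearMap.lTensor p.ResidueField φ)) :
    Function.Bijective φ := by
  have hsurj : Function.Surjective φ := by
    rw [← LinearMap.range_eq_top, ← Submodule.Quotient.subsingleton_iff]
    apply subsingleton_of_fibres (R := R)
    intro p _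
    have hz : ∀ z : p.ResidueField ⊗[R] (Q ⧸ LinearMap.range φ), z = 0 := by
      intro z
      obtain ⟨w, rfl⟩ := LinearMap.lTensor_surjective p.ResidueField
        (LinearMap.range φ).mkQ_surjective z
      obtain ⟨v, rfl⟩ := (h p).2 w
      rw [← LinearMap.comp_apply, ← LinearMap.lTensor_comp]
      have h0 : (LinearMap.range φ).mkQ ∘ₗ φ = 0 := by
        ext x
        simp
      rw [h0, LinearMap.lTensor_zero, LinearMap.zero_apply]
    exact ⟨fun x y => by rw [hz x, hz y]⟩
  obtain ⟨s, hs⟩ := Module.projective_lifting_property φ LinearMap.id hsurj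
  have hsφ : ∀ y : Q, φ (s y) = y := fun y => LinearMap.congr_fun hs y
  let π : P →ₗ[R] LinearMap.ker φ := (LinearMap.id - s ∘ₗ φ).codRestrict (LinearMap.ker φ) (by
    intro x
    rw [LinearMap.mem_ker, LinearMap.sub_apply, map_sub, LinearMap.id_apply,
      LinearMap.comp_apply, hsφ, sub_self])
  have hπ : ∀ k : LinearMap.ker φ, π k = k := by
    intro k
    apply Subtype.ext
    have hk : φ (k : P) = 0 := LinearMap.mem_ker.1 k.2
    simp [π, hk]
  haveI : Module.Finite R (LinearMap.ker φ) :=
    Module.Finite.of_surjective π (fun k => ⟨k, hπ k⟩)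
  haveI : Subsingleton (LinearMap.ker φ) := by
    apply subsingleton_of_fibres (R := R)
    intro p _
    have hz : ∀ z : p.ResidueField ⊗[R] (LinearMap.ker φ), z = 0 := by
      intro z
      have h1 : LinearMap.lTensor p.ResidueField φ
          (LinearMap.lTensor p.ResidueField (LinearMap.ker φ).subtype z) = 0 := by
        rw [← LinearMap.comp_apply, ← LinearMap.lTensor_comp]
        have h0 : φ ∘ₗ (LinearMap.ker φ).subtype = 0 := by
          ext k
          exact k.2
        rw [h0, LinearMap.lTensor_zero, LinearMap.zero_apply]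
      have h2 : LinearMap.lTensor p.ResidueField (LinearMap.ker φ).subtype z = 0 :=
        (h p).1 (by rw [h1, map_zero])
      have h3 : LinearMap.lTensor p.ResidueField π
          (LinearMap.lTensor p.ResidueField (LinearMap.ker φ).subtype z) = z := by
        rw [← LinearMap.comp_apply, ← LinearMap.lTensor_comp]
        have h0 : π ∘ₗ (LinearMap.ker φ).subtype = LinearMap.id := by
          ext k
          simp [hπ k]
        rw [h0, LinearMap.lTensor_id, LinearMap.id_apply]
      rw [← h3, h2, map_zero]
    exact ⟨fun x y => by rw [hz x, hz y]⟩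
  refine ⟨?_, hsurj⟩
  rw [← LinearMap.ker_eq_bot]
  exact Submodule.eq_bot_of_subsingleton

theorem faithful_of_fibres (R : Type u) [CommRing R] (A : Type v) [Ring A] [Algebra R A]
    [Module.Projective R A]
    (h : ∀ (p : Ideal R) [p.IsPrime], Nontrivial (p.ResidueField ⊗[R] A)) : FaithfulSMul R A := by
  obtain ⟨s, hs⟩ := (Module.projective_def' (R := R) (P := A)).1 inferInstance
  have hτ : Ideal.span {c : R | ∃ a b, c = s a b} = ⊤ := by
    by_contra hne
    obtain ⟨m, hm, hle⟩ := Ideal.exists_le_maximal _ hne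
    haveI := hm.isPrime
    haveI := h m
    have h1 : ∀ a : A, (1 : m.ResidueField) ⊗ₜ[R] a = 0 := by
      intro a
      have ha : a = Finsupp.linearCombination R id (s a) := (LinearMap.congr_fun hs a).symm
      rw [ha, Finsupp.linearCombination_apply, Finsupp.sum, TensorProduct.tmul_sum]
      refine Finset.sum_eq_zero (fun b _ => ?_)
      have hc : algebraMap R m.ResidueField (s a b) = 0 :=
        Ideal.algebraMap_residueField_eq_zero.2 (hle (Ideal.subset_span ⟨a, b, rfl⟩))
      rw [TensorProduct.tmul_smul, TensorProduct.smul_tmul', Algebra.smul_def, hc, zero_mul,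
        TensorProduct.zero_tmul]
    have h2 : ∀ z : m.ResidueField ⊗[R] A, z = 0 := by
      intro z
      induction z using TensorProduct.induction_on with
      | zero => rfl
      | tmul x a =>
        have hx : x ⊗ₜ[R] a = x • ((1 : m.ResidueField) ⊗ₜ[R] a) := by
          rw [TensorProduct.smul_tmul', smul_eq_mul, mul_one]
        rw [hx, h1, smul_zero]
      | add x y hx hy => rw [hx, hy, add_zero]
    obtain ⟨x, y, hxy⟩ := exists_pair_ne (m.ResidueField ⊗[R] A)
    exact hxy (by rw [h2 x, h2 y])
  refine (faithfulSMul_iff_algebraMap_injective R A).2 ((injective_iff_map_eq_zero _).2 ?_)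
  intro r hr
  have hra : ∀ a : A, r • a = 0 := fun a => by rw [Algebra.smul_def, hr, zero_mul]
  have hall : ∀ c ∈ Ideal.span {c : R | ∃ a b, c = s a b}, r * c = 0 := by
    intro c hc
    induction hc using Submodule.span_induction with
    | mem c hc =>
      obtain ⟨a, b, rfl⟩ := hc
      have h3 : s (r • a) b = r * s a b := by
        rw [map_smul, Finsupp.smul_apply, smul_eq_mul]
      rw [← h3, hra, map_zero, Finsupp.zero_apply]
    | zero => rw [mul_zero]
    | add x y _ _ hx hy => rw [mul_add, hx, hy, add_zero]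
    | smul a x _ hx => rw [smul_eq_mul, mul_left_comm, hx, mul_zero]
  have h1 := hall 1 (by rw [hτ]; exact Submodule.mem_top)
  rwa [mul_one] at h1

theorem mulLeftRight_baseChange_bijective_iff (R : Type u) [CommRing R] (S : Type v) [CommRing S]
    [Algebra R S] (A : Type w) [Ring A] [Algebra R A] [Module.Finite R A]
    [Module.Projective R A] :
    Function.Bijective (AlgHom.mulLeftRight S (S ⊗[R] A)) ↔
      Function.Bijective (LinearMap.lTensor S (AlgHom.mulLeftRight R A).toLinearMap) := by
  let θ1 : S ⊗[R] (A →ₗ[R] A) ≃ₗ[R] (A →ₗ[R] S ⊗[R] A) := lTensorHomEquivHomLTensor R A S A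
  let θ2 : (A →ₗ[R] S ⊗[R] A) ≃ₗ[S] (S ⊗[R] A →ₗ[S] S ⊗[R] A) := LinearMap.liftBaseChangeEquiv S
  let eop : S ⊗[R] Aᵐᵒᵖ ≃ₗ[S] (S ⊗[R] A)ᵐᵒᵖ :=
    (TensorProduct.AlgebraTensorModule.congr (LinearEquiv.refl S S) (opLinearEquiv R).symm) ≪≫ₗ
      (opLinearEquiv S)
  let Ξ : S ⊗[R] (A ⊗[R] Aᵐᵒᵖ) ≃ₗ[S] (S ⊗[R] A) ⊗[S] (S ⊗[R] A)ᵐᵒᵖ :=
    (TensorProduct.AlgebraTensorModule.distribBaseChange R S A Aᵐᵒᵖ) ≪≫ₗ
      TensorProduct.AlgebraTensorModule.congr (LinearEquiv.refl S (S ⊗[R] A)) eop
  have key : ((AlgHom.mulLeftRight S (S ⊗[R] A)).toLinearMap.restrictScalars R) ∘ₗ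
      (Ξ.toLinearMap.restrictScalars R) =
      (θ2.toLinearMap.restrictScalars R) ∘ₗ θ1.toLinearMap ∘ₗ
        (LinearMap.lTensor S (AlgHom.mulLeftRight R A).toLinearMap) := by
    apply TensorProduct.ext_threefold'
    intro s a a'
    apply TensorProduct.AlgebraTensorModule.ext
    intro s' y
    simp only [LinearMap.comp_apply, LinearMap.restrictScalars_apply, LinearEquiv.coe_coe, Ξ, eop,
      LinearEquiv.trans_apply, TensorProduct.AlgebraTensorModule.distribBaseChange_tmul,
      TensorProduct.AlgebraTensorModule.congr_tmul, LinearEquiv.refl_apply,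
      AlgHom.toLinearMap_apply, AlgHom.mulLeftRight_apply, LinearMap.lTensor_tmul, θ1, θ2,
      lTensorHomEquivHomLTensor_apply]
    erw [LinearMap.liftBaseChange_tmul]
    simp [Algebra.TensorProduct.tmul_mul_tmul, lTensorHomToHomLTensor_apply,
      TensorProduct.smul_tmul', mul_comm]
  have h2 : ⇑(AlgHom.mulLeftRight S (S ⊗[R] A)) =
      ⇑θ2 ∘ ⇑θ1 ∘ ⇑(LinearMap.lTensor S (AlgHom.mulLeftRight R A).toLinearMap) ∘ ⇑Ξ.symm := by
    funext z
    have := LinearMap.congr_fun key (Ξ.symm z)
    simp only [LinearMap.comp_apply, LinearMap.restrictScalars_apply, LinearEquiv.coe_coe,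
      LinearEquiv.apply_symm_apply, AlgHom.toLinearMap_apply] at this
    rw [this]
    rfl
  rw [h2]
  constructor
  · intro hb
    have h3 : ⇑(LinearMap.lTensor S (AlgHom.mulLeftRight R A).toLinearMap) =
        ⇑θ1.symm ∘ ⇑θ2.symm ∘
          (⇑θ2 ∘ ⇑θ1 ∘ ⇑(LinearMap.lTensor S (AlgHom.mulLeftRight R A).toLinearMap) ∘ ⇑Ξ.symm) ∘
            ⇑Ξ := by
      funext z
      simp
    rw [h3]
    exact θ1.symm.bijective.comp (θ2.symm.bijective.comp (hb.comp Ξ.bijective))
  · intro hl
    exact θ2.bijective.comp (θ1.bijective.comp (hl.comp Ξ.symm.bijective))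

end Groth.Agent.Lib.Lead.AzumayaFibre
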