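/-
Lead library: the Azumaya condition for a finite free algebra via the determinant of the
structure-constant matrix of `A ⊗ Aᵒᵖ → End(A)`; Azumaya over a field = central simple.
-/
import Mathlib
import Groth.Agent.Lib.Lead.CSA

set_option autoImplicit false
set_option linter.style.haveILetI false

namespace Groth.Agent.Lib.Lead.AzumayaLocal

open scoped TensorProduct

universe u v w

section general

variable {S : Type u} [CommRing S] {A' : Type v} [Ring A'] [Algebra S A'] {ι : Type w}
  [Fintype ι] [DecidableEq ι]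

/-- structure-constant matrix of `a ⊗ b ↦ (x ↦ a x b)`. -/
noncomputable def M (c : Module.Basis ι S A') : Matrix (ι × ι) (ι × ι) S :=
  Matrix.of fun p q => c.repr (c q.1 * c p.2 * c q.2) p.1

noncomputable def F (c : Module.Basis ι S A') : A' ⊗[S] A'ᵐᵒᵖ →ₗ[S] Matrix ι ι S :=
  (LinearMap.toMatrix c c).toLinearMap ∘ₗ (AlgHom.mulLeftRight S A').toLinearMap

noncomputable def B (c : Module.Basis ι S A') : Module.Basis (ι × ι) S (A' ⊗[S] A'ᵐᵒᵖ) :=
  c.tensorProduct (c.map (MulOpposite.opLinearEquiv S))

theorem toMatrix_F (c : Module.Basis ι S A') :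
    LinearMap.toMatrix (B c) (Matrix.stdBasis S ι ι) (F c) = M c := by
  ext p q
  obtain ⟨p1, p2⟩ := p
  obtain ⟨q1, q2⟩ := q
  rw [LinearMap.toMatrix_apply]
  have hrepr : ∀ (N : Matrix ι ι S) (p : ι × ι),
      (Matrix.stdBasis S ι ι).repr N p = N p.1 p.2 := by
    intro N p
    obtain ⟨i, j⟩ := p
    simp [Matrix.stdBasis]
  rw [hrepr]
  simp only [F, B, LinearMap.coe_comp, Function.comp_apply, LinearEquiv.coe_coe,
    AlgHom.toLinearMap_apply, Module.Basis.tensorProduct_apply, Module.Basis.map_apply,
    LinearMap.toMatrix_apply, AlgHom.mulLeftRight_apply, M, Matrix.of_apply,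
    MulOpposite.coe_opLinearEquiv, MulOpposite.unop_op]

theorem bijective_iff (c : Module.Basis ι S A') :
    Function.Bijective (AlgHom.mulLeftRight S A') ↔ IsUnit (M c).det := by
  rw [← toMatrix_F c]
  constructor
  · intro h
    have hF : Function.Bijective (F c) := (LinearMap.toMatrix c c).bijective.comp h
    have h1 := LinearEquiv.isUnit_det (LinearEquiv.ofBijective (F c) hF) (B c)
      (Matrix.stdBasis S ι ι)
    have hcoe : ((LinearEquiv.ofBijective (F c) hF : _ ≃ₗ[S] _) : _ →ₗ[S] _) = F c :=
      LinearMap.ext fun _ => rfl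
    rwa [hcoe] at h1
  · intro h
    have hF : Function.Bijective (F c) := by
      have h1 := (LinearEquiv.ofIsUnitDet h).bijective
      have hcoe := LinearEquiv.coe_ofIsUnitDet h
      have h2 : ⇑(LinearEquiv.ofIsUnitDet h) = ⇑(F c) := by
        funext z
        exact congrArg (fun φ : A' ⊗[S] A'ᵐᵒᵖ →ₗ[S] Matrix ι ι S => φ z) hcoe
      rwa [h2] at h1
    have h3 : ⇑(AlgHom.mulLeftRight S A') = (LinearMap.toMatrix c c).symm ∘ (F c) := by
      funext z
      simp [F]
    rw [h3]
    exact (LinearMap.toMatrix c c).symm.bijective.comp hF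

end general

section field

variable {k : Type u} [Field k] {A : Type v} [Ring A] [Algebra k A] [FiniteDimensional k A]
  [Nontrivial A]

theorem csa_of_bijective (h : Function.Bijective (AlgHom.mulLeftRight k A)) :
    Algebra.IsCentral k A ∧ IsSimpleRing A := by
  haveI : IsAzumaya k A := { bij := h }
  refine ⟨inferInstance, ?_⟩
  refine IsSimpleRing.of_eq_bot_or_eq_top fun I => ?_
  by_cases hI : I = ⊥
  · exact Or.inl hI
  right
  obtain ⟨x, hxI, hx0 : x ∉ (⊥ : TwoSidedIdeal A)⟩ :=
    SetLike.exists_of_lt (bot_lt_iff_ne_bot.mpr hI : ⊥ < I)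
  rw [TwoSidedIdeal.mem_bot] at hx0
  -- every endomorphism preserves I
  have hstab : ∀ (T : Module.End k A) (y : A), y ∈ I → T y ∈ I := by
    intro T y hy
    obtain ⟨z, rfl⟩ := h.2 T
    induction z using TensorProduct.induction_on with
    | zero => simp [I.zero_mem]
    | tmul a b =>
      rw [AlgHom.mulLeftRight_apply]
      exact I.mul_mem_right _ _ (I.mul_mem_left _ _ hy)
    | add z w hz hw =>
      rw [map_add, LinearMap.add_apply]
      exact I.add_mem hz hw
  -- a functional with g x = 1
  have hinj : LinearMap.ker (LinearMap.toSpanSingleton k A x) = ⊥ := by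
    rw [LinearMap.ker_eq_bot]
    intro a b hab
    simp only [LinearMap.toSpanSingleton_apply] at hab
    exact smul_left_injective k hx0 hab
  obtain ⟨g, hg⟩ := LinearMap.exists_leftInverse_of_injective _ hinj
  have hgx : g x = 1 := by
    have := congrArg (fun φ : k →ₗ[k] k => φ 1) hg
    simpa using this
  have h1 : (1 : A) ∈ I := by
    have := hstab ((LinearMap.toSpanSingleton k A 1) ∘ₗ g) x hxI
    simpa [hgx] using this
  exact (TwoSidedIdeal.one_mem_iff I).1 h1

theorem bijective_of_csa [Algebra.IsCentral k A] [IsSimpleRing A] :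
    Function.Bijective (AlgHom.mulLeftRight k A) := by
  haveI : IsSimpleRing (A ⊗[k] Aᵐᵒᵖ) := CSA.isSimpleRing_tensor
  have hinj : Function.Injective (AlgHom.mulLeftRight k A) :=
    RingHom.injective (AlgHom.mulLeftRight k A : A ⊗[k] Aᵐᵒᵖ →+* Module.End k A)
  refine ⟨hinj, ?_⟩
  have hfr : Module.finrank k (A ⊗[k] Aᵐᵒᵖ) = Module.finrank k (Module.End k A) := by
    rw [Module.finrank_tensorProduct, Module.finrank_linearMap,
      LinearEquiv.finrank_eq (MulOpposite.opLinearEquiv k).symm]
  exact (LinearMap.injective_iff_surjective_of_finrank_eq_finrank hfr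
    (f := (AlgHom.mulLeftRight k A).toLinearMap)).1 hinj

end field

end Groth.Agent.Lib.Lead.AzumayaLocal
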