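/-
Lib/Lead/Centralizer.lean -- centralizers of simple subalgebras of central simple algebras.
-/
import Groth.Agent.Lib.Lead.SkolemNoether
import Mathlib.LinearAlgebra.Matrix.ToLin
import Mathlib.RingTheory.SimpleRing.Matrix
import Mathlib.RingTheory.SimpleRing.Congr
import Mathlib.Algebra.Algebra.Subalgebra.Centralizer
import Mathlib.Algebra.Algebra.Opposite
import Mathlib.LinearAlgebra.FiniteDimensional.Lemmas

set_option autoImplicit false
universe u v w

namespace Groth.Agent.Lib.Lead.CSA

open TensorProduct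

variable {k : Type u} [Field k] {A : Type v} [Ring A] [Algebra k A]

section general

variable {B : Type w} [Ring B] [Algebra k B]

instance twist_smulCommClass (φ : B →ₐ[k] A) : SMulCommClass (B ⊗[k] Aᵐᵒᵖ) k (Twist φ) :=
  ⟨fun r c v => by
    rw [twist_smul_def, twist_smul_def]
    exact (rep φ r).map_smul c v⟩

@[simp] theorem Twist.mk_val (φ : B →ₐ[k] A) (v : Twist φ) : Twist.mk φ v.val = v := rfl

theorem Twist.val_add (φ : B →ₐ[k] A) (v w : Twist φ) : (v + w).val = v.val + w.val := rfl

theorem Twist.val_zero (φ : B →ₐ[k] A) : (0 : Twist φ).val = 0 := rfl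

theorem Twist.val_smul (φ : B →ₐ[k] A) (c : k) (v : Twist φ) : (c • v).val = c • v.val := rfl

theorem Twist.mk_add (φ : B →ₐ[k] A) (a b : A) :
    Twist.mk φ (a + b) = Twist.mk φ a + Twist.mk φ b := rfl

theorem rep_comm (φ : B →ₐ[k] A) (c : A) (hc : ∀ b : B, φ b * c = c * φ b)
    (r : B ⊗[k] Aᵐᵒᵖ) (a : A) : c * rep φ r a = rep φ r (c * a) := by
  induction r using TensorProduct.induction_on with
  | zero => simp
  | tmul b a' => rw [rep_tmul, rep_tmul, ← mul_assoc, ← mul_assoc, ← mul_assoc, hc b]
  | add x y hx hy => rw [map_add, LinearMap.add_apply, LinearMap.add_apply, mul_add, hx, hy]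

/-- The `B ⊗ Aᵒᵖ`-linear endomorphism of `A` given by left multiplication by an element commuting
with the image of `φ`. -/
noncomputable def lmulEnd (φ : B →ₐ[k] A) (c : A) (hc : ∀ b : B, φ b * c = c * φ b) :
    Module.End (B ⊗[k] Aᵐᵒᵖ) (Twist φ) where
  toFun v := Twist.mk φ (c * v.val)
  map_add' v w := by
    apply Twist.val_injective
    rw [Twist.val_mk, Twist.val_add, Twist.val_add, Twist.val_mk, Twist.val_mk, mul_add]
  map_smul' r v := by
    apply Twist.val_injective
    exact rep_comm φ c hc r v.val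

@[simp] theorem lmulEnd_apply (φ : B →ₐ[k] A) (c : A) (hc : ∀ b : B, φ b * c = c * φ b)
    (v : Twist φ) : (lmulEnd φ c hc v).val = c * v.val := rfl

/-- Every `B ⊗ Aᵒᵖ`-linear endomorphism of `A` is left multiplication by an element commuting with
the image of `φ`. -/
theorem end_eq_lmul (φ : B →ₐ[k] A) (ψ : Module.End (B ⊗[k] Aᵐᵒᵖ) (Twist φ)) :
    (∀ b : B, φ b * (ψ (Twist.mk φ 1)).val = (ψ (Twist.mk φ 1)).val * φ b) ∧
    ∀ v : Twist φ, (ψ v).val = (ψ (Twist.mk φ 1)).val * v.val := by
  have h2 : ∀ v : Twist φ, (ψ v).val = (ψ (Twist.mk φ 1)).val * v.val := by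
    intro v
    have h1 : v = ((1 : B) ⊗ₜ[k] MulOpposite.op v.val) • Twist.mk φ 1 := by
      apply Twist.val_injective
      rw [Twist.val_smul_tmul]
      simp
    conv_lhs => rw [h1, map_smul, Twist.val_smul_tmul]
    simp
  refine ⟨fun b => ?_, h2⟩
  have h1 : Twist.mk φ (φ b) = (b ⊗ₜ[k] MulOpposite.op (1 : A)) • Twist.mk φ 1 := by
    apply Twist.val_injective
    rw [Twist.val_smul_tmul]
    simp
  have h3 : (ψ (Twist.mk φ (φ b))).val = (ψ (Twist.mk φ 1)).val * φ b := h2 (Twist.mk φ (φ b))
  have h4 : (ψ (Twist.mk φ (φ b))).val = φ b * (ψ (Twist.mk φ 1)).val := by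
    rw [h1, map_smul, Twist.val_smul_tmul]
    simp
  exact h4.symm.trans h3

end general

section subalgebra

variable (B : Subalgebra k A)

/-- The centralizer of `B` in `A` is the algebra of `B ⊗ Aᵒᵖ`-linear endomorphisms of `A`. -/
noncomputable def centralizerToEnd :
    Subalgebra.centralizer k (B : Set A) →ₐ[k] Module.End (B ⊗[k] Aᵐᵒᵖ) (Twist B.val) where
  toFun c := lmulEnd B.val c.1 (fun b => (Subalgebra.mem_centralizer_iff k).1 c.2 b.1 b.2)
  map_one' := by
    apply LinearMap.ext
    intro v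
    apply Twist.val_injective
    simp
  map_mul' c c' := by
    apply LinearMap.ext
    intro v
    apply Twist.val_injective
    simp [mul_assoc]
  map_zero' := by
    apply LinearMap.ext
    intro v
    apply Twist.val_injective
    simp [Twist.val_zero]
  map_add' c c' := by
    apply LinearMap.ext
    intro v
    apply Twist.val_injective
    simp [Twist.val_add, add_mul]
  commutes' r := by
    apply LinearMap.ext
    intro v
    apply Twist.val_injective
    simp [Module.algebraMap_end_apply, Twist.val_smul, Algebra.smul_def]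

theorem centralizerToEnd_bijective : Function.Bijective (centralizerToEnd B) := by
  constructor
  · intro c c' h
    have := congrArg (fun ψ : Module.End (B ⊗[k] Aᵐᵒᵖ) (Twist B.val) => (ψ (Twist.mk B.val 1)).val) h
    simp only [centralizerToEnd, AlgHom.coe_mk, RingHom.coe_mk, MonoidHom.coe_mk, OneHom.coe_mk,
      lmulEnd_apply, Twist.val_mk, mul_one] at this
    exact Subtype.ext this
  · intro ψ
    obtain ⟨h1, h2⟩ := end_eq_lmul B.val ψ
    refine ⟨⟨(ψ (Twist.mk B.val 1)).val, ?_⟩, ?_⟩
    · rw [Subalgebra.mem_centralizer_iff]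
      intro b hb
      exact h1 ⟨b, hb⟩
    · apply LinearMap.ext
      intro v
      apply Twist.val_injective
      rw [h2 v]
      rfl

/-- The centralizer of `B` in `A` as the endomorphism algebra of the `B ⊗ Aᵒᵖ`-module `A`. -/
noncomputable def centralizerEquivEnd :
    Subalgebra.centralizer k (B : Set A) ≃ₐ[k] Module.End (B ⊗[k] Aᵐᵒᵖ) (Twist B.val) :=
  AlgEquiv.ofBijective (centralizerToEnd B) (centralizerToEnd_bijective B)

end subalgebra

section main

variable (B : Subalgebra k A) [Algebra.IsCentral k A] [IsSimpleRing A] [FiniteDimensional k A]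
  [IsSimpleRing B]

theorem finrank_twist {B' : Type w} [Ring B'] [Algebra k B'] (φ : B' →ₐ[k] A) :
    Module.finrank k (Twist φ) = Module.finrank k A := rfl

/-- Key structural result: with `N = dim (B ⊗ Aᵒᵖ)` and `m = dim A`, the `B ⊗ Aᵒᵖ`-modules `A^N`
and `(B ⊗ Aᵒᵖ)^m` are isomorphic, hence `M_N(C_A(B)) ≅ M_m((B ⊗ Aᵒᵖ)ᵒᵖ)`. -/
theorem exists_matrix_algEquiv :
    Nonempty (Matrix (Fin (Module.finrank k (B ⊗[k] Aᵐᵒᵖ))) (Fin (Module.finrank k (B ⊗[k] Aᵐᵒᵖ)))
        (Subalgebra.centralizer k (B : Set A))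
      ≃ₐ[k] Matrix (Fin (Module.finrank k A)) (Fin (Module.finrank k A)) (B ⊗[k] Aᵐᵒᵖ)ᵐᵒᵖ) := by
  haveI : IsSimpleRing (B ⊗[k] Aᵐᵒᵖ) := isSimpleRing_tensor
  haveI : IsArtinianRing (B ⊗[k] Aᵐᵒᵖ) := IsArtinianRing.of_finite k _
  have he : Nonempty ((Fin (Module.finrank k (B ⊗[k] Aᵐᵒᵖ)) → Twist B.val) ≃ₗ[B ⊗[k] Aᵐᵒᵖ]
      (Fin (Module.finrank k A) → B ⊗[k] Aᵐᵒᵖ)) := by
    apply nonempty_linearEquiv_of_finrank_eq (k := k)
    rw [Module.finrank_pi_fintype, Module.finrank_pi_fintype]
    simp only [Finset.sum_const, Finset.card_univ, Fintype.card_fin, smul_eq_mul, finrank_twist]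
    exact mul_comm _ _
  obtain ⟨e⟩ := he
  exact ⟨((centralizerEquivEnd B).mapMatrix).trans <|
    (endVecAlgEquivMatrixEnd (Fin (Module.finrank k (B ⊗[k] Aᵐᵒᵖ))) k (B ⊗[k] Aᵐᵒᵖ)
      (Twist B.val)).symm.trans <|
    (e.conjAlgEquiv k).trans <|
    (endVecAlgEquivMatrixEnd (Fin (Module.finrank k A)) k (B ⊗[k] Aᵐᵒᵖ) (B ⊗[k] Aᵐᵒᵖ)).trans <|
    (AlgEquiv.moduleEndSelf k).symm.mapMatrix⟩

end main

section consequences

variable (B : Subalgebra k A) [Algebra.IsCentral k A] [IsSimpleRing A] [FiniteDimensional k A]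
  [IsSimpleRing B]

theorem finrank_R_pos : 0 < Module.finrank k (B ⊗[k] Aᵐᵒᵖ) := by
  haveI : Nontrivial (B ⊗[k] Aᵐᵒᵖ) := nontrivial_tensor
  exact Module.finrank_pos

theorem finrank_A_pos : 0 < Module.finrank k A := Module.finrank_pos

theorem finrank_R : Module.finrank k (B ⊗[k] Aᵐᵒᵖ) = Module.finrank k B * Module.finrank k A := by
  rw [Module.finrank_tensorProduct, LinearEquiv.finrank_eq (MulOpposite.opLinearEquiv k).symm]

/-- The centralizer of a simple subalgebra of a finite central simple algebra is simple. -/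
theorem isSimpleRing_centralizer : IsSimpleRing (Subalgebra.centralizer k (B : Set A)) := by
  classical
  obtain ⟨e⟩ := exists_matrix_algEquiv B
  haveI : IsSimpleRing (B ⊗[k] Aᵐᵒᵖ) := isSimpleRing_tensor
  haveI : Nonempty (Fin (Module.finrank k A)) := ⟨⟨0, finrank_A_pos⟩⟩
  haveI : Nonempty (Fin (Module.finrank k (B ⊗[k] Aᵐᵒᵖ))) := ⟨⟨0, finrank_R_pos B⟩⟩
  have h1 : IsSimpleRing (Matrix (Fin (Module.finrank k A)) (Fin (Module.finrank k A))
      (B ⊗[k] Aᵐᵒᵖ)ᵐᵒᵖ) := inferInstance
  have h2 : IsSimpleRing (Matrix (Fin (Module.finrank k (B ⊗[k] Aᵐᵒᵖ)))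
      (Fin (Module.finrank k (B ⊗[k] Aᵐᵒᵖ))) (Subalgebra.centralizer k (B : Set A))) :=
    IsSimpleRing.of_ringEquiv e.symm.toRingEquiv h1
  exact ⟨(TwoSidedIdeal.orderIsoMatrix
    (n := Fin (Module.finrank k (B ⊗[k] Aᵐᵒᵖ)))).isSimpleOrder⟩

/-- `dim A = dim B * dim C_A(B)` for a simple subalgebra `B` of a finite central simple algebra. -/
theorem finrank_eq_mul_centralizer :
    Module.finrank k A =
      Module.finrank k B * Module.finrank k (Subalgebra.centralizer k (B : Set A)) := by
  obtain ⟨e⟩ := exists_matrix_algEquiv B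
  have h := LinearEquiv.finrank_eq e.toLinearEquiv
  rw [Module.finrank_matrix, Module.finrank_matrix,
    LinearEquiv.finrank_eq (MulOpposite.opLinearEquiv k (M := B ⊗[k] Aᵐᵒᵖ)).symm] at h
  simp only [Fintype.card_fin] at h
  have hN := finrank_R_pos B
  have hm : 0 < Module.finrank k A := finrank_A_pos
  have hR := finrank_R B
  set N := Module.finrank k (B ⊗[k] Aᵐᵒᵖ)
  set m := Module.finrank k A
  set c := Module.finrank k (Subalgebra.centralizer k (B : Set A))
  set b := Module.finrank k B
  -- h : N * N * c = m * m * N, hR : N = b * m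
  have h3 : N * (N * c) = N * (m * m) := by rw [← mul_assoc, h]; ring
  have h4 : N * c = m * m := Nat.eq_of_mul_eq_mul_left hN h3
  rw [hR] at h4
  have h5 : m * (b * c) = m * m := by rw [← h4]; ring
  exact (Nat.eq_of_mul_eq_mul_left hm h5).symm

/-- **Double centralizer theorem.** -/
theorem centralizer_centralizer :
    Subalgebra.centralizer k (Subalgebra.centralizer k (B : Set A) : Set A) = B := by
  haveI := isSimpleRing_centralizer B
  have h1 := finrank_eq_mul_centralizer B
  have h2 := finrank_eq_mul_centralizer (Subalgebra.centralizer k (B : Set A))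
  have hc : 0 < Module.finrank k (Subalgebra.centralizer k (B : Set A)) := Module.finrank_pos
  have h3 : Module.finrank k B =
      Module.finrank k (Subalgebra.centralizer k (Subalgebra.centralizer k (B : Set A) : Set A)) := by
    rw [h1, mul_comm] at h2
    exact Nat.eq_of_mul_eq_mul_left hc h2
  exact (Subalgebra.eq_of_le_of_finrank_eq (Subalgebra.le_centralizer_centralizer k) h3).symm

end consequences

section tensorDecomp

variable (B : Subalgebra k A) [Algebra.IsCentral k A] [IsSimpleRing A] [FiniteDimensional k A]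
  [IsSimpleRing B] [Algebra.IsCentral k B]

/-- For a central simple subalgebra `B` of a finite central simple algebra `A`, multiplication
`B ⊗ C_A(B) → A` is bijective. -/
theorem tensor_centralizer_bijective :
    Function.Bijective (Algebra.TensorProduct.lift B.val (Subalgebra.centralizer k (B : Set A)).val
      (fun x y => y.2 x.1 x.2)) := by
  set μ := Algebra.TensorProduct.lift B.val (Subalgebra.centralizer k (B : Set A)).val
      (fun x y => y.2 x.1 x.2) with hμ
  have hinj : Function.Injective μ := by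
    let ν : (Subalgebra.centralizer k (B : Set A)) ⊗[k] B →ₐ[k] A :=
      μ.comp (Algebra.TensorProduct.comm k (Subalgebra.centralizer k (B : Set A)) B).toAlgHom
    have hν : Function.Injective ν := by
      rw [← TwoSidedIdeal.ker_eq_bot]
      by_contra hne
      obtain ⟨c, hc, hcI⟩ := exists_tmul_one_mem_ideal (TwoSidedIdeal.ker ν) hne
      rw [TwoSidedIdeal.mem_ker] at hcI
      apply hc
      have : ν (c ⊗ₜ[k] (1 : B)) = (c : A) := by
        simp [ν, hμ]
      rw [this] at hcI
      exact Subtype.ext hcI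
    intro x y hxy
    have hx : x = (Algebra.TensorProduct.comm k (Subalgebra.centralizer k (B : Set A)) B)
        ((Algebra.TensorProduct.comm k (Subalgebra.centralizer k (B : Set A)) B).symm x) := by simp
    have hy : y = (Algebra.TensorProduct.comm k (Subalgebra.centralizer k (B : Set A)) B)
        ((Algebra.TensorProduct.comm k (Subalgebra.centralizer k (B : Set A)) B).symm y) := by simp
    have h := @hν ((Algebra.TensorProduct.comm k (Subalgebra.centralizer k (B : Set A)) B).symm x)
      ((Algebra.TensorProduct.comm k (Subalgebra.centralizer k (B : Set A)) B).symm y) (by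
        change μ ((Algebra.TensorProduct.comm k (Subalgebra.centralizer k (B : Set A)) B) _) =
          μ ((Algebra.TensorProduct.comm k (Subalgebra.centralizer k (B : Set A)) B) _)
        rw [← hx, ← hy, hxy])
    rw [hx, hy, h]
  refine ⟨hinj, ?_⟩
  have hdim : Module.finrank k (B ⊗[k] (Subalgebra.centralizer k (B : Set A))) =
      Module.finrank k A := by
    rw [Module.finrank_tensorProduct, ← finrank_eq_mul_centralizer B]
  exact (LinearMap.injective_iff_surjective_of_finrank_eq_finrank (f := μ.toLinearMap) hdim).1 hinj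

end tensorDecomp

end Groth.Agent.Lib.Lead.CSA
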