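/-
Finite-dimensional subalgebras of division algebras are division rings / fields; enlarging a separable
commutative subalgebra of a central division algebra by Jacobson–Noether.  (lead)
-/
import Mathlib.FieldTheory.JacobsonNoether
import Mathlib.FieldTheory.SeparableClosure
import Mathlib.FieldTheory.SeparableDegree
import Groth.Agent.Lib.Lead.Centralizer

set_option autoImplicit false
set_option linter.style.haveILetI false

namespace Groth.Agent.Lib.Lead.SubDivision

universe u v

section general

variable {F : Type u} [Field F] {D : Type v} [DivisionRing D] [Algebra F D]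

theorem isUnit_or_eq_zero (S : Subalgebra F D) [FiniteDimensional F S] (a : S) :
    IsUnit a ∨ a = 0 := by
  by_cases ha : a = 0
  · exact Or.inr ha
  · left
    have hinj : Function.Injective (LinearMap.mulLeft F a) := by
      intro b c hbc
      simp only [LinearMap.mulLeft_apply] at hbc
      exact mul_left_cancel₀ ha hbc
    obtain ⟨b, hb⟩ := (LinearMap.injective_iff_surjective (f := LinearMap.mulLeft F a)).1 hinj 1
    rw [LinearMap.mulLeft_apply] at hb
    have hba : b * a = 1 := by
      have h1 : (a : D) * (b : D) = 1 := congrArg Subtype.val hb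
      have ha' : (a : D) ≠ 0 := fun h => ha (Subtype.ext h)
      apply Subtype.ext
      show (b : D) * (a : D) = 1
      have : (b : D) = (a : D)⁻¹ := eq_inv_of_mul_eq_one_right h1
      rw [this, inv_mul_cancel₀ ha']
    exact ⟨⟨a, b, hb, hba⟩, rfl⟩

/-- A finite-dimensional subalgebra of a division algebra is a division ring. -/
noncomputable abbrev divisionRingSub (S : Subalgebra F D) [FiniteDimensional F S] :
    DivisionRing S :=
  DivisionRing.ofIsUnitOrEqZero (isUnit_or_eq_zero S)

/-- A commutative subalgebra is a commutative ring. -/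
abbrev commRingSub (S : Subalgebra F D) (hS : ∀ x ∈ S, ∀ y ∈ S, x * y = y * x) : CommRing S :=
  { (inferInstance : Ring S) with mul_comm := fun a b => Subtype.ext (hS a a.2 b b.2) }

/-- A finite-dimensional commutative subalgebra of a division algebra is a field. -/
noncomputable abbrev fieldSub (S : Subalgebra F D) [FiniteDimensional F S]
    (hS : ∀ x ∈ S, ∀ y ∈ S, x * y = y * x) : Field S :=
  letI := commRingSub S hS
  Field.ofIsUnitOrEqZero (isUnit_or_eq_zero S)

/-- A finite-dimensional subalgebra of a division algebra is a simple ring. -/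
theorem isSimpleRing_subalgebra (L : Subalgebra F D) [FiniteDimensional F L] : IsSimpleRing L := by
  letI := divisionRingSub L
  infer_instance

end general

section main

variable {k : Type u} [Field k] {D : Type v} [DivisionRing D] [Algebra k D]
  [Algebra.IsCentral k D] [FiniteDimensional k D]

/-- A separable commutative subalgebra of a finite central division algebra which is not its own
centralizer can be enlarged to a bigger separable commutative subalgebra (Jacobson–Noether). -/
theorem exists_lt_separable (L : Subalgebra k D) (hcomm : ∀ x ∈ L, ∀ y ∈ L, x * y = y * x)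
    (hsep : Algebra.IsSeparable k L) (hne : Subalgebra.centralizer k (L : Set D) ≠ L) :
    ∃ L₁ : Subalgebra k D, (∀ x ∈ L₁, ∀ y ∈ L₁, x * y = y * x) ∧ Algebra.IsSeparable k L₁ ∧
      L < L₁ := by
  classical
  have hLC : L ≤ Subalgebra.centralizer k (L : Set D) := fun x hx =>
    (Subalgebra.mem_centralizer_iff k).2 (fun g hg => hcomm g hg x hx)
  haveI : IsSimpleRing L := isSimpleRing_subalgebra L
  have hCC : Subalgebra.centralizer k
      ((Subalgebra.centralizer k (L : Set D) : Subalgebra k D) : Set D) = L :=
    Groth.Agent.Lib.Lead.CSA.centralizer_centralizer L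
  letI fL : Field L := fieldSub L hcomm
  letI dC : DivisionRing (Subalgebra.centralizer k (L : Set D)) := divisionRingSub _
  letI algLC : Algebra L (Subalgebra.centralizer k (L : Set D)) :=
    RingHom.toAlgebra' (Subalgebra.inclusion hLC).toRingHom
      (fun l c => Subtype.ext ((Subalgebra.mem_centralizer_iff k).1 c.2 l l.2))
  haveI : IsScalarTower k L (Subalgebra.centralizer k (L : Set D)) :=
    IsScalarTower.of_algebraMap_eq (fun c => rfl)
  haveI : Module.Finite L (Subalgebra.centralizer k (L : Set D)) :=
    Module.Finite.of_restrictScalars_finite k L _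
  haveI : Algebra.IsAlgebraic L (Subalgebra.centralizer k (L : Set D)) :=
    Algebra.IsAlgebraic.of_finite L _
  haveI : Algebra.IsCentral L (Subalgebra.centralizer k (L : Set D)) := ⟨fun z hz => by
    rw [Subalgebra.mem_center_iff] at hz
    have hzL' : (z : D) ∈ Subalgebra.centralizer k
        ((Subalgebra.centralizer k (L : Set D) : Subalgebra k D) : Set D) := by
      rw [Subalgebra.mem_centralizer_iff]
      intro g hg
      exact congrArg Subtype.val (hz ⟨g, hg⟩)
    have hzL : (z : D) ∈ L := (SetLike.ext_iff.1 hCC _).1 hzL'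
    exact Algebra.mem_bot.2 ⟨⟨z, hzL⟩, Subtype.ext rfl⟩⟩
  have hneq : (⊥ : Subalgebra L (Subalgebra.centralizer k (L : Set D))) ≠ ⊤ := by
    intro h
    apply hne
    apply le_antisymm _ hLC
    intro c hc
    have hmem : (⟨c, hc⟩ : Subalgebra.centralizer k (L : Set D)) ∈
        (⊤ : Subalgebra L (Subalgebra.centralizer k (L : Set D))) := Algebra.mem_top
    rw [← h] at hmem
    obtain ⟨l, hl⟩ := Algebra.mem_bot.1 hmem
    have hlc : (l : D) = c := congrArg Subtype.val hl
    rw [← hlc]; exact l.2
  obtain ⟨x, hx, hxsep⟩ := JacobsonNoether.exists_separable_and_not_isCentral' hneq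
  have hEcomm : ∀ a ∈ Algebra.adjoin L {x}, ∀ b ∈ Algebra.adjoin L {x}, a * b = b * a := by
    have hs : ∀ a ∈ ({x} : Set (Subalgebra.centralizer k (L : Set D))),
        ∀ b ∈ ({x} : Set (Subalgebra.centralizer k (L : Set D))), a * b = b * a := by
      intro a ha b hb
      rw [Set.mem_singleton_iff] at ha hb
      rw [ha, hb]
    haveI := Algebra.isMulCommutative_adjoin L hs
    intro a ha b hb
    exact congrArg Subtype.val (mul_comm' (⟨a, ha⟩ : Algebra.adjoin L {x}) ⟨b, hb⟩)
  have hx'sep : IsSeparable L (⟨x, Algebra.self_mem_adjoin_singleton L x⟩ : Algebra.adjoin L {x}) :=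
    (isSeparable_map_iff (Algebra.adjoin L {x}).val Subtype.val_injective).1 hxsep
  have htop : Algebra.adjoin L
      {(⟨x, Algebra.self_mem_adjoin_singleton L x⟩ : Algebra.adjoin L {x})} = ⊤ := by
    have h := Algebra.adjoin_adjoin_coe_preimage (R := L)
      (s := ({x} : Set (Subalgebra.centralizer k (L : Set D))))
    have hset : ((↑) : Algebra.adjoin L {x} → Subalgebra.centralizer k (L : Set D)) ⁻¹' {x} =
        {(⟨x, Algebra.self_mem_adjoin_singleton L x⟩ : Algebra.adjoin L {x})} := by
      ext y
      constructor
      · intro hy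
        exact Subtype.ext hy
      · intro hy
        rw [Set.mem_singleton_iff] at hy
        rw [hy]
        rfl
    rw [hset] at h
    exact h
  letI fE : Field (Algebra.adjoin L {x}) := fieldSub (Algebra.adjoin L {x}) hEcomm
  have hLE : Algebra.IsSeparable L (Algebra.adjoin L {x}) := by
    rw [← separableClosure.eq_top_iff, eq_top_iff]
    intro y _
    have hy : y ∈ Algebra.adjoin L
        {(⟨x, Algebra.self_mem_adjoin_singleton L x⟩ : Algebra.adjoin L {x})} := by
      rw [htop]; exact Algebra.mem_top
    have hle : Algebra.adjoin L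
        {(⟨x, Algebra.self_mem_adjoin_singleton L x⟩ : Algebra.adjoin L {x})} ≤
        (separableClosure L (Algebra.adjoin L {x})).toSubalgebra :=
      Algebra.adjoin_le (by
        rintro _ rfl
        exact mem_separableClosure_iff.2 hx'sep)
    exact hle hy
  haveI := hsep
  haveI := hLE
  have hkE : Algebra.IsSeparable k (Algebra.adjoin L {x}) := Algebra.IsSeparable.trans k L _
  let ψ : Algebra.adjoin L {x} →ₐ[k] D :=
    (Subalgebra.val _).comp ((Algebra.adjoin L {x}).val.restrictScalars k)
  have hψinj : Function.Injective ψ := fun a b h => Subtype.ext (Subtype.ext h)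
  refine ⟨ψ.range, ?_, ?_, ?_⟩
  · rintro _ ⟨a, rfl⟩ _ ⟨b, rfl⟩
    rw [← map_mul, ← map_mul, mul_comm]
  · exact AlgEquiv.Algebra.isSeparable (AlgEquiv.ofInjective ψ hψinj)
  · rw [SetLike.lt_iff_le_and_exists]
    refine ⟨?_, (x : D), ⟨⟨x, Algebra.self_mem_adjoin_singleton L x⟩, rfl⟩, ?_⟩
    · intro l hl
      exact ⟨algebraMap L (Algebra.adjoin L {x}) ⟨l, hl⟩, rfl⟩
    · intro hxL
      exact hx (Algebra.mem_bot.2 ⟨⟨x, hxL⟩, Subtype.ext rfl⟩)

end main

end Groth.Agent.Lib.Lead.SubDivision
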