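/-
More on central simple algebras: tensor products of central algebras are central; descent of
"central simple" along a field extension; splitting of tensor products.  (lead)
-/
import Groth.Agent.Lib.Lead.Split
import Groth.Agent.Lib.Lead.Brauer

set_option autoImplicit false
set_option linter.style.haveILetI false
set_option linter.unusedSectionVars false

namespace Groth.Agent.Lib.Lead.Split

open TensorProduct

universe u v w w'

section central2

variable {k : Type u} [Field k] {A : Type v} [Ring A] [Algebra k A]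
  {B : Type w} [Ring B] [Algebra k B]

/-- If `A` is central, an element of `B ⊗ A` commuting with all `1 ⊗ a` has the form `b ⊗ 1`. -/
theorem exists_tmul_one_of_commute [Algebra.IsCentral k A] (z : B ⊗[k] A)
    (hz : ∀ a : A, ((1 : B) ⊗ₜ[k] a) * z = z * ((1 : B) ⊗ₜ[k] a)) :
    ∃ b : B, z = b ⊗ₜ[k] (1 : A) := by
  classical
  let ℬ := Module.Free.chooseBasis k B
  set c := equivFinsuppOfBasisLeft ℬ z with hc
  have hcomm : ∀ (a : A) i, a * c i = c i * a := by
    intro a i
    have h := hz a
    rw [CSA.one_tmul_mul, CSA.mul_one_tmul] at h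
    have h2 := congrArg (fun y => equivFinsuppOfBasisLeft ℬ y i) h
    simp only [CSA.coeff_Lc, CSA.coeff_Rc] at h2
    exact h2
  have hcen : ∀ i, ∃ t : k, c i = algebraMap k A t := fun i =>
    (Algebra.IsCentral.mem_center_iff k).1 (Subalgebra.mem_center_iff.2 (fun a => hcomm a i))
  let g : A → k := fun a =>
    if h : ∃ t : k, a = algebraMap k A t then (if a = 0 then 0 else h.choose) else 0
  have hg0 : g 0 = 0 := by simp [g]
  have hg : ∀ i, algebraMap k A (g (c i)) = c i := by
    intro i
    by_cases h0 : c i = 0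
    · rw [h0, hg0, map_zero]
    · have h := hcen i
      simp only [g, dif_pos h, if_neg h0]
      exact h.choose_spec.symm
  refine ⟨ℬ.repr.symm (c.mapRange g hg0), ?_⟩
  apply (equivFinsuppOfBasisLeft ℬ).injective
  ext i
  rw [← hc, equivFinsuppOfBasisLeft_apply_tmul_apply]
  simp only [LinearEquiv.apply_symm_apply, Finsupp.mapRange_apply]
  rw [← Algebra.algebraMap_eq_smul_one, hg]

/-- The tensor product of two central algebras over a field is central. -/
theorem isCentral_tensor [Algebra.IsCentral k A] [Algebra.IsCentral k B] [Nontrivial A] :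
    Algebra.IsCentral k (B ⊗[k] A) := by
  refine ⟨fun z hz => ?_⟩
  rw [Subalgebra.mem_center_iff] at hz
  obtain ⟨b, hb⟩ := exists_tmul_one_of_commute z (fun a => hz _)
  have hinj : Function.Injective (Algebra.TensorProduct.includeLeft : B →ₐ[k] B ⊗[k] A) :=
    Algebra.TensorProduct.includeLeft_injective (algebraMap k A).injective
  have hbc : b ∈ Subalgebra.center k B := by
    rw [Subalgebra.mem_center_iff]
    intro b'
    apply hinj
    have h := hz (b' ⊗ₜ[k] (1 : A))
    rw [hb, Algebra.TensorProduct.tmul_mul_tmul, Algebra.TensorProduct.tmul_mul_tmul, mul_one] at h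
    exact h
  obtain ⟨t, ht⟩ := (Algebra.IsCentral.mem_center_iff k).1 hbc
  refine Algebra.mem_bot.2 ⟨t, ?_⟩
  rw [hb, ht, Algebra.TensorProduct.algebraMap_apply]

end central2

section descent2

variable {k : Type u} [Field k] {A : Type v} [Ring A] [Algebra k A] {K : Type w} [Field K]
  [Algebra k K]

/-- Descent of "central simple" along a field extension. -/
theorem isCentral_isSimpleRing_of_baseChange [hcK : Algebra.IsCentral K (K ⊗[k] A)]
    [hsK : IsSimpleRing (K ⊗[k] A)] : Algebra.IsCentral k A ∧ IsSimpleRing A := by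
  classical
  haveI : Nontrivial A :=
    (Algebra.TensorProduct.includeRight : A →ₐ[k] K ⊗[k] A).toRingHom.domain_nontrivial
  have hincl : Function.Injective (Algebra.TensorProduct.includeRight : A →ₐ[k] K ⊗[k] A) :=
    Algebra.TensorProduct.includeRight_injective (algebraMap k K).injective
  refine ⟨⟨fun a ha => ?_⟩, ?_⟩
  · have h1 : (1 : K) ⊗ₜ[k] a ∈ Subalgebra.center k (K ⊗[k] A) :=
      Algebra.TensorProduct.includeRight_map_center_le k K A ⟨a, ha, rfl⟩
    have h2 : (1 : K) ⊗ₜ[k] a ∈ Subalgebra.center K (K ⊗[k] A) := by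
      rw [Subalgebra.mem_center_iff] at h1 ⊢
      exact h1
    obtain ⟨κ, hκ⟩ := (Algebra.IsCentral.mem_center_iff K).1 h2
    let ℬ := Module.Free.chooseBasis k K
    obtain ⟨i, hi⟩ : ∃ i, ℬ.repr 1 i ≠ 0 := by
      by_contra hcon
      push_neg at hcon
      have h0 : ℬ.repr (1 : K) = 0 := Finsupp.ext hcon
      exact one_ne_zero ((LinearEquiv.map_eq_zero_iff _).1 h0)
    have h3 := congrArg (fun y => equivFinsuppOfBasisLeft ℬ y i) hκ
    simp only [Algebra.TensorProduct.algebraMap_apply, equivFinsuppOfBasisLeft_apply_tmul_apply,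
      Algebra.algebraMap_self, RingHom.id_apply] at h3
    refine Algebra.mem_bot.2 ⟨(ℬ.repr 1 i)⁻¹ * ℬ.repr κ i, ?_⟩
    rw [Algebra.algebraMap_eq_smul_one, mul_smul, ← h3, smul_smul, inv_mul_cancel₀ hi, one_smul]
  · refine IsSimpleRing.of_eq_bot_or_eq_top fun I => ?_
    by_cases hI : I = ⊤
    · exact Or.inr hI
    · left
      haveI : Nontrivial I.ringCon.Quotient := by
        refine nontrivial_of_ne (0 : I.ringCon.Quotient) 1 ?_
        intro h01
        apply hI
        rw [← TwoSidedIdeal.one_mem_iff, TwoSidedIdeal.mem_iff]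
        exact (RingCon.eq _).1 h01.symm
      let π : A →ₐ[k] I.ringCon.Quotient := RingCon.mkₐ k I.ringCon
      let Φ : K ⊗[k] A →ₐ[K] K ⊗[k] I.ringCon.Quotient :=
        Algebra.TensorProduct.map (AlgHom.id K K) π
      haveI : Nontrivial (K ⊗[k] I.ringCon.Quotient) := CSA.nontrivial_tensor
      have hΦ : Function.Injective Φ := (Φ : K ⊗[k] A →+* K ⊗[k] I.ringCon.Quotient).injective
      rw [eq_bot_iff]
      intro a ha
      have hπ : π a = 0 := by
        show (a : I.ringCon.Quotient) = ((0 : A) : I.ringCon.Quotient)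
        exact (RingCon.eq _).2 ((TwoSidedIdeal.mem_iff _ _).1 ha)
      have h1 : Φ ((1 : K) ⊗ₜ[k] a) = 0 := by
        simp only [Φ, Algebra.TensorProduct.map_tmul, hπ, TensorProduct.tmul_zero]
      have h0 : (1 : K) ⊗ₜ[k] a = 0 := hΦ (h1.trans (map_zero Φ).symm)
      have ha0 : a = 0 := hincl (h0.trans (map_zero _).symm)
      rw [ha0]
      exact (⊥ : TwoSidedIdeal A).zero_mem

end descent2

section tensorsplit

variable {k : Type u} [Field k] {A : Type v} [Ring A] [Algebra k A] [Algebra.IsCentral k A]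
  [IsSimpleRing A] [FiniteDimensional k A] {B : Type w} [Ring B] [Algebra k B]
  [Algebra.IsCentral k B] [IsSimpleRing B] [FiniteDimensional k B] {K : Type w'} [Field K]
  [Algebra k K]

/-- If `K` splits `A` and `B` then it splits `A ⊗ B`. -/
theorem splits_tensor (hA : Curves.Splits k A K) (hB : Curves.Splits k B K) :
    Curves.Splits k (A ⊗[k] B) K := by
  classical
  obtain ⟨n, hn, ⟨eA⟩⟩ := hA
  obtain ⟨m, hm, ⟨eB⟩⟩ := hB
  have hdA := finrank_of_splits_equiv eA
  have hdB := finrank_of_splits_equiv eB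
  haveI : IsSimpleRing (A ⊗[k] B) := CSA.isSimpleRing_tensor
  haveI : Algebra.IsCentral k (A ⊗[k] B) := isCentral_tensor
  let f : A →ₐ[k] Matrix (Fin n) (Fin n) (Matrix (Fin m) (Fin m) K) :=
    (((Algebra.ofId K (Matrix (Fin m) (Fin m) K)).restrictScalars k).mapMatrix).comp
      (Brauer.algHomOfSplit eA)
  let g : B →ₐ[k] Matrix (Fin n) (Fin n) (Matrix (Fin m) (Fin m) K) :=
    (Matrix.scalarAlgHom (Fin n) k).comp (Brauer.algHomOfSplit eB)
  have hfg : ∀ a b, Commute (f a) (g b) := by
    intro a b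
    ext i j
    simp only [f, g, AlgHom.comp_apply, AlgHom.mapMatrix_apply, Matrix.scalarAlgHom_apply,
      Matrix.scalar_apply, Matrix.mul_diagonal, Matrix.diagonal_mul, Matrix.map_apply,
      AlgHom.coe_restrictScalars']
    exact congrFun (congrFun (Algebra.commutes (R := K) (A := Matrix (Fin m) (Fin m) K)
      (Brauer.algHomOfSplit eA a i j) (Brauer.algHomOfSplit eB b)) _) _
  let ρ0 : A ⊗[k] B →ₐ[k] Matrix (Fin n) (Fin n) (Matrix (Fin m) (Fin m) K) :=
    Algebra.TensorProduct.lift f g hfg
  refine splits_of_algHom_matrix (n * m) (Nat.mul_ne_zero hn hm)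
    (((Matrix.reindexAlgEquiv k K finProdFinEquiv :
        Matrix (Fin n × Fin m) (Fin n × Fin m) K ≃ₐ[k] Matrix (Fin (n * m)) (Fin (n * m)) K) :
        Matrix (Fin n × Fin m) (Fin n × Fin m) K →ₐ[k] Matrix (Fin (n * m)) (Fin (n * m)) K).comp
      (((Matrix.compAlgEquiv (Fin n) (Fin m) K k :
        Matrix (Fin n) (Fin n) (Matrix (Fin m) (Fin m) K) ≃ₐ[k] _) :
        Matrix (Fin n) (Fin n) (Matrix (Fin m) (Fin m) K) →ₐ[k] _).comp ρ0)) ?_
  rw [Module.finrank_tensorProduct, hdA, hdB]
  ring

end tensorsplit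

end Groth.Agent.Lib.Lead.Split
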