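/-
Universe-polymorphic versions: a splitting field of degree `r` embeds into a Brauer-equivalent
algebra of dimension `r^2`; transport of a Brauer-equivalent algebra into the universe of `A`. (lead)
-/
import Groth.Agent.Lib.Lead.Brauer
import Groth.Agent.Lib.Lead.Split2

set_option autoImplicit false
set_option linter.style.haveILetI false
set_option linter.unusedSectionVars false

namespace Groth.Agent.Lib.Lead.Brauer

open TensorProduct

universe u v w w'

theorem isCentral_of_algEquiv' {K : Type u} [Field K] {D : Type v} {D' : Type w} [Ring D]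
    [Ring D'] [Algebra K D] [Algebra K D'] [h : Algebra.IsCentral K D] (e : D ≃ₐ[K] D') :
    Algebra.IsCentral K D' := ⟨fun z hz => by
  have h1 : e.symm z ∈ Subalgebra.center K D := by
    rw [Subalgebra.mem_center_iff] at hz ⊢
    intro b
    have h2 := congrArg e.symm (hz (e b))
    simpa using h2
  obtain ⟨κ, hκ⟩ := (Algebra.IsCentral.mem_center_iff K).1 h1
  refine Algebra.mem_bot.2 ⟨κ, ?_⟩
  apply e.symm.injective
  rw [hκ, AlgEquiv.commutes]⟩

/-- Forward direction of the splitting criterion, universe polymorphic: a finite extension `k'`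
splitting `A` embeds in a central simple algebra `B` similar to `A` with `dim B = [k':k]^2`; `B`
lives in the universe of `k'`. -/
theorem exists_algHom_of_splits (k : Type u) [Field k] (A : Type w) [Ring A] [Algebra k A]
    [Algebra.IsCentral k A] [IsSimpleRing A] [FiniteDimensional k A]
    (k' : Type v) [Field k'] [Algebra k k'] [FiniteDimensional k k'] (h : Curves.Splits k A k') :
    ∃ (Bty : Type v) (_ : Ring Bty) (_ : Algebra k Bty) (_ : Algebra.IsCentral k Bty)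
      (_ : IsSimpleRing Bty) (_ : FiniteDimensional k Bty) (_ : k' →ₐ[k] Bty) (m N : ℕ),
      m ≠ 0 ∧ N ≠ 0 ∧ Nonempty (Matrix (Fin m) (Fin m) A ≃ₐ[k] Matrix (Fin N) (Fin N) Bty) ∧
      Module.finrank k Bty = Module.finrank k k' ^ 2 := by
  classical
  obtain ⟨n, hn, ⟨e'⟩⟩ := Brauer.splits_op h
  have hAop : Module.finrank k Aᵐᵒᵖ = n ^ 2 := Split.finrank_of_splits_equiv e'
  let φ : Aᵐᵒᵖ →ₐ[k] Matrix (Fin n) (Fin n) k' := Brauer.algHomOfSplit e'
  letI modR : Module Aᵐᵒᵖ (Fin n → k') :=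
    Module.compHom _ (φ : Aᵐᵒᵖ →+* Matrix (Fin n) (Fin n) k')
  have hsm : ∀ (x : Aᵐᵒᵖ) (v : Fin n → k'), x • v = (φ x).mulVec v := fun _ _ => rfl
  haveI : IsScalarTower k Aᵐᵒᵖ (Fin n → k') :=
    ⟨fun c x v => by rw [hsm, hsm, map_smul, Matrix.smul_mulVec]⟩
  haveI : SMulCommClass k' Aᵐᵒᵖ (Fin n → k') :=
    ⟨fun c x v => by rw [hsm, hsm, Matrix.mulVec_smul]⟩
  obtain ⟨g⟩ := Brauer.exists_matrix_end_algEquiv k Aᵐᵒᵖ (Fin n → k')
  have hr : 0 < Module.finrank k k' := Module.finrank_pos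
  have hn0 : 0 < n := Nat.pos_of_ne_zero hn
  have hm : Module.finrank k (Fin n → k') = n * Module.finrank k k' := by
    rw [Module.finrank_pi_fintype]; simp
  have hN0 : Module.finrank k Aᵐᵒᵖ ≠ 0 := by rw [hAop]; positivity
  have hm0 : Module.finrank k (Fin n → k') ≠ 0 := by rw [hm]; positivity
  haveI : Nonempty (Fin (Module.finrank k Aᵐᵒᵖ)) := ⟨⟨0, Nat.pos_of_ne_zero hN0⟩⟩
  haveI : Nonempty (Fin (Module.finrank k (Fin n → k'))) := ⟨⟨0, Nat.pos_of_ne_zero hm0⟩⟩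
  let g' : Matrix (Fin (Module.finrank k Aᵐᵒᵖ)) (Fin (Module.finrank k Aᵐᵒᵖ))
      (Module.End Aᵐᵒᵖ (Fin n → k')) ≃ₐ[k]
      Matrix (Fin (Module.finrank k (Fin n → k'))) (Fin (Module.finrank k (Fin n → k'))) A :=
    g.trans (AlgEquiv.opOp k A).symm.mapMatrix
  haveI hc1 : Algebra.IsCentral k (Matrix (Fin (Module.finrank k Aᵐᵒᵖ))
      (Fin (Module.finrank k Aᵐᵒᵖ)) (Module.End Aᵐᵒᵖ (Fin n → k'))) :=
    isCentral_of_algEquiv' g'.symm
  haveI hc : Algebra.IsCentral k (Module.End Aᵐᵒᵖ (Fin n → k')) :=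
    Split.isCentral_of_matrix (n := Fin (Module.finrank k Aᵐᵒᵖ))
  haveI hs1 : IsSimpleRing (Matrix (Fin (Module.finrank k Aᵐᵒᵖ))
      (Fin (Module.finrank k Aᵐᵒᵖ)) (Module.End Aᵐᵒᵖ (Fin n → k'))) :=
    IsSimpleRing.of_ringEquiv g'.symm.toRingEquiv inferInstance
  haveI hs : IsSimpleRing (Module.End Aᵐᵒᵖ (Fin n → k')) :=
    Brauer.isSimpleRing_of_matrix (Fin (Module.finrank k Aᵐᵒᵖ)) _
  haveI hf1 : Module.Finite k (Matrix (Fin (Module.finrank k Aᵐᵒᵖ))
      (Fin (Module.finrank k Aᵐᵒᵖ)) (Module.End Aᵐᵒᵖ (Fin n → k'))) :=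
    Module.Finite.equiv g'.symm.toLinearEquiv
  haveI hf : Module.Finite k (Module.End Aᵐᵒᵖ (Fin n → k')) :=
    Module.Finite.of_surjective
      (Matrix.entryLinearMap k (Module.End Aᵐᵒᵖ (Fin n → k'))
        (⟨0, Nat.pos_of_ne_zero hN0⟩ : Fin (Module.finrank k Aᵐᵒᵖ))
        (⟨0, Nat.pos_of_ne_zero hN0⟩ : Fin (Module.finrank k Aᵐᵒᵖ)))
      (fun f => ⟨fun _ _ => f, rfl⟩)
  let ι : k' →ₐ[k] Module.End Aᵐᵒᵖ (Fin n → k') := Algebra.lsmul k Aᵐᵒᵖ (Fin n → k')
  refine ⟨Module.End Aᵐᵒᵖ (Fin n → k'), inferInstance, inferInstance, hc, hs, hf, ι,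
    Module.finrank k (Fin n → k'), Module.finrank k Aᵐᵒᵖ, hm0, hN0, ⟨g'.symm⟩, ?_⟩
  have hd := LinearEquiv.finrank_eq g'.toLinearEquiv
  rw [Module.finrank_matrix, Module.finrank_matrix] at hd
  simp only [Fintype.card_fin] at hd
  have hA : Module.finrank k A = n ^ 2 := by
    rw [← hAop]
    exact LinearEquiv.finrank_eq (MulOpposite.opLinearEquiv k)
  rw [hA, hm, hAop] at hd
  have hd' : n ^ 2 * n ^ 2 * Module.finrank k (Module.End Aᵐᵒᵖ (Fin n → k')) =
      n ^ 2 * n ^ 2 * Module.finrank k k' ^ 2 := by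
    rw [hd]; ring
  exact Nat.eq_of_mul_eq_mul_left (by positivity) hd'

/-- A central simple algebra `B₀` Brauer equivalent to `A` is isomorphic to a matrix algebra over
the division algebra of `A`, which lives in the universe of `A`. -/
theorem exists_algEquiv_matrix_of_similar (k : Type u) [Field k] (A : Type w) [Ring A]
    [Algebra k A] [Algebra.IsCentral k A] [IsSimpleRing A] [FiniteDimensional k A]
    (B₀ : Type v) [Ring B₀] [Algebra k B₀] [Algebra.IsCentral k B₀] [IsSimpleRing B₀]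
    [FiniteDimensional k B₀] (p q : ℕ) (hp : p ≠ 0) (hq : q ≠ 0)
    (e : Matrix (Fin p) (Fin p) A ≃ₐ[k] Matrix (Fin q) (Fin q) B₀) :
    ∃ (t : ℕ) (D : Type w) (_ : DivisionRing D) (_ : Algebra k D), t ≠ 0 ∧
      Nonempty (B₀ ≃ₐ[k] Matrix (Fin t) (Fin t) D) := by
  classical
  haveI : IsArtinianRing A := IsArtinianRing.of_finite k A
  haveI : IsArtinianRing B₀ := IsArtinianRing.of_finite k B₀
  obtain ⟨s, hs, D, _, _, _, ⟨eW⟩⟩ := IsSimpleRing.exists_algEquiv_matrix_divisionRing_finite k A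
  obtain ⟨t, ht, D₀, _, _, _, ⟨eW₀⟩⟩ :=
    IsSimpleRing.exists_algEquiv_matrix_divisionRing_finite k B₀
  haveI : Nonempty (Fin s) := ⟨⟨0, Nat.pos_of_ne_zero (NeZero.ne s)⟩⟩
  haveI : Nonempty (Fin t) := ⟨⟨0, Nat.pos_of_ne_zero (NeZero.ne t)⟩⟩
  haveI : Algebra.IsCentral k (Matrix (Fin s) (Fin s) D) := isCentral_of_algEquiv' eW
  haveI : Algebra.IsCentral k D := Split.isCentral_of_matrix (n := Fin s)
  haveI : Algebra.IsCentral k (Matrix (Fin t) (Fin t) D₀) := isCentral_of_algEquiv' eW₀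
  haveI : Algebra.IsCentral k D₀ := Split.isCentral_of_matrix (n := Fin t)
  let E : Matrix (Fin (q * t)) (Fin (q * t)) D₀ ≃ₐ[k] Matrix (Fin (p * s)) (Fin (p * s)) D :=
    ((Matrix.reindexAlgEquiv k D₀ finProdFinEquiv).symm.trans
      (Matrix.compAlgEquiv (Fin q) (Fin t) D₀ k).symm).trans <|
    (eW₀.symm.mapMatrix (m := Fin q)).trans <| e.symm.trans <| (eW.mapMatrix (m := Fin p)).trans <|
    (Matrix.compAlgEquiv (Fin p) (Fin s) D k).trans (Matrix.reindexAlgEquiv k D finProdFinEquiv)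
  obtain ⟨eD⟩ := Groth.Agent.S0193.result k D₀ D (q * t) (p * s)
    (Nat.mul_ne_zero hq (NeZero.ne t)) (Nat.mul_ne_zero hp (NeZero.ne s)) E
  exact ⟨t, D, inferInstance, inferInstance, NeZero.ne t, ⟨eW₀.trans eD.mapMatrix⟩⟩

end Groth.Agent.Lib.Lead.Brauer
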