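/-
Lead library: the explicit matrix model of a cyclic algebra: matrices M over K with
F * σ(M) = M * F, where F is the "companion matrix" of X^n - b.
-/
import Mathlib

set_option autoImplicit false

namespace Groth.Agent.Lib.Lead.CycMat

universe u v

open Fin.NatCast Fin.CommRing

variable {k : Type u} [Field k] {K : Type v} [Field K] [Algebra k K] (n : ℕ) [NeZero n]

theorem val_add_one (j : Fin n) : (j + 1).val = if j.val + 1 = n then 0 else j.val + 1 := by
  rw [Fin.val_add, Fin.val_one', Nat.add_mod_mod]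
  split_ifs with h
  · rw [h, Nat.mod_self]
  · exact Nat.mod_eq_of_lt (by have := j.isLt; omega)

/-- the coefficient: `b` at the last index, `1` elsewhere. -/
def cf (b : K) (j : Fin n) : K := if j.val + 1 = n then b else 1

theorem cf_ne_zero {b : K} (hb : b ≠ 0) (j : Fin n) : cf n b j ≠ 0 := by
  unfold cf
  split_ifs
  exacts [hb, one_ne_zero]

/-- the matrix `F` in cyclic form. -/
def F (b : K) : Matrix (Fin n) (Fin n) K :=
  Matrix.of fun i j => if i = j + 1 then cf n b j else 0

theorem F_apply (b : K) (i j : Fin n) : F n b i j = if i = j + 1 then cf n b j else 0 := rfl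

theorem F_eq (b : K) : F n b = Matrix.of (fun i j : Fin n =>
    if j.val + 1 = i.val then (1 : K) else if i.val = 0 ∧ j.val + 1 = n then b else 0) := by
  ext i j
  simp only [F, cf, Matrix.of_apply, Fin.ext_iff, val_add_one]
  have := i.isLt
  have := j.isLt
  split_ifs <;> first | rfl | omega

theorem F_mul_apply (b : K) (N : Matrix (Fin n) (Fin n) K) (i j : Fin n) :
    (F n b * N) (i + 1) j = cf n b i * N i j := by
  simp [Matrix.mul_apply, F_apply]

theorem mul_F_apply (b : K) (M : Matrix (Fin n) (Fin n) K) (i j : Fin n) :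
    (M * F n b) i j = M i (j + 1) * cf n b j := by
  simp [Matrix.mul_apply, F_apply]

theorem F_pow (b : K) (r : ℕ) : F n b ^ r = Matrix.of fun i j : Fin n =>
    if i = j + (r : Fin n) then ∏ s ∈ Finset.range r, cf n b (j + (s : Fin n)) else 0 := by
  induction r with
  | zero =>
    ext i j
    simp [Matrix.one_apply]
  | succ r ih =>
    rw [pow_succ, ih]
    ext i j
    rw [mul_F_apply]
    simp only [Matrix.of_apply]
    rw [Finset.prod_range_succ']
    have e1 : ∀ s : ℕ, j + ((s + 1 : ℕ) : Fin n) = j + 1 + (s : Fin n) := fun s => by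
      push_cast; ring
    simp only [e1, Nat.cast_zero, add_zero]
    split_ifs <;> simp

theorem prod_cf (b : K) (j : Fin n) : ∏ s ∈ Finset.range n, cf n b (j + (s : Fin n)) = b := by
  rw [← Fin.prod_univ_eq_prod_range (fun s => cf n b (j + (s : Fin n))) n]
  simp only [Fin.cast_val_eq_self]
  have h1 := Equiv.prod_comp (Equiv.addLeft j) (cf n b)
  simp only [Equiv.coe_addLeft] at h1
  rw [h1]
  have hn : 0 < n := Nat.pos_of_ne_zero (NeZero.ne n)
  rw [Finset.prod_eq_single (⟨n - 1, by omega⟩ : Fin n)]
  · unfold cf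
    rw [if_pos]
    show n - 1 + 1 = n
    omega
  · intro t _ ht
    unfold cf
    rw [if_neg]
    intro h
    apply ht
    ext
    show t.val = n - 1
    omega
  · intro h
    exact absurd (Finset.mem_univ _) h

theorem F_pow_n (b : K) : F n b ^ n = Matrix.diagonal fun _ => b := by
  rw [F_pow]
  ext i j
  simp only [Matrix.of_apply, Fin.natCast_self, add_zero, prod_cf, Matrix.diagonal_apply]

variable (σ : K ≃ₐ[k] K)

/-- entrywise action of σ. -/
noncomputable def φ : Matrix (Fin n) (Fin n) K →ₐ[k] Matrix (Fin n) (Fin n) K :=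
  (σ : K →ₐ[k] K).mapMatrix

theorem φ_apply (M : Matrix (Fin n) (Fin n) K) (i j : Fin n) : φ n σ M i j = σ (M i j) := rfl

theorem φ_F (b : k) : φ n σ (F n (algebraMap k K b)) = F n (algebraMap k K b) := by
  ext i j
  rw [φ_apply, F_apply]
  unfold cf
  split_ifs <;> simp

/-- the fixed subalgebra. -/
noncomputable def B (b : k) : Subalgebra k (Matrix (Fin n) (Fin n) K) where
  carrier := {M | F n (algebraMap k K b) * φ n σ M = M * F n (algebraMap k K b)}
  mul_mem' := by
    intro M N hM hN
    simp only [Set.mem_setOf_eq] at hM hN ⊢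
    rw [map_mul, ← mul_assoc, hM, mul_assoc, hN, mul_assoc]
  one_mem' := by simp
  add_mem' := by
    intro M N hM hN
    simp only [Set.mem_setOf_eq] at hM hN ⊢
    rw [map_add, mul_add, add_mul, hM, hN]
  zero_mem' := by simp
  algebraMap_mem' := by
    intro c
    show F n (algebraMap k K b) * φ n σ (algebraMap k _ c) = algebraMap k _ c * F n (algebraMap k K b)
    rw [AlgHom.commutes]
    exact (Algebra.commutes c _).symm

theorem mem_B (b : k) (M : Matrix (Fin n) (Fin n) K) :
    M ∈ B n σ b ↔ F n (algebraMap k K b) * φ n σ M = M * F n (algebraMap k K b) := Iff.rfl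

theorem F_mem (b : k) : F n (algebraMap k K b) ∈ B n σ b := by
  rw [mem_B, φ_F]

/-- the diagonal embedding x ↦ diag(x, σ x, σ² x, …). -/
noncomputable def ι₀ : K →ₐ[k] Matrix (Fin n) (Fin n) K :=
  (Matrix.diagonalAlgHom k).comp
    (Pi.algHom k (fun _ : Fin n => K) (fun i => ((σ ^ i.val : K ≃ₐ[k] K) : K →ₐ[k] K)))

theorem ι₀_apply (x : K) : ι₀ n σ x = Matrix.diagonal (fun i : Fin n => (σ ^ i.val) x) := rfl

theorem pow_val_add_one (hσn : σ ^ n = 1) (j : Fin n) : σ ^ (j + 1).val = σ ^ (j.val + 1) := by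
  rw [val_add_one]
  split_ifs with h
  · rw [h, hσn, pow_zero]
  · rfl

theorem ι₀_mem (hσn : σ ^ n = 1) (b : k) (x : K) : ι₀ n σ x ∈ B n σ b := by
  rw [mem_B]
  have hφ : φ n σ (ι₀ n σ x) = Matrix.diagonal (fun i : Fin n => σ ((σ ^ i.val) x)) := by
    ext i j
    rw [φ_apply, ι₀_apply]
    by_cases h : i = j
    · subst h
      simp
    · simp [Matrix.diagonal_apply, h]
  ext i j
  rw [hφ, ι₀_apply, Matrix.mul_diagonal, Matrix.diagonal_mul, F_apply]
  split_ifs with h
  · subst h
    rw [pow_val_add_one n σ hσn, pow_succ', AlgEquiv.mul_apply]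
    exact mul_comm _ _
  · simp

theorem ι₀_mul_F (hσn : σ ^ n = 1) (b : K) (x : K) :
    ι₀ n σ x * F n b = F n b * ι₀ n σ (σ x) := by
  ext i j
  rw [ι₀_apply, ι₀_apply, Matrix.mul_diagonal, Matrix.diagonal_mul, F_apply]
  split_ifs with h
  · subst h
    rw [pow_val_add_one n σ hσn, pow_succ, AlgEquiv.mul_apply]
    exact mul_comm _ _
  · simp

theorem eq_zero_of_col {b : K} (hb : b ≠ 0) (M : Matrix (Fin n) (Fin n) K)
    (hM : F n b * φ n σ M = M * F n b) (h0 : ∀ i, M i 0 = 0) : M = 0 := by
  have key : ∀ (s : ℕ) (i : Fin n), M i (s : Fin n) = 0 := by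
    intro s
    induction s with
    | zero =>
      intro i
      simpa using h0 i
    | succ s ih =>
      intro i
      have h1 := congrFun (congrFun hM (i - 1 + 1)) (s : Fin n)
      rw [F_mul_apply, mul_F_apply, φ_apply, ih, map_zero, mul_zero] at h1
      have h2 : M (i - 1 + 1) ((s : Fin n) + 1) = 0 := by
        rcases mul_eq_zero.1 h1.symm with h | h
        · exact h
        · exact absurd h (cf_ne_zero n hb _)
      rw [sub_add_cancel] at h2
      push_cast
      exact h2
  ext i j
  have := key j.val i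
  rw [Fin.cast_val_eq_self] at this
  simpa using this

end Groth.Agent.Lib.Lead.CycMat
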