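/-
Cyclic algebras: an algebra generated by `ι(K)` and `y` with `y^n = b`, `ι x * y = y * ι (σ x)` and
dimension `n^2` (`K/k` cyclic Galois of degree `n` with generator `σ`) is `⊕ y^i ι(K)`, central
simple.  (lead)
-/
import Mathlib.FieldTheory.Galois.Basic
import Mathlib.GroupTheory.SpecificGroups.Cyclic.Basic
import Mathlib.RingTheory.SimpleRing.Basic
import Mathlib.Algebra.Central.Defs
import Mathlib.LinearAlgebra.FiniteDimensional.Lemmas
import Mathlib.LinearAlgebra.Dimension.Free
import Mathlib.RingTheory.TwoSidedIdeal.Operations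

set_option autoImplicit false
set_option linter.style.haveILetI false
set_option linter.unusedSectionVars false
set_option linter.unusedVariables false

namespace Groth.Agent.Lib.Lead.Cyclic

universe u v w

variable {k : Type u} [Field k] {K : Type v} [Field K] [Algebra k K]
  {A : Type w} [Ring A] [Algebra k A]

theorem comm_pow {σ : K ≃ₐ[k] K} (ι : K →ₐ[k] A) (y : A)
    (hcomm : ∀ x : K, ι x * y = y * ι (σ x)) (j : ℕ) (x : K) :
    ι x * y ^ j = y ^ j * ι ((σ ^ j) x) := by
  induction j generalizing x with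
  | zero => simp
  | succ j ih =>
    rw [pow_succ, ← mul_assoc, ih, mul_assoc, hcomm, ← mul_assoc, pow_succ' σ, AlgEquiv.mul_apply]

theorem isUnit_y (y : A) (b : kˣ) (hy : y ^ Module.finrank k K = algebraMap k A (b : k))
    (hpos : 0 < Module.finrank k K) : IsUnit y :=
  (isUnit_pow_iff hpos.ne').1 (hy ▸ (b.isUnit.map (algebraMap k A)))

/-- The map `(c_i) ↦ ∑ y^i ι(c_i)`. -/
noncomputable def Ψ (ι : K →ₐ[k] A) (y : A) : (Fin (Module.finrank k K) → K) →ₗ[k] A where
  toFun c := ∑ i : Fin (Module.finrank k K), y ^ i.val * ι (c i)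
  map_add' c c' := by simp [mul_add, Finset.sum_add_distrib]
  map_smul' t c := by simp [Finset.smul_sum, mul_smul_comm]

theorem Ψ_apply (ι : K →ₐ[k] A) (y : A) (c : Fin (Module.finrank k K) → K) :
    Ψ ι y c = ∑ i : Fin (Module.finrank k K), y ^ i.val * ι (c i) := rfl

theorem pow_mul_mem (ι : K →ₐ[k] A) (y : A) (b : kˣ)
    (hy : y ^ Module.finrank k K = algebraMap k A (b : k)) (hpos : 0 < Module.finrank k K)
    (i : ℕ) (c : K) : y ^ i * ι c ∈ LinearMap.range (Ψ ι y) := by
  refine ⟨Pi.single ⟨i % Module.finrank k K, Nat.mod_lt _ hpos⟩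
    ((b : k) ^ (i / Module.finrank k K) • c), ?_⟩
  rw [Ψ_apply, Finset.sum_eq_single ⟨i % Module.finrank k K, Nat.mod_lt _ hpos⟩]
  · rw [Pi.single_eq_same, map_smul, Algebra.smul_def, ← mul_assoc]
    conv_rhs => rw [← Nat.mod_add_div i (Module.finrank k K), pow_add, pow_mul, hy, ← map_pow]
  · intro j _ hj
    rw [Pi.single_eq_of_ne hj, map_zero, mul_zero]
  · intro h
    exact absurd (Finset.mem_univ _) h

theorem range_Ψ {σ : K ≃ₐ[k] K} (ι : K →ₐ[k] A) (y : A) (b : kˣ)
    (hy : y ^ Module.finrank k K = algebraMap k A (b : k))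
    (hcomm : ∀ x : K, ι x * y = y * ι (σ x))
    (hgen : Algebra.adjoin k (Set.range ι ∪ {y}) = ⊤) (hpos : 0 < Module.finrank k K) :
    LinearMap.range (Ψ ι y) = ⊤ := by
  have hone : (1 : A) ∈ LinearMap.range (Ψ ι y) := by
    simpa using pow_mul_mem ι y b hy hpos 0 1
  have hmul : ∀ a a', a ∈ LinearMap.range (Ψ ι y) → a' ∈ LinearMap.range (Ψ ι y) →
      a * a' ∈ LinearMap.range (Ψ ι y) := by
    rintro _ _ ⟨c, rfl⟩ ⟨c', rfl⟩
    rw [Ψ_apply, Ψ_apply, Finset.sum_mul]
    refine Submodule.sum_mem _ fun i _ => ?_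
    rw [Finset.mul_sum]
    refine Submodule.sum_mem _ fun j _ => ?_
    have h1 : y ^ i.val * ι (c i) * (y ^ j.val * ι (c' j)) =
        y ^ (i.val + j.val) * ι ((σ ^ j.val) (c i) * c' j) := by
      rw [mul_assoc, ← mul_assoc (ι (c i)), comm_pow ι y hcomm, mul_assoc, ← map_mul, ← mul_assoc,
        ← pow_add]
    rw [h1]
    exact pow_mul_mem ι y b hy hpos _ _
  have hle : Algebra.adjoin k (Set.range ι ∪ {y}) ≤
      (LinearMap.range (Ψ ι y)).toSubalgebra hone hmul := Algebra.adjoin_le (by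
    rintro a (⟨c, rfl⟩ | rfl)
    · simpa using pow_mul_mem ι y b hy hpos 0 c
    · simpa using pow_mul_mem ι a b hy hpos 1 1)
  rw [hgen] at hle
  exact eq_top_iff.2 (fun a _ => hle Algebra.mem_top)

theorem Ψ_bijective {σ : K ≃ₐ[k] K} (ι : K →ₐ[k] A) (y : A) (b : kˣ)
    (hy : y ^ Module.finrank k K = algebraMap k A (b : k))
    (hcomm : ∀ x : K, ι x * y = y * ι (σ x))
    (hgen : Algebra.adjoin k (Set.range ι ∪ {y}) = ⊤) (hpos : 0 < Module.finrank k K)
    (hdim : Module.finrank k A = Module.finrank k K ^ 2) : Function.Bijective (Ψ ι y) := by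
  have hsurj : Function.Surjective (Ψ ι y) :=
    LinearMap.range_eq_top.1 (range_Ψ ι y b hy hcomm hgen hpos)
  haveI : FiniteDimensional k K := Module.finite_of_finrank_pos hpos
  have hfin : Module.finrank k (Fin (Module.finrank k K) → K) = Module.finrank k A := by
    rw [Module.finrank_pi_fintype]
    simp [hdim, sq]
  haveI : FiniteDimensional k A :=
    Module.finite_of_finrank_pos (by rw [hdim]; exact Nat.pos_of_ne_zero (pow_ne_zero 2 hpos.ne'))
  exact ⟨(LinearMap.injective_iff_surjective_of_finrank_eq_finrank hfin).2 hsurj, hsurj⟩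

theorem ι_mul_Ψ {σ : K ≃ₐ[k] K} (ι : K →ₐ[k] A) (y : A)
    (hcomm : ∀ x : K, ι x * y = y * ι (σ x)) (x : K) (c : Fin (Module.finrank k K) → K) :
    ι x * Ψ ι y c = Ψ ι y (fun i => (σ ^ i.val) x * c i) := by
  rw [Ψ_apply, Ψ_apply, Finset.mul_sum]
  refine Finset.sum_congr rfl fun i _ => ?_
  rw [← mul_assoc, comm_pow ι y hcomm, mul_assoc, ← map_mul]

theorem Ψ_mul_ι (ι : K →ₐ[k] A) (y : A) (x : K) (c : Fin (Module.finrank k K) → K) :
    Ψ ι y c * ι x = Ψ ι y (fun i => c i * x) := by
  rw [Ψ_apply, Ψ_apply, Finset.sum_mul]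
  refine Finset.sum_congr rfl fun i _ => ?_
  rw [mul_assoc, ← map_mul]

theorem pow_inj [FiniteDimensional k K] [IsGalois k K] {σ : K ≃ₐ[k] K}
    (hσ : ∀ τ : K ≃ₐ[k] K, τ ∈ Subgroup.zpowers σ) (i j : Fin (Module.finrank k K))
    (h : σ ^ i.val = σ ^ j.val) : i = j := by
  have hord : orderOf σ = Module.finrank k K := by
    rw [orderOf_eq_card_of_forall_mem_zpowers hσ, IsGalois.card_aut_eq_finrank]
  apply Fin.ext
  exact pow_injOn_Iio_orderOf (by rw [hord]; exact i.2) (by rw [hord]; exact j.2) h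

section main

variable [FiniteDimensional k K] [IsGalois k K] {σ : K ≃ₐ[k] K}
  (hσ : ∀ τ : K ≃ₐ[k] K, τ ∈ Subgroup.zpowers σ) (ι : K →ₐ[k] A) (y : A) (b : kˣ)
  (hy : y ^ Module.finrank k K = algebraMap k A (b : k))
  (hcomm : ∀ x : K, ι x * y = y * ι (σ x))
  (hgen : Algebra.adjoin k (Set.range ι ∪ {y}) = ⊤) (hpos : 0 < Module.finrank k K)
  (hdim : Module.finrank k A = Module.finrank k K ^ 2)

include hσ hy hcomm hgen hpos hdim

theorem nontrivial : Nontrivial A :=
  Module.nontrivial_of_finrank_pos (R := k)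
    (by rw [hdim]; exact Nat.pos_of_ne_zero (pow_ne_zero 2 hpos.ne'))

theorem isSimpleRing : IsSimpleRing A := by
  classical
  haveI : Nontrivial A := nontrivial hσ ι y b hy hcomm hgen hpos hdim
  have hbij := Ψ_bijective ι y b hy hcomm hgen hpos hdim
  have huy := isUnit_y (K := K) y b hy hpos
  refine IsSimpleRing.of_eq_bot_or_eq_top fun I => ?_
  by_cases hI : I = ⊥
  · exact Or.inl hI
  right
  have key : ∀ (m : ℕ) (c : Fin (Module.finrank k K) → K),
      (Finset.univ.filter (fun i => c i ≠ 0)).card = m → c ≠ 0 → Ψ ι y c ∈ I → (1 : A) ∈ I := by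
    intro m
    induction m using Nat.strong_induction_on with
    | _ m ih =>
      intro c hcard hc0 hcI
      obtain ⟨j, hj⟩ : ∃ j, c j ≠ 0 := by
        by_contra h
        push_neg at h
        exact hc0 (funext h)
      by_cases hall : ∀ (x : K) (i : Fin (Module.finrank k K)),
          (σ ^ i.val) x * c i = c i * (σ ^ j.val) x
      · have hsupp : ∀ i, c i ≠ 0 → i = j := by
          intro i hi
          apply pow_inj hσ
          ext x
          have h1 := hall x i
          rw [mul_comm] at h1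
          exact mul_left_cancel₀ hi h1
        have hΨ : Ψ ι y c = y ^ j.val * ι (c j) := by
          rw [Ψ_apply, Finset.sum_eq_single j]
          · intro i _ hij
            have h0 : c i = 0 := by
              by_contra h
              exact hij (hsupp i h)
            rw [h0, map_zero, mul_zero]
          · intro h
            exact absurd (Finset.mem_univ _) h
        have hu : IsUnit (y ^ j.val * ι (c j)) :=
          (huy.pow _).mul ((isUnit_iff_ne_zero.2 hj).map ι)
        rw [hΨ] at hcI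
        obtain ⟨u, hu'⟩ := hu
        have h2 := I.mul_mem_left (↑u⁻¹ : A) _ hcI
        rwa [← hu', Units.inv_mul] at h2
      · push_neg at hall
        obtain ⟨x, i₀, hx⟩ := hall
        have hc'I : Ψ ι y (fun i => (σ ^ i.val) x * c i - c i * (σ ^ j.val) x) ∈ I := by
          have h3 : Ψ ι y (fun i => (σ ^ i.val) x * c i - c i * (σ ^ j.val) x) =
              ι x * Ψ ι y c - Ψ ι y c * ι ((σ ^ j.val) x) := by
            rw [ι_mul_Ψ ι y hcomm, Ψ_mul_ι, ← map_sub]
            rfl
          rw [h3]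
          exact I.sub_mem (I.mul_mem_left _ _ hcI) (I.mul_mem_right _ _ hcI)
        have hc'0 : (fun i => (σ ^ i.val) x * c i - c i * (σ ^ j.val) x) ≠ 0 :=
          fun h => hx (sub_eq_zero.1 (congrFun h i₀))
        have hsub : Finset.univ.filter
            (fun i => (σ ^ i.val) x * c i - c i * (σ ^ j.val) x ≠ 0) ⊂
            Finset.univ.filter (fun i => c i ≠ 0) := by
          rw [Finset.ssubset_iff_of_subset]
          · refine ⟨j, by simp [hj], by simp [mul_comm]⟩
          · intro i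
            simp only [Finset.mem_filter, Finset.mem_univ, true_and]
            intro hi hci
            apply hi
            simp [hci]
        exact ih _ (by rw [← hcard]; exact Finset.card_lt_card hsub) _ rfl hc'0 hc'I
  obtain ⟨a, haI, ha0⟩ : ∃ a ∈ I, a ≠ 0 := by
    by_contra h
    push_neg at h
    apply hI
    rw [eq_bot_iff]
    intro a ha
    rw [h a ha]
    exact (⊥ : TwoSidedIdeal A).zero_mem
  obtain ⟨c, rfl⟩ := hbij.2 a
  have h1 := key _ c rfl (by rintro rfl; exact ha0 (map_zero _)) haI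
  exact (TwoSidedIdeal.one_mem_iff I).1 h1

theorem isCentral : Algebra.IsCentral k A := by
  classical
  haveI : Nontrivial A := nontrivial hσ ι y b hy hcomm hgen hpos hdim
  have hbij := Ψ_bijective ι y b hy hcomm hgen hpos hdim
  have huy := isUnit_y (K := K) y b hy hpos
  refine ⟨fun a ha => ?_⟩
  rw [Subalgebra.mem_center_iff] at ha
  obtain ⟨c, rfl⟩ := hbij.2 a
  have h0 : ∀ i : Fin (Module.finrank k K), i ≠ ⟨0, hpos⟩ → c i = 0 := by
    intro i hi
    by_contra hci
    have h1 : σ ^ i.val = σ ^ ((⟨0, hpos⟩ : Fin (Module.finrank k K)) : ℕ) := by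
      ext x
      have h2 := ha (ι x)
      rw [ι_mul_Ψ ι y hcomm, Ψ_mul_ι] at h2
      have h3 := congrFun (hbij.1 h2) i
      simp only [pow_zero, AlgEquiv.one_apply]
      rw [mul_comm] at h3
      exact mul_left_cancel₀ hci h3
    exact hi (pow_inj hσ _ _ h1)
  have hΨ : Ψ ι y c = ι (c ⟨0, hpos⟩) := by
    rw [Ψ_apply, Finset.sum_eq_single ⟨0, hpos⟩]
    · simp
    · intro i _ hi
      rw [h0 i hi, map_zero, mul_zero]
    · intro h
      exact absurd (Finset.mem_univ _) h
  have hfix : σ (c ⟨0, hpos⟩) = c ⟨0, hpos⟩ := by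
    have h1 := ha y
    rw [hΨ, hcomm] at h1
    have h2 := huy.mul_right_injective h1
    exact (ι.toRingHom.injective h2).symm
  have hall : ∀ τ : K ≃ₐ[k] K, τ (c ⟨0, hpos⟩) = c ⟨0, hpos⟩ := by
    intro τ
    have hle : Subgroup.zpowers σ ≤ MulAction.stabilizer (K ≃ₐ[k] K) (c ⟨0, hpos⟩) := by
      rw [Subgroup.zpowers_le]
      exact hfix
    exact hle (hσ τ)
  obtain ⟨t, ht⟩ := IntermediateField.mem_bot.1 ((IsGalois.mem_bot_iff_fixed _).2 hall)
  rw [hΨ, ← ht]
  exact Algebra.mem_bot.2 ⟨t, (ι.commutes t).symm⟩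

end main

end Groth.Agent.Lib.Lead.Cyclic
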