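/-
Cyclic algebras, part 2: independence of the powers of `y` over `ι(K)` from the commutation relation
alone, centralizer of `ι(K)`.  (lead)
-/
import Groth.Agent.Lib.Lead.Cyclic

set_option autoImplicit false
set_option linter.style.haveILetI false
set_option linter.unusedSectionVars false
set_option linter.unusedVariables false

namespace Groth.Agent.Lib.Lead.Cyclic

universe u v w

variable {k : Type u} [Field k] {K : Type v} [Field K] [Algebra k K]
  {A : Type w} [Ring A] [Algebra k A]

section general

variable [FiniteDimensional k K] [IsGalois k K] {σ : K ≃ₐ[k] K}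
  (hσ : ∀ τ : K ≃ₐ[k] K, τ ∈ Subgroup.zpowers σ) (ι : K →ₐ[k] A) (y : A) (huy : IsUnit y)
  (hcomm : ∀ x : K, ι x * y = y * ι (σ x))

include hσ huy hcomm

/-- A two-sided ideal containing a nonzero combination `∑ y^i ι(c_i)` is everything. -/
theorem one_mem_of_Ψ_mem (I : TwoSidedIdeal A) (c : Fin (Module.finrank k K) → K) (hc0 : c ≠ 0)
    (hcI : Ψ ι y c ∈ I) : (1 : A) ∈ I := by
  classical
  have key : ∀ (m : ℕ) (c : Fin (Module.finrank k K) → K),
      (Finset.univ.filter (fun i => c i ≠ 0)).card = m → c ≠ 0 → Ψ ι y c ∈ I → (1 : A) ∈ I := by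
    intro m
    induction m using Nat.strong_induction_on with
    | _ m ih =>
      intro c hcard hc0 hcI
      obtain ⟨j, hj⟩ : ∃ j, c j ≠ 0 := by
        by_contra h
        push_neg at h
        exact hc0 (funext h)
      by_cases hall : ∀ (x : K) (i : Fin (Module.finrank k K)),
          (σ ^ i.val) x * c i = c i * (σ ^ j.val) x
      · have hsupp : ∀ i, c i ≠ 0 → i = j := by
          intro i hi
          apply pow_inj hσ
          ext x
          have h1 := hall x i
          rw [mul_comm] at h1
          exact mul_left_cancel₀ hi h1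
        have hΨ : Ψ ι y c = y ^ j.val * ι (c j) := by
          rw [Ψ_apply, Finset.sum_eq_single j]
          · intro i _ hij
            have h0 : c i = 0 := by
              by_contra h
              exact hij (hsupp i h)
            rw [h0, map_zero, mul_zero]
          · intro h
            exact absurd (Finset.mem_univ _) h
        have hu : IsUnit (y ^ j.val * ι (c j)) :=
          (huy.pow _).mul ((isUnit_iff_ne_zero.2 hj).map ι)
        rw [hΨ] at hcI
        obtain ⟨u, hu'⟩ := hu
        have h2 := I.mul_mem_left (↑u⁻¹ : A) _ hcI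
        rwa [← hu', Units.inv_mul] at h2
      · push_neg at hall
        obtain ⟨x, i₀, hx⟩ := hall
        have hc'I : Ψ ι y (fun i => (σ ^ i.val) x * c i - c i * (σ ^ j.val) x) ∈ I := by
          have h3 : Ψ ι y (fun i => (σ ^ i.val) x * c i - c i * (σ ^ j.val) x) =
              ι x * Ψ ι y c - Ψ ι y c * ι ((σ ^ j.val) x) := by
            rw [ι_mul_Ψ ι y hcomm, Ψ_mul_ι, ← map_sub]
            rfl
          rw [h3]
          exact I.sub_mem (I.mul_mem_left _ _ hcI) (I.mul_mem_right _ _ hcI)
        have hc'0 : (fun i => (σ ^ i.val) x * c i - c i * (σ ^ j.val) x) ≠ 0 :=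
          fun h => hx (sub_eq_zero.1 (congrFun h i₀))
        have hsub : Finset.univ.filter
            (fun i => (σ ^ i.val) x * c i - c i * (σ ^ j.val) x ≠ 0) ⊂
            Finset.univ.filter (fun i => c i ≠ 0) := by
          rw [Finset.ssubset_iff_of_subset]
          · refine ⟨j, by simp [hj], by simp [mul_comm]⟩
          · intro i
            simp only [Finset.mem_filter, Finset.mem_univ, true_and]
            intro hi hci
            apply hi
            simp [hci]
        exact ih _ (by rw [← hcard]; exact Finset.card_lt_card hsub) _ rfl hc'0 hc'I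
  exact key _ c rfl hc0 hcI

/-- The powers `1, y, …, y^(n-1)` are independent over `ι(K)`. -/
theorem Ψ_injective [Nontrivial A] : Function.Injective (Ψ ι y) := by
  rw [injective_iff_map_eq_zero]
  intro c hc
  by_contra hc0
  have h1 : (1 : A) ∈ (⊥ : TwoSidedIdeal A) :=
    one_mem_of_Ψ_mem hσ ι y huy hcomm ⊥ c hc0 (by rw [hc]; exact (⊥ : TwoSidedIdeal A).zero_mem)
  rw [TwoSidedIdeal.mem_bot] at h1
  exact one_ne_zero h1

/-- An element `ι c` commuting with `y` comes from the base field. -/
theorem exists_algebraMap_eq_of_commute [Nontrivial A] (c : K) (h : ι c * y = y * ι c) :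
    ∃ t : k, algebraMap k K t = c := by
  have hfix : σ c = c := by
    rw [hcomm] at h
    have h2 := huy.mul_right_injective h
    exact ι.toRingHom.injective h2
  have hall : ∀ τ : K ≃ₐ[k] K, τ c = c := by
    intro τ
    have hle : Subgroup.zpowers σ ≤ MulAction.stabilizer (K ≃ₐ[k] K) c := by
      rw [Subgroup.zpowers_le]
      exact hfix
    exact hle (hσ τ)
  exact IntermediateField.mem_bot.1 ((IsGalois.mem_bot_iff_fixed _).2 hall)

/-- If `∑ y^i ι(c_i)` is a bijective parametrisation, the centralizer of `ι(K)` is `ι(K)`. -/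
theorem exists_ι_eq_of_commute (hbij : Function.Bijective (Ψ ι y)) (hpos : 0 < Module.finrank k K)
    (a : A) (ha : ∀ x : K, ι x * a = a * ι x) : ∃ c : K, a = ι c := by
  obtain ⟨c, rfl⟩ := hbij.2 a
  have h0 : ∀ i : Fin (Module.finrank k K), i ≠ ⟨0, hpos⟩ → c i = 0 := by
    intro i hi
    by_contra hci
    have h1 : σ ^ i.val = σ ^ ((⟨0, hpos⟩ : Fin (Module.finrank k K)) : ℕ) := by
      ext x
      have h2 := ha x
      rw [ι_mul_Ψ ι y hcomm, Ψ_mul_ι] at h2
      have h3 := congrFun (hbij.1 h2) i
      simp only [pow_zero, AlgEquiv.one_apply]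
      rw [mul_comm] at h3
      exact mul_left_cancel₀ hci h3
    exact hi (pow_inj hσ _ _ h1)
  refine ⟨c ⟨0, hpos⟩, ?_⟩
  rw [Ψ_apply, Finset.sum_eq_single ⟨0, hpos⟩]
  · simp
  · intro i _ hi
    rw [h0 i hi, map_zero, mul_zero]
  · intro h
    exact absurd (Finset.mem_univ _) h

theorem pow_finrank_eq_one : σ ^ Module.finrank k K = 1 := by
  have hord : orderOf σ = Module.finrank k K := by
    rw [orderOf_eq_card_of_forall_mem_zpowers hσ, IsGalois.card_aut_eq_finrank]
  rw [← hord]
  exact pow_orderOf_eq_one σ

end general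

end Groth.Agent.Lib.Lead.Cyclic
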