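/-
Lead library: uniqueness of cyclic algebras: two algebras presented as the cyclic algebra
attached to the same (K, σ, b) are isomorphic.
-/
import Groth.Agent.Lib.Lead.Cyclic2
import Groth.Prelude.Def_GSzCSA

set_option autoImplicit false
set_option linter.style.haveILetI false

namespace Groth.Agent.Lib.Lead.Cyclic

universe u v w w'

/-- A linear map between algebras that is multiplicative on a spanning set is multiplicative. -/
theorem map_mul_of_span {k : Type u} [CommSemiring k] {A : Type v} [Semiring A] [Algebra k A]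
    {B : Type w} [Semiring B] [Algebra k B] (l : A →ₗ[k] B) (G : Set A)
    (hG : Submodule.span k G = ⊤) (h : ∀ g ∈ G, ∀ g' ∈ G, l (g * g') = l g * l g') :
    ∀ x y : A, l (x * y) = l x * l y := by
  have key : (LinearMap.mul k A).compr₂ l = (LinearMap.mul k B).compl₁₂ l l := by
    refine LinearMap.ext_on hG (fun g hg => LinearMap.ext_on hG (fun g' hg' => ?_))
    simpa using h g hg g' hg'
  intro x y
  have := LinearMap.congr_fun (LinearMap.congr_fun key x) y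
  simpa using this

variable {k : Type u} [Field k] {K : Type v} [Field K] [Algebra k K]
  {A : Type w} [Ring A] [Algebra k A]

theorem Ψ_single (ι : K →ₐ[k] A) (y : A) (b : kˣ)
    (hy : y ^ Module.finrank k K = algebraMap k A (b : k)) (hpos : 0 < Module.finrank k K)
    (i : ℕ) (c : K) :
    Ψ ι y (Pi.single ⟨i % Module.finrank k K, Nat.mod_lt _ hpos⟩
      ((b : k) ^ (i / Module.finrank k K) • c)) = y ^ i * ι c := by
  rw [Ψ_apply, Finset.sum_eq_single ⟨i % Module.finrank k K, Nat.mod_lt _ hpos⟩]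
  · rw [Pi.single_eq_same, map_smul, Algebra.smul_def, ← mul_assoc]
    conv_rhs => rw [← Nat.mod_add_div i (Module.finrank k K), pow_add, pow_mul, hy, ← map_pow]
  · intro j _ hj
    rw [Pi.single_eq_of_ne hj, map_zero, mul_zero]
  · intro h
    exact absurd (Finset.mem_univ _) h

theorem pow_mul_pow {σ : K ≃ₐ[k] K} (ι : K →ₐ[k] A) (y : A)
    (hcomm : ∀ x : K, ι x * y = y * ι (σ x)) (i j : ℕ) (c c' : K) :
    y ^ i * ι c * (y ^ j * ι c') = y ^ (i + j) * ι ((σ ^ j) c * c') := by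
  rw [mul_assoc, ← mul_assoc (ι c), comm_pow ι y hcomm, mul_assoc, ← map_mul, ← mul_assoc,
    ← pow_add]

theorem span_eq_top (ι : K →ₐ[k] A) (y : A) (hsurj : Function.Surjective (Ψ ι y)) :
    Submodule.span k {a : A | ∃ (i : ℕ) (c : K), a = y ^ i * ι c} = ⊤ := by
  rw [eq_top_iff]
  intro a _
  obtain ⟨c, rfl⟩ := hsurj a
  rw [Ψ_apply]
  exact Submodule.sum_mem _ fun i _ => Submodule.subset_span ⟨i.val, c i, rfl⟩

section uniq

variable {A' : Type w'} [Ring A'] [Algebra k A']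

theorem nonempty_algEquiv {σ : K ≃ₐ[k] K} {b : kˣ}
    (h₁ : CSAGal.IsCyclicAlg k K σ b A) (h₂ : CSAGal.IsCyclicAlg k K σ b A') :
    Nonempty (A ≃ₐ[k] A') := by
  obtain ⟨ι₁, y₁, hy₁, hc₁, hg₁, hpos, hd₁⟩ := h₁
  obtain ⟨ι₂, y₂, hy₂, hc₂, hg₂, _, hd₂⟩ := h₂
  have hb₁ := Ψ_bijective ι₁ y₁ b hy₁ hc₁ hg₁ hpos hd₁
  have hb₂ := Ψ_bijective ι₂ y₂ b hy₂ hc₂ hg₂ hpos hd₂
  let e₁ := LinearEquiv.ofBijective (Ψ ι₁ y₁) hb₁
  let e₂ := LinearEquiv.ofBijective (Ψ ι₂ y₂) hb₂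
  let φ : A ≃ₗ[k] A' := e₁.symm.trans e₂
  have hφ : ∀ (i : ℕ) (c : K), φ (y₁ ^ i * ι₁ c) = y₂ ^ i * ι₂ c := by
    intro i c
    rw [← Ψ_single ι₁ y₁ b hy₁ hpos i c, ← Ψ_single ι₂ y₂ b hy₂ hpos i c]
    show e₂ (e₁.symm (e₁ _)) = _
    rw [LinearEquiv.symm_apply_apply]
    rfl
  have hone : φ 1 = 1 := by
    have := hφ 0 1
    simpa using this
  have hmul : ∀ x x' : A, φ (x * x') = φ x * φ x' := by
    refine map_mul_of_span (φ : A →ₗ[k] A') _ (span_eq_top ι₁ y₁ hb₁.2) ?_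
    rintro _ ⟨i, c, rfl⟩ _ ⟨j, c', rfl⟩
    show φ _ = φ _ * φ _
    rw [pow_mul_pow ι₁ y₁ hc₁, hφ, hφ, hφ, pow_mul_pow ι₂ y₂ hc₂]
  exact ⟨AlgEquiv.ofLinearEquiv φ hone hmul⟩

end uniq

end Groth.Agent.Lib.Lead.Cyclic
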