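/-
Lead library: the matrix model `CycMat.B n σ b` is presented as the cyclic algebra (K, σ, b).
-/
import Groth.Agent.Lib.Lead.CycMat
import Groth.Agent.Lib.Lead.Cyclic3

set_option autoImplicit false
set_option linter.style.haveILetI false

namespace Groth.Agent.Lib.Lead.CycMat

universe u v

variable {k : Type u} [Field k] {K : Type v} [Field K] [Algebra k K]
  [FiniteDimensional k K] [IsGalois k K] {σ : K ≃ₐ[k] K}

theorem pow_finrank_eq_one (hσ : ∀ τ : K ≃ₐ[k] K, τ ∈ Subgroup.zpowers σ) :
    σ ^ Module.finrank k K = 1 := by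
  have hord : orderOf σ = Module.finrank k K := by
    rw [orderOf_eq_card_of_forall_mem_zpowers hσ, IsGalois.card_aut_eq_finrank]
  rw [← hord]
  exact pow_orderOf_eq_one σ

instance neZero_finrank : NeZero (Module.finrank k K) :=
  ⟨(Module.finrank_pos (R := k) (M := K)).ne'⟩

/-- the embedding of `K` in the matrix model. -/
noncomputable def ιB (hσ : ∀ τ : K ≃ₐ[k] K, τ ∈ Subgroup.zpowers σ) (b : k) :
    K →ₐ[k] B (Module.finrank k K) σ b :=
  (ι₀ (Module.finrank k K) σ).codRestrict _
    (ι₀_mem (Module.finrank k K) σ (pow_finrank_eq_one hσ) b)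

/-- the generator `y` of the matrix model. -/
noncomputable def yB (σ : K ≃ₐ[k] K) (b : k) : B (Module.finrank k K) σ b :=
  ⟨F (Module.finrank k K) (algebraMap k K b), F_mem (Module.finrank k K) σ b⟩

theorem isCyclicAlg_B (hσ : ∀ τ : K ≃ₐ[k] K, τ ∈ Subgroup.zpowers σ) (b : kˣ) :
    CSAGal.IsCyclicAlg k K σ b (B (Module.finrank k K) σ (b : k)) := by
  classical
  have hσn := pow_finrank_eq_one hσ
  have hy : yB σ (b : k) ^ Module.finrank k K = algebraMap k _ (b : k) := by
    apply Subtype.ext
    rw [SubmonoidClass.coe_pow, Subalgebra.coe_algebraMap]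
    show F (Module.finrank k K) (algebraMap k K (b : k)) ^ Module.finrank k K = _
    rw [F_pow_n, Matrix.algebraMap_eq_diagonal]
    rfl
  have hcomm : ∀ x : K, ιB hσ (b : k) x * yB σ (b : k) = yB σ (b : k) * ιB hσ (b : k) (σ x) :=
    fun x => Subtype.ext (ι₀_mul_F (Module.finrank k K) σ hσn _ x)
  have huy : IsUnit (yB σ (b : k)) := by
    have h1 : IsUnit (yB σ (b : k) ^ Module.finrank k K) := by
      rw [hy]
      exact b.isUnit.map _
    exact (isUnit_pow_iff (NeZero.ne _)).1 h1
  have hinj := Groth.Agent.Lib.Lead.Cyclic.Ψ_injective hσ (ιB hσ (b : k)) (yB σ (b : k)) huy hcomm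
  have hle1 : Module.finrank k K * Module.finrank k K ≤
      Module.finrank k (B (Module.finrank k K) σ (b : k)) := by
    have h1 := LinearMap.finrank_le_finrank_of_injective hinj
    rw [Module.finrank_pi_fintype] at h1
    simpa using h1
  let col : B (Module.finrank k K) σ (b : k) →ₗ[k] (Fin (Module.finrank k K) → K) :=
    { toFun := fun M i => M.1 i 0
      map_add' := fun M N => rfl
      map_smul' := fun c M => rfl }
  have hcol : Function.Injective col := by
    rw [injective_iff_map_eq_zero]
    intro M hM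
    apply Subtype.ext
    refine eq_zero_of_col (Module.finrank k K) σ
      (b := algebraMap k K (b : k)) ?_ M.1 M.2 (fun i => congrFun hM i)
    rw [Ne, map_eq_zero]
    exact b.ne_zero
  have hle2 : Module.finrank k (B (Module.finrank k K) σ (b : k)) ≤
      Module.finrank k K * Module.finrank k K := by
    have h1 := LinearMap.finrank_le_finrank_of_injective hcol
    rw [Module.finrank_pi_fintype] at h1
    simpa using h1
  have hdim : Module.finrank k (B (Module.finrank k K) σ (b : k)) =
      Module.finrank k K ^ 2 := by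
    rw [sq]
    exact le_antisymm hle2 hle1
  have hfin : Module.finrank k (Fin (Module.finrank k K) → K) =
      Module.finrank k (B (Module.finrank k K) σ (b : k)) := by
    rw [Module.finrank_pi_fintype, hdim]
    simp [sq]
  have hsurj : Function.Surjective
      (Groth.Agent.Lib.Lead.Cyclic.Ψ (ιB hσ (b : k)) (yB σ (b : k))) :=
    (LinearMap.injective_iff_surjective_of_finrank_eq_finrank hfin).1 hinj
  refine ⟨ιB hσ (b : k), yB σ (b : k), hy, hcomm, ?_, Module.finrank_pos, hdim⟩
  rw [eq_top_iff]
  intro a _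
  obtain ⟨c, rfl⟩ := hsurj a
  rw [Groth.Agent.Lib.Lead.Cyclic.Ψ_apply]
  refine Subalgebra.sum_mem _ fun i _ => ?_
  have hy' : yB σ (b : k) ∈ Algebra.adjoin k (Set.range (ιB hσ (b : k)) ∪ {yB σ (b : k)}) :=
    Algebra.subset_adjoin (Set.mem_union_right _ (Set.mem_singleton _))
  have hι : ∀ c : K, ιB hσ (b : k) c ∈
      Algebra.adjoin k (Set.range (ιB hσ (b : k)) ∪ {yB σ (b : k)}) :=
    fun c => Algebra.subset_adjoin (Set.mem_union_left _ ⟨c, rfl⟩)
  exact Subalgebra.mul_mem _ (Subalgebra.pow_mem _ hy' _) (hι _)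

end Groth.Agent.Lib.Lead.CycMat
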