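/-
Lead library: a cyclic algebra (K, σ, b) is split iff b is a norm from K.
-/
import Mathlib
import Groth.Agent.Lib.Lead.Cyclic3
import Groth.Agent.Lib.Lead.Split

set_option autoImplicit false
set_option linter.style.haveILetI false

namespace Groth.Agent.Lib.Lead.Cyclic

universe u v w

variable {k : Type u} [Field k] {K : Type v} [Field K] [Algebra k K]
  {A : Type w} [Ring A] [Algebra k A]

section

variable [FiniteDimensional k K] [IsGalois k K] {σ : K ≃ₐ[k] K}

theorem csa_of_isCyclicAlg (hσ : ∀ τ : K ≃ₐ[k] K, τ ∈ Subgroup.zpowers σ) {b : kˣ}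
    (h : CSAGal.IsCyclicAlg k K σ b A) :
    Nontrivial A ∧ IsSimpleRing A ∧ Algebra.IsCentral k A ∧ FiniteDimensional k A := by
  obtain ⟨ι, y, hy, hc, hg, hpos, hd⟩ := h
  refine ⟨nontrivial hσ ι y b hy hc hg hpos hd, isSimpleRing hσ ι y b hy hc hg hpos hd,
    isCentral hσ ι y b hy hc hg hpos hd, ?_⟩
  exact Module.finite_of_finrank_pos
    (by rw [hd]; exact Nat.pos_of_ne_zero (pow_ne_zero 2 hpos.ne'))

/-- the product of the conjugates `σ^i x`, `i < n`, is the norm. -/
theorem prod_pow_eq_norm (hσ : ∀ τ : K ≃ₐ[k] K, τ ∈ Subgroup.zpowers σ) (x : K) :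
    ∏ i : Fin (Module.finrank k K), (σ ^ i.val) x = algebraMap k K (Algebra.norm k x) := by
  classical
  rw [Algebra.norm_eq_prod_automorphisms]
  let f : Fin (Module.finrank k K) → (K ≃ₐ[k] K) := fun i => σ ^ i.val
  have hf : Function.Bijective f := by
    rw [Fintype.bijective_iff_injective_and_card]
    refine ⟨fun i j h => pow_inj hσ i j h, ?_⟩
    rw [Fintype.card_fin, ← Nat.card_eq_fintype_card, IsGalois.card_aut_eq_finrank]
  exact Function.Bijective.prod_comp hf (fun τ => τ x)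

theorem prod_range_pow_eq_norm (hσ : ∀ τ : K ≃ₐ[k] K, τ ∈ Subgroup.zpowers σ) (x : K) :
    ∏ i ∈ Finset.range (Module.finrank k K), (σ ^ i) x = algebraMap k K (Algebra.norm k x) := by
  rw [← prod_pow_eq_norm hσ x, Fin.prod_univ_eq_prod_range (fun i => (σ ^ i) x)]

end

theorem mul_ι_pow {σ : K ≃ₐ[k] K} (ι : K →ₐ[k] A) (y : A)
    (hcomm : ∀ x : K, ι x * y = y * ι (σ x)) (c : K) (j : ℕ) :
    (y * ι c) ^ j = y ^ j * ι (∏ i ∈ Finset.range j, (σ ^ i) c) := by
  induction j with
  | zero => simp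
  | succ j ih =>
    rw [pow_succ, ih, mul_assoc, ← mul_assoc (ι _) y, hcomm, mul_assoc, ← map_mul, ← mul_assoc,
      ← pow_succ, Finset.prod_range_succ', map_prod]
    simp only [pow_succ', AlgEquiv.mul_apply, pow_zero, AlgEquiv.one_apply]

section split

variable [FiniteDimensional k K] [IsGalois k K] {σ : K ≃ₐ[k] K}

/-- If `b` is a norm then the cyclic algebra `(K, σ, b)` is split. -/
theorem splits_of_norm (hσ : ∀ τ : K ≃ₐ[k] K, τ ∈ Subgroup.zpowers σ) {b : kˣ}
    (hA : CSAGal.IsCyclicAlg k K σ b A) (x : K) (hx : Algebra.norm k x = (b : k)) :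
    Curves.Splits k A k := by
  classical
  obtain ⟨hnt, hsimple, hcentral, hfd⟩ := csa_of_isCyclicAlg hσ hA
  obtain ⟨ι, y, hy, hc, hg, hpos, hd⟩ := hA
  have hx0 : x ≠ 0 := by
    rintro rfl
    rw [Algebra.norm_zero] at hx
    exact b.ne_zero hx.symm
  obtain ⟨z, hz⟩ : ∃ z : A, z = y * ι x⁻¹ := ⟨_, rfl⟩
  have hcz : ∀ c : K, ι c * z = z * ι (σ c) := by
    intro c
    rw [hz, ← mul_assoc, hc, mul_assoc, mul_assoc, ← map_mul, ← map_mul, mul_comm]
  have hzn : z ^ Module.finrank k K = 1 := by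
    rw [hz, mul_ι_pow ι y hc, hy, prod_range_pow_eq_norm hσ, Algebra.norm_inv, hx,
      AlgHom.commutes, ← map_mul, mul_inv_cancel₀ b.ne_zero, map_one]
  have huz : IsUnit z := IsUnit.of_pow_eq_one hzn hpos.ne'
  have hyz : y = z * ι x := by
    rw [hz, mul_assoc, ← map_mul, inv_mul_cancel₀ hx0, map_one, mul_one]
  obtain ⟨s, hs⟩ : ∃ s : A, s = ∑ i : Fin (Module.finrank k K), z ^ i.val := ⟨_, rfl⟩
  have hzs : z * s = s := by
    rw [hs, Fin.sum_univ_eq_sum_range (fun i => z ^ i), Finset.mul_sum]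
    have h1 := Finset.sum_range_succ' (fun i => z ^ i) (Module.finrank k K)
    have h2 := Finset.sum_range_succ (fun i => z ^ i) (Module.finrank k K)
    rw [h2, hzn, pow_zero] at h1
    have h3 : ∑ i ∈ Finset.range (Module.finrank k K), z * z ^ i =
        ∑ i ∈ Finset.range (Module.finrank k K), z ^ (i + 1) :=
      Finset.sum_congr rfl (fun i _ => (pow_succ' z i).symm)
    rw [h3]
    exact (add_right_cancel h1).symm
  let lin : K →ₗ[k] A := (LinearMap.mulRight k s).comp ι.toLinearMap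
  have hlin : ∀ c, lin c = ι c * s := fun c => rfl
  have hlin_inj : Function.Injective lin := by
    rw [injective_iff_map_eq_zero]
    intro c hc0
    rw [hlin, hs, Finset.mul_sum] at hc0
    have h1 : ∑ i : Fin (Module.finrank k K), ι c * z ^ i.val =
        Ψ ι z (fun i => (σ ^ i.val) c) := by
      rw [Ψ_apply]
      exact Finset.sum_congr rfl (fun i _ => comm_pow ι z hcz i.val c)
    rw [h1] at hc0
    have h2 := Ψ_injective hσ ι z huz hcz (hc0.trans (map_zero _).symm)
    have h3 := congrFun h2 ⟨0, hpos⟩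
    simpa using h3
  let I : Submodule k A := LinearMap.range lin
  have hI : ∀ (a : A) (v : A), v ∈ I → a * v ∈ I := by
    let S : Subalgebra k A :=
      { carrier := {a | ∀ v ∈ I, a * v ∈ I}
        mul_mem' := fun {a a'} ha ha' v hv => by
          rw [mul_assoc]
          exact ha _ (ha' v hv)
        one_mem' := fun v hv => by rwa [one_mul]
        add_mem' := fun {a a'} ha ha' v hv => by
          rw [add_mul]
          exact I.add_mem (ha v hv) (ha' v hv)
        zero_mem' := fun v _ => by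
          rw [zero_mul]
          exact I.zero_mem
        algebraMap_mem' := fun r v hv => by
          rw [← Algebra.smul_def]
          exact I.smul_mem r hv }
    have hS : Algebra.adjoin k (Set.range ι ∪ {y}) ≤ S := by
      refine Algebra.adjoin_le ?_
      rintro a (⟨c, rfl⟩ | ha)
      · rintro _ ⟨c', rfl⟩
        refine ⟨c * c', ?_⟩
        rw [hlin, hlin, map_mul, mul_assoc]
      · rw [Set.mem_singleton_iff] at ha
        rw [ha]
        rintro _ ⟨c', rfl⟩
        refine ⟨σ.symm (x * c'), ?_⟩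
        rw [hlin, hlin, hyz, mul_assoc, ← mul_assoc (ι x), ← map_mul]
        have h1 := hcz (σ.symm (x * c'))
        rw [AlgEquiv.apply_symm_apply] at h1
        rw [← mul_assoc, ← h1, mul_assoc, hzs]
    rw [hg] at hS
    intro a v hv
    exact hS (Algebra.mem_top : a ∈ (⊤ : Subalgebra k A)) v hv
  have hdimI : Module.finrank k I = Module.finrank k K :=
    LinearMap.finrank_range_of_inj hlin_inj
  let ρ : A →ₐ[k] Module.End k I :=
    { toFun := fun a => (LinearMap.mulLeft k a).restrict (fun v hv => hI a v hv)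
      map_one' := by
        ext v
        simp
      map_mul' := fun a a' => by
        ext v
        simp [mul_assoc]
      map_zero' := by
        ext v
        simp
      map_add' := fun a a' => by
        ext v
        simp [add_mul]
      commutes' := fun r => by
        ext v
        simp [Algebra.smul_def] }
  refine Split.splits_of_algHom_end (K := k) (V := I) ?_ ρ ?_
  · rw [hdimI]
    exact hpos.ne'
  · rw [hdimI, hd]

/-- If the cyclic algebra `(K, σ, b)` is split then `b` is a norm. -/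
theorem norm_of_splits (hσ : ∀ τ : K ≃ₐ[k] K, τ ∈ Subgroup.zpowers σ) {b : kˣ}
    (hA : CSAGal.IsCyclicAlg k K σ b A) (hs : Curves.Splits k A k) :
    ∃ x : K, Algebra.norm k x = (b : k) := by
  classical
  obtain ⟨hnt, hsimple, hcentral, hfd⟩ := csa_of_isCyclicAlg hσ hA
  obtain ⟨ι, y, hy, hc, hg, hpos, hd⟩ := hA
  obtain ⟨r, hr0, ⟨e₀⟩⟩ := hs
  have hr : r = Module.finrank k K := by
    have h1 := Split.finrank_of_splits_equiv e₀
    rw [hd] at h1
    exact (Nat.pow_left_injective two_ne_zero h1).symm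
  let e : A ≃ₐ[k] Matrix (Fin r) (Fin r) k := (Algebra.TensorProduct.lid k A).symm.trans e₀
  let ρ : A →ₐ[k] Module.End k (Fin r → k) :=
    ((Matrix.toLinAlgEquiv' : Matrix (Fin r) (Fin r) k ≃ₐ[k] Module.End k (Fin r → k)) :
      Matrix (Fin r) (Fin r) k →ₐ[k] Module.End k (Fin r → k)).comp (e : A →ₐ[k] _)
  let i₀ : Fin r := ⟨0, Nat.pos_of_ne_zero hr0⟩
  let v₀ : Fin r → k := Pi.single i₀ 1
  have hv₀ : v₀ ≠ 0 := by
    intro h
    have := congrFun h i₀
    simp [v₀] at this
  let g : K →ₗ[k] (Fin r → k) :=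
    (LinearMap.applyₗ v₀).comp (ρ.toLinearMap.comp ι.toLinearMap)
  have hg' : ∀ c, g c = ρ (ι c) v₀ := fun c => rfl
  have hmulρ : ∀ a a' : A, ∀ v, ρ (a * a') v = ρ a (ρ a' v) := by
    intro a a' v
    rw [map_mul]
    rfl
  have hg_inj : Function.Injective g := by
    rw [injective_iff_map_eq_zero]
    intro c hc0
    by_contra hne
    apply hv₀
    have h1 : ρ (ι (c⁻¹ * c)) v₀ = v₀ := by
      rw [inv_mul_cancel₀ hne, map_one, map_one]
      rfl
    rw [map_mul, hmulρ, ← hg', hc0, map_zero] at h1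
    exact h1.symm
  have hfin : Module.finrank k K = Module.finrank k (Fin r → k) := by
    rw [Module.finrank_fin_fun, hr]
  have hg_surj : Function.Surjective g :=
    (LinearMap.injective_iff_surjective_of_finrank_eq_finrank hfin).1 hg_inj
  obtain ⟨x₀, hx₀⟩ := hg_surj (ρ y v₀)
  have hτσ : ∀ c : K, σ ((σ⁻¹ : K ≃ₐ[k] K) c) = c := by
    intro c
    show (σ * σ⁻¹) c = c
    rw [mul_inv_cancel]
    rfl
  have key : ∀ j : ℕ, ρ (y ^ j) v₀ = g (∏ i ∈ Finset.range j, ((σ⁻¹ : K ≃ₐ[k] K) ^ i) x₀) := by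
    intro j
    induction j with
    | zero =>
      rw [pow_zero, Finset.prod_range_zero, hg', map_one ι]
    | succ j ih =>
      rw [pow_succ', hmulρ, ih, hg', ← hmulρ]
      have h1 := hc ((σ⁻¹ : K ≃ₐ[k] K) (∏ i ∈ Finset.range j, ((σ⁻¹ : K ≃ₐ[k] K) ^ i) x₀))
      rw [hτσ] at h1
      rw [← h1, hmulρ, ← hx₀, hg', ← hmulρ, ← map_mul, ← hg']
      congr 1
      rw [Finset.prod_range_succ', map_prod]
      simp only [pow_succ', AlgEquiv.mul_apply, pow_zero, AlgEquiv.one_apply]
  have h1 := key (Module.finrank k K)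
  rw [hy] at h1
  have h2 : ρ (algebraMap k A (b : k)) v₀ = g (algebraMap k K (b : k)) := by
    rw [hg', ι.commutes]
  rw [h2] at h1
  have h3 := hg_inj h1
  have hσ' : ∀ τ : K ≃ₐ[k] K, τ ∈ Subgroup.zpowers (σ⁻¹ : K ≃ₐ[k] K) := by
    intro τ
    rw [Subgroup.zpowers_inv]
    exact hσ τ
  rw [prod_range_pow_eq_norm hσ' x₀] at h3
  exact ⟨x₀, (FaithfulSMul.algebraMap_injective k K h3).symm⟩

end split

end Groth.Agent.Lib.Lead.Cyclic
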