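/-
Lead library: tensor product of cyclic algebras: (K, σ, b) ⊗ (K, σ, b') ~ (K, σ, b b').
Part 1: matrix preliminaries.
-/
import Mathlib
import Groth.Agent.Lib.Lead.CycMat2
import Groth.Agent.Lib.Lead.CyclicNorm

set_option autoImplicit false
set_option linter.style.haveILetI false

namespace Groth.Agent.Lib.Lead.CycTensor

open scoped Kronecker TensorProduct

universe u v w

section cyclicOfDim

variable {k : Type u} [Field k] {K : Type v} [Field K] [Algebra k K]
  [FiniteDimensional k K] [IsGalois k K] {σ : K ≃ₐ[k] K}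
  {A : Type w} [Ring A] [Algebra k A] [Nontrivial A]

/-- recognition of cyclic algebras by relations and dimension. -/
theorem isCyclicAlg_of_dim (hσ : ∀ τ : K ≃ₐ[k] K, τ ∈ Subgroup.zpowers σ) (ι : K →ₐ[k] A) (y : A)
    (b : kˣ) (hy : y ^ Module.finrank k K = algebraMap k A (b : k))
    (hcomm : ∀ x : K, ι x * y = y * ι (σ x))
    (hdim : Module.finrank k A = Module.finrank k K ^ 2) : CSAGal.IsCyclicAlg k K σ b A := by
  have hpos : 0 < Module.finrank k K := Module.finrank_pos
  haveI : FiniteDimensional k A := Module.finite_of_finrank_pos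
    (by rw [hdim]; exact Nat.pos_of_ne_zero (pow_ne_zero 2 hpos.ne'))
  have huy : IsUnit y := by
    have h1 : IsUnit (y ^ Module.finrank k K) := by
      rw [hy]
      exact b.isUnit.map _
    exact (isUnit_pow_iff hpos.ne').1 h1
  have hinj := Cyclic.Ψ_injective hσ ι y huy hcomm
  have hfin : Module.finrank k (Fin (Module.finrank k K) → K) = Module.finrank k A := by
    rw [Module.finrank_pi_fintype, hdim]
    simp [sq]
  have hsurj : Function.Surjective (Cyclic.Ψ ι y) :=
    (LinearMap.injective_iff_surjective_of_finrank_eq_finrank hfin).1 hinj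
  refine ⟨ι, y, hy, hcomm, ?_, hpos, hdim⟩
  rw [eq_top_iff]
  intro a _
  obtain ⟨c, rfl⟩ := hsurj a
  rw [Cyclic.Ψ_apply]
  refine Subalgebra.sum_mem _ fun i _ => ?_
  have hy' : y ∈ Algebra.adjoin k (Set.range ι ∪ {y}) :=
    Algebra.subset_adjoin (Set.mem_union_right _ (Set.mem_singleton _))
  have hι : ∀ c : K, ι c ∈ Algebra.adjoin k (Set.range ι ∪ {y}) :=
    fun c => Algebra.subset_adjoin (Set.mem_union_left _ ⟨c, rfl⟩)
  exact Subalgebra.mul_mem _ (Subalgebra.pow_mem _ hy' _) (hι _)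

end cyclicOfDim

section matrix

variable {k : Type u} [Field k] {K : Type v} [Field K] [Algebra k K]
variable {ι : Type w} [Fintype ι] [DecidableEq ι] (σ : K ≃ₐ[k] K)

/-- entrywise action of σ. -/
noncomputable def φ' : Matrix ι ι K →ₐ[k] Matrix ι ι K := (σ : K →ₐ[k] K).mapMatrix

theorem φ'_apply (M : Matrix ι ι K) (i j : ι) : φ' σ M i j = σ (M i j) := rfl

theorem map_mulVec (M : Matrix ι ι K) (v : ι → K) :
    (fun p => σ (M.mulVec v p)) = (φ' σ M).mulVec (fun p => σ (v p)) := by
  ext p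
  simp [Matrix.mulVec, dotProduct, φ'_apply, map_sum]

variable (k) in
/-- matrices acting `k`-linearly on column vectors. -/
noncomputable def mv : Matrix ι ι K →ₐ[k] Module.End k (ι → K) where
  toFun M := (Matrix.toLin' M).restrictScalars k
  map_one' := LinearMap.ext fun v => by simp
  map_mul' M N := LinearMap.ext fun v => by simp [Matrix.toLin'_mul]
  map_zero' := LinearMap.ext fun v => by simp
  map_add' M N := LinearMap.ext fun v => by simp [Matrix.add_mulVec]
  commutes' r := LinearMap.ext fun v => by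
    ext i
    simp [Matrix.algebraMap_eq_diagonal, Matrix.mulVec_diagonal, Algebra.smul_def]

theorem mv_apply (M : Matrix ι ι K) (v : ι → K) : mv k M v = M.mulVec v := rfl

end matrix

section kron

variable {k : Type u} [Field k] {K : Type v} [Field K] [Algebra k K] (m : ℕ)

/-- `X ↦ X ⊗ₖ 1`. -/
noncomputable def kl : Matrix (Fin m) (Fin m) K →ₐ[k] Matrix (Fin m × Fin m) (Fin m × Fin m) K where
  toFun X := X ⊗ₖ (1 : Matrix (Fin m) (Fin m) K)
  map_one' := Matrix.one_kronecker_one
  map_mul' X Y := by rw [← Matrix.mul_kronecker_mul, mul_one]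
  map_zero' := Matrix.zero_kronecker _
  map_add' X Y := Matrix.add_kronecker _ _ _
  commutes' r := by
    rw [Matrix.algebraMap_eq_diagonal, Matrix.algebraMap_eq_diagonal, ← Matrix.diagonal_one,
      Matrix.diagonal_kronecker_diagonal]
    congr 1
    ext p
    simp

/-- `X ↦ 1 ⊗ₖ X`. -/
noncomputable def kr : Matrix (Fin m) (Fin m) K →ₐ[k] Matrix (Fin m × Fin m) (Fin m × Fin m) K where
  toFun X := (1 : Matrix (Fin m) (Fin m) K) ⊗ₖ X
  map_one' := Matrix.one_kronecker_one
  map_mul' X Y := by rw [← Matrix.mul_kronecker_mul, mul_one]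
  map_zero' := Matrix.kronecker_zero _
  map_add' X Y := Matrix.kronecker_add _ _ _
  commutes' r := by
    rw [Matrix.algebraMap_eq_diagonal, Matrix.algebraMap_eq_diagonal, ← Matrix.diagonal_one,
      Matrix.diagonal_kronecker_diagonal]
    congr 1
    ext p
    simp

theorem kl_apply (X : Matrix (Fin m) (Fin m) K) :
    kl (k := k) m X = X ⊗ₖ (1 : Matrix (Fin m) (Fin m) K) := rfl

theorem kr_apply (X : Matrix (Fin m) (Fin m) K) :
    kr (k := k) m X = (1 : Matrix (Fin m) (Fin m) K) ⊗ₖ X := rfl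

theorem kl_mul_kr (X X' : Matrix (Fin m) (Fin m) K) :
    kl (k := k) m X * kr (k := k) m X' = X ⊗ₖ X' := by
  rw [kl_apply, kr_apply, ← Matrix.mul_kronecker_mul, mul_one, one_mul]

theorem kr_mul_kl (X X' : Matrix (Fin m) (Fin m) K) :
    kr (k := k) m X' * kl (k := k) m X = X ⊗ₖ X' := by
  rw [kl_apply, kr_apply, ← Matrix.mul_kronecker_mul, mul_one, one_mul]

theorem kronecker_pow (X X' : Matrix (Fin m) (Fin m) K) (j : ℕ) :
    (X ⊗ₖ X') ^ j = (X ^ j) ⊗ₖ (X' ^ j) := by
  induction j with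
  | zero => simp
  | succ j ih => rw [pow_succ, ih, ← Matrix.mul_kronecker_mul, ← pow_succ, ← pow_succ]

theorem φ'_kronecker (σ : K ≃ₐ[k] K) (X X' : Matrix (Fin m) (Fin m) K) :
    φ' σ (X ⊗ₖ X') = (φ' σ X) ⊗ₖ (φ' σ X') := by
  ext p q
  simp [φ'_apply, Matrix.kroneckerMap_apply]

theorem φ'_one (σ : K ≃ₐ[k] K) : φ' σ (1 : Matrix (Fin m) (Fin m) K) = 1 := map_one _

end kron

end Groth.Agent.Lib.Lead.CycTensor
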