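/-
Lead library: tensor product of cyclic algebras, part 2: the module K^{n×n} over
B_b ⊗ B_b' and its endomorphism algebra.
-/
import Mathlib
import Groth.Agent.Lib.Lead.CycTensor
import Groth.Agent.Lib.Lead.Brauer
import Groth.Agent.Lib.Lead.Brauer2
import Groth.Agent.Lib.Lead.Split2

set_option autoImplicit false
set_option linter.style.haveILetI false

namespace Groth.Agent.Lib.Lead.CycTensor

open scoped Kronecker TensorProduct
open Groth.Agent.Lib.Lead.CycMat

universe u v w

variable {k : Type u} [Field k] {K : Type v} [Field K] [Algebra k K]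
  [FiniteDimensional k K] [IsGalois k K] (σ : K ≃ₐ[k] K) (b b' : k)

/-- Kronecker map on the tensor product of the two matrix models. -/
noncomputable def Θ : (B (Module.finrank k K) σ b ⊗[k] B (Module.finrank k K) σ b') →ₐ[k]
    Matrix (Fin (Module.finrank k K) × Fin (Module.finrank k K))
      (Fin (Module.finrank k K) × Fin (Module.finrank k K)) K :=
  Algebra.TensorProduct.lift ((kl (k := k) _).comp (B _ σ b).val)
    ((kr (k := k) _).comp (B _ σ b').val)
    (fun x y => by
      show kl (k := k) _ x.1 * kr (k := k) _ y.1 = kr (k := k) _ y.1 * kl (k := k) _ x.1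
      rw [kl_mul_kr (k := k), kr_mul_kl (k := k)])

theorem Θ_tmul (x : B (Module.finrank k K) σ b) (y : B (Module.finrank k K) σ b') :
    Θ σ b b' (x ⊗ₜ[k] y) = x.1 ⊗ₖ y.1 := by
  rw [Θ, Algebra.TensorProduct.lift_tmul]
  exact kl_mul_kr (k := k) _ _ _

/-- the Kronecker product of the two companion matrices. -/
noncomputable def Gk : Matrix (Fin (Module.finrank k K) × Fin (Module.finrank k K))
    (Fin (Module.finrank k K) × Fin (Module.finrank k K)) K :=
  F (Module.finrank k K) (algebraMap k K b) ⊗ₖ F (Module.finrank k K) (algebraMap k K b')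

theorem φ'_Gk : φ' σ (Gk (K := K) b b') = Gk b b' := by
  rw [Gk, φ'_kronecker]
  congr 1
  · exact φ_F _ σ _
  · exact φ_F _ σ _

theorem Gk_mul_Θ (x : B (Module.finrank k K) σ b ⊗[k] B (Module.finrank k K) σ b') :
    Gk b b' * φ' σ (Θ σ b b' x) = Θ σ b b' x * Gk b b' := by
  induction x using TensorProduct.induction_on with
  | zero => simp
  | tmul x y =>
    rw [Θ_tmul, φ'_kronecker, Gk, ← Matrix.mul_kronecker_mul, ← Matrix.mul_kronecker_mul]
    congr 1
    · exact x.2
    · exact y.2
  | add x y hx hy => rw [map_add, map_add, mul_add, add_mul, hx, hy]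

theorem Gk_pow : Gk (K := K) b b' ^ Module.finrank k K =
    Matrix.diagonal (fun _ => algebraMap k K (b * b')) := by
  rw [Gk, kronecker_pow, F_pow_n, F_pow_n, Matrix.diagonal_kronecker_diagonal]
  simp [map_mul]

/-- the module `K^{n×n}`, as a type synonym. -/
def VV (_σ : K ≃ₐ[k] K) (_b _b' : k) : Type v :=
  Fin (Module.finrank k K) × Fin (Module.finrank k K) → K

noncomputable instance : AddCommGroup (VV σ b b') :=
  inferInstanceAs (AddCommGroup (Fin (Module.finrank k K) × Fin (Module.finrank k K) → K))

noncomputable instance : Module K (VV σ b b') :=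
  inferInstanceAs (Module K (Fin (Module.finrank k K) × Fin (Module.finrank k K) → K))

noncomputable instance : Module k (VV σ b b') :=
  inferInstanceAs (Module k (Fin (Module.finrank k K) × Fin (Module.finrank k K) → K))

instance : IsScalarTower k K (VV σ b b') :=
  inferInstanceAs (IsScalarTower k K (Fin (Module.finrank k K) × Fin (Module.finrank k K) → K))

instance : FiniteDimensional k (VV σ b b') :=
  inferInstanceAs
    (FiniteDimensional k (Fin (Module.finrank k K) × Fin (Module.finrank k K) → K))

noncomputable instance instModC :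
    Module (B (Module.finrank k K) σ b ⊗[k] B (Module.finrank k K) σ b') (VV σ b b') :=
  Module.compHom (Fin (Module.finrank k K) × Fin (Module.finrank k K) → K)
    (((mv k).comp (Θ σ b b')) :
      (B (Module.finrank k K) σ b ⊗[k] B (Module.finrank k K) σ b') →+*
        Module.End k (Fin (Module.finrank k K) × Fin (Module.finrank k K) → K))

theorem smul_def (x : B (Module.finrank k K) σ b ⊗[k] B (Module.finrank k K) σ b')
    (v : VV σ b b') : x • v = (Θ σ b b' x).mulVec v := rfl

instance : IsScalarTower k (B (Module.finrank k K) σ b ⊗[k] B (Module.finrank k K) σ b')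
    (VV σ b b') :=
  ⟨fun r x v => by
    rw [smul_def, smul_def, map_smul]
    exact Matrix.smul_mulVec r _ _⟩

theorem finrank_VV : Module.finrank k (VV σ b b') =
    Module.finrank k K * Module.finrank k K * Module.finrank k K := by
  show Module.finrank k (Fin (Module.finrank k K) × Fin (Module.finrank k K) → K) = _
  rw [Module.finrank_pi_fintype]
  simp

/-- scalar multiplication by `K` as endomorphisms. -/
noncomputable def ιE : K →ₐ[k]
    Module.End (B (Module.finrank k K) σ b ⊗[k] B (Module.finrank k K) σ b') (VV σ b b') where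
  toFun c :=
    { toFun := fun v => c • v
      map_add' := smul_add c
      map_smul' := fun x v => by
        show c • (x • v) = x • (c • v)
        rw [smul_def, smul_def]
        exact (Matrix.mulVec_smul _ c v).symm }
  map_one' := LinearMap.ext fun v => one_smul K v
  map_mul' c c' := LinearMap.ext fun v => mul_smul c c' v
  map_zero' := LinearMap.ext fun v => zero_smul K v
  map_add' c c' := LinearMap.ext fun v => add_smul c c' v
  commutes' r := LinearMap.ext fun v => by
    show algebraMap k K r • v = (algebraMap k (Module.End _ _) r) v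
    rw [Module.algebraMap_end_apply, algebraMap_smul]

theorem ιE_apply (c : K) (v : VV σ b b') : ιE σ b b' c v = c • v := rfl

/-- the semilinear shift operator. -/
noncomputable def yE :
    Module.End (B (Module.finrank k K) σ b ⊗[k] B (Module.finrank k K) σ b') (VV σ b b') where
  toFun v := (Gk b b').mulVec (fun p => σ (v p))
  map_add' v w := by
    have h : (fun p => σ ((v + w) p)) = (fun p => σ (v p)) + (fun p => σ (w p)) := by
      ext p
      exact map_add σ _ _
    rw [h, Matrix.mulVec_add]
    rfl
  map_smul' x v := by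
    show (Gk b b').mulVec (fun p => σ ((Θ σ b b' x).mulVec v p)) =
      (Θ σ b b' x).mulVec ((Gk b b').mulVec (fun p => σ (v p)))
    rw [map_mulVec σ (Θ σ b b' x) v, Matrix.mulVec_mulVec, Gk_mul_Θ, ← Matrix.mulVec_mulVec]

theorem yE_apply (v : VV σ b b') : yE σ b b' v = (Gk b b').mulVec (fun p => σ (v p)) := rfl

theorem yE_mul_ιE (c : K) : yE σ b b' * ιE σ b b' c = ιE σ b b' (σ c) * yE σ b b' := by
  refine LinearMap.ext fun v => ?_
  show (Gk b b').mulVec (fun p => σ ((c • v) p)) = σ c • (Gk b b').mulVec (fun p => σ (v p))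
  have h : (fun p => σ ((c • v) p)) = σ c • (fun p => σ (v p)) := by
    ext p
    show σ (c * v p) = σ c * σ (v p)
    exact map_mul σ _ _
  rw [h, Matrix.mulVec_smul]

theorem yE_pow_apply (j : ℕ) (v : VV σ b b') :
    (yE σ b b' ^ j) v = (Gk b b' ^ j).mulVec (fun p => (σ ^ j) (v p)) := by
  induction j generalizing v with
  | zero =>
    show v = (Gk b b' ^ 0).mulVec (fun p => (σ ^ 0) (v p))
    rw [pow_zero, pow_zero, Matrix.one_mulVec]
    rfl
  | succ j ih =>
    rw [pow_succ']
    show yE σ b b' ((yE σ b b' ^ j) v) = _
    rw [ih, yE_apply, map_mulVec σ (Gk b b' ^ j), map_pow, φ'_Gk, Matrix.mulVec_mulVec, ← pow_succ']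
    congr 1
    funext p
    rw [pow_succ' σ j]
    rfl

end Groth.Agent.Lib.Lead.CycTensor
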