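/-
Lead library: the endomorphism algebra of a module over a central simple algebra.
-/
import Mathlib
import Groth.Agent.Lib.Lead.Brauer
import Groth.Agent.Lib.Lead.Brauer2
import Groth.Agent.Lib.Lead.Split2

set_option autoImplicit false
set_option linter.style.haveILetI false

namespace Groth.Agent.Lib.Lead.EndCSA

universe u v w

theorem end_props (k : Type u) [Field k] (R : Type v) [Ring R] [Algebra k R] [IsSimpleRing R]
    [Algebra.IsCentral k R] [FiniteDimensional k R]
    (V : Type w) [AddCommGroup V] [Module k V] [Module R V] [IsScalarTower k R V]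
    [FiniteDimensional k V] (hV : Module.finrank k V ≠ 0) :
    IsSimpleRing (Module.End R V) ∧ Algebra.IsCentral k (Module.End R V) ∧
      Module.Finite k (Module.End R V) ∧
      Module.finrank k R * Module.finrank k (Module.End R V) =
        Module.finrank k V * Module.finrank k V ∧
      Nonempty (Matrix (Fin (Module.finrank k V)) (Fin (Module.finrank k V)) R ≃ₐ[k]
        Matrix (Fin (Module.finrank k R)) (Fin (Module.finrank k R)) (Module.End R V)ᵐᵒᵖ) := by
  classical
  obtain ⟨eM⟩ := Brauer.exists_matrix_end_algEquiv k R V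
  have hN0 : Module.finrank k R ≠ 0 := (Module.finrank_pos (R := k) (M := R)).ne'
  haveI : Nonempty (Fin (Module.finrank k R)) := ⟨⟨0, Nat.pos_of_ne_zero hN0⟩⟩
  haveI : Nonempty (Fin (Module.finrank k V)) := ⟨⟨0, Nat.pos_of_ne_zero hV⟩⟩
  haveI hsM : IsSimpleRing (Matrix (Fin (Module.finrank k R)) (Fin (Module.finrank k R))
      (Module.End R V)) :=
    IsSimpleRing.of_ringEquiv eM.symm.toRingEquiv inferInstance
  haveI hcM : Algebra.IsCentral k (Matrix (Fin (Module.finrank k R)) (Fin (Module.finrank k R))
      (Module.End R V)) :=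
    Brauer.isCentral_of_algEquiv' eM.symm
  haveI hfM : Module.Finite k (Matrix (Fin (Module.finrank k R)) (Fin (Module.finrank k R))
      (Module.End R V)) :=
    Module.Finite.equiv eM.symm.toLinearEquiv
  haveI hsE : IsSimpleRing (Module.End R V) :=
    Brauer.isSimpleRing_of_matrix (Fin (Module.finrank k R)) _
  haveI hcE : Algebra.IsCentral k (Module.End R V) :=
    Split.isCentral_of_matrix (n := Fin (Module.finrank k R))
  haveI hfE : Module.Finite k (Module.End R V) := by
    let i₀ : Fin (Module.finrank k R) := ⟨0, Nat.pos_of_ne_zero hN0⟩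
    let f : Matrix (Fin (Module.finrank k R)) (Fin (Module.finrank k R)) (Module.End R V) →ₗ[k]
        (Module.End R V) :=
      { toFun := fun M => M i₀ i₀
        map_add' := fun _ _ => rfl
        map_smul' := fun _ _ => rfl }
    exact Module.Finite.of_surjective f (fun e => ⟨Matrix.of fun _ _ => e, rfl⟩)
  refine ⟨hsE, hcE, hfE, ?_, ?_⟩
  · have h1 := LinearEquiv.finrank_eq eM.toLinearEquiv
    rw [Module.finrank_matrix, Module.finrank_matrix] at h1
    simp only [Fintype.card_fin] at h1
    have h2 : Module.finrank k Rᵐᵒᵖ = Module.finrank k R :=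
      (LinearEquiv.finrank_eq (MulOpposite.opLinearEquiv k)).symm
    rw [h2] at h1
    have h3 : Module.finrank k R * (Module.finrank k R * Module.finrank k (Module.End R V)) =
        Module.finrank k R * (Module.finrank k V * Module.finrank k V) := by
      rw [← mul_assoc, h1]
      ring
    exact Nat.eq_of_mul_eq_mul_left (Nat.pos_of_ne_zero hN0) h3
  · exact ⟨((AlgEquiv.mopMatrix).trans ((AlgEquiv.op eM).trans
      ((AlgEquiv.op AlgEquiv.mopMatrix).trans (AlgEquiv.opOp k _).symm))).symm⟩

end Groth.Agent.Lib.Lead.EndCSA
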