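/-
Lead library: tensor product of cyclic algebras, part 3: the endomorphism algebra is cyclic
for `b * b'`, and the final Brauer equivalence for the matrix models.
-/
import Mathlib
import Groth.Agent.Lib.Lead.CycTensor2
import Groth.Agent.Lib.Lead.EndCSA

set_option autoImplicit false
set_option linter.style.haveILetI false

namespace Groth.Agent.Lib.Lead.CycTensor

open scoped Kronecker TensorProduct
open Groth.Agent.Lib.Lead.CycMat

universe u v w

variable {k : Type u} [Field k] {K : Type v} [Field K] [Algebra k K]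
  [FiniteDimensional k K] [IsGalois k K] {σ : K ≃ₐ[k] K}

theorem yE_pow_n (hσ : ∀ τ : K ≃ₐ[k] K, τ ∈ Subgroup.zpowers σ) (b b' : k) :
    yE σ b b' ^ Module.finrank k K = algebraMap k _ (b * b') := by
  refine LinearMap.ext fun v => ?_
  rw [yE_pow_apply, Gk_pow, pow_finrank_eq_one hσ, Module.algebraMap_end_apply]
  funext p
  rw [Matrix.mulVec_diagonal]
  show algebraMap k K (b * b') * v p = (b * b') • v p
  rw [Algebra.smul_def]

theorem exists_cyclic_equiv (hσ : ∀ τ : K ≃ₐ[k] K, τ ∈ Subgroup.zpowers σ) (b b' : kˣ) :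
    ∃ (E : Type v) (_ : Ring E) (_ : Algebra k E), CSAGal.IsCyclicAlg k K σ (b * b') E ∧
      ∃ N m : ℕ, N ≠ 0 ∧ m ≠ 0 ∧
        Nonempty (Matrix (Fin m) (Fin m)
          (B (Module.finrank k K) σ (b : k) ⊗[k] B (Module.finrank k K) σ (b' : k)) ≃ₐ[k]
            Matrix (Fin N) (Fin N) E) := by
  classical
  have hpos : 0 < Module.finrank k K := Module.finrank_pos
  have hcyc1 := isCyclicAlg_B hσ b
  have hcyc2 := isCyclicAlg_B hσ b'
  obtain ⟨_, hs1, hc1, hf1⟩ := Cyclic.csa_of_isCyclicAlg hσ hcyc1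
  obtain ⟨_, hs2, hc2, hf2⟩ := Cyclic.csa_of_isCyclicAlg hσ hcyc2
  obtain ⟨_, _, _, _, _, _, hd1⟩ := hcyc1
  obtain ⟨_, _, _, _, _, _, hd2⟩ := hcyc2
  haveI := hs1
  haveI := hc1
  haveI := hf1
  haveI := hs2
  haveI := hc2
  haveI := hf2
  haveI : IsSimpleRing
      (B (Module.finrank k K) σ (b : k) ⊗[k] B (Module.finrank k K) σ (b' : k)) :=
    CSA.isSimpleRing_tensor
  haveI : Algebra.IsCentral k
      (B (Module.finrank k K) σ (b : k) ⊗[k] B (Module.finrank k K) σ (b' : k)) :=
    Split.isCentral_tensor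
  have hN : Module.finrank k
      (B (Module.finrank k K) σ (b : k) ⊗[k] B (Module.finrank k K) σ (b' : k)) =
      Module.finrank k K ^ 2 * Module.finrank k K ^ 2 := by
    rw [Module.finrank_tensorProduct, hd1, hd2]
  have hm := finrank_VV σ (b : k) (b' : k)
  have hN0 : Module.finrank k
      (B (Module.finrank k K) σ (b : k) ⊗[k] B (Module.finrank k K) σ (b' : k)) ≠ 0 := by
    rw [hN]
    positivity
  have hm0 : Module.finrank k (VV σ (b : k) (b' : k)) ≠ 0 := by
    rw [hm]
    positivity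
  obtain ⟨hsE, hcE, hfE, hdimeq, ⟨eFinal⟩⟩ := EndCSA.end_props k
    (B (Module.finrank k K) σ (b : k) ⊗[k] B (Module.finrank k K) σ (b' : k))
    (VV σ (b : k) (b' : k)) hm0
  haveI := hsE
  haveI := hfE
  have hdimE : Module.finrank k
      (Module.End (B (Module.finrank k K) σ (b : k) ⊗[k] B (Module.finrank k K) σ (b' : k))
        (VV σ (b : k) (b' : k))) = Module.finrank k K ^ 2 := by
    rw [hN, hm] at hdimeq
    have h3 : Module.finrank k K ^ 4 * Module.finrank k
      (Module.End (B (Module.finrank k K) σ (b : k) ⊗[k] B (Module.finrank k K) σ (b' : k))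
        (VV σ (b : k) (b' : k))) = Module.finrank k K ^ 4 * Module.finrank k K ^ 2 := by
      have e1 : Module.finrank k K ^ 4 = Module.finrank k K ^ 2 * Module.finrank k K ^ 2 := by
        ring
      rw [e1, hdimeq]
      ring
    exact Nat.eq_of_mul_eq_mul_left (pow_pos hpos 4) h3
  -- the opposite algebra is cyclic for b * b'
  let ι' : K →ₐ[k]
      (Module.End (B (Module.finrank k K) σ (b : k) ⊗[k] B (Module.finrank k K) σ (b' : k))
        (VV σ (b : k) (b' : k)))ᵐᵒᵖ :=
    (ιE σ (b : k) (b' : k)).toOpposite (fun x y => (Commute.all x y).map (ιE σ (b : k) (b' : k)))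
  have hy' : (MulOpposite.op (yE σ (b : k) (b' : k))) ^ Module.finrank k K =
      algebraMap k _ (((b * b' : kˣ) : kˣ) : k) := by
    rw [← MulOpposite.op_pow, yE_pow_n hσ, MulOpposite.algebraMap_apply]
    rfl
  have hcomm' : ∀ x : K, ι' x * MulOpposite.op (yE σ (b : k) (b' : k)) =
      MulOpposite.op (yE σ (b : k) (b' : k)) * ι' (σ x) := by
    intro x
    show MulOpposite.op (ιE σ (b : k) (b' : k) x) * MulOpposite.op (yE σ (b : k) (b' : k)) =
      MulOpposite.op (yE σ (b : k) (b' : k)) * MulOpposite.op (ιE σ (b : k) (b' : k) (σ x))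
    rw [← MulOpposite.op_mul, ← MulOpposite.op_mul, yE_mul_ιE]
  have hdim' : Module.finrank k
      (Module.End (B (Module.finrank k K) σ (b : k) ⊗[k] B (Module.finrank k K) σ (b' : k))
        (VV σ (b : k) (b' : k)))ᵐᵒᵖ = Module.finrank k K ^ 2 := by
    rw [← hdimE]
    exact (LinearEquiv.finrank_eq (MulOpposite.opLinearEquiv k)).symm
  have hcyc := isCyclicAlg_of_dim hσ ι' (MulOpposite.op (yE σ (b : k) (b' : k))) (b * b') hy'
    hcomm' hdim'
  exact ⟨_, inferInstance, inferInstance, hcyc, _, _, hN0, hm0, ⟨eFinal⟩⟩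

end Groth.Agent.Lib.Lead.CycTensor
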