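/-
Lead library: Brauer equivalence (M_p(X) ≅ M_q(Y)) as a relation on k-algebras: basic calculus.
-/
import Mathlib
import Groth.Agent.Lib.Lead.Brauer

set_option autoImplicit false
set_option linter.style.haveILetI false

namespace Groth.Agent.Lib.Lead

open scoped TensorProduct

universe u v w w' w''

/-- Brauer equivalence: matrix algebras of positive sizes are isomorphic. -/
def BrEq (k : Type u) [Field k] (X : Type v) [Ring X] [Algebra k X] (Y : Type w) [Ring Y]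
    [Algebra k Y] : Prop :=
  ∃ p q : ℕ, p ≠ 0 ∧ q ≠ 0 ∧
    Nonempty (Matrix (Fin p) (Fin p) X ≃ₐ[k] Matrix (Fin q) (Fin q) Y)

namespace BrEq

variable {k : Type u} [Field k] {X : Type v} [Ring X] [Algebra k X] {Y : Type w} [Ring Y]
  [Algebra k Y] {Z : Type w'} [Ring Z] [Algebra k Z]

theorem refl (X : Type v) [Ring X] [Algebra k X] : BrEq k X X :=
  ⟨1, 1, one_ne_zero, one_ne_zero, ⟨AlgEquiv.refl⟩⟩

theorem symm (h : BrEq k X Y) : BrEq k Y X := by
  obtain ⟨p, q, hp, hq, ⟨e⟩⟩ := h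
  exact ⟨q, p, hq, hp, ⟨e.symm⟩⟩

theorem of_algEquiv (e : X ≃ₐ[k] Y) : BrEq k X Y :=
  ⟨1, 1, one_ne_zero, one_ne_zero, ⟨e.mapMatrix⟩⟩

theorem trans (h₁ : BrEq k X Y) (h₂ : BrEq k Y Z) : BrEq k X Z := by
  classical
  obtain ⟨p, q, hp, hq, ⟨e⟩⟩ := h₁
  obtain ⟨r, s, hr, hs, ⟨f⟩⟩ := h₂
  refine ⟨r * p, q * s, Nat.mul_ne_zero hr hp, Nat.mul_ne_zero hq hs, ⟨?_⟩⟩
  exact ((Matrix.reindexAlgEquiv k X finProdFinEquiv).symm.trans
      (Matrix.compAlgEquiv (Fin r) (Fin p) X k).symm).trans <|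
    (e.mapMatrix (m := Fin r)).trans <|
    (Matrix.compAlgEquiv (Fin r) (Fin q) Y k).trans <|
    (Matrix.reindexAlgEquiv k Y (Equiv.prodComm (Fin r) (Fin q))).trans <|
    (Matrix.compAlgEquiv (Fin q) (Fin r) Y k).symm.trans <|
    (f.mapMatrix (m := Fin q)).trans <|
    (Matrix.compAlgEquiv (Fin q) (Fin s) Z k).trans
      (Matrix.reindexAlgEquiv k Z finProdFinEquiv)

/-- `M_p(X ⊗ Z) ≅ M_p(X) ⊗ Z`. -/
noncomputable def matrixTensor (k : Type u) [Field k] (X : Type v) [Ring X] [Algebra k X]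
    (Z : Type w') [Ring Z] [Algebra k Z] (p : ℕ) :
    Matrix (Fin p) (Fin p) (X ⊗[k] Z) ≃ₐ[k] Matrix (Fin p) (Fin p) X ⊗[k] Z :=
  ((Matrix.reindexAlgEquiv k (X ⊗[k] Z) (Equiv.prodUnique (Fin p) Unit)).symm.trans
    (Matrix.kroneckerTMulAlgEquiv (Fin p) Unit k k X Z).symm).trans
    (Algebra.TensorProduct.congr AlgEquiv.refl (Matrix.uniqueAlgEquiv))

theorem tensor_right (Z : Type w') [Ring Z] [Algebra k Z] (h : BrEq k X Y) :
    BrEq k (X ⊗[k] Z) (Y ⊗[k] Z) := by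
  obtain ⟨p, q, hp, hq, ⟨e⟩⟩ := h
  exact ⟨p, q, hp, hq, ⟨(matrixTensor k X Z p).trans
    ((Algebra.TensorProduct.congr e AlgEquiv.refl).trans (matrixTensor k Y Z q).symm)⟩⟩

theorem tensor_left (Z : Type w') [Ring Z] [Algebra k Z] (h : BrEq k X Y) :
    BrEq k (Z ⊗[k] X) (Z ⊗[k] Y) :=
  ((of_algEquiv (Algebra.TensorProduct.comm k Z X)).trans (tensor_right Z h)).trans
    (of_algEquiv (Algebra.TensorProduct.comm k Y Z))

section splits

variable [Algebra.IsCentral k X] [IsSimpleRing X] [FiniteDimensional k X]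
  [Algebra.IsCentral k Y] [IsSimpleRing Y] [FiniteDimensional k Y]
  {K : Type w''} [Field K] [Algebra k K]

theorem splits_of_splits (h : BrEq k X Y) (hY : Curves.Splits k Y K) : Curves.Splits k X K := by
  classical
  obtain ⟨p, q, hp, hq, ⟨e⟩⟩ := h
  haveI : Nonempty (Fin p) := ⟨⟨0, Nat.pos_of_ne_zero hp⟩⟩
  haveI : Nonempty (Fin q) := ⟨⟨0, Nat.pos_of_ne_zero hq⟩⟩
  exact Brauer.splits_of_splits_matrix p hp
    (Brauer.splits_of_algEquiv e (Brauer.splits_matrix q hq hY))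

theorem splits_iff (h : BrEq k X Y) : Curves.Splits k X K ↔ Curves.Splits k Y K :=
  ⟨fun hX => splits_of_splits h.symm hX, fun hY => splits_of_splits h hY⟩

end splits

end BrEq

end Groth.Agent.Lib.Lead
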