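/-
Lead library: tensor powers `⨂[k] _ : Fin e, A` of an algebra: the algebra isomorphisms
`tpow 0 ≅ k`, `tpow e ⊗ A ≅ tpow (e+1)`, and central simplicity.
-/
import Mathlib
import Groth.Agent.Lib.Lead.BrEq
import Groth.Agent.Lib.Lead.Split2
import Groth.Agent.Lib.Lead.Brauer2

set_option autoImplicit false
set_option linter.style.haveILetI false

namespace Groth.Agent.Lib.Lead.TPow

open scoped TensorProduct
open PiTensorProduct

universe u v w

/-- A linear map between algebras that is multiplicative on a spanning set is multiplicative. -/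
theorem map_mul_of_span {k : Type u} [CommSemiring k] {A : Type v} [Semiring A] [Algebra k A]
    {B : Type w} [Semiring B] [Algebra k B] (l : A →ₗ[k] B) (G : Set A)
    (hG : Submodule.span k G = ⊤) (h : ∀ g ∈ G, ∀ g' ∈ G, l (g * g') = l g * l g') :
    ∀ x y : A, l (x * y) = l x * l y := by
  have key : (LinearMap.mul k A).compr₂ l = (LinearMap.mul k B).compl₁₂ l l := by
    refine LinearMap.ext_on hG (fun g hg => LinearMap.ext_on hG (fun g' hg' => ?_))
    simpa using h g hg g' hg'
  intro x y
  have := LinearMap.congr_fun (LinearMap.congr_fun key x) y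
  simpa using this

variable (k : Type u) [Field k] (A : Type v) [Ring A] [Algebra k A]

/-- `tpow 0 ≅ k`. -/
noncomputable def zeroEquiv : (⨂[k] _ : Fin 0, A) ≃ₐ[k] k :=
  AlgEquiv.ofLinearEquiv (isEmptyEquiv (R := k) (s := fun _ : Fin 0 => A) (Fin 0))
    (by rw [PiTensorProduct.one_def, isEmptyEquiv_apply_tprod])
    (by
      refine map_mul_of_span
        (isEmptyEquiv (R := k) (s := fun _ : Fin 0 => A) (Fin 0)).toLinearMap _
        span_tprod_eq_top ?_
      rintro _ ⟨a, rfl⟩ _ ⟨a', rfl⟩
      rw [tprod_mul_tprod]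
      simp only [LinearEquiv.coe_coe, isEmptyEquiv_apply_tprod, mul_one])

/-- the linear equivalence `tpow e ⊗ A ≃ tpow (e+1)`. -/
noncomputable def succLin (e : ℕ) : (⨂[k] _ : Fin e, A) ⊗[k] A ≃ₗ[k] ⨂[k] _ : Fin (e + 1), A :=
  ((TensorProduct.congr (LinearEquiv.refl k (⨂[k] _ : Fin e, A))
      (subsingletonEquiv (R := k) (s := fun _ : Fin 1 => A) (0 : Fin 1)).symm).trans
    (tmulEquiv k A)).trans (reindex k (fun _ : Fin e ⊕ Fin 1 => A) finSumFinEquiv)

theorem succLin_tmul (e : ℕ) (a : Fin e → A) (x : A) :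
    succLin k A e (tprod k a ⊗ₜ[k] x) =
      tprod k (fun i : Fin (e + 1) => Sum.elim a (fun _ : Fin 1 => x) (finSumFinEquiv.symm i)) := by
  simp only [succLin, LinearEquiv.trans_apply, TensorProduct.congr_tmul, LinearEquiv.refl_apply,
    subsingletonEquiv_symm_apply', tmulEquiv_apply, reindex_tprod]

theorem span_tmul (e : ℕ) :
    Submodule.span k {t : (⨂[k] _ : Fin e, A) ⊗[k] A | ∃ (a : Fin e → A) (x : A),
      t = tprod k a ⊗ₜ[k] x} = ⊤ := by
  rw [eq_top_iff]
  rintro t -
  induction t using TensorProduct.induction_on with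
  | zero => exact Submodule.zero_mem _
  | tmul u x =>
    have hu : u ∈ Submodule.span k (Set.range (tprod k (s := fun _ : Fin e => A))) := by
      rw [span_tprod_eq_top]
      exact Submodule.mem_top
    induction hu using Submodule.span_induction with
    | mem u hu =>
      obtain ⟨a, rfl⟩ := hu
      exact Submodule.subset_span ⟨a, x, rfl⟩
    | zero =>
      rw [TensorProduct.zero_tmul]
      exact Submodule.zero_mem _
    | add u v _ _ hu hv =>
      rw [TensorProduct.add_tmul]
      exact Submodule.add_mem _ hu hv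
    | smul r u _ hu =>
      rw [← TensorProduct.smul_tmul']
      exact Submodule.smul_mem _ r hu
  | add x y hx hy => exact Submodule.add_mem _ hx hy

/-- `tpow e ⊗ A ≅ tpow (e+1)` as algebras. -/
noncomputable def succEquiv (e : ℕ) : (⨂[k] _ : Fin e, A) ⊗[k] A ≃ₐ[k] ⨂[k] _ : Fin (e + 1), A :=
  AlgEquiv.ofLinearEquiv (succLin k A e)
    (by
      rw [Algebra.TensorProduct.one_def, PiTensorProduct.one_def, succLin_tmul,
        PiTensorProduct.one_def]
      congr 1
      funext i
      rcases finSumFinEquiv.symm i with j | j <;> rfl)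
    (by
      refine map_mul_of_span (succLin k A e).toLinearMap _ (span_tmul k A e) ?_
      rintro _ ⟨a, x, rfl⟩ _ ⟨a', x', rfl⟩
      rw [Algebra.TensorProduct.tmul_mul_tmul, tprod_mul_tprod]
      simp only [LinearEquiv.coe_coe, succLin_tmul, tprod_mul_tprod]
      congr 1
      funext i
      simp only [Pi.mul_apply]
      rcases finSumFinEquiv.symm i with j | j <;> rfl)

variable [Algebra.IsCentral k A] [IsSimpleRing A] [FiniteDimensional k A]

theorem csa (e : ℕ) : Algebra.IsCentral k (⨂[k] _ : Fin e, A) ∧ IsSimpleRing (⨂[k] _ : Fin e, A) ∧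
    FiniteDimensional k (⨂[k] _ : Fin e, A) := by
  induction e with
  | zero =>
    refine ⟨Brauer.isCentral_of_algEquiv' (zeroEquiv k A).symm,
      IsSimpleRing.of_ringEquiv (zeroEquiv k A).symm.toRingEquiv inferInstance,
      Module.Finite.equiv (zeroEquiv k A).symm.toLinearEquiv⟩
  | succ e ih =>
    obtain ⟨h1, h2, h3⟩ := ih
    haveI := h1
    haveI := h2
    haveI := h3
    haveI : IsSimpleRing ((⨂[k] _ : Fin e, A) ⊗[k] A) := CSA.isSimpleRing_tensor
    haveI : Algebra.IsCentral k ((⨂[k] _ : Fin e, A) ⊗[k] A) := Split.isCentral_tensor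
    refine ⟨Brauer.isCentral_of_algEquiv' (succEquiv k A e),
      IsSimpleRing.of_ringEquiv (succEquiv k A e).toRingEquiv inferInstance,
      Module.Finite.equiv (succEquiv k A e).toLinearEquiv⟩

end Groth.Agent.Lib.Lead.TPow
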