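/-
Lead library: tensor powers of a cyclic algebra (K, σ, b) are Brauer equivalent to (K, σ, b^e).
-/
import Mathlib
import Groth.Agent.Lib.Lead.TPow
import Groth.Agent.Lib.Lead.CycTensor3

set_option autoImplicit false
set_option linter.style.haveILetI false

namespace Groth.Agent.Lib.Lead.CycPeriod

open scoped TensorProduct

universe u v w

theorem brEq_self_of_splits {k : Type u} [Field k] {X : Type v} [Ring X] [Algebra k X]
    (h : Curves.Splits k X k) : BrEq k X k := by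
  classical
  obtain ⟨r, hr, ⟨e⟩⟩ := h
  exact ⟨r, r * r, hr, Nat.mul_ne_zero hr hr,
    ⟨(((Algebra.TensorProduct.lid k X).symm.trans e).mapMatrix (m := Fin r)).trans
      ((Matrix.compAlgEquiv (Fin r) (Fin r) k k).trans
        (Matrix.reindexAlgEquiv k k finProdFinEquiv))⟩⟩

variable {k : Type u} [Field k] {K : Type v} [Field K] [Algebra k K]
  [FiniteDimensional k K] [IsGalois k K] {σ : K ≃ₐ[k] K}
  {A : Type w} [Ring A] [Algebra k A]

theorem tpow_brEq_cyclic (hσ : ∀ τ : K ≃ₐ[k] K, τ ∈ Subgroup.zpowers σ) {b : kˣ}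
    (hA : CSAGal.IsCyclicAlg k K σ b A) (e : ℕ) :
    ∃ (C : Type v) (_ : Ring C) (_ : Algebra k C), CSAGal.IsCyclicAlg k K σ (b ^ e) C ∧
      BrEq k (⨂[k] _ : Fin e, A) C := by
  induction e with
  | zero =>
    have hC := CycMat.isCyclicAlg_B hσ (b ^ 0)
    refine ⟨_, inferInstance, inferInstance, hC, ?_⟩
    have hs : Curves.Splits k (CycMat.B (Module.finrank k K) σ ((b ^ 0 : kˣ) : k)) k :=
      Cyclic.splits_of_norm hσ hC 1 (by simp)
    exact (BrEq.of_algEquiv (TPow.zeroEquiv k A)).trans (brEq_self_of_splits hs).symm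
  | succ e ih =>
    obtain ⟨C, instR, instA, hC, hBr⟩ := ih
    obtain ⟨E, instR', instA', hE, N, m, hN, hm, ⟨f⟩⟩ :=
      CycTensor.exists_cyclic_equiv hσ (b ^ e) b
    obtain ⟨e1⟩ := Cyclic.nonempty_algEquiv hC (CycMat.isCyclicAlg_B hσ (b ^ e))
    obtain ⟨e2⟩ := Cyclic.nonempty_algEquiv hA (CycMat.isCyclicAlg_B hσ b)
    refine ⟨E, instR', instA', by rw [pow_succ]; exact hE, ?_⟩
    exact ((BrEq.of_algEquiv (TPow.succEquiv k A e).symm).trans (BrEq.tensor_right A hBr)).trans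
      ((BrEq.of_algEquiv (Algebra.TensorProduct.congr e1 e2)).trans ⟨m, N, hm, hN, ⟨f⟩⟩)

theorem splits_tpow_iff (hσ : ∀ τ : K ≃ₐ[k] K, τ ∈ Subgroup.zpowers σ) {b : kˣ}
    (hA : CSAGal.IsCyclicAlg k K σ b A) (e : ℕ) :
    Curves.Splits k (⨂[k] _ : Fin e, A) k ↔ ∃ x : K, Algebra.norm k x = (b : k) ^ e := by
  obtain ⟨hnt, hs, hc, hf⟩ := Cyclic.csa_of_isCyclicAlg hσ hA
  haveI := hs
  haveI := hc
  haveI := hf
  obtain ⟨h1, h2, h3⟩ := TPow.csa k A e
  haveI := h1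
  haveI := h2
  haveI := h3
  obtain ⟨C, instR, instA, hC, hBr⟩ := tpow_brEq_cyclic hσ hA e
  obtain ⟨_, hs', hc', hf'⟩ := Cyclic.csa_of_isCyclicAlg hσ hC
  haveI := hs'
  haveI := hc'
  haveI := hf'
  rw [hBr.splits_iff]
  constructor
  · intro h
    obtain ⟨x, hx⟩ := Cyclic.norm_of_splits hσ hC h
    exact ⟨x, by rw [hx, Units.val_pow_eq_pow_val]⟩
  · rintro ⟨x, hx⟩
    exact Cyclic.splits_of_norm hσ hC x (by rw [hx, Units.val_pow_eq_pow_val])

end Groth.Agent.Lib.Lead.CycPeriod
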