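/-
Lead library: tensor powers: additivity and multiplicativity up to Brauer equivalence,
the splitting exponents of a central simple algebra form the multiples of the period.
-/
import Mathlib
import Groth.Agent.Lib.Lead.TPow
import Groth.Agent.Lib.Lead.CycPeriod
import Groth.Prelude.Def_GSzCSA

set_option autoImplicit false
set_option linter.style.haveILetI false

namespace Groth.Agent.Lib.Lead.TPow

open scoped TensorProduct

universe u v w

variable (k : Type u) [Field k] (A : Type v) [Ring A] [Algebra k A]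

theorem brEq_add (m n : ℕ) :
    BrEq k (⨂[k] _ : Fin (m + n), A) ((⨂[k] _ : Fin m, A) ⊗[k] (⨂[k] _ : Fin n, A)) := by
  induction n with
  | zero =>
    exact (BrEq.of_algEquiv (Algebra.TensorProduct.rid k k (⨂[k] _ : Fin m, A)).symm).trans
      (BrEq.tensor_left _ (BrEq.of_algEquiv (zeroEquiv k A).symm))
  | succ n ih =>
    have h1 : BrEq k (⨂[k] _ : Fin (m + n + 1), A) ((⨂[k] _ : Fin (m + n), A) ⊗[k] A) :=
      BrEq.of_algEquiv (succEquiv k A (m + n)).symm
    have h2 := BrEq.tensor_right A ih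
    have h3 : BrEq k (((⨂[k] _ : Fin m, A) ⊗[k] (⨂[k] _ : Fin n, A)) ⊗[k] A)
        ((⨂[k] _ : Fin m, A) ⊗[k] ((⨂[k] _ : Fin n, A) ⊗[k] A)) :=
      BrEq.of_algEquiv (Algebra.TensorProduct.assoc k k k _ _ _)
    have h4 : BrEq k ((⨂[k] _ : Fin m, A) ⊗[k] ((⨂[k] _ : Fin n, A) ⊗[k] A))
        ((⨂[k] _ : Fin m, A) ⊗[k] (⨂[k] _ : Fin (n + 1), A)) :=
      BrEq.tensor_left _ (BrEq.of_algEquiv (succEquiv k A n))
    exact ((h1.trans h2).trans h3).trans h4

theorem brEq_mul (r e : ℕ) :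
    BrEq k (⨂[k] _ : Fin e, (⨂[k] _ : Fin r, A)) (⨂[k] _ : Fin (r * e), A) := by
  induction e with
  | zero =>
    exact (BrEq.of_algEquiv (zeroEquiv k _)).trans (BrEq.of_algEquiv (zeroEquiv k A).symm)
  | succ e ih =>
    have h1 : BrEq k (⨂[k] _ : Fin (e + 1), (⨂[k] _ : Fin r, A))
        ((⨂[k] _ : Fin e, (⨂[k] _ : Fin r, A)) ⊗[k] (⨂[k] _ : Fin r, A)) :=
      BrEq.of_algEquiv (succEquiv k _ e).symm
    have h2 := BrEq.tensor_right (⨂[k] _ : Fin r, A) ih
    have h3 := (brEq_add k A (r * e) r).symm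
    exact (h1.trans h2).trans h3

section csa

variable [Algebra.IsCentral k A] [IsSimpleRing A] [FiniteDimensional k A]

theorem splits_zero : Curves.Splits k (⨂[k] _ : Fin 0, A) k := by
  obtain ⟨h1, h2, h3⟩ := csa k A 0
  haveI := h1
  haveI := h2
  haveI := h3
  refine Split.splits_of_algHom_matrix 1 one_ne_zero
    ((Algebra.ofId k (Matrix (Fin 1) (Fin 1) k)).comp (zeroEquiv k A : _ →ₐ[k] k)) ?_
  rw [LinearEquiv.finrank_eq (zeroEquiv k A).toLinearEquiv, Module.finrank_self, one_pow]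

/-- splitting of a sum of exponents. -/
theorem splits_add_iff (m n : ℕ) (hm : Curves.Splits k (⨂[k] _ : Fin m, A) k) :
    Curves.Splits k (⨂[k] _ : Fin (m + n), A) k ↔ Curves.Splits k (⨂[k] _ : Fin n, A) k := by
  obtain ⟨h1, h2, h3⟩ := csa k A m
  obtain ⟨h4, h5, h6⟩ := csa k A n
  obtain ⟨h7, h8, h9⟩ := csa k A (m + n)
  haveI := h1
  haveI := h2
  haveI := h3
  haveI := h4
  haveI := h5
  haveI := h6
  haveI := h7
  haveI := h8
  haveI := h9
  haveI : IsSimpleRing ((⨂[k] _ : Fin m, A) ⊗[k] (⨂[k] _ : Fin n, A)) := CSA.isSimpleRing_tensor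
  haveI : Algebra.IsCentral k ((⨂[k] _ : Fin m, A) ⊗[k] (⨂[k] _ : Fin n, A)) :=
    Split.isCentral_tensor
  haveI : IsSimpleRing (k ⊗[k] (⨂[k] _ : Fin n, A)) := CSA.isSimpleRing_tensor
  haveI : Algebra.IsCentral k (k ⊗[k] (⨂[k] _ : Fin n, A)) := Split.isCentral_tensor
  have hb : BrEq k (⨂[k] _ : Fin (m + n), A) (⨂[k] _ : Fin n, A) :=
    ((brEq_add k A m n).trans
      (BrEq.tensor_right (⨂[k] _ : Fin n, A) (CycPeriod.brEq_self_of_splits hm))).trans
      (BrEq.of_algEquiv (Algebra.TensorProduct.lid k (⨂[k] _ : Fin n, A)))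
  exact hb.splits_iff

theorem splits_mul_of_splits (p : ℕ) (hp : Curves.Splits k (⨂[k] _ : Fin p, A) k) (q : ℕ) :
    Curves.Splits k (⨂[k] _ : Fin (p * q), A) k := by
  induction q with
  | zero => exact splits_zero k A
  | succ q ih => exact (splits_add_iff k A (p * q) p ih).2 hp

/-- the exponents `e` for which the `e`-th tensor power splits are the multiples of the period. -/
theorem splits_iff_dvd {p : ℕ} (hp : CSAGal.IsPeriod k A p) (e : ℕ) :
    Curves.Splits k (⨂[k] _ : Fin e, A) k ↔ p ∣ e := by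
  obtain ⟨hp0, hps, hpmin⟩ := hp
  constructor
  · intro he
    have h1 : e = p * (e / p) + e % p := (Nat.div_add_mod e p).symm
    rw [h1] at he
    have h2 := (splits_add_iff k A (p * (e / p)) (e % p)
      (splits_mul_of_splits k A p hps (e / p))).1 he
    by_contra hne
    have h3 : 0 < e % p := Nat.pos_of_ne_zero (fun h0 => hne (Nat.dvd_of_mod_eq_zero h0))
    exact hpmin (e % p) h3 (Nat.mod_lt e hp0) h2
  · rintro ⟨q, rfl⟩
    exact splits_mul_of_splits k A p hps q

end csa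

end Groth.Agent.Lib.Lead.TPow
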