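/-
Lead library: the index of a central simple algebra: existence, uniqueness, splitting fields of
degree the index, divisibility of degrees of splitting fields, behaviour under base change.
-/
import Mathlib
import Groth.Agent.Lib.Lead.TPow2
import Groth.Agent.Lib.Lead.SubDivision
import Groth.Agent.Lib.Lead.MatrixModule
import Groth.Agent.S0193
import Groth.Agent.S0196
import Groth.Agent.S0198
import Groth.Prelude.Def_GSzCSA

set_option autoImplicit false
set_option linter.style.haveILetI false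

namespace Groth.Agent.Lib.Lead.Index

open scoped TensorProduct
open Groth.Agent.Lib.Lead
open Groth.Agent.Lib.Lead.SubDivision Groth.Agent.Lib.Lead.MatrixModule

universe u v w w'

/-- If a division algebra `D` of dimension `d^2` is split by a finite extension `k'`, then
`d ∣ [k':k]` (universe polymorphic form of S0197). -/
theorem dvd_of_splits (k : Type u) [Field k]
    (D : Type v) [DivisionRing D] [Algebra k D] [FiniteDimensional k D]
    (d : ℕ) (hd : Module.finrank k D = d ^ 2)
    (k' : Type w) [Field k'] [Algebra k k'] [FiniteDimensional k k'] (hs : Curves.Splits k D k') :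
    d ∣ Module.finrank k k' := by
  obtain ⟨n, hn, ⟨e⟩⟩ := hs
  have h1 : Module.finrank k' (k' ⊗[k] D) = Module.finrank k D := Module.finrank_baseChange
  have h2 : Module.finrank k' (Matrix (Fin n) (Fin n) k') = n * n := by
    rw [Module.finrank_matrix]; simp
  have h3 : d ^ 2 = n * n := by
    rw [← hd, ← h1, ← h2]; exact LinearEquiv.finrank_eq e.toLinearEquiv
  have hnd : n = d := by
    have : d * d = n * n := by rw [← h3, sq]
    exact (Nat.mul_self_inj.1 this).symm
  subst hnd
  let φ : D →+* Matrix (Fin n) (Fin n) k' :=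
    (e : k' ⊗[k] D →+* Matrix (Fin n) (Fin n) k').comp
      (Algebra.TensorProduct.includeRight : D →ₐ[k] k' ⊗[k] D).toRingHom
  letI : Module D (Fin n → k') := Module.compHom _ φ
  have hsmul : ∀ (x : D) (v : Fin n → k'), x • v = (φ x).mulVec v := fun _ _ => rfl
  haveI : IsScalarTower k D (Fin n → k') := ⟨fun c x v => by
    rw [hsmul, hsmul]
    have : φ (c • x) = c • φ x := by
      show e ((1 : k') ⊗ₜ[k] (c • x)) = c • e ((1 : k') ⊗ₜ[k] x)
      rw [TensorProduct.tmul_smul, ← algebraMap_smul k' c ((1 : k') ⊗ₜ[k] x), map_smul,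
        algebraMap_smul]
    rw [this, Matrix.smul_mulVec]⟩
  have h4 := Module.finrank_mul_finrank k D (Fin n → k')
  have h5 : Module.finrank k (Fin n → k') = n * Module.finrank k k' := by
    rw [Module.finrank_pi_fintype]; simp
  rw [h5, hd, sq, mul_assoc] at h4
  have hpos : 0 < n := Nat.pos_of_ne_zero hn
  have := Nat.eq_of_mul_eq_mul_left hpos h4
  exact ⟨_, this.symm⟩

section props

variable (k : Type u) [Field k] (A : Type v) [Ring A] [Algebra k A] [Algebra.IsCentral k A]
  [IsSimpleRing A] [FiniteDimensional k A]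

/-- If `A ≅ M_m(D)` with `A` central simple, then `m ≠ 0` and `D` is central and finite. -/
theorem div_props (m : ℕ) (D : Type w) [DivisionRing D] [Algebra k D]
    (e : A ≃ₐ[k] Matrix (Fin m) (Fin m) D) :
    m ≠ 0 ∧ Algebra.IsCentral k D ∧ FiniteDimensional k D := by
  have hm : m ≠ 0 := by
    rintro rfl
    haveI : Nontrivial A := inferInstance
    obtain ⟨x, y, hxy⟩ := exists_pair_ne A
    exact hxy (e.injective (Subsingleton.elim _ _))
  haveI : Nonempty (Fin m) := ⟨⟨0, Nat.pos_of_ne_zero hm⟩⟩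
  haveI : Algebra.IsCentral k (Matrix (Fin m) (Fin m) D) := Brauer.isCentral_of_algEquiv' e
  refine ⟨hm, Split.isCentral_of_matrix (n := Fin m), ?_⟩
  haveI : FiniteDimensional k (Matrix (Fin m) (Fin m) D) := Module.Finite.equiv e.toLinearEquiv
  let i0 : Fin m := ⟨0, Nat.pos_of_ne_zero hm⟩
  exact Module.Finite.of_surjective (Matrix.entryLinearMap k D i0 i0)
    (fun x => ⟨Matrix.of fun _ _ => x, rfl⟩)

/-- If `A ≅ M_n(D)`, then `dim D = d^2` and `A` is split by a separable extension of degree `d`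
living in the universe of `k`. -/
theorem exists_splitting_field (n : ℕ) (D : Type w) [DivisionRing D] [Algebra k D]
    (eW : A ≃ₐ[k] Matrix (Fin n) (Fin n) D) :
    ∃ (d : ℕ) (k' : Type u) (_ : Field k') (_ : Algebra k k'), FiniteDimensional k k' ∧
      Algebra.IsSeparable k k' ∧ 0 < d ∧ Module.finrank k D = d ^ 2 ∧
      Module.finrank k k' = d ∧ Curves.Splits k A k' := by
  classical
  obtain ⟨hn, hc, hf⟩ := div_props k A n D eW
  haveI := hc
  haveI := hf
  haveI : Nonempty (Fin n) := ⟨⟨0, Nat.pos_of_ne_zero hn⟩⟩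
  obtain ⟨L, hLc, hLmax, hLsep⟩ := Groth.Agent.S0198.result k D
  have hdim := Groth.Agent.S0196.result k D L hLc hLmax
  letI fL : Field L := fieldSub L hLc
  let f : L →ₐ[k] AlgebraicClosure k := IsAlgClosed.lift
  let e₀ : L ≃ₐ[k] f.fieldRange := AlgEquiv.ofInjectiveField f
  let ι : f.fieldRange →ₐ[k] D := L.val.comp (e₀.symm : f.fieldRange →ₐ[k] L)
  let σ : f.fieldRange →ₐ[k] Module.End (Matrix (Fin n) (Fin n) D) (Fin n → D) :=
    (rmulAlgHom k).comp (ι.toOpposite (fun x y => (Commute.all x y).map ι))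
  letI modK : Module f.fieldRange (Fin n → D) :=
    Module.compHom (Fin n → D)
      (σ : f.fieldRange →+* Module.End (Matrix (Fin n) (Fin n) D) (Fin n → D))
  have hsm : ∀ (c : f.fieldRange) (v : Fin n → D), c • v = σ c v := fun _ _ => rfl
  haveI : IsScalarTower k f.fieldRange (Fin n → D) :=
    ⟨fun t c v => by rw [hsm, hsm, map_smul, LinearMap.smul_apply]⟩
  haveI : SMulCommClass (Matrix (Fin n) (Fin n) D) f.fieldRange (Fin n → D) :=
    ⟨fun M c v => by rw [hsm, hsm, map_smul]⟩
  haveI : FiniteDimensional f.fieldRange (Fin n → D) :=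
    Module.Finite.of_restrictScalars_finite k f.fieldRange (Fin n → D)
  let ρ : Matrix (Fin n) (Fin n) D →ₐ[k] Module.End f.fieldRange (Fin n → D) :=
    Algebra.lsmul k f.fieldRange (Fin n → D)
  have hV := Module.finrank_mul_finrank k f.fieldRange (Fin n → D)
  have hkV : Module.finrank k (Fin n → D) = n * Module.finrank k D := by
    rw [Module.finrank_pi_fintype]; simp
  have hk' : Module.finrank k f.fieldRange = Module.finrank k L :=
    (LinearEquiv.finrank_eq e₀.toLinearEquiv).symm
  have hd : 0 < Module.finrank k L := Module.finrank_pos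
  have hV' : Module.finrank f.fieldRange (Fin n → D) = n * Module.finrank k L := by
    rw [hkV, hdim, hk'] at hV
    apply Nat.eq_of_mul_eq_mul_left hd
    rw [hV]; ring
  have hA : Module.finrank k A = Module.finrank f.fieldRange (Fin n → D) ^ 2 := by
    rw [LinearEquiv.finrank_eq eW.toLinearEquiv, Module.finrank_matrix, hdim, hV']
    simp; ring
  have hV0 : Module.finrank f.fieldRange (Fin n → D) ≠ 0 := by
    rw [hV']
    exact Nat.mul_ne_zero hn hd.ne'
  refine ⟨Module.finrank k L, f.fieldRange, inferInstance, inferInstance, ?_, ?_, hd, hdim, hk', ?_⟩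
  · exact LinearEquiv.finiteDimensional e₀.toLinearEquiv
  · haveI := hLsep
    exact AlgEquiv.Algebra.isSeparable e₀
  · exact Split.splits_of_algHom_end hV0 (ρ.comp (eW : A →ₐ[k] Matrix (Fin n) (Fin n) D)) hA

/-- Every central simple algebra has an index. -/
theorem exists_isIndex : ∃ d : ℕ, CSAGal.IsIndex k A d := by
  haveI : IsArtinianRing A := IsArtinianRing.of_finite k A
  obtain ⟨n, hn, D, _, _, _, ⟨eW⟩⟩ := IsSimpleRing.exists_algEquiv_matrix_divisionRing_finite k A
  obtain ⟨d, k', _, _, _, _, hd, hdim, _, _⟩ := exists_splitting_field k A n D eW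
  exact ⟨d, hd, n, D, inferInstance, inferInstance, Nat.pos_of_ne_zero (NeZero.ne n), hdim, ⟨eW⟩⟩

variable {k A}

/-- The index is unique. -/
theorem isIndex_unique {d₁ d₂ : ℕ} (h₁ : CSAGal.IsIndex k A d₁) (h₂ : CSAGal.IsIndex k A d₂) :
    d₁ = d₂ := by
  obtain ⟨_, m₁, D₁, _, _, hm₁, hD₁, ⟨e₁⟩⟩ := h₁
  obtain ⟨_, m₂, D₂, _, _, hm₂, hD₂, ⟨e₂⟩⟩ := h₂
  obtain ⟨_, hc₁, hf₁⟩ := div_props k A m₁ D₁ e₁
  obtain ⟨_, hc₂, hf₂⟩ := div_props k A m₂ D₂ e₂
  haveI := hc₁
  haveI := hf₁
  haveI := hc₂
  haveI := hf₂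
  obtain ⟨eD⟩ := Groth.Agent.S0193.result k D₁ D₂ m₁ m₂ hm₁.ne' hm₂.ne' (e₁.symm.trans e₂)
  have h := LinearEquiv.finrank_eq eD.toLinearEquiv
  rw [hD₁, hD₂] at h
  exact Nat.pow_left_injective (n := 2) (by norm_num) h

/-- The index divides the degree of every finite splitting field. -/
theorem dvd_of_isIndex_of_splits {d : ℕ} (h : CSAGal.IsIndex k A d) (k' : Type w) [Field k']
    [Algebra k k'] [FiniteDimensional k k'] (hs : Curves.Splits k A k') :
    d ∣ Module.finrank k k' := by
  classical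
  obtain ⟨_, m, D, _, _, hm, hD, ⟨e⟩⟩ := h
  obtain ⟨_, hc, hf⟩ := div_props k A m D e
  haveI := hc
  haveI := hf
  haveI : Nonempty (Fin m) := ⟨⟨0, hm⟩⟩
  haveI : IsSimpleRing (Matrix (Fin m) (Fin m) D) := IsSimpleRing.matrix _ _
  haveI : Algebra.IsCentral k (Matrix (Fin m) (Fin m) D) := Brauer.isCentral_of_algEquiv' e
  have h1 : Curves.Splits k (Matrix (Fin m) (Fin m) D) k' := Brauer.splits_of_algEquiv e.symm hs
  exact dvd_of_splits k D d hD k' (Brauer.splits_of_splits_matrix m hm.ne' h1)

/-- There is a separable splitting field of degree the index, in the universe of `k`. -/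
theorem exists_field_of_isIndex {d : ℕ} (h : CSAGal.IsIndex k A d) :
    ∃ (k' : Type u) (_ : Field k') (_ : Algebra k k'), FiniteDimensional k k' ∧
      Algebra.IsSeparable k k' ∧ Module.finrank k k' = d ∧ Curves.Splits k A k' := by
  obtain ⟨_, m, D, _, _, hm, hD, ⟨e⟩⟩ := h
  obtain ⟨d', k', _, _, h1, h2, _, hdim, h3, h4⟩ := exists_splitting_field k A m D e
  refine ⟨k', inferInstance, inferInstance, h1, h2, ?_, h4⟩
  rw [h3]
  rw [hD] at hdim
  exact (Nat.pow_left_injective (n := 2) (by norm_num) hdim).symm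

variable (k A)

/-- If `K` splits `A` it splits all tensor powers of `A`. -/
theorem splits_tpow_of_splits {K : Type w} [Field K] [Algebra k K] (h : Curves.Splits k A K)
    (e : ℕ) : Curves.Splits k (⨂[k] _ : Fin e, A) K := by
  induction e with
  | zero =>
    obtain ⟨h1, h2, h3⟩ := TPow.csa k A 0
    haveI := h1
    haveI := h2
    haveI := h3
    refine Split.splits_of_algHom_matrix 1 one_ne_zero
      ((Algebra.ofId k (Matrix (Fin 1) (Fin 1) K)).comp (TPow.zeroEquiv k A : _ →ₐ[k] k)) ?_
    rw [LinearEquiv.finrank_eq (TPow.zeroEquiv k A).toLinearEquiv, Module.finrank_self, one_pow]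
  | succ e ih =>
    obtain ⟨h1, h2, h3⟩ := TPow.csa k A e
    obtain ⟨h4, h5, h6⟩ := TPow.csa k A (e + 1)
    haveI := h1
    haveI := h2
    haveI := h3
    haveI := h4
    haveI := h5
    haveI := h6
    haveI : IsSimpleRing ((⨂[k] _ : Fin e, A) ⊗[k] A) := CSA.isSimpleRing_tensor
    haveI : Algebra.IsCentral k ((⨂[k] _ : Fin e, A) ⊗[k] A) := Split.isCentral_tensor
    exact Brauer.splits_of_algEquiv (TPow.succEquiv k A e).symm (Split.splits_tensor ih h)

end props

section basechange

/-- Noncommutative version of `Algebra.TensorProduct.cancelBaseChange`. -/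
noncomputable def cancelBaseChange' (R S T A B : Type*) [CommSemiring R] [CommSemiring S]
    [CommSemiring T] [Algebra R S] [Semiring A] [Semiring B] [Algebra R T] [Algebra R A]
    [Algebra R B] [Algebra T A] [IsScalarTower R T A] [Algebra S A] [IsScalarTower R S A]
    [Algebra S T] [IsScalarTower S T A] : A ⊗[S] (S ⊗[R] B) ≃ₐ[T] A ⊗[R] B :=
  AlgEquiv.symm <| AlgEquiv.ofLinearEquiv
    (TensorProduct.AlgebraTensorModule.cancelBaseChange R S T A B).symm
    (by simp [Algebra.TensorProduct.one_def]) <|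
      LinearMap.map_mul_of_map_mul_tmul (fun _ _ _ _ ↦ by simp)

/-- `K ⊗ M_m(D) ≅ M_m(K ⊗ D)` as `K`-algebras. -/
noncomputable def baseChangeMatrix (k : Type u) [Field k] (K : Type w) [Field K] [Algebra k K]
    (D : Type v) [Ring D] [Algebra k D] (m : ℕ) :
    K ⊗[k] Matrix (Fin m) (Fin m) D ≃ₐ[K] Matrix (Fin m) (Fin m) (K ⊗[k] D) :=
  ((Algebra.TensorProduct.congr (Matrix.uniqueAlgEquiv (m := Unit) (R := K) (A := K)).symm
      (AlgEquiv.refl (R := k) (A₁ := Matrix (Fin m) (Fin m) D))).trans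
    (Matrix.kroneckerTMulAlgEquiv Unit (Fin m) k K K D)).trans
    (Matrix.reindexAlgEquiv K (K ⊗[k] D) (Equiv.uniqueProd (Fin m) Unit))

variable (k : Type u) [Field k] (A : Type v) [Ring A] [Algebra k A]
  (K : Type w) [Field K] [Algebra k K] (L : Type w') [Field L] [Algebra K L] [Algebra k L]
  [IsScalarTower k K L]

/-- Splitting over an intermediate field. -/
theorem splits_baseChange_iff : Curves.Splits K (K ⊗[k] A) L ↔ Curves.Splits k A L := by
  constructor
  · rintro ⟨n, hn, ⟨e⟩⟩
    exact ⟨n, hn, ⟨(cancelBaseChange' k K L L A).symm.trans e⟩⟩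
  · rintro ⟨n, hn, ⟨e⟩⟩
    exact ⟨n, hn, ⟨(cancelBaseChange' k K L L A).trans e⟩⟩

end basechange

end Groth.Agent.Lib.Lead.Index
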