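/-
Lead library: universe-polymorphic fibre criterion for Azumaya algebras, and comparison of the
fibre at a prime with the base change to any field with that kernel.
-/
import Mathlib
import Groth.Agent.Lib.Lead.AzumayaFibre
import Groth.Agent.Lib.Lead.AzumayaLocal
import Groth.Agent.Lib.Lead.Split2
import Groth.Agent.Lib.Lead.Index
import Groth.Agent.S19588

set_option autoImplicit false
universe u v w
open TensorProduct

namespace Groth.Agent.Lib.Lead.AzumayaFibre2

/-- A finite projective algebra whose fibres are central simple is Azumaya. -/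
theorem isAzumaya_of_fibres (R : Type u) [CommRing R] (A : Type v) [Ring A] [Algebra R A]
    [Module.Finite R A] [Module.Projective R A]
    (h : ∀ (p : Ideal R) [p.IsPrime], Algebra.IsCentral p.ResidueField (p.ResidueField ⊗[R] A) ∧
      IsSimpleRing (p.ResidueField ⊗[R] A)) : IsAzumaya R A := by
  have hfaith : FaithfulSMul R A :=
    AzumayaFibre.faithful_of_fibres R A (fun p _ => by
      haveI := (h p).2
      infer_instance)
  haveI : Module.Finite R Aᵐᵒᵖ := Module.Finite.equiv (MulOpposite.opLinearEquiv R)
  haveI : Module.Projective R (Module.End R A) :=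
    Module.Projective.of_equiv (dualTensorHomEquiv R A A)
  haveI : Module.Finite R (Module.End R A) := Module.Finite.equiv (dualTensorHomEquiv R A A)
  have hbij : Function.Bijective (AlgHom.mulLeftRight R A) :=
    AzumayaFibre.bijective_of_fibres (AlgHom.mulLeftRight R A).toLinearMap
      (fun p _ => by
        obtain ⟨hc, hs⟩ := h p
        haveI := hc
        haveI := hs
        exact (AzumayaFibre.mulLeftRight_baseChange_bijective_iff R
          p.ResidueField A).1 AzumayaLocal.bijective_of_csa)
  exact { toProjective := inferInstance, toFaithfulSMul := hfaith, toFinite := inferInstance,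
          bij := hbij }

/-- An Azumaya algebra over a field is central simple. -/
theorem csa_of_isAzumaya_field (K : Type u) [Field K] (C : Type v) [Ring C] [Algebra K C]
    [IsAzumaya K C] : Algebra.IsCentral K C ∧ IsSimpleRing C := by
  haveI : Nontrivial C := by
    by_contra hn
    rw [not_nontrivial_iff_subsingleton] at hn
    have h1 : (1 : K) = 0 :=
      eq_of_smul_eq_smul (α := C) (fun x => Subsingleton.elim _ _)
    exact one_ne_zero h1
  exact AzumayaLocal.csa_of_bijective IsAzumaya.bij

/-- The base change of an Azumaya algebra to a field is central simple. -/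
theorem csa_of_isAzumaya (R : Type u) [CommRing R] (A : Type v) [Ring A] [Algebra R A]
    [IsAzumaya R A] (K : Type w) [Field K] [Algebra R K] :
    Algebra.IsCentral K (K ⊗[R] A) ∧ IsSimpleRing (K ⊗[R] A) := by
  haveI : IsAzumaya K (K ⊗[R] A) := Groth.Agent.S19588.result R K A
  exact csa_of_isAzumaya_field K (K ⊗[R] A)

/-- If the base change of `A` to a field `K` with `ker (R → K) = p` is central simple, so is the
fibre of `A` at `p`. -/
theorem csa_fibre_of_field (R : Type u) [CommRing R] (A : Type v) [Ring A] [Algebra R A]
    (p : Ideal R) [p.IsPrime] (K : Type w) [Field K] [Algebra R K]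
    (hker : RingHom.ker (algebraMap R K) = p) [IsAzumaya K (K ⊗[R] A)] :
    Algebra.IsCentral p.ResidueField (p.ResidueField ⊗[R] A) ∧
      IsSimpleRing (p.ResidueField ⊗[R] A) := by
  have hf₂ : p.primeCompl ≤ (IsUnit.submonoid K).comap (algebraMap R K) := by
    intro x hx
    rw [Submonoid.mem_comap, IsUnit.mem_submonoid_iff, isUnit_iff_ne_zero]
    intro h0
    apply hx
    rw [← hker]
    exact h0
  letI : Algebra p.ResidueField K :=
    (Ideal.ResidueField.lift p (algebraMap R K) hker.ge hf₂).toAlgebra
  haveI : IsScalarTower R p.ResidueField K := IsScalarTower.of_algebraMap_eq (fun r =>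
    (Ideal.ResidueField.lift_algebraMap p (algebraMap R K) hker.ge hf₂ r).symm)
  haveI : IsAzumaya K (K ⊗[p.ResidueField] (p.ResidueField ⊗[R] A)) :=
    IsAzumaya.of_AlgEquiv K _ _ (Index.cancelBaseChange' R p.ResidueField K K A).symm
  obtain ⟨hc, hs⟩ := csa_of_isAzumaya_field K (K ⊗[p.ResidueField] (p.ResidueField ⊗[R] A))
  haveI := hc
  haveI := hs
  exact Split.isCentral_isSimpleRing_of_baseChange (k := p.ResidueField)
    (A := p.ResidueField ⊗[R] A) (K := K)

end Groth.Agent.Lib.Lead.AzumayaFibre2
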