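/-
Lead library: algebra homomorphisms between Azumaya algebras of the same rank are bijective.

* `bijective_of_azumaya`: `B`, `C` Azumaya over `R` with the same rank function, then every
  `R`-algebra hom `B → C` is bijective.
* `rankAtStalk_end`: the rank of `End_R(E)` is the square of the rank of `E`
  (`E` finite projective).
-/
import Mathlib
import Groth.Agent.Lib.Lead.AzumayaFibre2

set_option autoImplicit false
universe u v w
open TensorProduct

namespace Groth.Agent.Lib.Lead.AzHom

theorem lTensor_eq_map {R : Type u} [CommRing R] {B : Type v} [Ring B] [Algebra R B]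
    {C : Type w} [Ring C] [Algebra R C] (K : Type*) [CommRing K] [Algebra R K]
    (φ : B →ₐ[R] C) (x : K ⊗[R] B) :
    LinearMap.lTensor K φ.toLinearMap x =
      Algebra.TensorProduct.map (AlgHom.id K K) φ x := by
  induction x using TensorProduct.induction_on with
  | zero => rw [map_zero, map_zero]
  | tmul k b =>
    rw [LinearMap.lTensor_tmul, Algebra.TensorProduct.map_tmul]
    rfl
  | add x y hx hy => rw [map_add, map_add, hx, hy]

/-- An algebra homomorphism between Azumaya algebras of the same rank is bijective. -/
theorem bijective_of_azumaya {R : Type u} [CommRing R] {B : Type v} [Ring B] [Algebra R B]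
    [IsAzumaya R B] {C : Type w} [Ring C] [Algebra R C] [IsAzumaya R C] (φ : B →ₐ[R] C)
    (h : ∀ p : PrimeSpectrum R, Module.rankAtStalk (R := R) B p = Module.rankAtStalk (R := R) C p) :
    Function.Bijective φ := by
  refine AzumayaFibre.bijective_of_fibres φ.toLinearMap fun p _ => ?_
  obtain ⟨hcB, hsB⟩ := AzumayaFibre2.csa_of_isAzumaya R B p.ResidueField
  obtain ⟨hcC, hsC⟩ := AzumayaFibre2.csa_of_isAzumaya R C p.ResidueField
  haveI := hcB
  haveI := hsB
  haveI := hcC
  haveI := hsC
  obtain ⟨F, hFdef⟩ : ∃ F : p.ResidueField ⊗[R] B →ₐ[p.ResidueField] p.ResidueField ⊗[R] C,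
      F = Algebra.TensorProduct.map (AlgHom.id p.ResidueField p.ResidueField) φ := ⟨_, rfl⟩
  have hFinj : Function.Injective F := fun x y hxy => RingHom.injective F.toRingHom hxy
  have hdim : Module.finrank p.ResidueField (p.ResidueField ⊗[R] B) =
      Module.finrank p.ResidueField (p.ResidueField ⊗[R] C) := by
    have h1 := Module.rankAtStalk_eq (R := R) (M := B) ⟨p, inferInstance⟩
    have h2 := Module.rankAtStalk_eq (R := R) (M := C) ⟨p, inferInstance⟩
    have h3 := h ⟨p, inferInstance⟩
    rw [h1, h2] at h3
    exact h3
  have hFsurj : Function.Surjective F :=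
    (LinearMap.injective_iff_surjective_of_finrank_eq_finrank (f := F.toLinearMap) hdim).1 hFinj
  have heq : ∀ x, LinearMap.lTensor p.ResidueField φ.toLinearMap x = F x := fun x => by
    rw [lTensor_eq_map, hFdef]
  constructor
  · intro x y hxy
    rw [heq, heq] at hxy
    exact hFinj hxy
  · intro y
    obtain ⟨x, hx⟩ := hFsurj y
    exact ⟨x, by rw [heq, hx]⟩

end Groth.Agent.Lib.Lead.AzHom
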