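import Mathlib
import Groth.Prelude.Def_AzInv

/-!
# Counting symmetric elements: transpose versus symplectic

Fixed points of base-changed linear involutions via flat base change
(`LinearMap.tensorEqLocusEquiv`), and explicit descriptions of the symmetric elements of
`M_n(R)` for the transpose and of `M_k(M_2(R))` for the involution induced by the adjugate.
-/

set_option autoImplicit false
universe u

open TensorProduct Module

namespace Groth.Agent.Lib.Lead.AzInvCount

section fix

variable {R : Type u} [CommRing R] (K : Type u) [CommRing K] [Algebra R K]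
  {A : Type u} [AddCommGroup A] [Module R A]

/-- fixed points of the base change of `g`. -/
noncomputable def Fix (g : A →ₗ[R] A) : Submodule K (K ⊗[R] A) :=
  LinearMap.eqLocus (AlgebraTensorModule.lTensor K K g)
    (AlgebraTensorModule.lTensor K K (LinearMap.id : A →ₗ[R] A))

theorem mem_Fix (g : A →ₗ[R] A) (x : K ⊗[R] A) : x ∈ Fix K g ↔ g.baseChange K x = x := by
  unfold Fix
  rw [LinearMap.mem_eqLocus]
  have hid : AlgebraTensorModule.lTensor K K (LinearMap.id : A →ₗ[R] A) x = x := by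
    induction x using TensorProduct.induction_on with
    | zero => simp
    | tmul a b => rfl
    | add x y hx hy => rw [map_add, hx, hy]
  rw [hid]
  exact Iff.rfl

theorem finrank_Fix [Module.Flat R K] [Nontrivial K] [Nontrivial R] (g : A →ₗ[R] A)
    {T : Type u} [AddCommGroup T] [Module R T] [Module.Free R T]
    (e : LinearMap.eqLocus g LinearMap.id ≃ₗ[R] T) : finrank K (Fix K g) = finrank R T := by
  have e1 := (LinearMap.tensorEqLocusEquiv K K g LinearMap.id).finrank_eq
  have e2 := (AlgebraTensorModule.congr (LinearEquiv.refl K K) e).finrank_eq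
  unfold Fix
  rw [← e1, e2, Module.finrank_baseChange]

theorem finrank_Fix_eq_of_equiv {A₁ A₂ : Type u} [AddCommGroup A₁] [Module R A₁]
    [AddCommGroup A₂] [Module R A₂] (g₁ : A₁ →ₗ[R] A₁) (g₂ : A₂ →ₗ[R] A₂)
    (f : K ⊗[R] A₁ ≃ₗ[K] K ⊗[R] A₂)
    (hf : ∀ x, f (g₁.baseChange K x) = g₂.baseChange K (f x)) :
    finrank K (Fix K g₁) = finrank K (Fix K g₂) := by
  refine LinearEquiv.finrank_eq (LinearEquiv.ofSubmodules f _ _ ?_)
  ext y
  rw [Submodule.mem_map, mem_Fix]
  constructor
  · rintro ⟨x, hx, rfl⟩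
    rw [mem_Fix] at hx
    show g₂.baseChange K (f x) = f x
    rw [← hf, hx]
  · intro hy
    refine ⟨f.symm y, ?_, f.apply_symm_apply y⟩
    rw [mem_Fix]
    apply f.injective
    rw [hf, f.apply_symm_apply, hy]

end fix

section counting

theorem card_lt (k : ℕ) : Fintype.card {p : Fin k × Fin k // p.1 < p.2} * 2 + k = k * k := by
  classical
  rw [Fintype.card_subtype, Finset.card_filter, Fintype.sum_prod_type_right]
  have h : ∀ j : Fin k, (∑ i : Fin k, if (i, j).1 < (i, j).2 then 1 else 0) = (j : ℕ) := by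
    intro j
    rw [← Finset.card_filter]
    show (Finset.filter (fun i : Fin k => i < j) Finset.univ).card = (j : ℕ)
    rw [Finset.filter_gt_eq_Iio, Fin.card_Iio]
  rw [Finset.sum_congr rfl (fun j _ => h j), Fin.sum_univ_eq_sum_range (fun i => i) k,
    Finset.sum_range_id_mul_two]
  cases k with
  | zero => rfl
  | succ k => rw [Nat.add_sub_cancel]; ring

theorem choose_two (n : ℕ) : (n + 1).choose 2 * 2 = n * n + n := by
  rw [Nat.choose_two_right, Nat.div_mul_cancel (Nat.even_mul_pred_self (n + 1)).two_dvd,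
    Nat.add_sub_cancel]
  ring

theorem arith (n n' a : ℕ) (hn' : 0 < n') (hdim : n * n = n' * n' * 4)
    (hcard : a * 2 + n' = n' * n') (e12 : (n + 1).choose 2 = a * 4 + n') : False := by
  have hch := choose_two n
  have h1 : n * n = (2 * n') * (2 * n') := by rw [hdim]; ring
  have h2 : n = 2 * n' := Nat.mul_self_inj.mp h1
  subst h2
  have h3 : (2 * n') * (2 * n') = 4 * (n' * n') := by ring
  rw [h3] at hch
  generalize n' * n' = m at *
  omega

end counting

section sym

variable {R : Type u} [CommRing R]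

/-- symmetric matrices. -/
def E1 (k : ℕ) : Submodule R (Matrix (Fin k) (Fin k) R) where
  carrier := {M | ∀ i j, M j i = M i j}
  add_mem' := by
    intro M N hM hN i j
    rw [Matrix.add_apply, Matrix.add_apply, hM i j, hN i j]
  zero_mem' := by intro i j; rfl
  smul_mem' := by
    intro r M hM i j
    rw [Matrix.smul_apply, Matrix.smul_apply, hM i j]

theorem mem_E1 {k : ℕ} {M : Matrix (Fin k) (Fin k) R} : M ∈ E1 k ↔ ∀ i j, M j i = M i j :=
  Iff.rfl

noncomputable def e1 (k : ℕ) : E1 (R := R) k ≃ₗ[R] (Sym2 (Fin k) → R) where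
  toFun M := fun z =>
    Sym2.lift ⟨fun i j => (M : Matrix (Fin k) (Fin k) R) i j,
      fun i j => ((mem_E1.mp M.2) i j).symm⟩ z
  map_add' M N := by funext z; refine Sym2.ind (fun i j => ?_) z; rfl
  map_smul' r M := by funext z; refine Sym2.ind (fun i j => ?_) z; rfl
  invFun m := ⟨Matrix.of fun i j => m s(i, j), mem_E1.mpr (fun i j => by
    show m s(j, i) = m s(i, j)
    rw [Sym2.eq_swap])⟩
  left_inv M := by apply Subtype.ext; apply Matrix.ext; intro i j; rfl
  right_inv m := by funext z; refine Sym2.ind (fun i j => ?_) z; rfl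

abbrev M2 (R : Type u) [CommRing R] := Matrix (Fin 2) (Fin 2) R

/-- the adjugate of a `2 × 2` matrix, as a function. -/
def adjF (x : M2 R) : M2 R := Matrix.of ![![x 1 1, -x 0 1], ![-x 1 0, x 0 0]]

/-- the adjugate of a `2 × 2` matrix, as a linear map. -/
def adjL : M2 R →ₗ[R] M2 R where
  toFun := adjF
  map_add' x y := by
    ext i j
    fin_cases i <;> fin_cases j <;> simp [adjF] <;> ring
  map_smul' r x := by
    ext i j
    fin_cases i <;> fin_cases j <;> simp [adjF]

theorem adjL_apply (x : M2 R) : adjL x = adjF x := rfl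

theorem adjL_adjL (x : M2 R) : adjL (adjL x) = x := by
  ext i j
  fin_cases i <;> fin_cases j <;> simp [adjL_apply, adjF]

theorem adjL_smul_one (d : R) : adjL (d • (1 : M2 R)) = d • (1 : M2 R) := by
  ext i j
  fin_cases i <;> fin_cases j <;> simp [adjL_apply, adjF]

theorem eq_smul_one_of_adjL_eq (h2 : IsUnit (2 : R)) (x : M2 R) (h : adjL x = x) :
    (x 0 0) • (1 : M2 R) = x := by
  have h00 : x 1 1 = x 0 0 := congrFun (congrFun h 0) 0
  have h01 : -x 0 1 = x 0 1 := congrFun (congrFun h 0) 1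
  have h10 : -x 1 0 = x 1 0 := congrFun (congrFun h 1) 0
  have z01 : x 0 1 = 0 := by
    have : (2 : R) * x 0 1 = 0 := by
      rw [two_mul]; nth_rewrite 1 [← h01]; exact neg_add_cancel _
    exact h2.mul_right_eq_zero.mp this
  have z10 : x 1 0 = 0 := by
    have : (2 : R) * x 1 0 = 0 := by
      rw [two_mul]; nth_rewrite 1 [← h10]; exact neg_add_cancel _
    exact h2.mul_right_eq_zero.mp this
  ext i j
  fin_cases i <;> fin_cases j <;> simp [z01, z10, h00]

/-- matrices `M` over `M_2(R)` with `adj (M j i) = M i j`. -/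
def E2 (k : ℕ) : Submodule R (Matrix (Fin k) (Fin k) (M2 R)) where
  carrier := {M | ∀ i j, adjL (M j i) = M i j}
  add_mem' := by
    intro M N hM hN i j
    rw [Matrix.add_apply, Matrix.add_apply, map_add, hM i j, hN i j]
  zero_mem' := by intro i j; exact map_zero _
  smul_mem' := by
    intro r M hM i j
    rw [Matrix.smul_apply, Matrix.smul_apply, map_smul, hM i j]

theorem mem_E2 {k : ℕ} {M : Matrix (Fin k) (Fin k) (M2 R)} :
    M ∈ E2 k ↔ ∀ i j, adjL (M j i) = M i j := Iff.rfl

/-- the matrix with prescribed strict upper triangle and scalar diagonal. -/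
noncomputable def B {k : ℕ} (m : {p : Fin k × Fin k // p.1 < p.2} → M2 R) (d : Fin k → R) :
    Matrix (Fin k) (Fin k) (M2 R) :=
  Matrix.of fun i j =>
    if h : i < j then m ⟨(i, j), h⟩
    else if h' : j < i then adjL (m ⟨(j, i), h'⟩) else d i • (1 : M2 R)

theorem B_lt {k : ℕ} (m : {p : Fin k × Fin k // p.1 < p.2} → M2 R) (d : Fin k → R)
    {i j : Fin k} (h : i < j) : B m d i j = m ⟨(i, j), h⟩ := by
  show (if h : i < j then m ⟨(i, j), h⟩
    else if h' : j < i then adjL (m ⟨(j, i), h'⟩) else d i • (1 : M2 R)) = _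
  rw [dif_pos h]

theorem B_gt {k : ℕ} (m : {p : Fin k × Fin k // p.1 < p.2} → M2 R) (d : Fin k → R)
    {i j : Fin k} (h : j < i) : B m d i j = adjL (m ⟨(j, i), h⟩) := by
  show (if h : i < j then m ⟨(i, j), h⟩
    else if h' : j < i then adjL (m ⟨(j, i), h'⟩) else d i • (1 : M2 R)) = _
  rw [dif_neg h.not_gt, dif_pos h]

theorem B_eq {k : ℕ} (m : {p : Fin k × Fin k // p.1 < p.2} → M2 R) (d : Fin k → R)
    (i : Fin k) : B m d i i = d i • (1 : M2 R) := by
  show (if h : i < i then m ⟨(i, i), h⟩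
    else if h' : i < i then adjL (m ⟨(i, i), h'⟩) else d i • (1 : M2 R)) = _
  rw [dif_neg (lt_irrefl i), dif_neg (lt_irrefl i)]

theorem B_mem {k : ℕ} (m : {p : Fin k × Fin k // p.1 < p.2} → M2 R) (d : Fin k → R) :
    B m d ∈ E2 k := by
  rw [mem_E2]
  intro i j
  rcases lt_trichotomy i j with h | h | h
  · rw [B_gt m d h, B_lt m d h, adjL_adjL]
  · subst h
    rw [B_eq, adjL_smul_one]
  · rw [B_lt m d h, B_gt m d h]

noncomputable def e2 (h2 : IsUnit (2 : R)) (k : ℕ) :
    E2 (R := R) k ≃ₗ[R] ({p : Fin k × Fin k // p.1 < p.2} → M2 R) × (Fin k → R) where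
  toFun M := (fun p => (M : Matrix (Fin k) (Fin k) (M2 R)) p.1.1 p.1.2,
    fun i => (M : Matrix (Fin k) (Fin k) (M2 R)) i i 0 0)
  map_add' M N := rfl
  map_smul' r M := rfl
  invFun md := ⟨B md.1 md.2, B_mem md.1 md.2⟩
  left_inv M := by
    apply Subtype.ext
    apply Matrix.ext
    intro i j
    rcases lt_trichotomy i j with h | h | h
    · exact B_lt _ _ h
    · subst h
      show B _ _ i i = _
      rw [B_eq]
      exact eq_smul_one_of_adjL_eq h2 _ ((mem_E2.mp M.2) i i)
    · show B _ _ i j = _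
      rw [B_gt _ _ h]
      exact (mem_E2.mp M.2) i j
  right_inv md := by
    obtain ⟨m, d⟩ := md
    refine Prod.ext (funext fun p => ?_) (funext fun i => ?_)
    · exact B_lt m d p.2
    · show (B m d i i) 0 0 = d i
      rw [B_eq]
      simp

theorem finrank_T1 [Nontrivial R] (k : ℕ) : finrank R (Sym2 (Fin k) → R) = (k + 1).choose 2 := by
  rw [Module.finrank_fintype_fun_eq_card, Sym2.card, Fintype.card_fin]

theorem finrank_T2 [Nontrivial R] (k : ℕ) :
    finrank R (({p : Fin k × Fin k // p.1 < p.2} → M2 R) × (Fin k → R)) =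
      Fintype.card {p : Fin k × Fin k // p.1 < p.2} * 4 + k := by
  rw [Module.finrank_prod, Module.finrank_pi_fintype, Module.finrank_fintype_fun_eq_card,
    Fintype.card_fin]
  simp [Module.finrank_matrix]

end sym

section main

variable {R : Type u} [CommRing R]
  (hlam : ∀ r : R, (AlgEquiv.refl : R ≃ₐ[R] R) ((AlgEquiv.refl : R ≃ₐ[R] R) r) = r)

theorem J_inv (J : (Matrix (Fin 2) (Fin 2) R)ˣ)
    (hJ : (↑J : Matrix (Fin 2) (Fin 2) R) = Matrix.of ![![0, -1], ![1, 0]]) :
    (↑J⁻¹ : Matrix (Fin 2) (Fin 2) R) = Matrix.of ![![0, 1], ![-1, 0]] := by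
  apply Units.inv_eq_of_mul_eq_one_right
  rw [hJ]
  ext i j
  fin_cases i <;> fin_cases j <;> simp [Matrix.mul_apply, Fin.sum_univ_two]

theorem symp_apply (J : (Matrix (Fin 2) (Fin 2) R)ˣ)
    (hJ : (↑J : Matrix (Fin 2) (Fin 2) R) = Matrix.of ![![0, -1], ![1, 0]])
    (hJt : AzInv.LamInv.transpose (AlgEquiv.refl : R ≃ₐ[R] R) (Fin 2) hlam
      (↑J : Matrix (Fin 2) (Fin 2) R) = (-1 : R) • (↑J : Matrix (Fin 2) (Fin 2) R))
    (hneg : (AlgEquiv.refl : R ≃ₐ[R] R) (-1) * (-1) = 1) (x : M2 R) :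
    ((AzInv.LamInv.transpose (AlgEquiv.refl : R ≃ₐ[R] R) (Fin 2) hlam).conj J (-1) hJt hneg) x =
      adjL x := by
  have hT : (AzInv.LamInv.transpose (AlgEquiv.refl : R ≃ₐ[R] R) (Fin 2) hlam) x =
      Matrix.of ![![x 0 0, x 1 0], ![x 0 1, x 1 1]] := by
    ext i j
    fin_cases i <;> fin_cases j <;> rfl
  rw [AzInv.LamInv.conj_apply, J_inv J hJ, hJ, adjL_apply, hT]
  ext i j
  fin_cases i <;> fin_cases j <;>
    simp [adjF, Matrix.mul_apply, Fin.sum_univ_two, Matrix.vecMul, dotProduct]

end main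

end Groth.Agent.Lib.Lead.AzInvCount
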