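import Mathlib
import Groth.Prelude.Def_AzInv
import Groth.Agent.Lib.Helper7.FibDim

/-!
# Symmetric / skew elements of an algebra with involution in the fibres

For a predicate `p` on an `R`-module `A` and a prime `P` of `R`, `W p P` is the `κ(P)`-span of the
`1 ⊗ a` with `p a` in the fibre `κ(P) ⊗ A`.  We prove the dimension formula
`dim W p P + fibDim (A / R·{a | p a}) P = fibDim A P`, and for a `lam`-involution `t` with `2` invertible,
that the spans of symmetric and skew elements are complementary at ramified primes.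
-/

set_option autoImplicit false
universe u v w

open TensorProduct Module

namespace Groth.Agent.Lib.Lead.AzInvSym

open Groth.Agent.Lib.Helper7

section general

variable {R : Type v} [CommRing R] {A : Type w} [AddCommGroup A] [Module R A]

/-- the span over `κ(P)` of the `1 ⊗ a`, `p a`. -/
noncomputable def W (p : A → Prop) (P : PrimeSpectrum R) :
    Submodule P.asIdeal.ResidueField (P.asIdeal.ResidueField ⊗[R] A) :=
  Submodule.span P.asIdeal.ResidueField
    (Set.range fun a : {a : A // p a} => (1 : P.asIdeal.ResidueField) ⊗ₜ[R] (a : A))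

theorem one_tmul_mem_W (p : A → Prop) (P : PrimeSpectrum R) {a : A}
    (ha : a ∈ Submodule.span R {a | p a}) :
    (1 : P.asIdeal.ResidueField) ⊗ₜ[R] a ∈ W p P := by
  induction ha using Submodule.span_induction with
  | mem x hx => exact Submodule.subset_span ⟨⟨x, hx⟩, rfl⟩
  | zero => rw [TensorProduct.tmul_zero]; exact Submodule.zero_mem _
  | add x y _ _ hx hy => rw [TensorProduct.tmul_add]; exact Submodule.add_mem _ hx hy
  | smul r x _ hx =>
    rw [TensorProduct.tmul_smul, ← algebraMap_smul P.asIdeal.ResidueField r]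
    exact Submodule.smul_mem _ _ hx

theorem range_baseChange_subtype (p : A → Prop) (P : PrimeSpectrum R) :
    LinearMap.range ((Submodule.span R {a | p a}).subtype.baseChange P.asIdeal.ResidueField) =
      W p P := by
  apply le_antisymm
  · rintro _ ⟨y, rfl⟩
    induction y using TensorProduct.induction_on with
    | zero => rw [map_zero]; exact Submodule.zero_mem _
    | tmul c n =>
      rw [LinearMap.baseChange_tmul]
      have h1 : c ⊗ₜ[R] ((Submodule.span R {a | p a}).subtype n) =
          c • ((1 : P.asIdeal.ResidueField) ⊗ₜ[R] (n : A)) := by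
        rw [TensorProduct.smul_tmul', smul_eq_mul, mul_one]; rfl
      rw [h1]
      exact Submodule.smul_mem _ _ (one_tmul_mem_W p P n.2)
    | add x y hx hy => rw [map_add]; exact Submodule.add_mem _ hx hy
  · unfold W
    rw [Submodule.span_le]
    rintro _ ⟨⟨a, ha⟩, rfl⟩
    refine ⟨(1 : P.asIdeal.ResidueField) ⊗ₜ[R] ⟨a, Submodule.subset_span ha⟩, ?_⟩
    rw [LinearMap.baseChange_tmul]; rfl

theorem finrank_W_add [Module.Finite R A] (p : A → Prop) (P : PrimeSpectrum R) :
    finrank P.asIdeal.ResidueField (W p P) + fibDim (A ⧸ Submodule.span R {a | p a}) P =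
      fibDim A P := by
  set κ := P.asIdeal.ResidueField
  set N := Submodule.span R {a | p a}
  let π : κ ⊗[R] A →ₗ[κ] κ ⊗[R] (A ⧸ N) := N.mkQ.baseChange κ
  have hsurj : Function.Surjective π := LinearMap.lTensor_surjective κ N.mkQ_surjective
  have hex : Function.Exact (N.subtype.baseChange κ) π :=
    lTensor_exact κ (LinearMap.exact_subtype_mkQ N) N.mkQ_surjective
  have hker : LinearMap.ker π = W p P := by
    rw [← range_baseChange_subtype p P]
    ext x
    rw [LinearMap.mem_ker, LinearMap.mem_range]
    exact hex x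
  have h := LinearMap.finrank_range_add_finrank_ker π
  rw [LinearMap.range_eq_top.mpr hsurj, finrank_top, hker] at h
  unfold fibDim
  rw [add_comm]
  exact h

end general

section involution

variable {S : Type u} {R : Type v} [CommRing S] [CommRing R] [Algebra S R]
  {A : Type w} [Ring A] [Algebra S A] [Algebra R A] [IsScalarTower S R A]
  (lam : R ≃ₐ[S] R) (t : AzInv.LamInv R A lam)

theorem t_smul (s : S) (a : A) : t (s • a) = s • t a :=
  (t.linS S lam).map_smul s a

theorem W_sup_eq_top (h2 : IsUnit (2 : S)) (P : PrimeSpectrum R) :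
    W (fun a : A => t a = a) P ⊔ W (fun a : A => t a = -a) P = ⊤ := by
  obtain ⟨u, hu⟩ := h2
  have hs : (↑u⁻¹ : S) * 2 = 1 := by rw [← hu]; exact u.inv_mul
  set s : S := ↑u⁻¹
  rw [eq_top_iff]
  rintro x -
  induction x using TensorProduct.induction_on with
  | zero => exact Submodule.zero_mem _
  | add x y hx hy => exact Submodule.add_mem _ hx hy
  | tmul c a =>
    have h1 : c ⊗ₜ[R] a = c • ((1 : P.asIdeal.ResidueField) ⊗ₜ[R] a) := by
      rw [TensorProduct.smul_tmul', smul_eq_mul, mul_one]
    rw [h1]
    refine Submodule.smul_mem _ _ ?_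
    have hsplit : a = s • (a + t a) + s • (a - t a) := by
      rw [← smul_add]
      have : a + t a + (a - t a) = (2 : S) • a := by rw [two_smul]; abel
      rw [this, smul_smul, hs, one_smul]
    have hp : t (s • (a + t a)) = s • (a + t a) := by
      rw [t_smul, t.map_add, t.invol, add_comm]
    have hm : t (s • (a - t a)) = -(s • (a - t a)) := by
      rw [t_smul, t.map_sub, t.invol, ← smul_neg, neg_sub]
    rw [hsplit, TensorProduct.tmul_add]
    exact Submodule.add_mem _
      (Submodule.mem_sup_left (Submodule.subset_span ⟨⟨_, hp⟩, rfl⟩))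
      (Submodule.mem_sup_right (Submodule.subset_span ⟨⟨_, hm⟩, rfl⟩))

theorem W_disjoint (h2 : IsUnit (2 : S)) (P : PrimeSpectrum R)
    (hP : ∀ r : R, lam r - r ∈ P.asIdeal) :
    Disjoint (W (fun a : A => t a = a) P) (W (fun a : A => t a = -a) P) := by
  set κ := P.asIdeal.ResidueField
  let g : A →ₗ[R] κ ⊗[R] A :=
    { toFun := fun a => (1 : κ) ⊗ₜ[R] t a
      map_add' := fun a b => by rw [t.map_add, TensorProduct.tmul_add]
      map_smul' := fun r a => by
        simp only [RingHom.id_apply]
        rw [t.map_smul, TensorProduct.tmul_smul]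
        have h0 : (lam r - r) • ((1 : κ) ⊗ₜ[R] t a) = 0 := by
          rw [TensorProduct.smul_tmul', Algebra.smul_def, mul_one,
            (Ideal.algebraMap_residueField_eq_zero).mpr (hP r), TensorProduct.zero_tmul]
        rw [sub_smul, sub_eq_zero] at h0
        exact h0 }
  let T : κ ⊗[R] A →ₗ[κ] κ ⊗[R] A := g.liftBaseChange κ
  have hT : ∀ a : A, T ((1 : κ) ⊗ₜ[R] a) = (1 : κ) ⊗ₜ[R] t a := by
    intro a
    show (1 : κ) • g a = _
    rw [one_smul]; rfl
  have hplus : W (fun a : A => t a = a) P ≤ LinearMap.eqLocus T LinearMap.id := by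
    unfold W
    rw [Submodule.span_le]
    rintro _ ⟨⟨a, ha⟩, rfl⟩
    rw [SetLike.mem_coe, LinearMap.mem_eqLocus, hT, ha]; rfl
  have hminus : W (fun a : A => t a = -a) P ≤ LinearMap.eqLocus T (-LinearMap.id) := by
    unfold W
    rw [Submodule.span_le]
    rintro _ ⟨⟨a, ha⟩, rfl⟩
    rw [SetLike.mem_coe, LinearMap.mem_eqLocus, hT, ha, TensorProduct.tmul_neg]; rfl
  rw [Submodule.disjoint_def]
  intro x hx1 hx2
  have e1 : T x = x := by
    have := hplus hx1; rwa [LinearMap.mem_eqLocus] at this
  have e2 : T x = -x := by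
    have := hminus hx2; rwa [LinearMap.mem_eqLocus] at this
  obtain ⟨u, hu⟩ := h2
  have hs : (↑u⁻¹ : S) * 2 = 1 := by rw [← hu]; exact u.inv_mul
  have hs' : algebraMap S R (↑u⁻¹ : S) * 2 = 1 := by
    have := congrArg (algebraMap S R) hs
    rwa [map_mul, map_ofNat, map_one] at this
  have hxx : x + x = 0 := by
    nth_rewrite 1 [← e1]; rw [e2]; exact neg_add_cancel x
  calc x = (algebraMap S R (↑u⁻¹ : S) * 2) • x := by rw [hs', one_smul]
    _ = algebraMap S R (↑u⁻¹ : S) • (x + x) := by rw [mul_smul, two_smul]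
    _ = 0 := by rw [hxx, smul_zero]

theorem finrank_W_add_W [Module.Finite R A] (h2 : IsUnit (2 : S)) (P : PrimeSpectrum R)
    (hP : ∀ r : R, lam r - r ∈ P.asIdeal) :
    finrank P.asIdeal.ResidueField (W (fun a : A => t a = a) P) +
      finrank P.asIdeal.ResidueField (W (fun a : A => t a = -a) P) = fibDim A P := by
  have h := Submodule.finrank_sup_add_finrank_inf_eq (W (fun a : A => t a = a) P)
    (W (fun a : A => t a = -a) P)
  rw [W_sup_eq_top lam t h2 P, (W_disjoint lam t h2 P hP).eq_bot, finrank_top, finrank_bot,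
    add_zero] at h
  unfold fibDim
  exact h.symm

end involution

end Groth.Agent.Lib.Lead.AzInvSym
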