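/-
Lead library: faithfully flat descent of finite presentation and of the Azumaya property.

* `finitePresentation_of_faithfullyFlat`: `S ⊗ M` f.p. over `S` faithfully flat over `R`
  implies `M` f.p. over `R`;
* `isAzumaya_of_faithfullyFlat`: `S ⊗ B` Azumaya over `S` (faithfully flat over `R`) implies `B`
  Azumaya over `R`.
-/
import Mathlib
import Groth.Agent.Lib.Lead.AzumayaFibre

set_option autoImplicit false
universe u v w
open TensorProduct

namespace Groth.Agent.Lib.Lead.AzumayaDescent

theorem finitePresentation_of_faithfullyFlat (R : Type u) [CommRing R] (S : Type v) [CommRing S]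
    [Algebra R S] [Module.FaithfullyFlat R S] (M : Type w) [AddCommGroup M] [Module R M]
    [Module.FinitePresentation S (S ⊗[R] M)] : Module.FinitePresentation R M := by
  haveI : Module.Finite R M := Module.Finite.of_finite_tensorProduct_of_faithfullyFlat S
  obtain ⟨n, f, hf⟩ := Module.Finite.exists_fin' R M
  have hfS : Function.Surjective (f.baseChange S) := LinearMap.lTensor_surjective S hf
  have hK : (LinearMap.ker (f.baseChange S)).FG :=
    Module.FinitePresentation.fg_ker (f.baseChange S) hfS
  haveI : Module.Finite S (LinearMap.ker (f.baseChange S)) := Module.Finite.iff_fg.2 hK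
  have hinj : Function.Injective ((LinearMap.ker f).subtype.baseChange S) :=
    Module.Flat.lTensor_preserves_injective_linearMap (M := S) (LinearMap.ker f).subtype
      (Submodule.injective_subtype _)
  have hex : Function.Exact ((LinearMap.ker f).subtype.baseChange S) (f.baseChange S) :=
    lTensor_exact S f.exact_subtype_ker_map hf
  have hmem : ∀ z, (LinearMap.ker f).subtype.baseChange S z ∈ LinearMap.ker (f.baseChange S) := by
    intro z
    rw [LinearMap.mem_ker]
    exact (hex _).2 ⟨z, rfl⟩
  let g : S ⊗[R] (LinearMap.ker f) →ₗ[S] LinearMap.ker (f.baseChange S) :=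
    ((LinearMap.ker f).subtype.baseChange S).codRestrict _ hmem
  have hg : Function.Bijective g := by
    constructor
    · intro x y hxy
      apply hinj
      exact congrArg Subtype.val hxy
    · rintro ⟨y, hy⟩
      obtain ⟨z, hz⟩ := (hex y).1 (LinearMap.mem_ker.1 hy)
      exact ⟨z, Subtype.ext hz⟩
  haveI : Module.Finite S (S ⊗[R] (LinearMap.ker f)) :=
    Module.Finite.equiv (LinearEquiv.ofBijective g hg).symm
  haveI : Module.Finite R (LinearMap.ker f) :=
    Module.Finite.of_finite_tensorProduct_of_faithfullyFlat S
  exact Module.finitePresentation_of_surjective f hf (Module.Finite.iff_fg.1 inferInstance)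

theorem isAzumaya_of_faithfullyFlat (R : Type u) [CommRing R] (S : Type v) [CommRing S]
    [Algebra R S] [Module.FaithfullyFlat R S] (B : Type w) [Ring B] [Algebra R B]
    [IsAzumaya S (S ⊗[R] B)] : IsAzumaya R B := by
  haveI : Module.Finite R B := Module.Finite.of_finite_tensorProduct_of_faithfullyFlat S
  haveI : Module.FinitePresentation S (S ⊗[R] B) := Module.finitePresentation_of_projective S _
  haveI : Module.FinitePresentation R B := finitePresentation_of_faithfullyFlat R S B
  haveI : Module.Flat R B := Module.Flat.of_flat_tensorProduct R B S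
  haveI : Module.Projective R B := Module.Flat.projective_of_finitePresentation
  haveI hfaith : FaithfulSMul R B := by
    refine ⟨fun {r₁ r₂} h => ?_⟩
    apply FaithfulSMul.algebraMap_injective R S
    apply eq_of_smul_eq_smul (α := S ⊗[R] B)
    intro z
    rw [algebraMap_smul, algebraMap_smul]
    induction z using TensorProduct.induction_on with
    | zero => rw [smul_zero, smul_zero]
    | tmul s b => rw [← TensorProduct.tmul_smul, ← TensorProduct.tmul_smul, h b]
    | add x y hx hy => rw [smul_add, smul_add, hx, hy]
  have hb : Function.Bijective (AlgHom.mulLeftRight R B) :=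
    (Module.FaithfullyFlat.lTensor_bijective_iff_bijective R S
      (AlgHom.mulLeftRight R B).toLinearMap).1
      ((AzumayaFibre.mulLeftRight_baseChange_bijective_iff R S B).1 IsAzumaya.bij)
  exact { bij := hb }

end Groth.Agent.Lib.Lead.AzumayaDescent
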