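/-
Lead library: the opposite of an Azumaya algebra is Azumaya.
-/
import Mathlib

set_option autoImplicit false
universe u v
open TensorProduct

namespace Groth.Agent.Lib.Lead.AzumayaOp

theorem isAzumaya_op (R : Type u) [CommRing R] (B : Type v) [Ring B] [Algebra R B]
    [IsAzumaya R B] : IsAzumaya R Bᵐᵒᵖ := by
  haveI : Module.Finite R Bᵐᵒᵖ := Module.Finite.equiv (MulOpposite.opLinearEquiv R)
  haveI : Module.Projective R Bᵐᵒᵖ := Module.Projective.of_equiv (MulOpposite.opLinearEquiv R)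
  have hfaith : FaithfulSMul R Bᵐᵒᵖ := ⟨fun {r s} h => by
    apply eq_of_smul_eq_smul (α := B)
    intro b
    have := h (MulOpposite.op b)
    exact MulOpposite.op_injective (by simpa using this)⟩
  obtain ⟨o, ho⟩ : ∃ o : B ≃ₗ[R] Bᵐᵒᵖ, ∀ b, o b = MulOpposite.op b :=
    ⟨MulOpposite.opLinearEquiv R, fun _ => rfl⟩
  obtain ⟨oo, hoo⟩ : ∃ oo : Bᵐᵒᵖ ≃ₗ[R] Bᵐᵒᵖᵐᵒᵖ, ∀ b, oo b = MulOpposite.op b :=
    ⟨MulOpposite.opLinearEquiv R, fun _ => rfl⟩
  have hos : ∀ y, o.symm y = y.unop := fun y => by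
    apply o.injective
    rw [o.apply_symm_apply, ho, MulOpposite.op_unop]
  obtain ⟨σ, hσ⟩ : ∃ σ : B ⊗[R] Bᵐᵒᵖ ≃ₗ[R] Bᵐᵒᵖ ⊗[R] Bᵐᵒᵖᵐᵒᵖ,
      ∀ c b', σ (c ⊗ₜ[R] b') = b' ⊗ₜ[R] MulOpposite.op (MulOpposite.op c) :=
    ⟨(TensorProduct.comm R B Bᵐᵒᵖ) ≪≫ₗ
      (TensorProduct.congr (LinearEquiv.refl R Bᵐᵒᵖ) (o ≪≫ₗ oo)), fun c b' => by
        rw [LinearEquiv.trans_apply, TensorProduct.comm_tmul, TensorProduct.congr_tmul,
          LinearEquiv.refl_apply, LinearEquiv.trans_apply, ho, hoo]⟩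
  obtain ⟨τ, hτ⟩ : ∃ τ : Module.End R B ≃ₗ[R] Module.End R Bᵐᵒᵖ,
      ∀ (f : Module.End R B) (y : Bᵐᵒᵖ), τ f y = MulOpposite.op (f y.unop) :=
    ⟨LinearEquiv.conj o, fun f y => by
      rw [LinearEquiv.conj_apply, LinearMap.comp_apply, LinearMap.comp_apply,
        LinearEquiv.coe_coe, LinearEquiv.coe_coe, hos, ho]⟩
  have key : (AlgHom.mulLeftRight R Bᵐᵒᵖ).toLinearMap ∘ₗ σ.toLinearMap =
      τ.toLinearMap ∘ₗ (AlgHom.mulLeftRight R B).toLinearMap := by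
    apply TensorProduct.ext'
    intro c b'
    apply LinearMap.ext
    intro y
    rw [LinearMap.comp_apply, LinearMap.comp_apply, LinearEquiv.coe_coe, LinearEquiv.coe_coe,
      AlgHom.toLinearMap_apply, AlgHom.toLinearMap_apply, hσ, hτ, AlgHom.mulLeftRight_apply,
      AlgHom.mulLeftRight_apply, MulOpposite.unop_op]
    apply MulOpposite.unop_injective
    simp [mul_assoc]
  have hbij : Function.Bijective (AlgHom.mulLeftRight R Bᵐᵒᵖ) := by
    have h1 : ⇑(AlgHom.mulLeftRight R Bᵐᵒᵖ) = ⇑τ ∘ ⇑(AlgHom.mulLeftRight R B) ∘ ⇑σ.symm := by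
      funext z
      have h := LinearMap.congr_fun key (σ.symm z)
      rw [LinearMap.comp_apply, LinearMap.comp_apply, LinearEquiv.coe_coe, LinearEquiv.coe_coe,
        LinearEquiv.apply_symm_apply] at h
      exact h
    rw [h1]
    exact τ.bijective.comp ((IsAzumaya.bij).comp σ.symm.bijective)
  exact { toProjective := inferInstance, toFaithfulSMul := hfaith, toFinite := inferInstance,
          bij := hbij }

end Groth.Agent.Lib.Lead.AzumayaOp
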