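import Mathlib
import Groth.Agent.Lib.Helper25.KaplanskyLocal2

/-!
# Bass: big projective modules — core lemmas

`FinMod x P` : `P/xP` is finitely generated.  For a projective module over a ring `R` with `R/J`
Noetherian such that no `P/xP` (`x` maximal) is finitely generated, every `s` with `Rs + M = P`
can be corrected by an element of `M` to a unimodular element (`exists_unimodular`).
-/

set_option autoImplicit false
universe u

namespace Groth.Agent.Lib.Lead.BassBig

open Groth.Agent.Lib.Helper25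

variable {R : Type u} [CommRing R]

/-- `P/xP` is finitely generated. -/
def FinMod (x : Ideal R) (P : Type u) [AddCommGroup P] [Module R P] : Prop :=
  ∃ L : Finset P, ∀ p : P, ∃ q ∈ Submodule.span R (L : Set P), p - q ∈ x • (⊤ : Submodule R P)

theorem finMod_of_surjective {x : Ideal R} {E P : Type u} [AddCommGroup E] [Module R E]
    [AddCommGroup P] [Module R P] (f : E →ₗ[R] P) (hf : Function.Surjective f)
    (h : FinMod x E) : FinMod x P := by
  classical
  obtain ⟨L, hL⟩ := h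
  refine ⟨L.image f, fun p => ?_⟩
  obtain ⟨e, rfl⟩ := hf p
  obtain ⟨q, hq, hw⟩ := hL e
  refine ⟨f q, ?_, ?_⟩
  · rw [Finset.coe_image, ← Submodule.map_span]
    exact Submodule.mem_map_of_mem hq
  · rw [← map_sub]
    have h1 := Submodule.mem_map_of_mem (f := f) hw
    rw [Submodule.map_smul''] at h1
    have h3 : x • Submodule.map f (⊤ : Submodule R E) ≤ x • (⊤ : Submodule R P) :=
      smul_mono_right x le_top
    exact h3 h1

theorem finMod_of_isCompl {x : Ideal R} {E : Type u} [AddCommGroup E] [Module R E]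
    (K K' : Submodule R E) (hc : IsCompl K K') [Module.Finite R K]
    (h : FinMod x K') : FinMod x E := by
  classical
  obtain ⟨L, hL⟩ := h
  obtain ⟨G, hG⟩ := (Module.Finite.fg_top : (⊤ : Submodule R K).FG)
  refine ⟨G.image K.subtype ∪ L.image K'.subtype, fun e => ?_⟩
  have he : e ∈ K ⊔ K' := by rw [hc.sup_eq_top]; trivial
  obtain ⟨k, hk, k', hk', rfl⟩ := Submodule.mem_sup.1 he
  obtain ⟨q, hq, hw⟩ := hL ⟨k', hk'⟩
  refine ⟨k + (q : E), ?_, ?_⟩
  · rw [Finset.coe_union, Submodule.span_union]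
    refine Submodule.add_mem_sup ?_ ?_
    · rw [Finset.coe_image, ← Submodule.map_span, hG]
      exact ⟨⟨k, hk⟩, trivial, rfl⟩
    · rw [Finset.coe_image, ← Submodule.map_span]
      exact Submodule.mem_map_of_mem hq
  · have h1 : k + k' - (k + (q : E)) = K'.subtype (⟨k', hk'⟩ - q) := by
      simp
    rw [h1]
    have h2 := Submodule.mem_map_of_mem (f := K'.subtype) hw
    rw [Submodule.map_smul''] at h2
    have h3 : x • Submodule.map K'.subtype (⊤ : Submodule R K') ≤ x • (⊤ : Submodule R E) :=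
      smul_mono_right x le_top
    exact h3 h2

/-- Kaplansky: if `P` is projective and `P/xP` is finitely generated then `P_x` is finite. -/
theorem finite_loc_of_finMod {P : Type u} [AddCommGroup P] [Module R P] [Module.Projective R P]
    (x : Ideal R) [x.IsMaximal] (h : FinMod x P) :
    Module.Finite (Localization.AtPrime x) (LocalizedModule x.primeCompl P) := by
  classical
  obtain ⟨L, hkey⟩ := h
  haveI : Module.Free (Localization.AtPrime x) (LocalizedModule x.primeCompl P) :=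
    KaplanskyLocal.projective_local_free (LocalizedModule x.primeCompl P)
  let b := Module.Free.chooseBasis (Localization.AtPrime x) (LocalizedModule x.primeCompl P)
  by_contra hfin
  haveI : Infinite (Module.Free.ChooseBasisIndex (Localization.AtPrime x)
      (LocalizedModule x.primeCompl P)) := by
    by_contra hI
    rw [not_infinite_iff_finite] at hI
    exact hfin (Module.Finite.of_basis b)
  let mk := LocalizedModule.mkLinearMap x.primeCompl P
  obtain ⟨i, hi⟩ := Infinite.exists_notMem_finset (L.biUnion (fun l => (b.repr (mk l)).support))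
  let cm : P →ₗ[R] Localization.AtPrime x := ((b.coord i).restrictScalars R) ∘ₗ mk
  have h0 : ∀ l ∈ L, cm l = 0 := by
    intro l hl
    by_contra hne
    exact hi (Finset.mem_biUnion.2 ⟨l, hl, Finsupp.mem_support_iff.2 hne⟩)
  have h1 : ∀ q ∈ Submodule.span R (L : Set P), cm q = 0 := by
    intro q hq
    have hle : Submodule.span R (L : Set P) ≤ LinearMap.ker cm :=
      Submodule.span_le.2 (fun l hl => LinearMap.mem_ker.2 (h0 l (Finset.mem_coe.1 hl)))
    exact LinearMap.mem_ker.1 (hle hq)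
  have h2 : ∀ w ∈ x • (⊤ : Submodule R P),
      cm w ∈ IsLocalRing.maximalIdeal (Localization.AtPrime x) := by
    intro w hw
    refine Submodule.smul_induction_on hw (fun a ha p _ => ?_) (fun a c ha hc => ?_)
    · rw [map_smul, Algebra.smul_def]
      exact Ideal.mul_mem_right _ _
        ((IsLocalization.AtPrime.to_map_mem_maximal_iff (Localization.AtPrime x) x a).2 ha)
    · rw [map_add]
      exact Ideal.add_mem _ ha hc
  have h3 : ∀ p : P, cm p ∈ IsLocalRing.maximalIdeal (Localization.AtPrime x) := by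
    intro p
    obtain ⟨q, hq, hw⟩ := hkey p
    have hpq : p = q + (p - q) := by abel
    rw [hpq, map_add, h1 q hq, zero_add]
    exact h2 _ hw
  have h4 : ∀ z : LocalizedModule x.primeCompl P,
      b.coord i z ∈ IsLocalRing.maximalIdeal (Localization.AtPrime x) := by
    intro z
    obtain ⟨⟨p, t⟩, hpt⟩ := IsLocalizedModule.surj x.primeCompl mk z
    simp only at hpt
    have hu : IsUnit (algebraMap R (Localization.AtPrime x) (t : R)) :=
      IsLocalization.map_units (Localization.AtPrime x) t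
    have h5 : b.coord i (mk p) = algebraMap R (Localization.AtPrime x) (t : R) * b.coord i z := by
      rw [← hpt, Submonoid.smul_def, ← algebraMap_smul (Localization.AtPrime x) (t : R) z, map_smul,
        smul_eq_mul]
    have h6 : b.coord i (mk p) ∈ IsLocalRing.maximalIdeal (Localization.AtPrime x) := h3 p
    rw [h5] at h6
    exact (Ideal.unit_mul_mem_iff_mem _ hu).1 h6
  have h7 := h4 (b i)
  rw [Module.Basis.coord_apply, Module.Basis.repr_self, Finsupp.single_eq_same] at h7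
  exact (Ideal.ne_top_iff_one _).1 (IsLocalRing.maximalIdeal.isMaximal _).ne_top h7

section core

variable {P : Type u} [AddCommGroup P] [Module R P]

/-- Some coordinate of `t` is nonzero at `x`. -/
def Nz (ι : P →ₗ[R] P →₀ R) (t : P) (x : Ideal R) : Prop := ∃ l, ι t l ∉ x

/-- `N` has elements with nonzero coordinates outside any finite set, at every closed point. -/
def Big (ι : P →ₗ[R] P →₀ R) (N : Submodule R P) : Prop :=
  ∀ (L : Finset P) (x : Ideal R), x.IsMaximal → ∃ n ∈ N, ∃ l, l ∉ L ∧ ι n l ∉ x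

/-- Coordinates at `L₀` modulo the Jacobson radical. -/
noncomputable def psi (ι : P →ₗ[R] P →₀ R) (L₀ : Finset P) :
    P →ₗ[R] (L₀ → R ⧸ (⊥ : Ideal R).jacobson) :=
  LinearMap.pi (fun l => (Ideal.Quotient.mkₐ R (⊥ : Ideal R).jacobson).toLinearMap ∘ₗ
    (Finsupp.lapply (l : P)) ∘ₗ ι)

theorem psi_apply (ι : P →ₗ[R] P →₀ R) (L₀ : Finset P) (n : P) (l : L₀) :
    psi ι L₀ n l = Ideal.Quotient.mk (⊥ : Ideal R).jacobson (ι n l) := rfl

theorem mem_ker_psi (ι : P →ₗ[R] P →₀ R) (L₀ : Finset P) (n : P) :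
    n ∈ LinearMap.ker (psi ι L₀) ↔ ∀ l ∈ L₀, ι n l ∈ (⊥ : Ideal R).jacobson := by
  rw [LinearMap.mem_ker, funext_iff]
  constructor
  · intro h l hl
    have h1 := h ⟨l, hl⟩
    rw [psi_apply, Pi.zero_apply, Ideal.Quotient.eq_zero_iff_mem] at h1
    exact h1
  · intro h l
    rw [psi_apply, Pi.zero_apply, Ideal.Quotient.eq_zero_iff_mem]
    exact h l.1 l.2

theorem exists_fg [IsNoetherianRing (R ⧸ (⊥ : Ideal R).jacobson)]
    (ι : P →ₗ[R] P →₀ R) (N : Submodule R P) (L₀ : Finset P) :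
    ∃ G : Finset P, ∀ n ∈ N, ∃ g ∈ Submodule.span R (G : Set P),
      n - g ∈ N ⊓ LinearMap.ker (psi ι L₀) := by
  classical
  have hfg : (Submodule.span (R ⧸ (⊥ : Ideal R).jacobson) ((psi ι L₀) '' (N : Set P))).FG :=
    IsNoetherian.noetherian _
  obtain ⟨G', hG'sub, hG'eq⟩ := (Submodule.fg_span_iff_fg_span_finset_subset _).1 hfg
  obtain ⟨G, hGN, rfl⟩ := Finset.subset_set_image_iff.1 hG'sub
  refine ⟨G, fun n hn => ?_⟩
  have h1 : psi ι L₀ n ∈ Submodule.span (R ⧸ (⊥ : Ideal R).jacobson)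
      ((G.image (psi ι L₀) : Finset _) : Set _) := by
    rw [← hG'eq]
    exact Submodule.subset_span ⟨n, hn, rfl⟩
  have hsur : Function.Surjective (algebraMap R (R ⧸ (⊥ : Ideal R).jacobson)) :=
    Ideal.Quotient.mk_surjective
  rw [Finset.coe_image, ← Submodule.restrictScalars_mem R,
    Submodule.restrictScalars_span R _ hsur, ← Submodule.map_span] at h1
  obtain ⟨g, hg, hgn⟩ := h1
  refine ⟨g, hg, Submodule.mem_inf.2 ⟨N.sub_mem hn (Submodule.span_le.2 hGN hg), ?_⟩⟩
  rw [LinearMap.mem_ker, map_sub, hgn, sub_self]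

theorem big_sub [IsNoetherianRing (R ⧸ (⊥ : Ideal R).jacobson)]
    (ι : P →ₗ[R] P →₀ R) (N : Submodule R P) (hN : Big ι N) (L₀ : Finset P) :
    Big ι (N ⊓ LinearMap.ker (psi ι L₀)) := by
  classical
  intro L x hx
  by_contra hcon
  push_neg at hcon
  obtain ⟨G, hG⟩ := exists_fg ι N L₀
  obtain ⟨n, hn, l, hl, hnl⟩ := hN (L ∪ G.biUnion (fun g => (ι g).support)) x hx
  rw [Finset.mem_union, not_or] at hl
  obtain ⟨g, hg, hng⟩ := hG n hn
  have hgl : ι g l = 0 := by
    have hle : Submodule.span R (G : Set P) ≤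
        LinearMap.ker ((Finsupp.lapply l : (P →₀ R) →ₗ[R] R) ∘ₗ ι) := by
      refine Submodule.span_le.2 (fun g' hg' => ?_)
      rw [SetLike.mem_coe, LinearMap.mem_ker, LinearMap.comp_apply, Finsupp.lapply_apply]
      by_contra hne
      exact hl.2 (Finset.mem_biUnion.2 ⟨g', Finset.mem_coe.1 hg', Finsupp.mem_support_iff.2 hne⟩)
    have := LinearMap.mem_ker.1 (hle hg)
    rwa [LinearMap.comp_apply, Finsupp.lapply_apply] at this
  have h1 := hcon (n - g) hng l hl.1
  rw [map_sub, Finsupp.sub_apply, hgl, sub_zero] at h1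
  exact hnl h1

theorem claim [IsNoetherianRing (R ⧸ (⊥ : Ideal R).jacobson)] (ι : P →ₗ[R] P →₀ R) :
    ∀ (𝔟 : Ideal (R ⧸ (⊥ : Ideal R).jacobson)) (𝔞 : Ideal R), (⊥ : Ideal R).jacobson ≤ 𝔞 →
      𝔞.map (Ideal.Quotient.mk (⊥ : Ideal R).jacobson) = 𝔟 →
      ∀ N : Submodule R P, Big ι N → ∀ s : P,
        ∃ n ∈ N, ∀ x : Ideal R, x.IsMaximal → 𝔞 ≤ x → Nz ι (s + n) x := by
  classical
  haveI : WellFoundedGT (Ideal (R ⧸ (⊥ : Ideal R).jacobson)) := isNoetherian_iff'.1 inferInstance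
  intro 𝔟
  refine WellFoundedGT.induction (motive := fun 𝔟 => ∀ 𝔞 : Ideal R, (⊥ : Ideal R).jacobson ≤ 𝔞 →
      𝔞.map (Ideal.Quotient.mk (⊥ : Ideal R).jacobson) = 𝔟 →
      ∀ N : Submodule R P, Big ι N → ∀ s : P,
        ∃ n ∈ N, ∀ x : Ideal R, x.IsMaximal → 𝔞 ≤ x → Nz ι (s + n) x) 𝔟 ?_
  intro 𝔟 ih 𝔞 hJ h𝔞 N hN s
  by_cases hex : ∃ x : Ideal R, x.IsMaximal ∧ 𝔞 ≤ x
  swap
  · exact ⟨0, N.zero_mem, fun x hx hle => absurd ⟨x, hx, hle⟩ hex⟩
  obtain ⟨x₁, hx₁, hle₁⟩ := hex
  -- first correction at `x₁`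
  obtain ⟨n₀, hn₀, hnz₀⟩ : ∃ n₀ ∈ N, Nz ι (s + n₀) x₁ := by
    by_cases h : Nz ι s x₁
    · exact ⟨0, N.zero_mem, by rwa [add_zero]⟩
    · obtain ⟨n, hn, l, -, hnl⟩ := hN ∅ x₁ hx₁
      refine ⟨n, hn, l, fun hmem => hnl ?_⟩
      have hsl : ι s l ∈ x₁ := by
        by_contra hne
        exact h ⟨l, hne⟩
      rw [map_add, Finsupp.add_apply] at hmem
      have := x₁.sub_mem hmem hsl
      rwa [add_sub_cancel_left] at this
  set s' := s + n₀ with hs'
  set 𝔞' := 𝔞 ⊔ Ideal.span (Set.range (fun l => ι s' l)) with h𝔞'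
  have hle' : ∀ x : Ideal R, 𝔞' ≤ x ↔ 𝔞 ≤ x ∧ ∀ l, ι s' l ∈ x := by
    intro x
    rw [h𝔞', sup_le_iff, Ideal.span_le, Set.range_subset_iff]
    rfl
  have hlt : 𝔞 < 𝔞' := by
    refine lt_of_le_of_ne le_sup_left (fun heq => ?_)
    have : 𝔞' ≤ x₁ := heq ▸ hle₁
    obtain ⟨l, hl⟩ := hnz₀
    exact hl (((hle' x₁).1 this).2 l)
  have hcm : ∀ I : Ideal R, (⊥ : Ideal R).jacobson ≤ I →
      (I.map (Ideal.Quotient.mk (⊥ : Ideal R).jacobson)).comap
        (Ideal.Quotient.mk (⊥ : Ideal R).jacobson) = I := by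
    intro I hI
    rw [Ideal.comap_map_of_surjective _ Ideal.Quotient.mk_surjective, ← RingHom.ker_eq_comap_bot,
      Ideal.mk_ker, sup_eq_left.2 hI]
  have hltmap : 𝔟 < 𝔞'.map (Ideal.Quotient.mk (⊥ : Ideal R).jacobson) := by
    rw [← h𝔞]
    refine lt_of_le_of_ne (Ideal.map_mono hlt.le) (fun heq => hlt.ne ?_)
    rw [← hcm 𝔞 hJ, ← hcm 𝔞' (hJ.trans hlt.le), heq]
  obtain ⟨n', hn', hnz'⟩ := ih _ hltmap 𝔞' (hJ.trans hlt.le) rfl
    (N ⊓ LinearMap.ker (psi ι (ι s').support)) (big_sub ι N hN _) 0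
  refine ⟨n₀ + n', N.add_mem hn₀ hn'.1, fun x hx hle => ?_⟩
  have hsum : s + (n₀ + n') = s' + n' := by rw [hs', add_assoc]
  rw [hsum]
  by_cases hz : ∀ l, ι s' l ∈ x
  · obtain ⟨l, hl⟩ := hnz' x hx ((hle' x).2 ⟨hle, hz⟩)
    rw [zero_add] at hl
    refine ⟨l, fun hmem => hl ?_⟩
    rw [map_add, Finsupp.add_apply] at hmem
    have := x.sub_mem hmem (hz l)
    rwa [add_sub_cancel_left] at this
  · push_neg at hz
    obtain ⟨l, hl⟩ := hz
    have hlsupp : l ∈ (ι s').support := by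
      rw [Finsupp.mem_support_iff]
      intro h0
      exact hl (h0 ▸ x.zero_mem)
    have hJx : (⊥ : Ideal R).jacobson ≤ x := sInf_le ⟨bot_le, hx⟩
    have hn'l : ι n' l ∈ x := hJx ((mem_ker_psi ι _ n').1 hn'.2 l hlsupp)
    refine ⟨l, fun hmem => hl ?_⟩
    rw [map_add, Finsupp.add_apply] at hmem
    have := x.sub_mem hmem hn'l
    rwa [add_sub_cancel_right] at this

theorem big_of_span (ι : P →ₗ[R] P →₀ R)
    (hι : Finsupp.linearCombination R id ∘ₗ ι = LinearMap.id)
    (hUB : ∀ x : Ideal R, x.IsMaximal → ¬ FinMod x P)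
    (s : P) (M : Submodule R P) (hM : Submodule.span R {s} ⊔ M = ⊤) : Big ι M := by
  classical
  intro L x hx
  by_contra hcon
  push_neg at hcon
  refine hUB x hx ⟨L ∪ (ι s).support, fun p => ?_⟩
  have hA : ∀ (p : P) (l : P), l ∉ L ∪ (ι s).support → ι p l ∈ x := by
    intro p l hl
    rw [Finset.mem_union, not_or] at hl
    have hp : p ∈ Submodule.span R {s} ⊔ M := by rw [hM]; trivial
    obtain ⟨y, hy, m, hm, rfl⟩ := Submodule.mem_sup.1 hp
    obtain ⟨r, rfl⟩ := Submodule.mem_span_singleton.1 hy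
    have h0 : ι s l = 0 := Finsupp.notMem_support_iff.1 hl.2
    rw [map_add, map_smul, Finsupp.add_apply, Finsupp.smul_apply, h0, smul_zero, zero_add]
    exact hcon m hm l hl.1
  have hp : p = ∑ l ∈ (ι p).support, (ι p l) • l := by
    have h1 := LinearMap.congr_fun hι p
    rw [LinearMap.comp_apply, LinearMap.id_apply, Finsupp.linearCombination_apply] at h1
    exact h1.symm
  refine ⟨∑ l ∈ (ι p).support.filter (· ∈ L ∪ (ι s).support), (ι p l) • l, ?_, ?_⟩
  · exact Submodule.sum_mem _ (fun l hl => Submodule.smul_mem _ _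
      (Submodule.subset_span (Finset.mem_coe.2 (Finset.mem_filter.1 hl).2)))
  · have hsplit := Finset.sum_filter_add_sum_filter_not (ι p).support (· ∈ L ∪ (ι s).support)
      (fun l => (ι p l) • l)
    have h2 : p - ∑ l ∈ (ι p).support.filter (· ∈ L ∪ (ι s).support), (ι p l) • l =
        ∑ l ∈ (ι p).support.filter (fun l => ¬ l ∈ L ∪ (ι s).support), (ι p l) • l := by
      rw [sub_eq_iff_eq_add', hsplit]
      exact hp
    rw [h2]
    exact Submodule.sum_mem _ (fun l hl => Submodule.smul_mem_smul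
      (hA p l (Finset.mem_filter.1 hl).2) Submodule.mem_top)

end core

/-- Bass: unimodular correction for uniformly big projective modules. -/
theorem exists_unimodular [IsNoetherianRing (R ⧸ (⊥ : Ideal R).jacobson)]
    (W : Type u) [AddCommGroup W] [Module R W] [Module.Projective R W]
    (hUB : ∀ x : Ideal R, x.IsMaximal → ¬ FinMod x W)
    (s : W) (M : Submodule R W) (hM : Submodule.span R {s} ⊔ M = ⊤) :
    ∃ m ∈ M, ∃ φ : W →ₗ[R] R, φ (s + m) = 1 := by
  classical
  obtain ⟨ι, hι⟩ := Module.projective_def'.1 (inferInstance : Module.Projective R W)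
  have hbig : Big ι M := big_of_span ι hι hUB s M hM
  obtain ⟨m, hm, hnz⟩ := claim ι _ (⊥ : Ideal R).jacobson le_rfl rfl M hbig s
  have htop : Ideal.span (Set.range (fun l => ι (s + m) l)) = ⊤ := by
    by_contra hne
    obtain ⟨x, hx, hle⟩ := Ideal.exists_le_maximal _ hne
    obtain ⟨l, hl⟩ := hnz x hx (sInf_le ⟨bot_le, hx⟩)
    exact hl (hle (Ideal.subset_span ⟨l, rfl⟩))
  have h1 : (1 : R) ∈ Ideal.span (Set.range (fun l => ι (s + m) l)) := by
    rw [htop]; trivial
  obtain ⟨c, hc⟩ := (Finsupp.mem_span_range_iff_exists_finsupp).1 h1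
  refine ⟨m, hm, c.sum (fun l a => a • ((Finsupp.lapply l : (W →₀ R) →ₗ[R] R) ∘ₗ ι)), ?_⟩
  rw [← hc, Finsupp.sum, Finsupp.sum, LinearMap.sum_apply]
  refine Finset.sum_congr rfl (fun l _ => ?_)
  rw [LinearMap.smul_apply, LinearMap.comp_apply, Finsupp.lapply_apply]

end Groth.Agent.Lib.Lead.BassBig
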