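import Mathlib
import Groth.Agent.Lib.Lead.BassBig
import Groth.Agent.S7109

/-!
# Bass: big projective modules are free (countably generated case)

`peel_one`, `peel_n`, `exists_free_summand` (every element of a uniformly big projective module lies
in a finite free direct summand) and `free_of_countable`.
-/

set_option autoImplicit false
universe u

namespace Groth.Agent.Lib.Lead.BassBig

variable {R : Type u} [CommRing R]

theorem isCompl_map_equiv {E F : Type u} [AddCommGroup E] [Module R E] [AddCommGroup F]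
    [Module R F] (e : E ≃ₗ[R] F) {K K' : Submodule R E} (hc : IsCompl K K') :
    IsCompl (K.map e.toLinearMap) (K'.map e.toLinearMap) := by
  constructor
  · rw [Submodule.disjoint_def]
    rintro y ⟨k, hk, rfl⟩ ⟨k', hk', hkk'⟩
    have hkk : k' = k := e.injective hkk'
    subst hkk
    have h0 : k' = 0 := (Submodule.disjoint_def.1 hc.disjoint) k' hk hk'
    rw [h0, map_zero]
  · rw [codisjoint_iff, ← Submodule.map_sup, hc.sup_eq_top, Submodule.map_top,
      LinearMap.range_eq_top]
    exact e.surjective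

theorem peel_one [IsNoetherianRing (R ⧸ (⊥ : Ideal R).jacobson)]
    (P : Type u) [AddCommGroup P] [Module R P] [Module.Projective R P]
    (hUB : ∀ x : Ideal R, x.IsMaximal → ¬ FinMod x P)
    (K K' : Submodule R (R × P)) (hc : IsCompl K K') [Module.Free R K] [Module.Finite R K]
    (t : P) (ht : ((0 : R), t) ∈ K) :
    ∃ K₁ K₁' : Submodule R P, IsCompl K₁ K₁' ∧ Module.Free R K₁ ∧ Module.Finite R K₁ ∧ t ∈ K₁ := by
  classical
  let q : (R × P) →ₗ[R] K' := K'.projectionOnto K hc.symm
  have hqK : ∀ e : R × P, q e = 0 ↔ e ∈ K :=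
    fun e => Submodule.projectionOnto_apply_eq_zero_iff hc.symm
  have hqK' : ∀ z : K', q (z : R × P) = z := fun z => Submodule.projectionOnto_apply_left hc.symm z
  haveI : Module.Projective R K' :=
    Module.Projective.of_split K'.subtype q (Submodule.projectionOnto_comp_subtype hc.symm)
  have hUB' : ∀ x : Ideal R, x.IsMaximal → ¬ FinMod x K' := by
    intro x hx hfm
    exact hUB x hx (finMod_of_surjective (LinearMap.snd R R P) LinearMap.snd_surjective
      (finMod_of_isCompl K K' hc hfm))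
  obtain ⟨u, hu⟩ : ∃ u : K', u = q ((1 : R), (0 : P)) := ⟨_, rfl⟩
  have hM : Submodule.span R {u} ⊔ LinearMap.range (q ∘ₗ LinearMap.inr R R P) = ⊤ := by
    rw [eq_top_iff]
    intro z _
    have hz : (z : R × P) = (z : R × P).1 • ((1 : R), (0 : P)) +
        (LinearMap.inr R R P) (z : R × P).2 := by
      ext <;> simp
    have hz2 : z = (z : R × P).1 • u + (q ∘ₗ LinearMap.inr R R P) (z : R × P).2 := by
      conv_lhs => rw [← hqK' z, hz]
      rw [map_add, map_smul, hu]
      rfl
    rw [hz2]
    exact Submodule.add_mem_sup (Submodule.smul_mem _ _ (Submodule.mem_span_singleton_self u))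
      (LinearMap.mem_range_self _ _)
  obtain ⟨m, hm, φ, hφ⟩ := exists_unimodular K' hUB' u _ hM
  obtain ⟨p₀, hp₀⟩ := hm
  obtain ⟨w, hw⟩ : ∃ w : K', w = u + m := ⟨_, rfl⟩
  have hφw : φ w = 1 := by rw [hw]; exact hφ
  have hw' : q ((1 : R), p₀) = w := by
    have h1 : ((1 : R), p₀) = ((1 : R), (0 : P)) + LinearMap.inr R R P p₀ := by
      ext <;> simp
    rw [h1, map_add, hw, ← hp₀, hu]
    rfl
  let γ : (R × P) →ₗ[R] P := LinearMap.snd R R P - (LinearMap.fst R R P).smulRight p₀
  have hγ : ∀ e : R × P, γ e = e.2 - e.1 • p₀ := fun e => rfl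
  have hF1 : ∀ e : R × P, γ e = 0 → e = e.1 • ((1 : R), p₀) := by
    intro e he
    rw [hγ, sub_eq_zero] at he
    ext
    · simp
    · simp [he]
  have hF2 : ∀ (k : R × P) (z : K') (r : R), k ∈ K → φ z = 0 →
      k - (z : R × P) = r • ((1 : R), p₀) → r = 0 := by
    intro k z r hk hz h
    have h1 := congrArg q h
    rw [map_sub, (hqK k).2 hk, hqK' z, zero_sub, map_smul, hw'] at h1
    have h2 := congrArg φ h1
    rw [map_neg, hz, neg_zero, map_smul, hφw, smul_eq_mul, mul_one] at h2
    exact h2.symm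
  let g : K →ₗ[R] P := γ.domRestrict K
  let g' : LinearMap.ker φ →ₗ[R] P := γ ∘ₗ K'.subtype ∘ₗ (LinearMap.ker φ).subtype
  have hginj : Function.Injective g := by
    rw [injective_iff_map_eq_zero]
    intro k hk
    have h1 := hF1 (k : R × P) hk
    have hr : (k : R × P).1 = 0 := hF2 (k : R × P) 0 _ k.2 (map_zero φ)
      (by rw [ZeroMemClass.coe_zero, sub_zero]; exact h1)
    rw [hr, zero_smul] at h1
    exact Subtype.ext h1
  refine ⟨LinearMap.range g, LinearMap.range g', ⟨?_, ?_⟩, ?_, ?_, ?_⟩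
  · rw [Submodule.disjoint_def]
    rintro y ⟨k, rfl⟩ ⟨z, hz⟩
    have h0 : γ ((k : R × P) - ((z : K') : R × P)) = 0 := by
      rw [map_sub, sub_eq_zero]
      exact hz.symm
    have h1 := hF1 _ h0
    have hr := hF2 (k : R × P) (z : K') _ k.2 (LinearMap.mem_ker.1 z.2) h1
    rw [hr, zero_smul, sub_eq_zero] at h1
    have hkK' : (k : R × P) ∈ K' := by rw [h1]; exact (z : K').2
    have hk0 : (k : R × P) = 0 := (Submodule.disjoint_def.1 hc.disjoint) _ k.2 hkK'
    have hk00 : k = 0 := Subtype.ext hk0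
    rw [hk00, map_zero]
  · rw [codisjoint_iff, eq_top_iff]
    intro p _
    obtain ⟨e, he⟩ : ∃ e : R × P, e = ((0 : R), p) := ⟨_, rfl⟩
    obtain ⟨z', hz'⟩ : ∃ z' : K', z' = q e := ⟨_, rfl⟩
    have hk : e - (z' : R × P) ∈ K := by
      rw [← hqK, map_sub, hqK', hz', sub_self]
    have hk₀ : ((1 : R), p₀) - (w : R × P) ∈ K := by
      rw [← hqK, map_sub, hqK', hw', sub_self]
    obtain ⟨z'', hz''⟩ : ∃ z'' : K', z'' = z' - φ z' • w := ⟨_, rfl⟩
    have hz''ker : z'' ∈ LinearMap.ker φ := by
      rw [LinearMap.mem_ker, hz'', map_sub, map_smul, hφw, smul_eq_mul, mul_one, sub_self]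
    obtain ⟨k₁, hk₁⟩ : ∃ k₁ : R × P,
        k₁ = (e - (z' : R × P)) - φ z' • (((1 : R), p₀) - (w : R × P)) := ⟨_, rfl⟩
    have hk₁K : k₁ ∈ K := by
      rw [hk₁]
      exact K.sub_mem hk (K.smul_mem _ hk₀)
    have hdecomp : e = k₁ + (z'' : R × P) + φ z' • ((1 : R), p₀) := by
      rw [hk₁, hz'', Submodule.coe_sub, Submodule.coe_smul]
      module
    have hγe : γ e = p := by
      rw [hγ, he]
      simp
    have hγ1 : γ ((1 : R), p₀) = 0 := by
      rw [hγ]
      simp
    have hp : p = g ⟨k₁, hk₁K⟩ + g' ⟨z'', hz''ker⟩ := by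
      rw [← hγe, hdecomp, map_add, map_add, map_smul, hγ1, smul_zero, add_zero]
      rfl
    rw [hp]
    exact Submodule.add_mem_sup (LinearMap.mem_range_self _ _) (LinearMap.mem_range_self _ _)
  · exact Module.Free.of_equiv (LinearEquiv.ofInjective g hginj)
  · exact Module.Finite.equiv (LinearEquiv.ofInjective g hginj)
  · refine ⟨⟨((0 : R), t), ht⟩, ?_⟩
    show γ ((0 : R), t) = t
    rw [hγ]
    simp

/-- `R^{n+1} × P ≃ R × (R^n × P)`. -/
noncomputable def shiftEquiv (n : ℕ) (P : Type u) [AddCommGroup P] [Module R P] :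
    ((Fin (n + 1) → R) × P) ≃ₗ[R] (R × ((Fin n → R) × P)) where
  toFun z := (z.1 0, (Fin.tail z.1, z.2))
  invFun z := ((Fin.cons z.1 z.2.1 : Fin (n + 1) → R), z.2.2)
  map_add' _ _ := rfl
  map_smul' _ _ := rfl
  left_inv z := Prod.ext (Fin.cons_self_tail _) rfl
  right_inv := fun ⟨r, v, p⟩ => by
    show ((Fin.cons r v : Fin (n + 1) → R) 0, (Fin.tail (Fin.cons r v : Fin (n + 1) → R), p)) =
      (r, (v, p))
    rw [Fin.cons_zero, Fin.tail_cons]

theorem peel_n [IsNoetherianRing (R ⧸ (⊥ : Ideal R).jacobson)] :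
    ∀ (n : ℕ) (P : Type u) [AddCommGroup P] [Module R P] [Module.Projective R P],
      (∀ x : Ideal R, x.IsMaximal → ¬ FinMod x P) →
      ∀ (K K' : Submodule R ((Fin n → R) × P)), IsCompl K K' → Module.Free R K →
      Module.Finite R K → ∀ t : P, ((0 : Fin n → R), t) ∈ K →
      ∃ K₁ K₁' : Submodule R P, IsCompl K₁ K₁' ∧ Module.Free R K₁ ∧ Module.Finite R K₁ ∧
        t ∈ K₁ := by
  intro n
  induction n with
  | zero =>
    intro P _ _ _ hUB K K' hc hfree hfin t ht
    haveI := hfree
    haveI := hfin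
    let e₀ : ((Fin 0 → R) × P) ≃ₗ[R] P :=
      LinearEquiv.ofBijective (LinearMap.snd R (Fin 0 → R) P)
        ⟨fun a b h => Prod.ext (Subsingleton.elim _ _) h, LinearMap.snd_surjective⟩
    refine ⟨K.map e₀.toLinearMap, K'.map e₀.toLinearMap, isCompl_map_equiv e₀ hc,
      Module.Free.of_equiv (e₀.submoduleMap K), Module.Finite.equiv (e₀.submoduleMap K), ?_⟩
    exact ⟨_, ht, rfl⟩
  | succ n ih =>
    intro P _ _ _ hUB K K' hc hfree hfin t ht
    haveI := hfree
    haveI := hfin
    let φ := shiftEquiv (R := R) n P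
    have hUB' : ∀ x : Ideal R, x.IsMaximal → ¬ FinMod x ((Fin n → R) × P) := fun x hx h =>
      hUB x hx (finMod_of_surjective (LinearMap.snd R (Fin n → R) P) LinearMap.snd_surjective h)
    haveI : Module.Free R (K.map φ.toLinearMap) := Module.Free.of_equiv (φ.submoduleMap K)
    haveI : Module.Finite R (K.map φ.toLinearMap) := Module.Finite.equiv (φ.submoduleMap K)
    obtain ⟨K₁, K₁', hc₁, hfree₁, hfin₁, ht₁⟩ := peel_one ((Fin n → R) × P) hUB'
      (K.map φ.toLinearMap) (K'.map φ.toLinearMap) (isCompl_map_equiv φ hc)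
      ((0 : Fin n → R), t) ⟨_, ht, rfl⟩
    exact ih P hUB K₁ K₁' hc₁ hfree₁ hfin₁ t ht₁

/-- Every element of a uniformly big projective module lies in a finite free direct summand. -/
theorem exists_free_summand [IsNoetherianRing (R ⧸ (⊥ : Ideal R).jacobson)]
    (P : Type u) [AddCommGroup P] [Module R P] [Module.Projective R P]
    (hUB : ∀ x : Ideal R, x.IsMaximal → ¬ FinMod x P) (t : P) :
    ∃ K K' : Submodule R P, IsCompl K K' ∧ Module.Free R K ∧ Module.Finite R K ∧ t ∈ K := by
  obtain ⟨n, K, K', hc, hfree, hfin, hmem⟩ := Groth.Agent.S7109.result R P t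
  exact peel_n n P hUB K K' hc hfree hfin t hmem

/-- State of the recursive construction of a basis. -/
structure St (R : Type u) [CommRing R] (P : Type u) [AddCommGroup P] [Module R P] where
  T : Set P
  B : Submodule R P
  fin : T.Finite
  li : LinearIndepOn R id T
  compl : IsCompl (Submodule.span R T) B

theorem step [IsNoetherianRing (R ⧸ (⊥ : Ideal R).jacobson)]
    (P : Type u) [AddCommGroup P] [Module R P] [Module.Projective R P]
    (hUB : ∀ x : Ideal R, x.IsMaximal → ¬ FinMod x P) (S : St R P) (v : P) :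
    ∃ S' : St R P, S.T ⊆ S'.T ∧ v ∈ Submodule.span R S'.T := by
  classical
  have hc := S.compl
  haveI : Module.Finite R (Submodule.span R S.T) := Module.Finite.span_of_finite R S.fin
  let qB : P →ₗ[R] S.B := S.B.projectionOnto (Submodule.span R S.T) hc.symm
  haveI : Module.Projective R S.B :=
    Module.Projective.of_split S.B.subtype qB (Submodule.projectionOnto_comp_subtype hc.symm)
  have hUB' : ∀ x : Ideal R, x.IsMaximal → ¬ FinMod x S.B :=
    fun x hx h => hUB x hx (finMod_of_isCompl _ _ hc h)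
  obtain ⟨K₁, K₁', hc₁, hfree, hfin, hb⟩ := exists_free_summand S.B hUB' (qB v)
  haveI := hfree
  haveI := hfin
  let c := Module.Free.chooseBasis R K₁
  let f : K₁ →ₗ[R] P := S.B.subtype ∘ₗ K₁.subtype
  have hfinj : LinearMap.ker f = ⊥ := by
    rw [LinearMap.ker_comp, Submodule.ker_subtype, Submodule.comap_bot, Submodule.ker_subtype]
  have hspan : Submodule.span R (Set.range (f ∘ c)) = K₁.map S.B.subtype := by
    rw [Set.range_comp, Submodule.span_image, c.span_eq, Submodule.map_top, LinearMap.range_comp,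
      Submodule.range_subtype]
  have hli' : LinearIndepOn R id (Set.range (f ∘ c)) :=
    LinearIndependent.linearIndepOn_id (LinearIndependent.map' c.linearIndependent f hfinj)
  have hKB : K₁.map S.B.subtype ≤ S.B := by
    rintro _ ⟨z, -, rfl⟩
    exact z.2
  have hdisj : Disjoint (Submodule.span R S.T) (Submodule.span R (Set.range (f ∘ c))) := by
    rw [hspan]
    exact hc.disjoint.mono_right hKB
  have hproj : ∀ y : P, y = ((Submodule.span R S.T).projection S.B hc y) + (qB y : P) := fun y =>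
    (Submodule.projection_add_projection_eq_self hc y).symm
  refine ⟨⟨S.T ∪ Set.range (f ∘ c), K₁'.map S.B.subtype, S.fin.union (Set.finite_range _),
    LinearIndepOn.id_union S.li hli' hdisj, ?_⟩, Set.subset_union_left, ?_⟩
  · rw [Submodule.span_union, hspan]
    constructor
    · rw [Submodule.disjoint_def]
      intro y hy hy'
      obtain ⟨a, ha, k, hk, rfl⟩ := Submodule.mem_sup.1 hy
      obtain ⟨k₁, hk₁, rfl⟩ := hk
      obtain ⟨k₁', hk₁', hkk⟩ := hy'
      have hkk2 : (k₁' : P) = a + (k₁ : P) := hkk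
      have ha0 : a = 0 := by
        have haB : a ∈ S.B := by
          have h1 : a = (k₁' : P) - (k₁ : P) := by rw [hkk2]; abel
          rw [h1]
          exact S.B.sub_mem k₁'.2 k₁.2
        exact (Submodule.disjoint_def.1 hc.disjoint) a ha haB
      have hk₁eq : k₁' = k₁ := by
        apply Subtype.ext
        rw [ha0, zero_add] at hkk2
        exact hkk2
      have hk0 : k₁ = 0 := (Submodule.disjoint_def.1 hc₁.disjoint) k₁ hk₁ (hk₁eq ▸ hk₁')
      rw [ha0, hk0, map_zero, add_zero]
    · rw [codisjoint_iff, eq_top_iff]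
      intro y _
      have hb' : qB y ∈ K₁ ⊔ K₁' := by rw [hc₁.sup_eq_top]; trivial
      obtain ⟨z₁, hz₁, z₂, hz₂, hz⟩ := Submodule.mem_sup.1 hb'
      have h2 : (qB y : P) = (z₁ : P) + (z₂ : P) := by rw [← hz]; rfl
      rw [hproj y, h2, ← add_assoc]
      exact Submodule.add_mem_sup (Submodule.add_mem_sup (Submodule.projection_apply_mem hc y)
        ⟨z₁, hz₁, rfl⟩) ⟨z₂, hz₂, rfl⟩
  · show v ∈ Submodule.span R (S.T ∪ Set.range (f ∘ c))
    rw [Submodule.span_union, hspan, hproj v]
    exact Submodule.add_mem_sup (Submodule.projection_apply_mem hc v) ⟨qB v, hb, rfl⟩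

/-- Bass: a countably generated uniformly big projective module is free. -/
theorem free_of_countable [IsNoetherianRing (R ⧸ (⊥ : Ideal R).jacobson)]
    (P : Type u) [AddCommGroup P] [Module R P] [Module.Projective R P]
    (hUB : ∀ x : Ideal R, x.IsMaximal → ¬ FinMod x P)
    (f : ℕ → P) (hf : Submodule.span R (Set.range f) = ⊤) : Module.Free R P := by
  classical
  have hstep := step (R := R) P hUB
  let S₀ : St R P := ⟨∅, ⊤, Set.finite_empty, linearIndepOn_empty R id, by
    rw [Submodule.span_empty]; exact isCompl_bot_top⟩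
  let F : ℕ → St R P := fun n => Nat.rec S₀ (fun k S => Classical.choose (hstep S (f k))) n
  have hF : ∀ n, (F n).T ⊆ (F (n + 1)).T ∧ f n ∈ Submodule.span R (F (n + 1)).T :=
    fun n => Classical.choose_spec (hstep (F n) (f n))
  have hmono : Monotone (fun n => (F n).T) := monotone_nat_of_le_succ (fun n => (hF n).1)
  have hli : LinearIndependent R (Subtype.val : (⋃ n, (F n).T) → P) :=
    linearIndepOn_iUnion_of_directed (v := id) hmono.directed_le (fun n => (F n).li)
  have hsp : ⊤ ≤ Submodule.span R (Set.range (Subtype.val : (⋃ n, (F n).T) → P)) := by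
    rw [Subtype.range_coe, ← hf, Submodule.span_le]
    rintro _ ⟨n, rfl⟩
    exact Submodule.span_mono (Set.subset_iUnion (fun n => (F n).T) (n + 1)) (hF n).2
  exact Module.Free.of_basis (Module.Basis.mk hli hsp)

end Groth.Agent.Lib.Lead.BassBig
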