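import Mathlib

/-!
# Restriction of a multivariate polynomial to a parametrized line

`lineP q p z` is the one-variable polynomial `x ↦ q (p + x z)`; chain rule, homogeneity,
zeros of quadrics on planes, and the "constant tangent hyperplane" contradiction for smooth cubics.
-/

namespace Groth.Agent.Lib.Lead.LineP

open Module

section basic
variable {k : Type*} [Field k] {σ : Type*}

/-- the linear polynomial `z_i X + p_i`. -/
noncomputable def gl (p z : σ → k) (i : σ) : Polynomial k :=
  Polynomial.C (z i) * Polynomial.X + Polynomial.C (p i)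

/-- restriction of `q` to the parametrized line `x ↦ p + x z`. -/
noncomputable def lineP (q : MvPolynomial σ k) (p z : σ → k) : Polynomial k :=
  MvPolynomial.aeval (gl p z) q

theorem lineP_C (a : k) (p z : σ → k) : lineP (MvPolynomial.C a) p z = Polynomial.C a := by
  simp [lineP]

theorem lineP_zero (p z : σ → k) : lineP (0 : MvPolynomial σ k) p z = 0 := by
  simp [lineP]

theorem lineP_add (a b : MvPolynomial σ k) (p z : σ → k) :
    lineP (a + b) p z = lineP a p z + lineP b p z := by
  simp [lineP]

theorem lineP_mul (a b : MvPolynomial σ k) (p z : σ → k) :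
    lineP (a * b) p z = lineP a p z * lineP b p z := by
  simp [lineP]

theorem lineP_mul_X (q : MvPolynomial σ k) (j : σ) (p z : σ → k) :
    lineP (q * MvPolynomial.X j) p z = lineP q p z * gl p z j := by
  simp [lineP]

theorem eval_gl (p z : σ → k) (j : σ) (x : k) :
    Polynomial.eval x (gl p z j) = p j + x * z j := by
  simp only [gl, Polynomial.eval_add, Polynomial.eval_mul, Polynomial.eval_C, Polynomial.eval_X]
  ring

theorem derivative_gl (p z : σ → k) (j : σ) :
    Polynomial.derivative (gl p z j) = Polynomial.C (z j) := by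
  simp [gl]

theorem eval_lineP (q : MvPolynomial σ k) (p z : σ → k) (x : k) :
    Polynomial.eval x (lineP q p z) = MvPolynomial.eval (p + x • z) q := by
  induction q using MvPolynomial.induction_on with
  | C a => rw [lineP_C, Polynomial.eval_C, MvPolynomial.eval_C]
  | add a b ha hb => rw [lineP_add, Polynomial.eval_add, ha, hb, RingHom.map_add]
  | mul_X q j ih =>
    rw [lineP_mul_X, Polynomial.eval_mul, ih, eval_gl, RingHom.map_mul, MvPolynomial.eval_X]
    simp [Pi.add_apply, Pi.smul_apply, smul_eq_mul]

theorem natDegree_lineP_le (q : MvPolynomial σ k) (p z : σ → k) :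
    (lineP q p z).natDegree ≤ q.totalDegree := by
  have h := MvPolynomial.aeval_natDegree_le (m := q.totalDegree) (n := 1) q (le_refl _) (gl p z)
    (fun i => Polynomial.natDegree_linear_le)
  rw [mul_one] at h
  exact h

end basic

section fin
variable {k : Type*} [Field k] {σ : Type*} [Fintype σ] [DecidableEq σ]

theorem deriv_lineP (q : MvPolynomial σ k) (p z : σ → k) :
    Polynomial.derivative (lineP q p z) =
      ∑ i, lineP (MvPolynomial.pderiv i q) p z * Polynomial.C (z i) := by
  induction q using MvPolynomial.induction_on with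
  | C a =>
    rw [lineP_C, Polynomial.derivative_C]
    symm
    apply Finset.sum_eq_zero
    intro i _
    rw [MvPolynomial.pderiv_C, lineP_zero, zero_mul]
  | add a b ha hb =>
    rw [lineP_add, Polynomial.derivative_add, ha, hb, ← Finset.sum_add_distrib]
    refine Finset.sum_congr rfl (fun i _ => ?_)
    rw [map_add, lineP_add, add_mul]
  | mul_X q j ih =>
    have h1 : ∀ i, lineP (MvPolynomial.pderiv i (q * MvPolynomial.X j)) p z * Polynomial.C (z i)
        = (lineP (MvPolynomial.pderiv i q) p z * Polynomial.C (z i)) * gl p z j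
          + (if i = j then lineP q p z * Polynomial.C (z j) else 0) := by
      intro i
      rw [MvPolynomial.pderiv_mul, MvPolynomial.pderiv_X, lineP_add, lineP_mul_X]
      by_cases h : i = j
      · subst h
        rw [if_pos rfl, Pi.single_eq_same, mul_one]
        ring
      · rw [if_neg h, Pi.single_eq_of_ne (Ne.symm h), mul_zero, lineP_zero]
        ring
    rw [lineP_mul_X, Polynomial.derivative_mul, ih, derivative_gl,
      Finset.sum_congr rfl (fun i _ => h1 i), Finset.sum_add_distrib, Finset.sum_mul]
    congr 1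
    simp

/-- the linear form `z ↦ Σ ∂_i q (p) z_i`. -/
noncomputable def Lfun (q : MvPolynomial σ k) (p : σ → k) : (σ → k) →ₗ[k] k :=
  ∑ i, (MvPolynomial.eval p (MvPolynomial.pderiv i q)) • (LinearMap.proj i : (σ → k) →ₗ[k] k)

theorem Lfun_apply (q : MvPolynomial σ k) (p z : σ → k) :
    Lfun q p z = ∑ i, MvPolynomial.eval p (MvPolynomial.pderiv i q) * z i := by
  simp [Lfun, LinearMap.sum_apply]

theorem Lfun_single (q : MvPolynomial σ k) (p : σ → k) (i : σ) :
    Lfun q p (Pi.single i (1 : k)) = MvPolynomial.eval p (MvPolynomial.pderiv i q) := by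
  rw [Lfun_apply]
  simp [Pi.single_apply]

omit [DecidableEq σ] in
theorem eval_smul_hom {g : MvPolynomial σ k} {n : ℕ} (hg : g.IsHomogeneous n) (c : k)
    (x : σ → k) : MvPolynomial.eval (c • x) g = c ^ n * MvPolynomial.eval x g := by
  classical
  have hcx : c • x = fun i => c * x i := by
    funext i
    simp
  rw [hcx, MvPolynomial.eval_eq', MvPolynomial.eval_eq', Finset.mul_sum]
  refine Finset.sum_congr rfl fun s hs => ?_
  have hdeg : ∑ i, s i = n := by
    have h1 := hg (MvPolynomial.mem_support_iff.mp hs)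
    rw [← Finsupp.degree_eq_sum]
    rw [Finsupp.degree_eq_weight_one]
    exact h1
  simp only [mul_pow, Finset.prod_mul_distrib, Finset.prod_pow_eq_pow_sum, hdeg]
  ring

/-- a double root at `0` of the restriction to a line kills the directional derivative. -/
theorem Lfun_eq_zero_of_sq_dvd (q : MvPolynomial σ k) (p z : σ → k)
    (h : Polynomial.X ^ 2 ∣ lineP q p z) : Lfun q p z = 0 := by
  obtain ⟨r, hr⟩ := h
  have h1 : Polynomial.eval 0 (Polynomial.derivative (lineP q p z)) = 0 := by
    rw [hr, Polynomial.derivative_mul, Polynomial.eval_add, Polynomial.eval_mul,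
      Polynomial.eval_mul, Polynomial.derivative_X_pow]
    simp
  rw [deriv_lineP, Polynomial.eval_finsetSum] at h1
  rw [Lfun_apply, ← h1]
  refine Finset.sum_congr rfl (fun i _ => ?_)
  rw [Polynomial.eval_mul, Polynomial.eval_C, eval_lineP, zero_smul, add_zero]

theorem T1 [Infinite k] (q : MvPolynomial σ k) (p z : σ → k)
    (h : ∀ t : k, MvPolynomial.eval (p + t • z) q = 0) : Lfun q p z = 0 := by
  have h0 : lineP q p z = 0 := by
    apply Polynomial.funext
    intro x
    rw [eval_lineP, h x, Polynomial.eval_zero]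
  apply Lfun_eq_zero_of_sq_dvd
  rw [h0]
  exact dvd_zero _

omit [DecidableEq σ] in
theorem lemZ [Infinite k] {g : MvPolynomial σ k} {n : ℕ} (hg : g.IsHomogeneous n) (p h : σ → k)
    (hz : ∀ x : k, MvPolynomial.eval (p + x • h) g = 0) : MvPolynomial.eval h g = 0 := by
  have hB : lineP g h p = 0 := by
    apply Polynomial.eq_of_infinite_eval_eq
    refine Set.Infinite.mono (s := ({0} : Set k)ᶜ) (fun y hy => ?_)
      ((Set.finite_singleton (0 : k)).infinite_compl)
    have hy' : y ≠ 0 := fun e => hy (Set.mem_singleton_iff.mpr e)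
    show Polynomial.eval y (lineP g h p) = Polynomial.eval y 0
    have hh : h + y • p = y • (p + y⁻¹ • h) := by
      rw [smul_add, smul_smul, mul_inv_cancel₀ hy', one_smul, add_comm]
    rw [Polynomial.eval_zero, eval_lineP, hh, eval_smul_hom hg, hz, mul_zero]
  have h3 := congrArg (Polynomial.eval 0) hB
  rwa [eval_lineP, zero_smul, add_zero, Polynomial.eval_zero] at h3

end fin

section closed
variable {k : Type*} [Field k] [IsAlgClosed k] {σ : Type*} [Fintype σ] [DecidableEq σ]

omit [DecidableEq σ] in
/-- a quadric has a nontrivial zero on the span of two vectors. -/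
theorem quadZero {P : MvPolynomial σ k} (hP : P.IsHomogeneous 2) (v w : σ → k) :
    ∃ a b : k, (a ≠ 0 ∨ b ≠ 0) ∧ MvPolynomial.eval (a • v + b • w) P = 0 := by
  by_cases hdeg : (lineP P v w).degree = 0
  · have hB : lineP P v w = Polynomial.C ((lineP P v w).coeff 0) :=
      Polynomial.eq_C_of_degree_eq_zero hdeg
    have hconst : ∀ y : k, MvPolynomial.eval (v + y • w) P = (lineP P v w).coeff 0 := by
      intro y
      rw [← eval_lineP]
      conv_lhs => rw [hB]
      rw [Polynomial.eval_C]
    have hA : lineP P w v = Polynomial.C ((lineP P v w).coeff 0) * Polynomial.X ^ 2 := by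
      apply Polynomial.eq_of_infinite_eval_eq
      refine Set.Infinite.mono (s := ({0} : Set k)ᶜ) (fun x hx => ?_)
        ((Set.finite_singleton (0 : k)).infinite_compl)
      have hx' : x ≠ 0 := fun e => hx (Set.mem_singleton_iff.mpr e)
      show Polynomial.eval x (lineP P w v)
        = Polynomial.eval x (Polynomial.C ((lineP P v w).coeff 0) * Polynomial.X ^ 2)
      have hh : w + x • v = x • (v + x⁻¹ • w) := by
        rw [smul_add, smul_smul, mul_inv_cancel₀ hx', one_smul, add_comm]
      rw [eval_lineP, Polynomial.eval_mul, Polynomial.eval_C, Polynomial.eval_pow,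
        Polynomial.eval_X, hh, eval_smul_hom hP, hconst, mul_comm]
    refine ⟨0, 1, Or.inr one_ne_zero, ?_⟩
    have h3 := congrArg (Polynomial.eval 0) hA
    rw [eval_lineP, zero_smul, add_zero] at h3
    rw [zero_smul, one_smul, zero_add, h3]
    simp
  · obtain ⟨y0, hy0⟩ := IsAlgClosed.exists_root (lineP P v w) hdeg
    refine ⟨1, y0, Or.inl one_ne_zero, ?_⟩
    rw [one_smul, ← eval_lineP]
    exact hy0

omit [DecidableEq σ] in
/-- a quadric has a nontrivial zero on any subspace of dimension at least two. -/
theorem exists_ne_zero_eval_eq_zero {P : MvPolynomial σ k} (hP : P.IsHomogeneous 2)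
    (W : Submodule k (σ → k)) (hW : 2 ≤ finrank k W) :
    ∃ w ∈ W, w ≠ 0 ∧ MvPolynomial.eval w P = 0 := by
  have hbot : W ≠ ⊥ := by
    intro h
    rw [h, finrank_bot] at hW
    omega
  obtain ⟨v, hvW, hv⟩ := Submodule.exists_mem_ne_zero_of_ne_bot hbot
  obtain ⟨p1, hp1W, hp1v⟩ : ∃ p1 ∈ W, p1 ∉ Submodule.span k {v} := by
    by_contra hcon
    push Not at hcon
    have hle : W ≤ Submodule.span k {v} := hcon
    have h1 := Submodule.finrank_mono hle
    rw [finrank_span_singleton hv] at h1
    omega
  obtain ⟨a, b, hab, hab0⟩ := quadZero hP v p1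
  refine ⟨a • v + b • p1, W.add_mem (W.smul_mem a hvW) (W.smul_mem b hp1W), ?_, hab0⟩
  intro h0z
  by_cases hb : b = 0
  · have ha : a ≠ 0 := by
      rcases hab with ha | hb'
      · exact ha
      · exact absurd hb hb'
    rw [hb, zero_smul, add_zero] at h0z
    rcases smul_eq_zero.mp h0z with h | h
    · exact ha h
    · exact hv h
  · apply hp1v
    rw [Submodule.mem_span_singleton]
    refine ⟨-(b⁻¹ * a), ?_⟩
    have h' : b • p1 = -(a • v) := eq_neg_of_add_eq_zero_right h0z
    calc (-(b⁻¹ * a)) • v = b⁻¹ • (-(a • v)) := by rw [smul_neg, smul_smul, neg_smul]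
      _ = b⁻¹ • (b • p1) := by rw [h']
      _ = p1 := by rw [smul_smul, inv_mul_cancel₀ hb, one_smul]

omit [IsAlgClosed k] [DecidableEq σ] in
theorem finrank_ker_of_ne_zero (L : (σ → k) →ₗ[k] k) (hL : L ≠ 0) :
    finrank k ↥(LinearMap.ker L) + 1 = Fintype.card σ := by
  have h1 := Module.Dual.finrank_ker_add_one_of_ne_zero (f := L) hL
  rw [Module.finrank_fintype_fun_eq_card] at h1
  exact h1

omit [IsAlgClosed k] in
/-- A smooth hypersurface cannot have the same tangent hyperplane `H` at a point `v` and at a point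
`h0 ≠ 0` where moreover the partial derivative which is nonzero at `v` vanishes. -/
theorem tangent_contra {f : MvPolynomial σ k}
    (hsm : ∀ v : σ → k, v ≠ 0 → MvPolynomial.eval v f = 0 →
      ∃ i : σ, MvPolynomial.eval v (MvPolynomial.pderiv i f) ≠ 0)
    (H : Submodule k (σ → k)) (hH : finrank k ↥H + 1 = Fintype.card σ)
    (v : σ → k) (hLv : ∀ z ∈ H, Lfun f v z = 0)
    (i0 : σ) (hi0 : MvPolynomial.eval v (MvPolynomial.pderiv i0 f) ≠ 0)
    (h0 : σ → k) (hh0 : h0 ≠ 0) (hfh0 : MvPolynomial.eval h0 f = 0)
    (hLh0 : ∀ z ∈ H, Lfun f h0 z = 0)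
    (hP0 : MvPolynomial.eval h0 (MvPolynomial.pderiv i0 f) = 0) : False := by
  have hne : Lfun f v (Pi.single i0 (1 : k)) ≠ 0 := by
    rw [Lfun_single]
    exact hi0
  have hLne : Lfun f v ≠ 0 := by
    intro h
    apply hne
    rw [h, LinearMap.zero_apply]
  have hle : H ≤ LinearMap.ker (Lfun f v) := fun z hz => LinearMap.mem_ker.mpr (hLv z hz)
  have hk := finrank_ker_of_ne_zero (Lfun f v) hLne
  have heq : H = LinearMap.ker (Lfun f v) := Submodule.eq_of_le_of_finrank_le hle (by omega)
  have hLi0 : Lfun f h0 (Pi.single i0 (1 : k)) = 0 := by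
    rw [Lfun_single]
    exact hP0
  have hall : ∀ i, MvPolynomial.eval h0 (MvPolynomial.pderiv i f) = 0 := by
    intro i
    have hz : (Pi.single i (1 : k) : σ → k)
        - (Lfun f v (Pi.single i (1 : k)) / Lfun f v (Pi.single i0 (1 : k)))
          • (Pi.single i0 (1 : k) : σ → k) ∈ H := by
      rw [heq, LinearMap.mem_ker, map_sub, map_smul, smul_eq_mul, div_mul_cancel₀ _ hne, sub_self]
    have h2 := hLh0 _ hz
    rw [map_sub, map_smul, hLi0, smul_zero, sub_zero, Lfun_single] at h2
    exact h2
  obtain ⟨i, hi⟩ := hsm h0 hh0 hfh0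
  exact hi (hall i)

end closed

end Groth.Agent.Lib.Lead.LineP
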