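import Groth.Agent.Lib.Lead.LineP

/-!
# More on restrictions to lines: coefficient reversal, tangent cones, hyperplane Nullstellensatz,
parametrisation of a three-dimensional subspace.
-/

namespace Groth.Agent.Lib.Lead.LineP

open Module

section fin
variable {k : Type*} [Field k] {σ : Type*} [Fintype σ] [DecidableEq σ]

theorem coeff_one_lineP (q : MvPolynomial σ k) (p z : σ → k) :
    (lineP q p z).coeff 1 = Lfun q p z := by
  have h1 : (Polynomial.derivative (lineP q p z)).coeff 0 = (lineP q p z).coeff 1 := by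
    rw [Polynomial.coeff_derivative]
    simp
  rw [← h1, Polynomial.coeff_zero_eq_eval_zero, deriv_lineP, Polynomial.eval_finsetSum, Lfun_apply]
  refine Finset.sum_congr rfl (fun i _ => ?_)
  rw [Polynomial.eval_mul, Polynomial.eval_C, eval_lineP, zero_smul, add_zero]

omit [Fintype σ] [DecidableEq σ] in
theorem coeff_zero_lineP (q : MvPolynomial σ k) (p z : σ → k) :
    (lineP q p z).coeff 0 = MvPolynomial.eval p q := by
  rw [Polynomial.coeff_zero_eq_eval_zero, eval_lineP, zero_smul, add_zero]

theorem eval_derivative_lineP (q : MvPolynomial σ k) (p z : σ → k) (s : k) :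
    Polynomial.eval s (Polynomial.derivative (lineP q p z)) = Lfun q (p + s • z) z := by
  rw [deriv_lineP, Polynomial.eval_finsetSum, Lfun_apply]
  refine Finset.sum_congr rfl (fun i _ => ?_)
  rw [Polynomial.eval_mul, Polynomial.eval_C, eval_lineP]

omit [DecidableEq σ] in
/-- coefficient reversal for restrictions of a homogeneous polynomial to a line. -/
theorem lineP_coeff_rev [Infinite k] {g : MvPolynomial σ k} {n : ℕ} (hg : g.IsHomogeneous n)
    (p z : σ → k) {j : ℕ} (hj : j ≤ n) :
    (lineP g p z).coeff j = (lineP g z p).coeff (n - j) := by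
  have hB : (lineP g z p).natDegree < n + 1 :=
    Nat.lt_succ_of_le ((natDegree_lineP_le g z p).trans (MvPolynomial.IsHomogeneous.totalDegree_le hg))
  have key : lineP g p z = ∑ i ∈ Finset.range (n + 1),
      Polynomial.C ((lineP g z p).coeff i) * Polynomial.X ^ (n - i) := by
    apply Polynomial.eq_of_infinite_eval_eq
    refine Set.Infinite.mono (s := ({0} : Set k)ᶜ) (fun x hx => ?_)
      ((Set.finite_singleton (0 : k)).infinite_compl)
    have hx' : x ≠ 0 := fun e => hx (Set.mem_singleton_iff.mpr e)
    show Polynomial.eval x (lineP g p z) = Polynomial.eval x (∑ i ∈ Finset.range (n + 1),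
      Polynomial.C ((lineP g z p).coeff i) * Polynomial.X ^ (n - i))
    have hh : p + x • z = x • (z + x⁻¹ • p) := by
      rw [smul_add, smul_smul, mul_inv_cancel₀ hx', one_smul, add_comm]
    rw [eval_lineP, hh, eval_smul_hom hg, ← eval_lineP, Polynomial.eval_eq_sum_range' hB,
      Polynomial.eval_finsetSum, Finset.mul_sum]
    refine Finset.sum_congr rfl (fun i hi => ?_)
    have hi' : i ≤ n := Nat.lt_succ_iff.mp (Finset.mem_range.mp hi)
    rw [Polynomial.eval_mul, Polynomial.eval_C, Polynomial.eval_pow, Polynomial.eval_X]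
    have e1 : x ^ n = x ^ (n - i) * x ^ i := by rw [← pow_add, Nat.sub_add_cancel hi']
    have e2 : x ^ i * (x ^ i)⁻¹ = 1 := mul_inv_cancel₀ (pow_ne_zero i hx')
    rw [e1, inv_pow]
    calc x ^ (n - i) * x ^ i * ((lineP g z p).coeff i * (x ^ i)⁻¹)
        = (lineP g z p).coeff i * x ^ (n - i) * (x ^ i * (x ^ i)⁻¹) := by ring
      _ = (lineP g z p).coeff i * x ^ (n - i) := by rw [e2, mul_one]
  rw [key, Polynomial.finsetSum_coeff, Finset.sum_eq_single (n - j)]
  · rw [Polynomial.coeff_C_mul_X_pow, if_pos]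
    omega
  · intro i hi hne
    rw [Polynomial.coeff_C_mul_X_pow, if_neg]
    have := Finset.mem_range.mp hi
    omega
  · intro h
    exfalso
    apply h
    rw [Finset.mem_range]
    omega

/-- If `a` is a point of the cubic `F = 0` and `y` lies in the tangent hyperplane at `a`, the
restriction of `F` to the line `y + s a` is affine linear in `s`. -/
theorem lineP_of_tangent [Infinite k] {F : MvPolynomial σ k} (hF : F.IsHomogeneous 3) {a : σ → k}
    (hFa : MvPolynomial.eval a F = 0) {y : σ → k} (hy : Lfun F a y = 0) :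
    lineP F y a = Polynomial.C (Lfun F y a) * Polynomial.X
      + Polynomial.C (MvPolynomial.eval y F) := by
  have h3 : (lineP F y a).coeff 3 = 0 := by
    rw [lineP_coeff_rev hF y a (le_refl 3), Nat.sub_self, coeff_zero_lineP, hFa]
  have h2 : (lineP F y a).coeff 2 = 0 := by
    rw [lineP_coeff_rev hF y a (by norm_num : 2 ≤ 3), show (3 : ℕ) - 2 = 1 from rfl,
      coeff_one_lineP, hy]
  have hdeg : (lineP F y a).natDegree ≤ 1 := by
    rw [Polynomial.natDegree_le_iff_coeff_eq_zero]
    intro N hN
    by_cases h4 : 3 < N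
    · exact Polynomial.coeff_eq_zero_of_natDegree_lt (lt_of_le_of_lt
        ((natDegree_lineP_le F y a).trans (MvPolynomial.IsHomogeneous.totalDegree_le hF)) h4)
    · have h5 : N = 2 ∨ N = 3 := by omega
      rcases h5 with rfl | rfl
      · exact h2
      · exact h3
  have h := Polynomial.eq_X_add_C_of_natDegree_le_one hdeg
  rw [coeff_one_lineP, coeff_zero_lineP] at h
  exact h

/-- the polynomial of a linear form. -/
noncomputable def lin (μ : (σ → k) →ₗ[k] k) : MvPolynomial σ k :=
  ∑ j, MvPolynomial.C (μ (fun j' => if j = j' then 1 else 0)) * MvPolynomial.X j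

omit [DecidableEq σ] in
theorem lin_isHomogeneous [DecidableEq σ] (μ : (σ → k) →ₗ[k] k) : (lin μ).IsHomogeneous 1 :=
  MvPolynomial.IsHomogeneous.sum _ _ _ (fun j _ => MvPolynomial.isHomogeneous_C_mul_X _ j)

omit [DecidableEq σ] in
theorem eval_lin [DecidableEq σ] (μ : (σ → k) →ₗ[k] k) (x : σ → k) :
    MvPolynomial.eval x (lin μ) = μ x := by
  rw [lin, map_sum, LinearMap.pi_apply_eq_sum_univ μ x]
  refine Finset.sum_congr rfl (fun j _ => ?_)
  rw [map_mul, MvPolynomial.eval_C, MvPolynomial.eval_X, smul_eq_mul, mul_comm]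

omit [Fintype σ] [DecidableEq σ] in
/-- A polynomial vanishing on the hyperplane `ℓ = 0` is a multiple of `ℓ`. -/
theorem mem_span_of_vanish [Finite σ] [IsAlgClosed k] {ℓ : MvPolynomial σ k} (hℓ : ℓ.IsHomogeneous 1)
    (hℓ0 : ℓ ≠ 0) (G : MvPolynomial σ k)
    (hG : ∀ x, MvPolynomial.eval x ℓ = 0 → MvPolynomial.eval x G = 0) :
    G ∈ Ideal.span {ℓ} := by
  have htd : ℓ.totalDegree = 1 := MvPolynomial.IsHomogeneous.totalDegree hℓ hℓ0
  have key : ∀ r : MvPolynomial σ k, r ≠ 0 → r.totalDegree = 0 → IsUnit r := by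
    intro r hr0 hr
    rw [MvPolynomial.totalDegree_eq_zero_iff_eq_C] at hr
    have hc : MvPolynomial.coeff 0 r ≠ 0 := by
      intro hc
      apply hr0
      rw [hr, hc, map_zero]
    rw [hr]
    exact (isUnit_iff_ne_zero.mpr hc).map MvPolynomial.C
  have hirr : Irreducible ℓ := by
    refine irreducible_iff.mpr ⟨?_, ?_⟩
    · intro hu
      obtain ⟨u, hu⟩ := hu.exists_right_inv
      have hu0 : u ≠ 0 := by
        rintro rfl
        simp at hu
      have h1 := MvPolynomial.totalDegree_mul_of_isDomain hℓ0 hu0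
      rw [hu, MvPolynomial.totalDegree_one] at h1
      omega
    · intro p q hpq
      have hp0 : p ≠ 0 := by
        rintro rfl
        apply hℓ0
        rw [hpq, zero_mul]
      have hq0 : q ≠ 0 := by
        rintro rfl
        apply hℓ0
        rw [hpq, mul_zero]
      have h1 := MvPolynomial.totalDegree_mul_of_isDomain hp0 hq0
      rw [← hpq, htd] at h1
      by_cases hp : p.totalDegree = 0
      · exact Or.inl (key p hp0 hp)
      · exact Or.inr (key q hq0 (by omega))
  have hprime : Prime ℓ := UniqueFactorizationMonoid.irreducible_iff_prime.mp hirr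
  haveI : (Ideal.span {ℓ}).IsPrime := (Ideal.span_singleton_prime hℓ0).mpr hprime
  suffices h : G ∈ MvPolynomial.vanishingIdeal k (MvPolynomial.zeroLocus k (Ideal.span {ℓ})) by
    rwa [MvPolynomial.IsPrime.vanishingIdeal_zeroLocus] at h
  rw [MvPolynomial.mem_vanishingIdeal_iff]
  intro x hx
  have h1 : MvPolynomial.aeval x ℓ = 0 := hx ℓ (Ideal.subset_span rfl)
  exact hG x h1

end fin

section vs
variable {k : Type*} [Field k] {V : Type*} [AddCommGroup V] [Module k V] [FiniteDimensional k V]

theorem finrank_span_pair {a b : V} (ha : a ≠ 0) (hb : b ∉ Submodule.span k {a}) :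
    finrank k ↥(Submodule.span k ({a, b} : Set V)) = 2 := by
  have h2 : finrank k ↥(Submodule.span k ({a, b} : Set V)) ≤ 2 := by
    classical
    have h := finrank_span_finset_le_card (R := k) ({a, b} : Finset V)
    rw [Finset.coe_insert, Finset.coe_singleton] at h
    exact h.trans Finset.card_le_two
  have hlt : Submodule.span k {a} < Submodule.span k ({a, b} : Set V) := by
    refine lt_of_le_of_ne (Submodule.span_mono (by simp)) (fun heq => hb ?_)
    rw [heq]
    exact Submodule.subset_span (by simp)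
  have h1 := Submodule.finrank_lt_finrank_of_lt hlt
  rw [finrank_span_singleton ha] at h1
  omega

/-- coordinates on a three-dimensional subspace adapted to two given independent vectors. -/
theorem exists_param {H : Submodule k V} (hH : finrank k ↥H = 3) {a x₀ : V}
    (haH : a ∈ H) (ha : a ≠ 0) (hxH : x₀ ∈ H) (hx : x₀ ∉ Submodule.span k {a}) :
    ∃ w ∈ H, ∃ g : V →ₗ[k] (Fin 3 → k),
      (∀ s α β : k, g (s • a + α • x₀ + β • w) = ![s, α, β]) ∧
      ∀ x ∈ H, x = (g x 0) • a + (g x 1) • x₀ + (g x 2) • w := by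
  have hM2 := finrank_span_pair ha hx
  have hMle : Submodule.span k ({a, x₀} : Set V) ≤ H := by
    rw [Submodule.span_le]
    intro y hy
    rcases hy with rfl | hy
    · exact haH
    · rw [Set.mem_singleton_iff] at hy
      rw [hy]
      exact hxH
  have hMne : Submodule.span k ({a, x₀} : Set V) ≠ H := by
    intro h
    rw [h] at hM2
    omega
  obtain ⟨w, hwH, hwM⟩ := SetLike.exists_of_lt (lt_of_le_of_ne hMle hMne)
  refine ⟨w, hwH, ?_⟩
  -- the parametrisation
  let T : (Fin 3 → k) →ₗ[k] V :=
    (LinearMap.proj 0 : (Fin 3 → k) →ₗ[k] k).smulRight a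
      + (LinearMap.proj 1 : (Fin 3 → k) →ₗ[k] k).smulRight x₀
      + (LinearMap.proj 2 : (Fin 3 → k) →ₗ[k] k).smulRight w
  have hT : ∀ c : Fin 3 → k, T c = c 0 • a + c 1 • x₀ + c 2 • w := by
    intro c
    simp [T]
  have hker : LinearMap.ker T = ⊥ := by
    rw [LinearMap.ker_eq_bot']
    intro c hc
    rw [hT] at hc
    have hc2 : c 2 = 0 := by
      by_contra h2
      apply hwM
      have h' : c 2 • w = -(c 0 • a + c 1 • x₀) := eq_neg_of_add_eq_zero_right hc
      have e : w = (c 2)⁻¹ • (-(c 0 • a + c 1 • x₀)) := by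
        rw [← h', smul_smul, inv_mul_cancel₀ h2, one_smul]
      rw [e]
      exact Submodule.smul_mem _ _ (Submodule.neg_mem _
        (Submodule.mem_span_pair.mpr ⟨c 0, c 1, rfl⟩))
    rw [hc2, zero_smul, add_zero] at hc
    have hc1 : c 1 = 0 := by
      by_contra h1
      apply hx
      have h' : c 1 • x₀ = -(c 0 • a) := eq_neg_of_add_eq_zero_right hc
      have e : x₀ = (c 1)⁻¹ • (-(c 0 • a)) := by
        rw [← h', smul_smul, inv_mul_cancel₀ h1, one_smul]
      rw [e]
      exact Submodule.smul_mem _ _ (Submodule.neg_mem _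
        (Submodule.smul_mem _ _ (Submodule.mem_span_singleton_self a)))
    rw [hc1, zero_smul, add_zero] at hc
    have hc0 : c 0 = 0 := by
      rcases smul_eq_zero.mp hc with h | h
      · exact h
      · exact absurd h ha
    funext i
    fin_cases i
    · exact hc0
    · exact hc1
    · exact hc2
  obtain ⟨g, hg⟩ := LinearMap.exists_leftInverse_of_injective T hker
  have hgT : ∀ c : Fin 3 → k, g (T c) = c := fun c => LinearMap.congr_fun hg c
  have hg1 : ∀ s α β : k, g (s • a + α • x₀ + β • w) = ![s, α, β] := by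
    intro s α β
    have e : T ![s, α, β] = s • a + α • x₀ + β • w := by
      rw [hT]
      simp
    rw [← e, hgT]
  refine ⟨g, hg1, ?_⟩
  -- surjectivity onto H
  have hlt : Submodule.span k ({a, x₀} : Set V)
      < Submodule.span k ({a, x₀} : Set V) ⊔ Submodule.span k {w} := by
    refine lt_of_le_of_ne le_sup_left (fun heq => hwM ?_)
    rw [heq]
    exact Submodule.mem_sup_right (Submodule.mem_span_singleton_self w)
  have hle : Submodule.span k ({a, x₀} : Set V) ⊔ Submodule.span k {w} ≤ H :=
    sup_le hMle (by rw [Submodule.span_singleton_le_iff_mem]; exact hwH)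
  have h3 := Submodule.finrank_lt_finrank_of_lt hlt
  have heq : Submodule.span k ({a, x₀} : Set V) ⊔ Submodule.span k {w} = H :=
    Submodule.eq_of_le_of_finrank_le hle (by omega)
  intro x hxH'
  have hx' : x ∈ Submodule.span k ({a, x₀} : Set V) ⊔ Submodule.span k {w} := by
    rw [heq]
    exact hxH'
  obtain ⟨u, hu, y, hy, rfl⟩ := Submodule.mem_sup.mp hx'
  obtain ⟨s, α, rfl⟩ := Submodule.mem_span_pair.mp hu
  obtain ⟨β, rfl⟩ := Submodule.mem_span_singleton.mp hy
  rw [hg1]
  simp

end vs

end Groth.Agent.Lib.Lead.LineP
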