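import Mathlib
import Groth.Agent.Lib.Lead.LineP
import Groth.Agent.Lib.Lead.LineP2

/-!
# Separating finite point sets of projective space by forms (general number of variables)
-/

namespace Groth.Agent.Lib.Lead.SepN

open MvPolynomial Module
open Groth.Agent.Lib.Lead.LineP

universe u
variable {k : Type u} [Field k] {N : ℕ}

abbrev PN (k : Type u) [Field k] (N : ℕ) := Projectivization k (Fin N → k)

/-- `S` can be separated from `z` by a form of degree `d`. -/
def Sep (z : PN k N) (S : Finset (PN k N)) (d : ℕ) : Prop :=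
  ∃ p : MvPolynomial (Fin N) k, p.IsHomogeneous d ∧ (∀ s ∈ S, MvPolynomial.eval s.rep p = 0) ∧
    MvPolynomial.eval z.rep p ≠ 0

theorem isHom_X_pow (i : Fin N) (d : ℕ) : (X i ^ d : MvPolynomial (Fin N) k).IsHomogeneous d := by
  have h := (MvPolynomial.isHomogeneous_X k i).pow d
  simpa using h

theorem exists_coord (z : PN k N) : ∃ i, z.rep i ≠ 0 := by
  by_contra h
  push Not at h
  exact z.rep_nonzero (funext h)

theorem sep_empty (z : PN k N) (d : ℕ) : Sep z ∅ d := by
  obtain ⟨i, hi⟩ := exists_coord z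
  refine ⟨X i ^ d, isHom_X_pow i d, fun s hs => absurd hs (Finset.notMem_empty s), ?_⟩
  rw [map_pow, eval_X]
  exact pow_ne_zero d hi

theorem sep_mono {z : PN k N} {S : Finset (PN k N)} {a b : ℕ} (h : Sep z S a) (hab : a ≤ b) :
    Sep z S b := by
  obtain ⟨p, hp, hpS, hpz⟩ := h
  obtain ⟨i, hi⟩ := exists_coord z
  refine ⟨p * X i ^ (b - a), ?_, ?_, ?_⟩
  · have := hp.mul (isHom_X_pow (k := k) i (b - a))
    rwa [Nat.add_sub_cancel' hab] at this
  · intro s hs
    rw [map_mul, hpS s hs, zero_mul]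
  · rw [map_mul, map_pow, eval_X]
    exact mul_ne_zero hpz (pow_ne_zero _ hi)

theorem sep_subset {z : PN k N} {S T : Finset (PN k N)} {a : ℕ} (h : Sep z S a) (hTS : T ⊆ S) :
    Sep z T a := by
  obtain ⟨p, hp, hpS, hpz⟩ := h
  exact ⟨p, hp, fun s hs => hpS s (hTS hs), hpz⟩

theorem sep_union [DecidableEq (PN k N)] {z : PN k N} {S T : Finset (PN k N)} {a b : ℕ}
    (h1 : Sep z S a) (h2 : Sep z T b) : Sep z (S ∪ T) (a + b) := by
  obtain ⟨p, hp, hpS, hpz⟩ := h1
  obtain ⟨q, hq, hqT, hqz⟩ := h2
  refine ⟨p * q, hp.mul hq, ?_, ?_⟩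
  · intro s hs
    rw [map_mul]
    rcases Finset.mem_union.mp hs with h | h
    · rw [hpS s h, zero_mul]
    · rw [hqT s h, mul_zero]
  · rw [map_mul]
    exact mul_ne_zero hpz hqz

theorem sep_subspace {z : PN k N} (W : Submodule k (Fin N → k)) (hz : z.rep ∉ W)
    (S : Finset (PN k N)) (hS : ∀ s ∈ S, s.rep ∈ W) : Sep z S 1 := by
  obtain ⟨f, hf1, hf2⟩ := Submodule.exists_le_ker_of_notMem hz
  refine ⟨lin f, lin_isHomogeneous f, ?_, ?_⟩
  · intro s hs
    rw [eval_lin]
    exact LinearMap.mem_ker.mp (hf2 (hS s hs))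
  · rw [eval_lin]
    exact hf1

theorem rep_mem_submodule (z : PN k N) : z.rep ∈ z.submodule := by
  rw [Projectivization.submodule_eq]
  exact Submodule.mem_span_singleton_self _

theorem rep_notMem_of_ne {s z : PN k N} (h : s ≠ z) : z.rep ∉ s.submodule := by
  intro hmem
  rw [Projectivization.submodule_eq, Submodule.mem_span_singleton] at hmem
  obtain ⟨c, hc⟩ := hmem
  have h1 : Projectivization.mk k z.rep z.rep_nonzero = Projectivization.mk k s.rep s.rep_nonzero :=
    (Projectivization.mk_eq_mk_iff' k z.rep s.rep z.rep_nonzero s.rep_nonzero).mpr ⟨c, hc⟩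
  rw [Projectivization.mk_rep, Projectivization.mk_rep] at h1
  exact h h1.symm

theorem submodule_le_iff (z : PN k N) (W : Submodule k (Fin N → k)) :
    z.submodule ≤ W ↔ z.rep ∈ W := by
  rw [Projectivization.submodule_eq, Submodule.span_singleton_le_iff_mem]

theorem sep_point {s z : PN k N} (h : s ≠ z) : Sep z {s} 1 :=
  sep_subspace s.submodule (rep_notMem_of_ne h) {s} (by
    intro t ht
    rw [Finset.mem_singleton] at ht
    subst ht
    exact rep_mem_submodule t)

theorem sep_finset [DecidableEq (PN k N)] (z : PN k N) (S : Finset (PN k N)) (hz : z ∉ S) :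
    Sep z S S.card := by
  induction S using Finset.induction_on with
  | empty =>
    rw [Finset.card_empty]
    exact sep_empty z 0
  | insert a S ha ih =>
    have hza : a ≠ z := fun h => hz (by rw [← h]; exact Finset.mem_insert_self a S)
    have hzS : z ∉ S := fun h => hz (Finset.mem_insert_of_mem h)
    have h1 := sep_union (sep_point hza) (ih hzS)
    rw [Finset.card_insert_of_notMem ha]
    have h2 : insert a S = {a} ∪ S := Finset.insert_eq a S
    rw [h2, Nat.add_comm]
    exact h1


end Groth.Agent.Lib.Lead.SepN
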