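import Mathlib
import Groth.Agent.Lib.Helper22.Bezout2
import Groth.Agent.Lib.Lead.SepN

/-!
# Weak Bezout bound for points of the projective plane

Two coprime forms of degrees `n`, `m ≥ 1` in three variables have at most `n * m` common zeros in
`P^2` (any field).  Deduced from helper22's Hilbert-function form of Bezout by separating points.
-/

namespace Groth.Agent.Lib.Lead.BezoutPts

open MvPolynomial Groth.Agent.Lib.Helper22.Bezout Groth.Agent.Lib.Helper22.GrSamuel
open Groth.Agent.Lib.Lead.SepN

universe u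
variable {k : Type u} [Field k]

theorem card_le (n m : ℕ) (f g : MvPolynomial (Fin 3) k) (hf : f.IsHomogeneous n)
    (hg : g.IsHomogeneous m) (hn : 0 < n) (hm : 0 < m) (hfg : IsRelPrime f g)
    (Z : Finset (Projectivization k (Fin 3 → k)))
    (hZf : ∀ z ∈ Z, eval z.rep f = 0) (hZg : ∀ z ∈ Z, eval z.rep g = 0) : Z.card ≤ n * m := by
  classical
  set I : Ideal (PR k 3) := Ideal.span ({f, g} : Set (PR k 3)) with hI
  set F : Fin 2 → PR k 3 := ![f, g] with hF
  set d : Fin 2 → ℕ := ![n, m] with hd
  have hrange : Ideal.span (Set.range F) = I := by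
    rw [hI, hF]
    congr 1
    ext x
    simp [eq_comm]
    exact or_comm
  have hht : ((2 : ℕ) : ℕ∞) ≤ (Ideal.span (Set.range F)).height := by
    rw [hrange]
    exact_mod_cast two_le_height_of_isRelPrime hfg
  have hd1 : ∀ i, 1 ≤ d i := by
    intro i
    fin_cases i
    · exact hn
    · exact hm
  have hFh : ∀ i, (F i).IsHomogeneous (d i) := by
    intro i
    fin_cases i
    · exact hf
    · exact hg
  obtain ⟨M₀, hM₀⟩ := bezout (n := 2) hd1 hFh hht
  have hprod : ∏ i : Fin 2, d i = n * m := by
    rw [Fin.prod_univ_two]; rfl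
  obtain ⟨M, hMdef⟩ : ∃ M, M = max M₀ Z.card := ⟨_, rfl⟩
  have hM1 : M₀ ≤ M := by rw [hMdef]; exact le_max_left _ _
  have hM2 : Z.card ≤ M := by rw [hMdef]; exact le_max_right _ _
  have hMM := hM₀ M hM1
  rw [hrange, hprod] at hMM
  obtain ⟨P, hP⟩ : ∃ P, P = n * m := ⟨_, rfl⟩
  rw [← hP] at hMM ⊢
  have hMM' : Module.finrank k ↥(homogeneousSubmodule (Fin 3) k M) -
      Module.finrank k ↥(piece (N := 3) I M) = P := hMM
  have hVle : Module.finrank k ↥(piece (N := 3) I M) ≤
      Module.finrank k ↥(homogeneousSubmodule (Fin 3) k M) := finrank_piece_le I M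
  -- the evaluation map on forms of degree `M`
  let ev : MvPolynomial (Fin 3) k →ₗ[k] (↥Z → k) :=
    LinearMap.pi fun z : ↥Z => (MvPolynomial.aeval (R := k) z.1.rep).toLinearMap
  have ev_apply : ∀ (p : MvPolynomial (Fin 3) k) (z : ↥Z), ev p z = eval z.1.rep p :=
    fun p z => rfl
  let φ : ↥(homogeneousSubmodule (Fin 3) k M) →ₗ[k] (↥Z → k) :=
    ev ∘ₗ (homogeneousSubmodule (Fin 3) k M).subtype
  have φ_apply : ∀ (p : ↥(homogeneousSubmodule (Fin 3) k M)) (z : ↥Z),
      φ p z = eval z.1.rep p.1 := fun p z => rfl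
  have hsurj : LinearMap.range φ = ⊤ := by
    rw [eq_top_iff]
    intro v _
    have hv : v = ∑ z : ↥Z, v z • (Pi.single z (1 : k) : ↥Z → k) := by
      funext w
      rw [Finset.sum_apply]
      simp only [Pi.smul_apply, Pi.single_apply, smul_eq_mul, mul_ite, mul_one, mul_zero]
      rw [Finset.sum_ite_eq]
      simp
    rw [hv]
    apply Submodule.sum_mem
    intro z _
    apply Submodule.smul_mem
    have hcard : (Z.erase z.1).card ≤ M := le_trans (Finset.card_erase_le) hM2
    obtain ⟨p, hp, hpS, hpz⟩ :=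
      sep_mono (sep_finset z.1 (Z.erase z.1) (Finset.notMem_erase _ _)) hcard
    refine ⟨⟨(eval z.1.rep p)⁻¹ • p, ?_⟩, ?_⟩
    · exact (homogeneousSubmodule (Fin 3) k M).smul_mem _
        ((mem_homogeneousSubmodule _ _).mpr hp)
    · funext w
      rw [φ_apply]
      show eval w.1.rep ((eval z.1.rep p)⁻¹ • p) = _
      rw [smul_eval]
      by_cases hw : w = z
      · subst hw
        rw [Pi.single_eq_same, inv_mul_cancel₀ hpz]
      · rw [Pi.single_eq_of_ne hw,
          hpS w.1 (Finset.mem_erase.mpr ⟨fun h => hw (Subtype.ext h), w.2⟩), mul_zero]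
  have hrank : Module.finrank k (LinearMap.range φ) = Z.card := by
    rw [hsurj, finrank_top, Module.finrank_fintype_fun_eq_card, Fintype.card_coe]
  have hrn := LinearMap.finrank_range_add_finrank_ker φ
  have hIker : ∀ w ∈ Z, I ≤ RingHom.ker (eval (w : Projectivization k (Fin 3 → k)).rep) := by
    intro w hw
    rw [hI, Ideal.span_le]
    intro x hx
    rcases hx with rfl | hx
    · exact RingHom.mem_ker.mpr (hZf w hw)
    · rw [Set.mem_singleton_iff] at hx
      subst hx
      exact RingHom.mem_ker.mpr (hZg w hw)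
  have hle : Module.finrank k ↥(piece (N := 3) I M) ≤ Module.finrank k (LinearMap.ker φ) := by
    let j : ↥(piece I M) →ₗ[k] ↥(LinearMap.ker φ) :=
      LinearMap.codRestrict (LinearMap.ker φ)
        (LinearMap.codRestrict (homogeneousSubmodule (Fin 3) k M) (piece I M).subtype
          (fun x => (Submodule.mem_inf.mp x.2).2)) (by
        intro x
        rw [LinearMap.mem_ker]
        funext w
        rw [φ_apply]
        exact RingHom.mem_ker.mp (hIker w.1 w.2 (Submodule.mem_inf.mp x.2).1))
    have hinj : Function.Injective j := by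
      intro x y hxy
      apply Subtype.ext
      have h1 := congrArg (fun t : ↥(LinearMap.ker φ) => ((t : ↥(homogeneousSubmodule (Fin 3) k M)) :
        MvPolynomial (Fin 3) k)) hxy
      exact h1
    exact LinearMap.finrank_le_finrank_of_injective hinj
  clear hMM
  omega

/-- Version for a finite family of pairwise non-proportional nonzero vectors. -/
theorem card_le' (n m : ℕ) (f g : MvPolynomial (Fin 3) k) (hf : f.IsHomogeneous n)
    (hg : g.IsHomogeneous m) (hn : 0 < n) (hm : 0 < m) (hfg : IsRelPrime f g)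
    {ι : Type*} [Fintype ι] (x : ι → (Fin 3 → k)) (hx0 : ∀ i, x i ≠ 0)
    (hx : ∀ i j, i ≠ j → ∀ c : k, x i ≠ c • x j)
    (hxf : ∀ i, eval (x i) f = 0) (hxg : ∀ i, eval (x i) g = 0) : Fintype.card ι ≤ n * m := by
  classical
  let pt : ι → Projectivization k (Fin 3 → k) := fun i => Projectivization.mk k (x i) (hx0 i)
  have hinj : Function.Injective pt := by
    intro i j hij
    by_contra hne
    obtain ⟨c, hc⟩ := (Projectivization.mk_eq_mk_iff' k (x i) (x j) (hx0 i) (hx0 j)).mp hij
    exact hx i j hne c hc.symm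
  have hrep : ∀ i, ∃ c : k, (pt i).rep = c • x i := by
    intro i
    obtain ⟨a, ha⟩ := Projectivization.exists_smul_eq_mk_rep k (x i) (hx0 i)
    exact ⟨(a : k), ha.symm⟩
  have hev : ∀ (q : MvPolynomial (Fin 3) k) (e : ℕ), q.IsHomogeneous e → ∀ i,
      eval (x i) q = 0 → eval (pt i).rep q = 0 := by
    intro q e hq i h0
    obtain ⟨c, hc⟩ := hrep i
    rw [hc, Groth.Agent.Lib.Lead.LineP.eval_smul_hom hq, h0, mul_zero]
  have h := card_le n m f g hf hg hn hm hfg (Finset.univ.image pt)
    (by
      intro z hz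
      obtain ⟨i, -, rfl⟩ := Finset.mem_image.mp hz
      exact hev f n hf i (hxf i))
    (by
      intro z hz
      obtain ⟨i, -, rfl⟩ := Finset.mem_image.mp hz
      exact hev g m hg i (hxg i))
  rwa [Finset.card_image_of_injective _ hinj, Finset.card_univ] at h

end Groth.Agent.Lib.Lead.BezoutPts
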