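import Mathlib
import Groth.Agent.Lib.Lead.BezoutPts

/-!
# Weak Bezout with multiplicity two at singular points

If `f`, `g` are coprime forms of degrees `n`, `m ≥ 1` in three variables and `Z` is a finite set of
common zeros at which `f` is singular, then `2 * |Z| ≤ n * m`.
-/

namespace Groth.Agent.Lib.Lead.BezoutPts

open MvPolynomial Module Groth.Agent.Lib.Helper22.Bezout Groth.Agent.Lib.Helper22.GrSamuel
open Groth.Agent.Lib.Lead.SepN Groth.Agent.Lib.Lead.LineP

universe u
variable {k : Type u} [Field k]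

section Lfun
variable {σ : Type*} [Fintype σ] [DecidableEq σ]

theorem Lfun_mul (a b : MvPolynomial σ k) (p v : σ → k) :
    Lfun (a * b) p v = eval p a * Lfun b p v + eval p b * Lfun a p v := by
  rw [Lfun_apply, Lfun_apply, Lfun_apply, Finset.mul_sum, Finset.mul_sum, ← Finset.sum_add_distrib]
  refine Finset.sum_congr rfl (fun i _ => ?_)
  rw [Derivation.leibniz, map_add, smul_eq_mul, smul_eq_mul, map_mul, map_mul]
  ring

theorem Lfun_add (a b : MvPolynomial σ k) (p v : σ → k) :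
    Lfun (a + b) p v = Lfun a p v + Lfun b p v := by
  rw [Lfun_apply, Lfun_apply, Lfun_apply, ← Finset.sum_add_distrib]
  refine Finset.sum_congr rfl (fun i _ => ?_)
  rw [map_add, map_add]
  ring

theorem Lfun_smul (c : k) (a : MvPolynomial σ k) (p v : σ → k) :
    Lfun (c • a) p v = c * Lfun a p v := by
  rw [Lfun_apply, Lfun_apply, Finset.mul_sum]
  refine Finset.sum_congr rfl (fun i _ => ?_)
  rw [Derivation.map_smul, smul_eval]
  ring

theorem Lfun_zero (p v : σ → k) : Lfun (0 : MvPolynomial σ k) p v = 0 := by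
  rw [Lfun_apply]
  simp

theorem Lfun_sum {ι : Type*} (s : Finset ι) (a : ι → MvPolynomial σ k) (p v : σ → k) :
    Lfun (∑ i ∈ s, a i) p v = ∑ i ∈ s, Lfun (a i) p v := by
  classical
  induction s using Finset.induction_on with
  | empty => simp [Lfun_zero]
  | insert i s hi ih => rw [Finset.sum_insert hi, Finset.sum_insert hi, Lfun_add, ih]

theorem Lfun_lin (μ : (σ → k) →ₗ[k] k) (p v : σ → k) : Lfun (lin μ) p v = μ v := by
  rw [Lfun_apply, LinearMap.pi_apply_eq_sum_univ μ v]
  refine Finset.sum_congr rfl (fun i _ => ?_)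
  have h : pderiv i (lin μ) = C (μ (fun j' => if i = j' then 1 else 0)) := by
    rw [lin, map_sum, Finset.sum_eq_single i]
    · rw [pderiv_C_mul, pderiv_X_self, mul_one]
    · intro j _ hji
      rw [pderiv_C_mul, pderiv_X_of_ne hji, mul_zero]
    · intro h
      exact absurd (Finset.mem_univ i) h
  rw [h, eval_C, smul_eq_mul, mul_comm]

/-- a linear functional with prescribed values on two independent vectors. -/
theorem exists_dual_pair {V : Type*} [AddCommGroup V] [Module k V] {z v : V} (hz : z ≠ 0)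
    (hv : v ∉ Submodule.span k {z}) (a b : k) : ∃ μ : V →ₗ[k] k, μ z = a ∧ μ v = b := by
  obtain ⟨φ, hφv, hφz⟩ := Submodule.exists_le_ker_of_notMem hv
  have hφz0 : φ z = 0 := LinearMap.mem_ker.1 (hφz (Submodule.mem_span_singleton_self z))
  have hzv : z ∉ Submodule.span k {v} := by
    intro h
    rw [Submodule.mem_span_singleton] at h
    obtain ⟨c, hc⟩ := h
    have hc0 : c ≠ 0 := by
      rintro rfl
      rw [zero_smul] at hc
      exact hz hc.symm
    apply hv
    rw [Submodule.mem_span_singleton]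
    refine ⟨c⁻¹, ?_⟩
    rw [← hc, smul_smul, inv_mul_cancel₀ hc0, one_smul]
  obtain ⟨ψ, hψz, hψv⟩ := Submodule.exists_le_ker_of_notMem hzv
  have hψv0 : ψ v = 0 := LinearMap.mem_ker.1 (hψv (Submodule.mem_span_singleton_self v))
  refine ⟨(a / ψ z) • ψ + (b / φ v) • φ, ?_, ?_⟩
  · rw [LinearMap.add_apply, LinearMap.smul_apply, LinearMap.smul_apply, hφz0, smul_eq_mul,
      smul_eq_mul, mul_zero, add_zero, div_mul_cancel₀ _ hψz]
  · rw [LinearMap.add_apply, LinearMap.smul_apply, LinearMap.smul_apply, hψv0, smul_eq_mul,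
      smul_eq_mul, mul_zero, zero_add, div_mul_cancel₀ _ hφv]

end Lfun

theorem two_mul_card_le (n m : ℕ) (f g : MvPolynomial (Fin 3) k) (hf : f.IsHomogeneous n)
    (hg : g.IsHomogeneous m) (hn : 0 < n) (hm : 0 < m) (hfg : IsRelPrime f g)
    (Z : Finset (Projectivization k (Fin 3 → k)))
    (hZf : ∀ z ∈ Z, eval z.rep f = 0)
    (hZdf : ∀ z ∈ Z, ∀ i, eval z.rep (pderiv i f) = 0)
    (hZg : ∀ z ∈ Z, eval z.rep g = 0) : 2 * Z.card ≤ n * m := by
  classical
  set I : Ideal (PR k 3) := Ideal.span ({f, g} : Set (PR k 3)) with hI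
  set F : Fin 2 → PR k 3 := ![f, g] with hF
  set d : Fin 2 → ℕ := ![n, m] with hd
  have hrange : Ideal.span (Set.range F) = I := by
    rw [hI, hF]
    congr 1
    ext x
    simp [eq_comm]
    exact or_comm
  have hht : ((2 : ℕ) : ℕ∞) ≤ (Ideal.span (Set.range F)).height := by
    rw [hrange]
    exact_mod_cast two_le_height_of_isRelPrime hfg
  have hd1 : ∀ i, 1 ≤ d i := by
    intro i
    fin_cases i
    · exact hn
    · exact hm
  have hFh : ∀ i, (F i).IsHomogeneous (d i) := by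
    intro i
    fin_cases i
    · exact hf
    · exact hg
  obtain ⟨M₀, hM₀⟩ := bezout (n := 2) hd1 hFh hht
  have hprod : ∏ i : Fin 2, d i = n * m := by
    rw [Fin.prod_univ_two]; rfl
  obtain ⟨M, hMdef⟩ : ∃ M, M = max M₀ (2 * Z.card + 1) := ⟨_, rfl⟩
  have hM1 : M₀ ≤ M := by rw [hMdef]; exact le_max_left _ _
  have hM2 : 2 * Z.card + 1 ≤ M := by rw [hMdef]; exact le_max_right _ _
  have hMM := hM₀ M hM1
  rw [hrange, hprod] at hMM
  obtain ⟨P, hP⟩ : ∃ P, P = n * m := ⟨_, rfl⟩
  rw [← hP] at hMM ⊢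
  have hMM' : Module.finrank k ↥(homogeneousSubmodule (Fin 3) k M) -
      Module.finrank k ↥(piece (N := 3) I M) = P := hMM
  have hVle : Module.finrank k ↥(piece (N := 3) I M) ≤
      Module.finrank k ↥(homogeneousSubmodule (Fin 3) k M) := finrank_piece_le I M
  -- tangent directions
  have hv : ∀ z : ↥Z, ∃ v : Fin 3 → k, Lfun g z.1.rep v = 0 ∧
      v ∉ Submodule.span k {z.1.rep} := by
    intro z
    by_contra hcon
    push Not at hcon
    have hle : LinearMap.ker (Lfun g z.1.rep) ≤ Submodule.span k {z.1.rep} :=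
      fun v hv => hcon v (LinearMap.mem_ker.1 hv)
    have h1 : Module.finrank k ↥(LinearMap.ker (Lfun g z.1.rep)) ≤ 1 := by
      have h0 := Submodule.finrank_mono hle
      rw [finrank_span_singleton z.1.rep_nonzero] at h0
      exact h0
    have h2 := LinearMap.finrank_range_add_finrank_ker (Lfun g z.1.rep)
    have h3 : Module.finrank k ↥(LinearMap.range (Lfun g z.1.rep)) ≤ 1 := by
      have h0 := Submodule.finrank_le (LinearMap.range (Lfun g z.1.rep))
      rw [Module.finrank_self] at h0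
      exact h0
    rw [Module.finrank_fintype_fun_eq_card, Fintype.card_fin] at h2
    omega
  choose v hv0 hvn using hv
  -- the jet map
  let E : ↥Z → MvPolynomial (Fin 3) k →ₗ[k] k := fun z =>
    (MvPolynomial.aeval (R := k) z.1.rep).toLinearMap
  have E_apply : ∀ (z : ↥Z) (h : MvPolynomial (Fin 3) k), E z h = eval z.1.rep h := fun z h => rfl
  let D : ↥Z → MvPolynomial (Fin 3) k →ₗ[k] k := fun z =>
    { toFun := fun h => Lfun h z.1.rep (v z)
      map_add' := fun a b => Lfun_add a b _ _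
      map_smul' := fun c a => by rw [Lfun_smul]; rfl }
  have D_apply : ∀ (z : ↥Z) (h : MvPolynomial (Fin 3) k), D z h = Lfun h z.1.rep (v z) :=
    fun z h => rfl
  let Φ : MvPolynomial (Fin 3) k →ₗ[k] (↥Z → k × k) :=
    LinearMap.pi fun z => (E z).prod (D z)
  have Φ_apply : ∀ (h : MvPolynomial (Fin 3) k) (z : ↥Z),
      Φ h z = (eval z.1.rep h, Lfun h z.1.rep (v z)) := fun h z => rfl
  let φ : ↥(homogeneousSubmodule (Fin 3) k M) →ₗ[k] (↥Z → k × k) :=
    Φ ∘ₗ (homogeneousSubmodule (Fin 3) k M).subtype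
  have φ_apply : ∀ (p : ↥(homogeneousSubmodule (Fin 3) k M)) (z : ↥Z),
      φ p z = (eval z.1.rep p.1, Lfun p.1 z.1.rep (v z)) := fun p z => rfl
  -- local solutions
  have hloc : ∀ (t : ↥Z → k × k) (z : ↥Z), ∃ H : MvPolynomial (Fin 3) k, H.IsHomogeneous M ∧
      (∀ w : ↥Z, w ≠ z → eval w.1.rep H = 0 ∧ Lfun H w.1.rep (v w) = 0) ∧
      eval z.1.rep H = (t z).1 ∧ Lfun H z.1.rep (v z) = (t z).2 := by
    intro t z
    obtain ⟨q, hq, hqS, hqz⟩ := sep_finset z.1 (Z.erase z.1) (Finset.notMem_erase _ _)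
    obtain ⟨e, he⟩ : ∃ e, e = (Z.erase z.1).card := ⟨_, rfl⟩
    rw [← he] at hq
    have hecard : e + 1 = Z.card := by rw [he]; exact Finset.card_erase_add_one z.2
    obtain ⟨i0, hi0⟩ := exists_coord z.1
    obtain ⟨r, hr⟩ : ∃ r : MvPolynomial (Fin 3) k, r = X i0 ^ (M - 1 - 2 * e) := ⟨_, rfl⟩
    have hrh : r.IsHomogeneous (M - 1 - 2 * e) := by rw [hr]; exact isHom_X_pow i0 _
    have hrz : eval z.1.rep r ≠ 0 := by
      rw [hr, map_pow, eval_X]
      exact pow_ne_zero _ hi0
    obtain ⟨qz, hqz'⟩ : ∃ qz, qz = eval z.1.rep q := ⟨_, rfl⟩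
    obtain ⟨rz, hrz'⟩ : ∃ rz, rz = eval z.1.rep r := ⟨_, rfl⟩
    obtain ⟨Lq, hLq⟩ : ∃ Lq, Lq = Lfun q z.1.rep (v z) := ⟨_, rfl⟩
    obtain ⟨Lr, hLr⟩ : ∃ Lr, Lr = Lfun r z.1.rep (v z) := ⟨_, rfl⟩
    rw [← hqz'] at hqz
    rw [← hrz'] at hrz
    obtain ⟨a, ha⟩ : ∃ a, a = (t z).1 / (qz ^ 2 * rz) := ⟨_, rfl⟩
    obtain ⟨b, hb⟩ : ∃ b, b = ((t z).2 - a * (qz ^ 2 * Lr + 2 * qz * rz * Lq)) / (qz ^ 2 * rz) :=
      ⟨_, rfl⟩
    obtain ⟨μ, hμz, hμv⟩ := exists_dual_pair z.1.rep_nonzero (hvn z) a b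
    have hden : qz ^ 2 * rz ≠ 0 := mul_ne_zero (pow_ne_zero 2 hqz) hrz
    refine ⟨q * (q * (r * lin μ)), ?_, ?_, ?_, ?_⟩
    · have h1 := hq.mul (hq.mul (hrh.mul (lin_isHomogeneous μ)))
      have h2 : e + (e + (M - 1 - 2 * e + 1)) = M := by omega
      rw [h2] at h1
      exact h1
    · intro w hw
      have hwS : w.1 ∈ Z.erase z.1 :=
        Finset.mem_erase.mpr ⟨fun h => hw (Subtype.ext h), w.2⟩
      have hq0 : eval w.1.rep q = 0 := hqS w.1 hwS
      constructor
      · rw [map_mul, hq0, zero_mul]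
      · rw [Lfun_mul, hq0, zero_mul, zero_add, map_mul, hq0, zero_mul, zero_mul]
    · rw [map_mul, map_mul, map_mul, eval_lin, ← hqz', ← hrz', hμz, ha]
      field_simp
    · simp only [Lfun_mul, Lfun_lin, map_mul, eval_lin]
      rw [← hqz', ← hrz', ← hLq, ← hLr, hμz, hμv, hb]
      field_simp
      ring
  have hsurj : LinearMap.range φ = ⊤ := by
    rw [LinearMap.range_eq_top]
    intro t
    choose H hH1 hH2 hH3 hH4 using hloc t
    refine ⟨⟨∑ z : ↥Z, H z, ?_⟩, ?_⟩
    · exact Submodule.sum_mem _ (fun z _ => (mem_homogeneousSubmodule _ _).mpr (hH1 z))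
    · funext w
      rw [φ_apply]
      show (eval w.1.rep (∑ z : ↥Z, H z), Lfun (∑ z : ↥Z, H z) w.1.rep (v w)) = t w
      rw [map_sum, Lfun_sum]
      rw [Finset.sum_eq_single w (fun z _ hz => (hH2 z w (Ne.symm hz)).1)
        (fun h => absurd (Finset.mem_univ w) h)]
      rw [Finset.sum_eq_single w (fun z _ hz => (hH2 z w (Ne.symm hz)).2)
        (fun h => absurd (Finset.mem_univ w) h)]
      rw [hH3 w, hH4 w]
  have hrank : Module.finrank k (LinearMap.range φ) = Z.card * 2 := by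
    rw [hsurj, finrank_top, Module.finrank_pi_fintype]
    simp only [Module.finrank_prod, Module.finrank_self, Finset.sum_const, Finset.card_univ,
      Fintype.card_coe, smul_eq_mul]
  have hrn := LinearMap.finrank_range_add_finrank_ker φ
  have hker : ∀ (w : ↥Z) (h : MvPolynomial (Fin 3) k), h ∈ I →
      eval w.1.rep h = 0 ∧ Lfun h w.1.rep (v w) = 0 := by
    intro w h hh
    rw [hI, Ideal.mem_span_pair] at hh
    obtain ⟨a, b, rfl⟩ := hh
    have hf0 := hZf w.1 w.2
    have hg0 := hZg w.1 w.2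
    have hLf : Lfun f w.1.rep (v w) = 0 := by
      rw [Lfun_apply]
      exact Finset.sum_eq_zero (fun i _ => by rw [hZdf w.1 w.2 i, zero_mul])
    constructor
    · rw [map_add, map_mul, map_mul, hf0, hg0, mul_zero, mul_zero, add_zero]
    · rw [Lfun_add, Lfun_mul, Lfun_mul, hf0, hg0, hLf, hv0 w]
      ring
  have hle : Module.finrank k ↥(piece (N := 3) I M) ≤ Module.finrank k (LinearMap.ker φ) := by
    let j : ↥(piece I M) →ₗ[k] ↥(LinearMap.ker φ) :=
      LinearMap.codRestrict (LinearMap.ker φ)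
        (LinearMap.codRestrict (homogeneousSubmodule (Fin 3) k M) (piece I M).subtype
          (fun x => (Submodule.mem_inf.mp x.2).2)) (by
        intro x
        rw [LinearMap.mem_ker]
        funext w
        rw [φ_apply]
        have h0 := hker w x.1 (Submodule.mem_inf.mp x.2).1
        show (eval w.1.rep x.1, Lfun x.1 w.1.rep (v w)) = 0
        rw [h0.1, h0.2]
        rfl)
    have hinj : Function.Injective j := by
      intro x y hxy
      apply Subtype.ext
      have h1 := congrArg (fun t : ↥(LinearMap.ker φ) => ((t : ↥(homogeneousSubmodule (Fin 3) k M)) :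
        MvPolynomial (Fin 3) k)) hxy
      exact h1
    exact LinearMap.finrank_le_finrank_of_injective hinj
  clear hMM
  omega

end Groth.Agent.Lib.Lead.BezoutPts
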