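/-
LG-rings and Azumaya algebras, part 1: a local-global principle for split surjections of
`A`-modules over an LG-ring (`A` any `R`-algebra). (lead)
-/
import Groth.Agent.Lib.Helper25.SameRank
import Mathlib

set_option autoImplicit false

namespace Groth.Agent.Lib.Lead.LGAz

open MvPolynomial Matrix Groth.Agent.Lib.Helper25

universe u v w w'

section trans

/-- Projectivity is transitive along a (noncommutative) algebra which is projective as a module. -/
theorem projective_trans (R : Type u) [CommRing R] {A : Type v} [Ring A] [Algebra R A]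
    (P : Type w) [AddCommGroup P] [Module R P] [Module A P] [IsScalarTower R A P]
    [Module.Projective R A] [Module.Projective A P] : Module.Projective R P := by
  classical
  obtain ⟨s, hs⟩ := (Module.projective_def' (R := A) (P := P)).1 inferInstance
  haveI : Module.Projective R (P →₀ A) :=
    Module.Projective.of_equiv' (finsuppLequivDFinsupp (ι := P) (M := A) R).symm
  exact Module.Projective.of_split (R := R) (M := P →₀ A) (s.restrictScalars R)
    ((Finsupp.linearCombination A (id : P → P)).restrictScalars R)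
    (by
      ext x
      exact congrArg (fun f => f x) hs)

/-- `Hom_A(M, N)` is a finite `R`-module when `M` is finite projective over `A` and `N` is finite
over `R`. -/
theorem finite_hom (R : Type u) [CommRing R] {A : Type v} [Ring A] [Algebra R A]
    (M : Type w) (N : Type w') [AddCommGroup M] [Module A M] [Module R M] [IsScalarTower R A M]
    [AddCommGroup N] [Module A N] [Module R N] [IsScalarTower R A N]
    [Module.Finite A M] [Module.Projective A M] [Module.Finite R N] :
    Module.Finite R (M →ₗ[A] N) := by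
  classical
  obtain ⟨n, π, ι, -, -, hπι⟩ := Module.Finite.exists_comp_eq_id_of_projective A M
  let Φ : (Fin n → N) →ₗ[R] (M →ₗ[A] N) :=
    { toFun := fun w => ∑ k, (LinearMap.toSpanSingleton A N (w k)) ∘ₗ (LinearMap.proj k) ∘ₗ ι
      map_add' := fun w w' => by
        ext x
        simp [Finset.sum_add_distrib]
      map_smul' := fun r w => by
        ext x
        simp only [LinearMap.sum_apply, LinearMap.comp_apply, LinearMap.proj_apply,
          LinearMap.toSpanSingleton_apply, Pi.smul_apply, RingHom.id_apply, LinearMap.smul_apply,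
          Finset.smul_sum]
        refine Finset.sum_congr rfl fun k _ => ?_
        rw [smul_comm] }
  refine Module.Finite.of_surjective Φ (fun f => ⟨fun k => f (π (Pi.single k 1)), ?_⟩)
  ext x
  have h1 : π (ι x) = x := LinearMap.congr_fun hπι x
  have h2 : ι x = ∑ k, (ι x k) • (Pi.single k 1 : Fin n → A) := by
    conv_lhs => rw [pi_eq_sum_univ' (ι x)]
  simp only [Φ, LinearMap.coe_mk, AddHom.coe_mk, LinearMap.sum_apply, LinearMap.comp_apply,
    LinearMap.proj_apply, LinearMap.toSpanSingleton_apply]
  conv_rhs => rw [← h1, h2]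
  simp only [map_sum, map_smul]

end trans

section poly

variable {R : Type u} [CommRing R]

/-- The variables. -/
abbrev Vars (p q : ℕ) : Type := Fin p ⊕ Fin q

/-- The polynomial matrix `∑ xᵢ yⱼ Cᵢⱼ + (1 - e)`. -/
noncomputable def polyMat {b p q : ℕ} (e : Matrix (Fin b) (Fin b) R)
    (Cm : Fin p → Fin q → Matrix (Fin b) (Fin b) R) :
    Matrix (Fin b) (Fin b) (MvPolynomial (Vars p q) R) :=
  (∑ i, ∑ j, ((X (Sum.inl i) * X (Sum.inr j) : MvPolynomial (Vars p q) R)) •
    (Cm i j).map (C : R →+* MvPolynomial (Vars p q) R)) +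
    (1 - e.map (C : R →+* MvPolynomial (Vars p q) R))

theorem eval₂_det_polyMat {S : Type*} [CommRing S] (φ : R →+* S) {b p q : ℕ}
    (e : Matrix (Fin b) (Fin b) R) (Cm : Fin p → Fin q → Matrix (Fin b) (Fin b) R)
    (s : Vars p q → S) :
    eval₂ φ s (polyMat e Cm).det =
      ((∑ i, ∑ j, (s (Sum.inl i) * s (Sum.inr j)) • (Cm i j).map φ) + (1 - e.map φ)).det := by
  change eval₂Hom φ s _ = _
  rw [RingHom.map_det]
  congr 1
  ext k l
  simp [polyMat, Matrix.sum_apply, Matrix.one_apply, apply_ite]

end poly

section L1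

variable {R : Type u} [CommRing R]

/-- **Local-global principle for split surjections.** Over an LG-ring `R`, let `M`, `N` be modules
over an `R`-algebra `A`, with `N` finite projective over `R` and the Hom modules finite over `R`.
If for every maximal ideal `m` there are `A`-linear `f : M → N`, `g : N → M` with `f g ≡ 1` modulo
`m`, then there are such `f`, `g` with `f g` bijective. -/
theorem exists_bijective_comp (hR : LGRing.IsLGRing R) {A : Type v} [Ring A] [Algebra R A]
    (M : Type w) (N : Type w') [AddCommGroup M] [Module A M] [Module R M] [IsScalarTower R A M]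
    [AddCommGroup N] [Module A N] [Module R N] [IsScalarTower R A N]
    [Module.Finite R N] [Module.Projective R N]
    [Module.Finite R (M →ₗ[A] N)] [Module.Finite R (N →ₗ[A] M)]
    (h : ∀ (m : Ideal R) [m.IsMaximal], ∃ (f : M →ₗ[A] N) (g : N →ₗ[A] M),
      ∀ n, f (g n) - n ∈ (m • ⊤ : Submodule R N)) :
    ∃ (f : M →ₗ[A] N) (g : N →ₗ[A] M), Function.Bijective (f ∘ₗ g) := by
  classical
  obtain ⟨b, π, ι, -, -, hπι⟩ := Module.Finite.exists_comp_eq_id_of_projective R N
  obtain ⟨p, F, hF⟩ := Module.Finite.exists_fin (R := R) (M := M →ₗ[A] N)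
  obtain ⟨q, G, hG⟩ := Module.Finite.exists_fin (R := R) (M := N →ₗ[A] M)
  let e : Matrix (Fin b) (Fin b) R := LinearMap.toMatrix' (ι ∘ₗ π)
  let Cm : Fin p → Fin q → Matrix (Fin b) (Fin b) R := fun i j =>
    LinearMap.toMatrix' (ι ∘ₗ ((F i ∘ₗ G j).restrictScalars R) ∘ₗ π)
  have hcomb : ∀ (x : Fin p → R) (y : Fin q → R),
      LinearMap.toMatrix'
        (ι ∘ₗ (((∑ i, x i • F i) ∘ₗ (∑ j, y j • G j)).restrictScalars R) ∘ₗ π) =
        ∑ i, ∑ j, (x i * y j) • Cm i j := by
    intro x y
    have h1 : ι ∘ₗ (((∑ i, x i • F i) ∘ₗ (∑ j, y j • G j)).restrictScalars R) ∘ₗ π =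
        ∑ i, ∑ j, (x i * y j) • (ι ∘ₗ ((F i ∘ₗ G j).restrictScalars R) ∘ₗ π) := by
      refine LinearMap.ext fun v => ?_
      simp only [LinearMap.comp_apply, LinearMap.restrictScalars_apply, LinearMap.sum_apply,
        LinearMap.smul_apply, map_sum, map_smul, LinearMap.map_smul_of_tower, Finset.smul_sum,
        mul_smul]
      exact Finset.sum_comm
    rw [h1, map_sum]
    refine Finset.sum_congr rfl fun i _ => ?_
    rw [map_sum]
    refine Finset.sum_congr rfl fun j _ => ?_
    rw [map_smul]
  have key : ∀ (m : Ideal R) [m.IsMaximal], ∃ s : Vars p q → R ⧸ m,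
      eval₂ (Ideal.Quotient.mk m) s (polyMat e Cm).det ≠ 0 := by
    intro m _
    obtain ⟨f₀, g₀, h₀⟩ := h m
    obtain ⟨x, hx⟩ := (Submodule.mem_span_range_iff_exists_fun R).1
      (show f₀ ∈ Submodule.span R (Set.range F) by rw [hF]; trivial)
    obtain ⟨y, hy⟩ := (Submodule.mem_span_range_iff_exists_fun R).1
      (show g₀ ∈ Submodule.span R (Set.range G) by rw [hG]; trivial)
    have hι : ∀ n ∈ (m • ⊤ : Submodule R N), ∀ k, ι n k ∈ m := by
      intro n hn k
      refine Submodule.smul_induction_on hn (fun r hr n' _ => ?_) (fun a b ha hb => ?_)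
      · rw [map_smul, Pi.smul_apply, smul_eq_mul]
        exact m.mul_mem_right _ hr
      · rw [map_add, Pi.add_apply]
        exact m.add_mem ha hb
    refine ⟨Sum.elim (fun i => Ideal.Quotient.mk m (x i)) (fun j => Ideal.Quotient.mk m (y j)), ?_⟩
    rw [eval₂_det_polyMat]
    simp only [Sum.elim_inl, Sum.elim_inr]
    have hmat : ((∑ i, ∑ j, (Ideal.Quotient.mk m (x i) * Ideal.Quotient.mk m (y j)) •
        (Cm i j).map (Ideal.Quotient.mk m)) + (1 - e.map (Ideal.Quotient.mk m))) = 1 := by
      ext k l
      have h1 : (∑ i, ∑ j, (x i * y j) • Cm i j) k l - e k l ∈ m := by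
        rw [← hcomb x y, hx, hy]
        have hmem := hι _ (h₀ (π (Pi.single l 1))) k
        simpa [e, LinearMap.toMatrix'_apply] using hmem
      have h2 := Ideal.Quotient.eq_zero_iff_mem.2 h1
      rw [map_sub, sub_eq_zero] at h2
      simp only [Matrix.sum_apply, Matrix.smul_apply, smul_eq_mul, map_sum, map_mul] at h2
      simp only [Matrix.add_apply, Matrix.sum_apply, Matrix.smul_apply, Matrix.map_apply,
        Matrix.sub_apply, smul_eq_mul]
      rw [h2]
      ring
    rw [hmat, det_one]
    exact one_ne_zero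
  obtain ⟨s, hs⟩ := exists_isUnit_eval_of_finite hR _ key
  change IsUnit (eval₂ (RingHom.id R) s _) at hs
  rw [eval₂_det_polyMat] at hs
  have hid : ∀ (Z : Matrix (Fin b) (Fin b) R), Z.map (RingHom.id R) = Z := by
    intro Z; ext; simp
  simp only [hid] at hs
  refine ⟨∑ i, s (Sum.inl i) • F i, ∑ j, s (Sum.inr j) • G j, ?_⟩
  have := bijective_of_isUnit_det ι π hπι
    (((∑ i, s (Sum.inl i) • F i) ∘ₗ (∑ j, s (Sum.inr j) • G j)).restrictScalars R)
    (by rw [hcomb]; exact hs)
  exact this

end L1

end Groth.Agent.Lib.Lead.LGAz
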