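/-
LG-rings and Azumaya algebras, part 2: modules over an Azumaya algebra modulo a maximal ideal, the
local splitting, and the main theorems (surjections and isomorphisms of finite projective modules
over an Azumaya algebra over an LG-ring). (lead)
-/
import Groth.Agent.Lib.Lead.LGAz1
import Groth.Agent.Lib.Lead.AzumayaFibre2

set_option autoImplicit false

namespace Groth.Agent.Lib.Lead.LGAz

open TensorProduct Groth.Agent.Lib.Helper25

universe u v w

section residue

variable {R : Type u} [CommRing R] (m : Ideal R) (A : Type v) [Ring A] [Algebra R A]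

/-- `A → (R ⧸ m) ⊗[R] A`. -/
noncomputable def psi : A →+* (R ⧸ m) ⊗[R] A :=
  (Algebra.TensorProduct.includeRight : A →ₐ[R] (R ⧸ m) ⊗[R] A).toRingHom

variable {A}

theorem psi_apply (a : A) : psi m A a = (1 : R ⧸ m) ⊗ₜ[R] a := rfl

theorem mk_eq_smul_one (r : R) : (Ideal.Quotient.mk m r) = r • (1 : R ⧸ m) := by
  rw [Algebra.smul_def, mul_one, Ideal.Quotient.algebraMap_eq]

theorem psi_surjective : Function.Surjective (psi m A) := by
  intro t
  induction t using TensorProduct.induction_on with
  | zero => exact ⟨0, map_zero _⟩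
  | tmul c a =>
    obtain ⟨r, rfl⟩ := Ideal.Quotient.mk_surjective c
    refine ⟨r • a, ?_⟩
    rw [psi_apply, mk_eq_smul_one, TensorProduct.smul_tmul]
  | add x y hx hy =>
    obtain ⟨a, rfl⟩ := hx
    obtain ⟨b, rfl⟩ := hy
    exact ⟨a + b, map_add _ _ _⟩

variable (A)

/-- The kernel of `A → (R ⧸ m) ⊗[R] A`. -/
noncomputable def J : Ideal A := RingHom.ker (psi m A)

instance : (J m A).IsTwoSided := inferInstanceAs (RingHom.ker (psi m A)).IsTwoSided

variable {A}

theorem mem_smul_top_of_tmul_eq_zero {X : Type*} [AddCommGroup X] [Module R X] {x : X}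
    (h : (1 : R ⧸ m) ⊗ₜ[R] x = 0) : x ∈ (m • ⊤ : Submodule R X) := by
  have h2 : TensorProduct.quotTensorEquivQuotSMul X m ((1 : R ⧸ m) ⊗ₜ[R] x) = 0 := by
    rw [h, LinearEquiv.map_zero]
  rw [TensorProduct.quotTensorEquivQuotSMul_mk_one_tmul, Submodule.Quotient.mk_eq_zero] at h2
  exact h2

theorem J_le {a : A} (ha : a ∈ J m A) : a ∈ (m • ⊤ : Submodule R A) := by
  have ha' : a ∈ RingHom.ker (psi m A) := ha
  have h0 : psi m A a = 0 := RingHom.mem_ker.1 ha'
  exact mem_smul_top_of_tmul_eq_zero m h0

theorem algebraMap_mem_J {r : R} (hr : r ∈ m) : algebraMap R A r ∈ J m A := by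
  rw [J, RingHom.mem_ker, psi_apply, Algebra.algebraMap_eq_smul_one, ← TensorProduct.smul_tmul,
    ← mk_eq_smul_one, Ideal.Quotient.eq_zero_iff_mem.2 hr, TensorProduct.zero_tmul]

theorem J_smul_top_eq (X : Type*) [AddCommGroup X] [Module A X] [Module R X]
    [IsScalarTower R A X] :
    ((J m A • ⊤ : Submodule A X).restrictScalars R) = (m • ⊤ : Submodule R X) := by
  apply le_antisymm
  · intro x hx
    rw [Submodule.restrictScalars_mem] at hx
    refine Submodule.smul_induction_on hx (fun a ha n _ => ?_) (fun x y hx hy => add_mem hx hy)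
    have ha' := J_le m ha
    refine Submodule.smul_induction_on (p := fun a => a • n ∈ (m • ⊤ : Submodule R X)) ha'
      (fun r hr a' _ => ?_) (fun a₁ a₂ h₁ h₂ => ?_)
    · rw [smul_assoc]
      exact Submodule.smul_mem_smul hr trivial
    · rw [add_smul]
      exact add_mem h₁ h₂
  · intro x hx
    rw [Submodule.restrictScalars_mem]
    refine Submodule.smul_induction_on hx (fun r hr n _ => ?_) (fun x y hx hy => add_mem hx hy)
    rw [← algebraMap_smul A r n]
    exact Submodule.smul_mem_smul (algebraMap_mem_J m hr) trivial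

variable (A)

/-- `A ⧸ J ≃ (R ⧸ m) ⊗ A`. -/
noncomputable def abarEquiv : (A ⧸ J m A) ≃+* (R ⧸ m) ⊗[R] A :=
  RingHom.quotientKerEquivOfSurjective (psi_surjective m)

theorem isSimpleRing_abar [m.IsMaximal] [IsAzumaya R A] : IsSimpleRing (A ⧸ J m A) := by
  letI : Field (R ⧸ m) := Ideal.Quotient.field m
  exact IsSimpleRing.of_ringEquiv (abarEquiv m A).symm
    (AzumayaFibre2.csa_of_isAzumaya R A (R ⧸ m)).2

theorem isArtinianRing_abar [m.IsMaximal] [IsAzumaya R A] : IsArtinianRing (A ⧸ J m A) := by
  letI : Field (R ⧸ m) := Ideal.Quotient.field m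
  haveI : IsArtinianRing ((R ⧸ m) ⊗[R] A) := IsArtinianRing.of_finite (R ⧸ m) _
  exact (abarEquiv m A).symm.isArtinianRing

/-- `M ⧸ J M`. -/
abbrev Mbar (M : Type w) [AddCommGroup M] [Module A M] : Type w :=
  M ⧸ (J m A • ⊤ : Submodule A M)

variable {A}

theorem length_mbar [hm : m.IsMaximal] (M : Type w) [AddCommGroup M] [Module A M] [Module R M]
    [IsScalarTower R A M] [Module.Finite R M] [Module.Flat R M] :
    Module.length R (Mbar m A M) = Module.rankAtStalk M ⟨m, hm.isPrime⟩ := by
  letI : Field (R ⧸ m) := Ideal.Quotient.field m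
  have e1 : Mbar m A M ≃ₗ[R] (R ⧸ m) ⊗[R] M :=
    ((Submodule.Quotient.restrictScalarsEquiv R (J m A • ⊤ : Submodule A M)).symm.trans
      (Submodule.quotEquivOfEq _ _ (J_smul_top_eq m M))).trans
      (TensorProduct.quotTensorEquivQuotSMul M m).symm
  rw [e1.length_eq, Module.length_eq_of_surjective (S := R) (R := R ⧸ m)
    Ideal.Quotient.mk_surjective, Module.length_eq_finrank,
    finrank_quotient_tensor_eq_rankAtStalk]

end residue

section L2

variable {R : Type u} [CommRing R] (m : Ideal R) {A : Type v} [Ring A] [Algebra R A]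

/-- The local splitting: modulo a maximal ideal, a finite projective module over an Azumaya algebra
of larger rank maps onto one of smaller rank, with a section. -/
theorem exists_local_split [hm : m.IsMaximal] [IsAzumaya R A] (M N : Type w)
    [AddCommGroup M] [Module A M] [Module R M] [IsScalarTower R A M] [Module.Finite A M]
    [Module.Projective A M]
    [AddCommGroup N] [Module A N] [Module R N] [IsScalarTower R A N] [Module.Finite A N]
    [Module.Projective A N]
    (h : Module.rankAtStalk N ⟨m, hm.isPrime⟩ ≤ Module.rankAtStalk M ⟨m, hm.isPrime⟩) :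
    ∃ (f : M →ₗ[A] N) (g : N →ₗ[A] M), ∀ n, f (g n) - n ∈ (m • ⊤ : Submodule R N) := by
  classical
  haveI : IsSimpleRing (A ⧸ J m A) := isSimpleRing_abar m A
  haveI : IsArtinianRing (A ⧸ J m A) := isArtinianRing_abar m A
  haveI : Module.Finite R M := Module.Finite.trans A M
  haveI : Module.Finite R N := Module.Finite.trans A N
  haveI : Module.Projective R M := projective_trans R (A := A) M
  haveI : Module.Projective R N := projective_trans R (A := A) N
  suffices hs : ∃ (F : Mbar m A M →ₗ[A ⧸ J m A] Mbar m A N)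
      (G : Mbar m A N →ₗ[A ⧸ J m A] Mbar m A M), ∀ x, F (G x) = x by
    obtain ⟨F, G, hFG⟩ := hs
    let F' : Mbar m A M →ₗ[A] Mbar m A N :=
      { toFun := F
        map_add' := F.map_add
        map_smul' := fun a x => F.map_smul (Ideal.Quotient.mk (J m A) a) x }
    let G' : Mbar m A N →ₗ[A] Mbar m A M :=
      { toFun := G
        map_add' := G.map_add
        map_smul' := fun a x => G.map_smul (Ideal.Quotient.mk (J m A) a) x }
    obtain ⟨f, hf⟩ := Module.projective_lifting_property
      (Submodule.mkQ (J m A • ⊤ : Submodule A N))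
      (F' ∘ₗ Submodule.mkQ (J m A • ⊤ : Submodule A M)) (Submodule.mkQ_surjective _)
    obtain ⟨g, hg⟩ := Module.projective_lifting_property
      (Submodule.mkQ (J m A • ⊤ : Submodule A M))
      (G' ∘ₗ Submodule.mkQ (J m A • ⊤ : Submodule A N)) (Submodule.mkQ_surjective _)
    refine ⟨f, g, fun n => ?_⟩
    have h1 : Submodule.mkQ (J m A • ⊤ : Submodule A N) (f (g n) - n) = 0 := by
      rw [map_sub, sub_eq_zero]
      have e1 := LinearMap.congr_fun hf (g n)
      have e2 := LinearMap.congr_fun hg n
      simp only [LinearMap.comp_apply] at e1 e2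
      rw [e1, e2]
      exact hFG _
    rw [Submodule.mkQ_apply, Submodule.Quotient.mk_eq_zero] at h1
    rw [← J_smul_top_eq (A := A) m N]
    exact h1
  by_cases hN : Subsingleton (Mbar m A N)
  · exact ⟨0, 0, fun x => Subsingleton.elim _ _⟩
  rw [not_subsingleton_iff_nontrivial] at hN
  obtain ⟨S, hS⟩ := IsAtomic.exists_atom (Submodule (A ⧸ J m A) (Mbar m A M × Mbar m A N))
  haveI : IsSimpleModule (A ⧸ J m A) S := isSimpleModule_iff_isAtom.mpr hS
  have hW : IsIsotypicOfType (A ⧸ J m A) (Mbar m A M × Mbar m A N) S :=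
    IsSimpleRing.isIsotypic (A ⧸ J m A) (Mbar m A M × Mbar m A N) S
  have hM' : IsIsotypicOfType (A ⧸ J m A) (Mbar m A M) S :=
    hW.of_injective (LinearMap.inl _ _ _) LinearMap.inl_injective
  have hN' : IsIsotypicOfType (A ⧸ J m A) (Mbar m A N) S :=
    hW.of_injective (LinearMap.inr _ _ _) LinearMap.inr_injective
  haveI : Module.Finite (A ⧸ J m A) (Mbar m A M) := Module.Finite.of_restrictScalars_finite A _ _
  haveI : Module.Finite (A ⧸ J m A) (Mbar m A N) := Module.Finite.of_restrictScalars_finite A _ _
  obtain ⟨a, ⟨eM⟩⟩ := hM'.linearEquiv_fun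
  obtain ⟨b, ⟨eN⟩⟩ := hN'.linearEquiv_fun
  have hba : b ≤ a := by
    have lM : Module.length R (Mbar m A M) = Module.rankAtStalk M ⟨m, hm.isPrime⟩ :=
      length_mbar m M
    have lN : Module.length R (Mbar m A N) = Module.rankAtStalk N ⟨m, hm.isPrime⟩ :=
      length_mbar m N
    have lM' : Module.length R (Mbar m A M) = a * Module.length R S := by
      rw [(eM.restrictScalars R).length_eq, Module.length_pi]
      simp
    have lN' : Module.length R (Mbar m A N) = b * Module.length R S := by
      rw [(eN.restrictScalars R).length_eq, Module.length_pi]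
      simp
    have hpos : Module.length R S ≠ 0 := by
      haveI := IsSimpleModule.nontrivial (A ⧸ J m A) S
      rw [Ne, Module.length_eq_zero_iff]
      exact not_subsingleton S
    rw [lM] at lM'
    rw [lN] at lN'
    by_cases htop : Module.length R S = ⊤
    · rw [htop] at lM' lN'
      have ha0 : a = 0 := by
        by_contra h0
        rw [ENat.mul_top (by exact_mod_cast h0)] at lM'
        exact ENat.coe_ne_top _ lM'
      have hb0 : b = 0 := by
        by_contra h0
        rw [ENat.mul_top (by exact_mod_cast h0)] at lN'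
        exact ENat.coe_ne_top _ lN'
      omega
    · obtain ⟨d, hd⟩ := ENat.ne_top_iff_exists.1 htop
      rw [← hd] at lM' lN' hpos
      have hd0 : d ≠ 0 := by
        intro h0
        apply hpos
        rw [h0]
        rfl
      have e1 : Module.rankAtStalk M ⟨m, hm.isPrime⟩ = a * d := by exact_mod_cast lM'
      have e2 : Module.rankAtStalk N ⟨m, hm.isPrime⟩ = b * d := by exact_mod_cast lN'
      rw [e1, e2] at h
      exact Nat.le_of_mul_le_mul_right h (Nat.pos_of_ne_zero hd0)
  let pr : (Fin a → S) →ₗ[A ⧸ J m A] (Fin b → S) := LinearMap.funLeft _ _ (Fin.castLE hba)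
  let ex : (Fin b → S) →ₗ[A ⧸ J m A] (Fin a → S) :=
    LinearMap.pi fun i => if hi : (i : ℕ) < b then LinearMap.proj ⟨i, hi⟩ else 0
  have hpe : ∀ v, pr (ex v) = v := by
    intro v
    funext j
    simp [pr, ex, LinearMap.funLeft_apply]
  refine ⟨eN.symm.toLinearMap ∘ₗ pr ∘ₗ eM.toLinearMap,
    eM.symm.toLinearMap ∘ₗ ex ∘ₗ eN.toLinearMap, fun x => ?_⟩
  simp [hpe]

end L2

section main

variable {R : Type u} [CommRing R] {A : Type v} [Ring A] [Algebra R A]

/-- Over an LG-ring, a finite projective module over an Azumaya algebra maps onto any finite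
projective module of pointwise smaller `R`-rank. -/
theorem exists_surjective_of_rank_le (hR : LGRing.IsLGRing R) [IsAzumaya R A] (M N : Type w)
    [AddCommGroup M] [Module A M] [Module R M] [IsScalarTower R A M] [Module.Finite A M]
    [Module.Projective A M]
    [AddCommGroup N] [Module A N] [Module R N] [IsScalarTower R A N] [Module.Finite A N]
    [Module.Projective A N]
    (h : ∀ p : PrimeSpectrum R, Module.rankAtStalk N p ≤ Module.rankAtStalk M p) :
    ∃ f : M →ₗ[A] N, Function.Surjective f := by
  haveI : Module.Finite R M := Module.Finite.trans A M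
  haveI : Module.Finite R N := Module.Finite.trans A N
  haveI : Module.Projective R N := projective_trans R (A := A) N
  haveI : Module.Finite R (M →ₗ[A] N) := finite_hom R M N
  haveI : Module.Finite R (N →ₗ[A] M) := finite_hom R N M
  obtain ⟨f, g, hfg⟩ := exists_bijective_comp hR (A := A) M N
    (fun m hm => exists_local_split m M N (h ⟨m, hm.isPrime⟩))
  refine ⟨f, fun n => ?_⟩
  obtain ⟨n', hn'⟩ := hfg.2 n
  exact ⟨g n', hn'⟩

/-- Over an LG-ring, finite projective modules over an Azumaya algebra with the same `R`-rank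
function are isomorphic. -/
theorem nonempty_linearEquiv_of_rank_eq (hR : LGRing.IsLGRing R) [IsAzumaya R A] (M N : Type w)
    [AddCommGroup M] [Module A M] [Module R M] [IsScalarTower R A M] [Module.Finite A M]
    [Module.Projective A M]
    [AddCommGroup N] [Module A N] [Module R N] [IsScalarTower R A N] [Module.Finite A N]
    [Module.Projective A N]
    (h : ∀ p : PrimeSpectrum R, Module.rankAtStalk M p = Module.rankAtStalk N p) :
    Nonempty (M ≃ₗ[A] N) := by
  haveI : Module.Finite R M := Module.Finite.trans A M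
  haveI : Module.Finite R N := Module.Finite.trans A N
  haveI : Module.Projective R M := projective_trans R (A := A) M
  haveI : Module.Projective R N := projective_trans R (A := A) N
  obtain ⟨f, hf⟩ := exists_surjective_of_rank_le hR (A := A) M N (fun p => (h p).ge)
  have hb : Function.Bijective (f.restrictScalars R) :=
    Module.bijective_of_surjective_of_rankAtStalk_eq (φ := f.restrictScalars R) hf
      (fun m _ => h _)
  exact ⟨LinearEquiv.ofBijective f hb⟩

end main

end Groth.Agent.Lib.Lead.LGAz
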