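/-
Lead library: the left ideal `𝔅 s` of an algebra `𝔅` which becomes `M_I(T) · (w wᵀ)` locally.

* `projective_coker`: if `T ⊗ 𝔅 ≅ M_I(T)` maps `1 ⊗ s` to `w wᵀ` with `w i₀ = 1`, then
  `T ⊗ (𝔅 / 𝔅 s)` is projective over `T`;
* `exists_equiv`: in the same situation (`T` flat) `T ⊗ (𝔅 s) ≅ T^I`;
* `finite_projective_rank`: local-global: `𝔅 s` is finite projective of rank `card I`;
* `rankAtStalk_end`: rank of `End_R(E)`;
* `act`: the action `𝔅 → End_R(𝔅 s)`.
-/
import Mathlib

set_option autoImplicit false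

namespace Groth.Agent.Lib.Lead.LeftIdealLocal

open scoped TensorProduct

universe u v w

section lemmaA

variable {R : Type u} [CommRing R] {𝔅 : Type v} [Ring 𝔅] [Algebra R 𝔅] (s : 𝔅)
  {T : Type w} [CommRing T] [Algebra R T] {I : Type} [Fintype I] [DecidableEq I]
  (Ψ : T ⊗[R] 𝔅 ≃ₐ[T] Matrix I I T) (wv : I → T) (i₀ : I)

theorem baseChange_mulRight (z : T ⊗[R] 𝔅) :
    (LinearMap.mulRight R s).baseChange T z = z * (1 ⊗ₜ[R] s) := by
  induction z using TensorProduct.induction_on with
  | zero => rw [map_zero, zero_mul]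
  | tmul t b =>
    rw [LinearMap.baseChange_tmul, LinearMap.mulRight_apply, Algebra.TensorProduct.tmul_mul_tmul,
      mul_one]
  | add x y hx hy => rw [map_add, add_mul, hx, hy]

theorem regular (hw : wv i₀ = 1) (hΨ : Ψ (1 ⊗ₜ[R] s) = Matrix.vecMulVec wv wv) :
    ∃ y : T ⊗[R] 𝔅, (1 ⊗ₜ[R] s) * y * (1 ⊗ₜ[R] s) = 1 ⊗ₜ[R] s := by
  refine ⟨Ψ.symm (Matrix.vecMulVec (Pi.single i₀ 1) (Pi.single i₀ 1)), ?_⟩
  apply Ψ.injective
  rw [map_mul, map_mul, AlgEquiv.apply_symm_apply, hΨ, Matrix.vecMulVec_mul_vecMulVec,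
    Matrix.vecMulVec_mul_vecMulVec]
  congr 1
  simp [hw]

theorem projective_coker [Module.Projective R 𝔅] (hw : wv i₀ = 1)
    (hΨ : Ψ (1 ⊗ₜ[R] s) = Matrix.vecMulVec wv wv) :
    Module.Projective T (T ⊗[R] (𝔅 ⧸ LinearMap.range (LinearMap.mulRight R s))) := by
  obtain ⟨y, hy⟩ := regular s Ψ wv i₀ hw hΨ
  obtain ⟨fT, hfT⟩ : ∃ fT : T ⊗[R] 𝔅 →ₗ[T] T ⊗[R] 𝔅,
      fT = (LinearMap.mulRight R s).baseChange T := ⟨_, rfl⟩
  obtain ⟨πT, hπT⟩ : ∃ πT : T ⊗[R] 𝔅 →ₗ[T]
      T ⊗[R] (𝔅 ⧸ LinearMap.range (LinearMap.mulRight R s)),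
      πT = (LinearMap.range (LinearMap.mulRight R s)).mkQ.baseChange T := ⟨_, rfl⟩
  have hfTz : ∀ z, fT z = z * (1 ⊗ₜ[R] s) := fun z => by rw [hfT, baseChange_mulRight]
  have hex : Function.Exact fT πT := by
    have h0 := lTensor_exact T (LinearMap.exact_map_mkQ_range (LinearMap.mulRight R s))
      (LinearMap.range (LinearMap.mulRight R s)).mkQ_surjective
    rw [hfT, hπT, LinearMap.baseChange_eq_ltensor, LinearMap.baseChange_eq_ltensor]
    exact h0
  have hsurj : Function.Surjective πT := by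
    rw [hπT, LinearMap.baseChange_eq_ltensor]
    exact LinearMap.lTensor_surjective T (LinearMap.range (LinearMap.mulRight R s)).mkQ_surjective
  obtain ⟨e, he⟩ : ∃ e : T ⊗[R] 𝔅 →ₗ[T] T ⊗[R] 𝔅, ∀ z, e z = z * (y * (1 ⊗ₜ[R] s)) :=
    ⟨LinearMap.mulRight T (y * (1 ⊗ₜ[R] s)), fun z => rfl⟩
  have hker : LinearMap.range fT ≤ LinearMap.ker (LinearMap.id - e) := by
    rintro _ ⟨z, rfl⟩
    rw [LinearMap.mem_ker, LinearMap.sub_apply, LinearMap.id_apply, he, hfTz, sub_eq_zero,
      mul_assoc, ← mul_assoc (1 ⊗ₜ[R] s) y, hy]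
  refine Module.Projective.of_split
    (((LinearMap.range fT).liftQ (LinearMap.id - e) hker).comp
      (hex.linearEquivOfSurjective hsurj).symm.toLinearMap) πT ?_
  refine LinearMap.ext fun c => ?_
  obtain ⟨z, rfl⟩ := hsurj c
  rw [LinearMap.comp_apply, LinearMap.comp_apply, LinearEquiv.coe_coe,
    Function.Exact.linearEquivOfSurjective_symm_apply, Submodule.liftQ_apply, LinearMap.sub_apply,
    LinearMap.id_apply, map_sub, LinearMap.id_apply, sub_eq_self]
  have h1 : e z = fT (z * y) := by rw [he, hfTz, mul_assoc]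
  rw [h1]
  exact hex.apply_apply_eq_zero _

theorem exists_equiv [Module.Flat R T] (hw : wv i₀ = 1)
    (hΨ : Ψ (1 ⊗ₜ[R] s) = Matrix.vecMulVec wv wv) :
    Nonempty ((T ⊗[R] LinearMap.range (LinearMap.mulRight R s)) ≃ₗ[T] (I → T)) := by
  obtain ⟨ιT, hιT⟩ : ∃ ιT : T ⊗[R] LinearMap.range (LinearMap.mulRight R s) →ₗ[T] T ⊗[R] 𝔅,
      ιT = (LinearMap.range (LinearMap.mulRight R s)).subtype.baseChange T := ⟨_, rfl⟩
  have hιinj : Function.Injective ιT := by
    rw [hιT, LinearMap.baseChange_eq_ltensor]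
    exact Module.Flat.lTensor_preserves_injective_linearMap (M := T)
      (LinearMap.range (LinearMap.mulRight R s)).subtype (Submodule.injective_subtype _)
  obtain ⟨col, hcol⟩ : ∃ col : Matrix I I T →ₗ[T] (I → T), ∀ X a, col X a = X a i₀ :=
    ⟨{ toFun := fun X a => X a i₀, map_add' := fun _ _ => rfl, map_smul' := fun _ _ => rfl },
      fun _ _ => rfl⟩
  obtain ⟨G, hG⟩ : ∃ G : T ⊗[R] LinearMap.range (LinearMap.mulRight R s) →ₗ[T] (I → T),
      ∀ z, G z = col (Ψ (ιT z)) :=
    ⟨col ∘ₗ Ψ.toLinearMap ∘ₗ ιT, fun z => rfl⟩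
  have hform : ∀ z : T ⊗[R] LinearMap.range (LinearMap.mulRight R s),
      Ψ (ιT z) = Matrix.vecMulVec (G z) wv := by
    intro z
    induction z using TensorProduct.induction_on with
    | zero => rw [map_zero, map_zero, map_zero, Matrix.zero_vecMulVec]
    | tmul t x =>
      obtain ⟨b, hb⟩ := x.2
      have h1 : ιT (t ⊗ₜ x) = (t ⊗ₜ[R] b) * (1 ⊗ₜ[R] s) := by
        rw [hιT, LinearMap.baseChange_tmul, Submodule.subtype_apply, ← hb,
          LinearMap.mulRight_apply, Algebra.TensorProduct.tmul_mul_tmul, mul_one]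
      have h2 : Ψ (ιT (t ⊗ₜ x)) = Matrix.vecMulVec (Matrix.mulVec (Ψ (t ⊗ₜ b)) wv) wv := by
        rw [h1, map_mul, hΨ, Matrix.mul_vecMulVec]
      rw [hG, h2]
      congr 1
      funext a
      rw [hcol, Matrix.vecMulVec_apply, hw, mul_one]
    | add x y hx hy => rw [map_add, map_add, map_add, hx, hy, Matrix.add_vecMulVec]
  have hGinj : Function.Injective G := by
    rw [injective_iff_map_eq_zero]
    intro z hz
    have h1 := hform z
    rw [hz, Matrix.zero_vecMulVec] at h1
    have h2 : ιT z = 0 := Ψ.injective (by rw [h1, map_zero])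
    exact hιinj (by rw [h2, map_zero])
  have hGsurj : Function.Surjective G := by
    intro v
    obtain ⟨x, hx⟩ : ∃ x : T ⊗[R] 𝔅, Ψ x = Matrix.vecMulVec v (Pi.single i₀ 1) :=
      ⟨Ψ.symm _, Ψ.apply_symm_apply _⟩
    refine ⟨(LinearMap.mulRight R s).rangeRestrict.baseChange T x, ?_⟩
    have h1 : ιT ((LinearMap.mulRight R s).rangeRestrict.baseChange T x) = x * (1 ⊗ₜ[R] s) := by
      rw [hιT, ← LinearMap.comp_apply, ← LinearMap.baseChange_comp,
        LinearMap.subtype_comp_codRestrict, baseChange_mulRight]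
    have h2 := hform ((LinearMap.mulRight R s).rangeRestrict.baseChange T x)
    rw [h1, map_mul, hx, hΨ, Matrix.vecMulVec_mul_vecMulVec] at h2
    funext a
    have h3 := congrFun (congrFun h2 a) i₀
    rw [Matrix.vecMulVec_apply, Matrix.vecMulVec_apply, hw, mul_one] at h3
    rw [← h3]
    simp [hw]
  exact ⟨LinearEquiv.ofBijective G ⟨hGinj, hGsurj⟩⟩

end lemmaA

section global

variable {R : Type u} [CommRing R] {𝔅 : Type u} [Ring 𝔅] [Algebra R 𝔅] [Module.Finite R 𝔅]
  [Module.Projective R 𝔅] (s : 𝔅) (I : Type) [Fintype I] [DecidableEq I]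

theorem finite_projective_rank
    (H : ∀ p : PrimeSpectrum R, ∃ (T : Type u) (_ : CommRing T) (_ : Algebra R T)
      (_ : Algebra (Localization.AtPrime p.asIdeal) T)
      (_ : IsScalarTower R (Localization.AtPrime p.asIdeal) T)
      (_ : Module.FaithfullyFlat (Localization.AtPrime p.asIdeal) T) (_ : Nontrivial T)
      (Ψ : T ⊗[R] 𝔅 ≃ₐ[T] Matrix I I T) (wv : I → T) (i₀ : I),
      wv i₀ = 1 ∧ Ψ (1 ⊗ₜ[R] s) = Matrix.vecMulVec wv wv) :
    Module.Finite R (LinearMap.range (LinearMap.mulRight R s)) ∧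
    Module.Projective R (LinearMap.range (LinearMap.mulRight R s)) ∧
    ∀ p : PrimeSpectrum R,
      Module.rankAtStalk (R := R) (LinearMap.range (LinearMap.mulRight R s)) p =
        Fintype.card I := by
  haveI hEfin : Module.Finite R (LinearMap.range (LinearMap.mulRight R s)) :=
    Module.Finite.range _
  haveI : Module.FinitePresentation R 𝔅 := Module.finitePresentation_of_projective R 𝔅
  haveI hCfp : Module.FinitePresentation R (𝔅 ⧸ LinearMap.range (LinearMap.mulRight R s)) :=
    Module.finitePresentation_of_surjective (LinearMap.range (LinearMap.mulRight R s)).mkQ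
      (LinearMap.range (LinearMap.mulRight R s)).mkQ_surjective
      (by rw [Submodule.ker_mkQ]; exact Module.Finite.iff_fg.1 hEfin)
  haveI hCflat : Module.Flat R (𝔅 ⧸ LinearMap.range (LinearMap.mulRight R s)) := by
    refine Module.flat_of_isLocalized_maximal R _
      (fun P _ => Localization.AtPrime P ⊗[R] (𝔅 ⧸ LinearMap.range (LinearMap.mulRight R s)))
      (fun P _ => TensorProduct.mk R (Localization.AtPrime P)
        (𝔅 ⧸ LinearMap.range (LinearMap.mulRight R s)) 1) fun P hP => ?_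
    obtain ⟨T, _, _, _, _, _, _, Ψ, wv, i₀, hw, hΨ⟩ := H ⟨P, hP.isPrime⟩
    haveI : Module.Projective T (T ⊗[R] (𝔅 ⧸ LinearMap.range (LinearMap.mulRight R s))) :=
      projective_coker s Ψ wv i₀ hw hΨ
    haveI : Module.Flat T (T ⊗[Localization.AtPrime P] (Localization.AtPrime P ⊗[R]
        (𝔅 ⧸ LinearMap.range (LinearMap.mulRight R s)))) :=
      Module.Flat.of_linearEquiv (TensorProduct.AlgebraTensorModule.cancelBaseChange R
        (Localization.AtPrime P) T T (𝔅 ⧸ LinearMap.range (LinearMap.mulRight R s)))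
    haveI : Module.Flat (Localization.AtPrime P) (Localization.AtPrime P ⊗[R]
        (𝔅 ⧸ LinearMap.range (LinearMap.mulRight R s))) :=
      Module.Flat.of_flat_tensorProduct (Localization.AtPrime P) _ T
    exact Module.Flat.trans R (Localization.AtPrime P) _
  haveI hCproj : Module.Projective R (𝔅 ⧸ LinearMap.range (LinearMap.mulRight R s)) :=
    Module.Flat.projective_of_finitePresentation
  have hEproj : Module.Projective R (LinearMap.range (LinearMap.mulRight R s)) := by
    obtain ⟨σ, hσ⟩ := Module.projective_lifting_property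
      (LinearMap.range (LinearMap.mulRight R s)).mkQ LinearMap.id
      (LinearMap.range (LinearMap.mulRight R s)).mkQ_surjective
    have hσ' : ∀ c, (LinearMap.range (LinearMap.mulRight R s)).mkQ (σ c) = c :=
      fun c => LinearMap.congr_fun hσ c
    obtain ⟨g, hg⟩ : ∃ g : 𝔅 →ₗ[R] 𝔅, ∀ x, g x = x - σ ((LinearMap.range (LinearMap.mulRight R s)).mkQ x) :=
      ⟨LinearMap.id - σ ∘ₗ (LinearMap.range (LinearMap.mulRight R s)).mkQ, fun x => rfl⟩
    have hgmem : ∀ x, g x ∈ LinearMap.range (LinearMap.mulRight R s) := by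
      intro x
      have h0 : g x ∈ LinearMap.ker (LinearMap.range (LinearMap.mulRight R s)).mkQ := by
        rw [LinearMap.mem_ker, hg, map_sub, hσ', sub_self]
      rwa [Submodule.ker_mkQ] at h0
    refine Module.Projective.of_split (LinearMap.range (LinearMap.mulRight R s)).subtype
      (g.codRestrict (LinearMap.range (LinearMap.mulRight R s)) hgmem) ?_
    refine LinearMap.ext fun x => ?_
    apply Subtype.ext
    have hx : (LinearMap.range (LinearMap.mulRight R s)).mkQ (x : 𝔅) = 0 := by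
      rw [Submodule.mkQ_apply, Submodule.Quotient.mk_eq_zero]
      exact x.2
    rw [LinearMap.comp_apply, LinearMap.codRestrict_apply, Submodule.subtype_apply, hg, hx, map_zero,
      sub_zero, LinearMap.id_apply]
  refine ⟨hEfin, hEproj, fun p => ?_⟩
  haveI := hEproj
  obtain ⟨T, _, _, _, _, _, _, Ψ, wv, i₀, hw, hΨ⟩ := H p
  haveI : Module.Flat R T := Module.Flat.trans R (Localization.AtPrime p.asIdeal) T
  obtain ⟨e⟩ := exists_equiv s Ψ wv i₀ hw hΨ
  haveI : Module.Free (Localization.AtPrime p.asIdeal)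
      (Localization.AtPrime p.asIdeal ⊗[R] LinearMap.range (LinearMap.mulRight R s)) :=
    Module.free_of_flat_of_isLocalRing
  rw [Module.rankAtStalk_eq_finrank_tensorProduct,
    ← Module.finrank_baseChange (R := T),
    (TensorProduct.AlgebraTensorModule.cancelBaseChange R (Localization.AtPrime p.asIdeal) T T
      (LinearMap.range (LinearMap.mulRight R s))).finrank_eq, e.finrank_eq,
    Module.finrank_fintype_fun_eq_card]

end global

section rank

theorem rankAtStalk_end {R : Type u} [CommRing R] (E : Type v) [AddCommGroup E] [Module R E]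
    [Module.Finite R E] [Module.Projective R E] (p : PrimeSpectrum R) :
    Module.rankAtStalk (R := R) (Module.End R E) p =
      Module.rankAtStalk (R := R) E p * Module.rankAtStalk (R := R) E p := by
  haveI : Module.FinitePresentation R E := Module.finitePresentation_of_projective R E
  haveI : Module.Free (Localization.AtPrime p.asIdeal)
      (LocalizedModule p.asIdeal.primeCompl E) := Module.free_of_flat_of_isLocalRing
  let e0 : LocalizedModule p.asIdeal.primeCompl (E →ₗ[R] E) ≃ₗ[R]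
      (LocalizedModule p.asIdeal.primeCompl E →ₗ[Localization.AtPrime p.asIdeal]
        LocalizedModule p.asIdeal.primeCompl E) :=
    IsLocalizedModule.iso p.asIdeal.primeCompl
      (LocalizedModule.map p.asIdeal.primeCompl (M := E) (N := E))
  let e1 : LocalizedModule p.asIdeal.primeCompl (E →ₗ[R] E) ≃ₗ[Localization.AtPrime p.asIdeal]
      (LocalizedModule p.asIdeal.primeCompl E →ₗ[Localization.AtPrime p.asIdeal]
        LocalizedModule p.asIdeal.primeCompl E) :=
    e0.extendScalarsOfIsLocalization p.asIdeal.primeCompl (Localization.AtPrime p.asIdeal)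
  show Module.finrank (Localization.AtPrime p.asIdeal)
    (LocalizedModule p.asIdeal.primeCompl (E →ₗ[R] E)) = _
  rw [e1.finrank_eq, Module.finrank_linearMap]
  rfl

end rank

section act

variable {R : Type u} [CommRing R] {𝔅 : Type v} [Ring 𝔅] [Algebra R 𝔅] (s : 𝔅)

/-- The action of `𝔅` on the left ideal `𝔅 s`. -/
noncomputable def act : 𝔅 →ₐ[R] Module.End R (LinearMap.range (LinearMap.mulRight R s)) where
  toFun b := (LinearMap.mulLeft R b).restrict (p := LinearMap.range (LinearMap.mulRight R s))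
    (q := LinearMap.range (LinearMap.mulRight R s)) (by
      rintro _ ⟨c, rfl⟩
      exact ⟨b * c, by simp [mul_assoc]⟩)
  map_one' := by
    ext x
    simp
  map_mul' a b := by
    ext x
    simp [mul_assoc]
  map_zero' := by
    ext x
    simp
  map_add' a b := by
    ext x
    simp [add_mul]
  commutes' r := by
    ext x
    simp [Algebra.smul_def]

end act

end Groth.Agent.Lib.Lead.LeftIdealLocal
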