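/-
LG-rings and Azumaya algebras, part 3: idempotents with isomorphic left ideals, corners, and
cancellation for Azumaya algebras over LG-rings. (lead)
-/
import Groth.Agent.Lib.Lead.LGAz2
import Groth.Agent.Lib.Lead.LeftIdealLocal
import Groth.Agent.S19587
import Groth.Agent.S19589
import Groth.Agent.S16598

set_option autoImplicit false

namespace Groth.Agent.Lib.Lead.LGAz

open TensorProduct

universe u v w w'

section leftIdeal

variable {R : Type u} [CommRing R] {Λ : Type v} [Ring Λ] [Algebra R Λ]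

/-- The left ideal `Λ E`. -/
abbrev leftIdeal (E : Λ) : Submodule Λ Λ := Submodule.span Λ {E}

theorem mem_leftIdeal_iff {E : Λ} (hE : IsIdempotentElem E) {x : Λ} :
    x ∈ leftIdeal E ↔ x * E = x := by
  rw [Submodule.mem_span_singleton]
  constructor
  · rintro ⟨a, rfl⟩
    rw [smul_eq_mul, mul_assoc, hE.eq]
  · intro h
    exact ⟨x, h⟩

theorem projective_leftIdeal {E : Λ} (hE : IsIdempotentElem E) :
    Module.Projective Λ (leftIdeal E) := by
  refine Module.Projective.of_split (leftIdeal E).subtype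
    (LinearMap.codRestrict (leftIdeal E) (LinearMap.toSpanSingleton Λ Λ E)
      (fun x => Submodule.mem_span_singleton.2 ⟨x, rfl⟩)) ?_
  refine LinearMap.ext fun y => Subtype.ext ?_
  simp only [LinearMap.comp_apply, Submodule.subtype_apply, LinearMap.codRestrict_apply,
    LinearMap.toSpanSingleton_apply, LinearMap.id_apply, smul_eq_mul]
  exact (mem_leftIdeal_iff hE).1 y.2

theorem finite_leftIdeal (E : Λ) : Module.Finite Λ (leftIdeal E) :=
  Module.Finite.iff_fg.2 (Submodule.fg_span_singleton E)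

/-- Over an LG-ring, idempotents of an Azumaya algebra whose left ideals have the same rank
function are Murray–von Neumann equivalent. -/
theorem exists_mul_eq_of_rank_eq (hR : LGRing.IsLGRing R) [IsAzumaya R Λ] {E F : Λ}
    (hE : IsIdempotentElem E) (hF : IsIdempotentElem F)
    (hrank : ∀ p : PrimeSpectrum R,
      Module.rankAtStalk (leftIdeal E) p = Module.rankAtStalk (leftIdeal F) p) :
    ∃ u v : Λ, u * v = E ∧ v * u = F := by
  haveI := projective_leftIdeal hE
  haveI := projective_leftIdeal hF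
  haveI := finite_leftIdeal E
  haveI := finite_leftIdeal F
  obtain ⟨φ⟩ := nonempty_linearEquiv_of_rank_eq hR (A := Λ) (leftIdeal E) (leftIdeal F) hrank
  let E' : leftIdeal E := ⟨E, Submodule.mem_span_singleton_self E⟩
  let F' : leftIdeal F := ⟨F, Submodule.mem_span_singleton_self F⟩
  have h1 : ∀ y : leftIdeal E, (φ y : Λ) = (y : Λ) * (φ E' : Λ) := by
    intro y
    have hy : y = (y : Λ) • E' := Subtype.ext ((mem_leftIdeal_iff hE).1 y.2).symm
    conv_lhs => rw [hy, map_smul]
    rfl
  have h2 : ∀ z : leftIdeal F, (φ.symm z : Λ) = (z : Λ) * (φ.symm F' : Λ) := by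
    intro z
    have hz : z = (z : Λ) • F' := Subtype.ext ((mem_leftIdeal_iff hF).1 z.2).symm
    conv_lhs => rw [hz, map_smul]
    rfl
  refine ⟨(φ E' : Λ), (φ.symm F' : Λ), ?_, ?_⟩
  · have := h2 (φ E')
    rw [φ.symm_apply_apply] at this
    exact this.symm
  · have := h1 (φ.symm F')
    rw [φ.apply_symm_apply] at this
    exact this.symm

end leftIdeal

section act

variable {R : Type u} [CommRing R] {Λ : Type v} [Ring Λ] [Algebra R Λ]
  {A : Type w} [Ring A] [Algebra R A] {B : Type w'} [Ring B] [Algebra R B]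

/-- Two corners `EΛE ≅ A`, `FΛF ≅ B` of equivalent idempotents are isomorphic algebras. -/
theorem nonempty_algEquiv_of_mul_eq (ιA : A →ₗ[R] Λ) (ιB : B →ₗ[R] Λ)
    (hAm : ∀ a a', ιA (a * a') = ιA a * ιA a') (hBm : ∀ b b', ιB (b * b') = ιB b * ιB b')
    (hAi : Function.Injective ιA) (hBi : Function.Injective ιB)
    (hAs : ∀ x, ∃ a, ιA a = ιA 1 * x * ιA 1) (hBs : ∀ x, ∃ b, ιB b = ιB 1 * x * ιB 1)
    (u v : Λ) (huv : u * v = ιA 1) (hvu : v * u = ιB 1) : Nonempty (A ≃ₐ[R] B) := by
  obtain ⟨E, hEdef⟩ : ∃ E, E = ιA 1 := ⟨_, rfl⟩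
  obtain ⟨F, hFdef⟩ : ∃ F, F = ιB 1 := ⟨_, rfl⟩
  rw [← hEdef] at huv hAs
  rw [← hFdef] at hvu hBs
  have hE : E * E = E := by rw [hEdef, ← hAm, mul_one]
  have hF : F * F = F := by rw [hFdef, ← hBm, mul_one]
  have hAE : ∀ a, ιA a * E = ιA a := fun a => by rw [hEdef, ← hAm, mul_one]
  have hEA : ∀ a, E * ιA a = ιA a := fun a => by rw [hEdef, ← hAm, one_mul]
  have hBF : ∀ b, ιB b * F = ιB b := fun b => by rw [hFdef, ← hBm, mul_one]
  have hFB : ∀ b, F * ιB b = ιB b := fun b => by rw [hFdef, ← hBm, one_mul]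
  have hEu : E * u = u * F := by rw [← huv, ← hvu, mul_assoc]
  have hvE : v * E = F * v := by rw [← huv, ← hvu, mul_assoc]
  obtain ⟨u', hu'⟩ : ∃ u', u' = E * u := ⟨_, rfl⟩
  obtain ⟨v', hv'⟩ : ∃ v', v' = v * E := ⟨_, rfl⟩
  have k1 : u' * v' = E := by
    rw [hu', hv', mul_assoc, ← mul_assoc u, huv, hE, hE]
  have k2 : v' * u' = F := by
    rw [hu', hv', mul_assoc, ← mul_assoc E, hE, hEu, ← mul_assoc, hvu, hF]
  have k3 : E * u' = u' := by rw [hu', ← mul_assoc, hE]
  have k4 : u' * F = u' := by rw [hu', mul_assoc, ← hEu, ← mul_assoc, hE]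
  have k5 : F * v' = v' := by rw [hv', ← mul_assoc, ← hvE, mul_assoc, hE]
  have k6 : v' * E = v' := by rw [hv', mul_assoc, hE]
  have hΦex : ∀ a, ∃ b, ιB b = v' * ιA a * u' := by
    intro a
    obtain ⟨b, hb⟩ := hBs (v' * ιA a * u')
    refine ⟨b, ?_⟩
    rw [hb]
    calc F * (v' * ιA a * u') * F = (F * v') * ιA a * (u' * F) := by simp only [mul_assoc]
      _ = v' * ιA a * u' := by rw [k5, k4]
  choose Φ hΦ using hΦex
  have hΨex : ∀ b, ∃ a, ιA a = u' * ιB b * v' := by
    intro b
    obtain ⟨a, ha⟩ := hAs (u' * ιB b * v')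
    refine ⟨a, ?_⟩
    rw [ha]
    calc E * (u' * ιB b * v') * E = (E * u') * ιB b * (v' * E) := by simp only [mul_assoc]
      _ = u' * ιB b * v' := by rw [k3, k6]
  have hadd : ∀ a a', Φ (a + a') = Φ a + Φ a' := by
    intro a a'
    apply hBi
    rw [map_add, hΦ, hΦ, hΦ, map_add, mul_add, add_mul]
  have hsmul : ∀ (r : R) a, Φ (r • a) = r • Φ a := by
    intro r a
    apply hBi
    rw [map_smul, hΦ, hΦ, map_smul, mul_smul_comm, smul_mul_assoc]
  have hmul : ∀ a a', Φ (a * a') = Φ a * Φ a' := by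
    intro a a'
    apply hBi
    rw [hBm, hΦ, hΦ, hΦ, hAm]
    calc v' * (ιA a * ιA a') * u' = v' * (ιA a * E) * ιA a' * u' := by
          rw [hAE]; simp only [mul_assoc]
      _ = v' * (ιA a * (u' * v')) * ιA a' * u' := by rw [k1]
      _ = v' * ιA a * u' * (v' * ιA a' * u') := by simp only [mul_assoc]
  have hone : Φ 1 = 1 := by
    apply hBi
    rw [hΦ, ← hEdef, k6, k2, hFdef]
  let Φl : A →ₗ[R] B := { toFun := Φ, map_add' := hadd, map_smul' := hsmul }
  let Φa : A →ₐ[R] B := AlgHom.ofLinearMap Φl hone hmul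
  have hΦa : ∀ a, Φa a = Φ a := fun a => rfl
  refine ⟨AlgEquiv.ofBijective Φa ⟨?_, ?_⟩⟩
  · intro a a' haa'
    rw [hΦa, hΦa] at haa'
    apply hAi
    have e1 : ∀ x, ιA x = u' * (v' * ιA x * u') * v' := by
      intro x
      calc ιA x = E * ιA x * E := by rw [hEA, hAE]
        _ = (u' * v') * ιA x * (u' * v') := by rw [k1]
        _ = u' * (v' * ιA x * u') * v' := by simp only [mul_assoc]
    rw [e1 a, e1 a', ← hΦ, ← hΦ, haa']
  · intro b
    obtain ⟨a, ha⟩ := hΨex b
    refine ⟨a, ?_⟩
    rw [hΦa]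
    apply hBi
    rw [hΦ, ha]
    calc v' * (u' * ιB b * v') * u' = (v' * u') * ιB b * (v' * u') := by simp only [mul_assoc]
      _ = ιB b := by rw [k2, hFB, hBF]

end act

section cornerData

/-- Data exhibiting `A` as the corner `EΛE` and `X` as the left ideal `ΛE`, where `E = ι 1`. -/
structure CornerData (R : Type u) [CommRing R] (Λ : Type v) [Ring Λ] [Algebra R Λ]
    (A : Type w) [Ring A] [Algebra R A] (X : Type w') [AddCommGroup X] [Module R X] where
  /-- the inclusion of the corner -/
  ι : A →ₗ[R] Λ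
  mul : ∀ a a', ι (a * a') = ι a * ι a'
  inj : Function.Injective ι
  surj : ∀ x, ∃ a, ι a = ι 1 * x * ι 1
  /-- the inclusion of the left ideal -/
  α : X →ₗ[R] Λ
  /-- the retraction onto the left ideal -/
  β : Λ →ₗ[R] X
  βα : ∀ x, β (α x) = x
  αβ : ∀ y, α (β y) = y * ι 1

variable {R : Type u} [CommRing R] {Λ : Type v} [Ring Λ] [Algebra R Λ]
  {A : Type w} [Ring A] [Algebra R A] {X : Type w'} [AddCommGroup X] [Module R X]

theorem CornerData.idem (c : CornerData R Λ A X) : IsIdempotentElem (c.ι 1) := by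
  rw [IsIdempotentElem, ← c.mul, mul_one]

/-- The left ideal `Λ E` is `X`. -/
noncomputable def CornerData.equivLeftIdeal (c : CornerData R Λ A X) :
    leftIdeal (c.ι 1) ≃ₗ[R] X where
  toFun y := c.β y.1
  map_add' y z := by simp
  map_smul' r y := by simp
  invFun x := ⟨c.α x, (mem_leftIdeal_iff c.idem).2 (by rw [← c.αβ, c.βα])⟩
  left_inv y := Subtype.ext (by
    change c.α (c.β y.1) = y.1
    rw [c.αβ]
    exact (mem_leftIdeal_iff c.idem).1 y.2)
  right_inv x := c.βα x

/-- Transport of corner data along an algebra isomorphism. -/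
noncomputable def CornerData.transport {Λ' : Type*} [Ring Λ'] [Algebra R Λ']
    (c : CornerData R Λ' A X) (e : Λ' ≃ₐ[R] Λ) : CornerData R Λ A X where
  ι := e.toLinearMap ∘ₗ c.ι
  mul a a' := by simp [c.mul]
  inj := e.injective.comp c.inj
  surj x := by
    obtain ⟨a, ha⟩ := c.surj (e.symm x)
    exact ⟨a, by simp [ha]⟩
  α := e.toLinearMap ∘ₗ c.α
  β := c.β ∘ₗ e.symm.toLinearMap
  βα x := by simp [c.βα]
  αβ y := by simp [c.αβ]

/-- Over an LG-ring, two algebras which are corners of the same Azumaya algebra, with left ideals of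
the same rank, are isomorphic. -/
theorem nonempty_algEquiv_of_cornerData (hR : LGRing.IsLGRing R) [IsAzumaya R Λ]
    {B : Type*} [Ring B] [Algebra R B] {Y : Type*} [AddCommGroup Y] [Module R Y]
    (cA : CornerData R Λ A X) (cB : CornerData R Λ B Y)
    (hrank : ∀ p : PrimeSpectrum R, Module.rankAtStalk X p = Module.rankAtStalk Y p) :
    Nonempty (A ≃ₐ[R] B) := by
  obtain ⟨u, v, huv, hvu⟩ := exists_mul_eq_of_rank_eq hR cA.idem cB.idem (fun p => by
    rw [congrFun (Module.rankAtStalk_eq_of_equiv cA.equivLeftIdeal) p,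
      congrFun (Module.rankAtStalk_eq_of_equiv cB.equivLeftIdeal) p]
    exact hrank p)
  exact nonempty_algEquiv_of_mul_eq cA.ι cB.ι cA.mul cB.mul cA.inj cB.inj cA.surj cB.surj u v
    huv hvu

end cornerData

section tensorEnd

variable {R : Type u} [CommRing R]

/-- `A` is a corner of `A ⊗ End P` when `P` has a unimodular element. -/
noncomputable def cornerTensorEnd (A : Type v) [Ring A] [Algebra R A] (P : Type w)
    [AddCommGroup P] [Module R P] (p₀ : P) (θ : Module.Dual R P) (h : θ p₀ = 1) :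
    CornerData R (A ⊗[R] Module.End R P) A (A ⊗[R] P) where
  ι := (TensorProduct.mk R A (Module.End R P)).flip (θ.smulRight p₀)
  mul a a' := by
    simp only [LinearMap.flip_apply, TensorProduct.mk_apply,
      Algebra.TensorProduct.tmul_mul_tmul]
    congr 1
    refine LinearMap.ext fun x => ?_
    simp [h]
  inj := by
    intro a a' haa'
    have := congrArg (fun t => TensorProduct.rid R A
      (LinearMap.lTensor A (θ ∘ₗ LinearMap.applyₗ p₀) t)) haa'
    simpa [h] using this
  surj x := by
    induction x using TensorProduct.induction_on with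
    | zero => exact ⟨0, by simp⟩
    | tmul a φ =>
      refine ⟨θ (φ p₀) • a, ?_⟩
      simp only [LinearMap.flip_apply, TensorProduct.mk_apply,
        Algebra.TensorProduct.tmul_mul_tmul, one_mul, mul_one]
      rw [TensorProduct.smul_tmul]
      congr 1
      refine LinearMap.ext fun x => ?_
      simp [h, smul_smul, mul_comm]
    | add x y hx hy =>
      obtain ⟨a, ha⟩ := hx
      obtain ⟨b, hb⟩ := hy
      exact ⟨a + b, by rw [map_add, ha, hb, mul_add, add_mul]⟩
  α := TensorProduct.map LinearMap.id (LinearMap.smulRightₗ θ)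
  β := TensorProduct.map LinearMap.id (LinearMap.applyₗ p₀)
  βα x := by
    have : (TensorProduct.map (LinearMap.id : A →ₗ[R] A)
        (LinearMap.applyₗ p₀ : Module.End R P →ₗ[R] P)) ∘ₗ
        (TensorProduct.map (LinearMap.id : A →ₗ[R] A) (LinearMap.smulRightₗ θ)) =
          LinearMap.id :=
      TensorProduct.ext' fun a x => by simp [h]
    exact LinearMap.congr_fun this x
  αβ y := by
    have : (TensorProduct.map (LinearMap.id : A →ₗ[R] A) (LinearMap.smulRightₗ θ)) ∘ₗ
        (TensorProduct.map (LinearMap.id : A →ₗ[R] A)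
          (LinearMap.applyₗ p₀ : Module.End R P →ₗ[R] P)) =
          LinearMap.mulRight R ((1 : A) ⊗ₜ[R] (θ.smulRight p₀ : Module.End R P)) :=
      TensorProduct.ext' fun a φ => by
        simp only [LinearMap.comp_apply, TensorProduct.map_tmul, LinearMap.id_apply,
          LinearMap.mulRight_apply, Algebra.TensorProduct.tmul_mul_tmul, mul_one]
        congr 1
        refine LinearMap.ext fun x => ?_
        simp
    exact LinearMap.congr_fun this y

theorem rankAtStalk_pos_of_faithful (M : Type w) [AddCommGroup M] [Module R M] [Module.Finite R M]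
    [Module.Projective R M] [FaithfulSMul R M] (p : PrimeSpectrum R) :
    0 < Module.rankAtStalk M p := by
  rw [Module.rankAtStalk_pos_iff_mem_support, Module.support_eq_zeroLocus,
    Module.annihilator_eq_bot.mpr inferInstance]
  simp

/-- Over an LG-ring, Azumaya algebras of the same degree that become isomorphic after tensoring with
endomorphism algebras of faithfully projective modules are isomorphic. -/
theorem nonempty_algEquiv_of_tensor_end (hR : LGRing.IsLGRing R) (A B : Type v) [Ring A]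
    [Algebra R A] [IsAzumaya R A] [Ring B] [Algebra R B] [IsAzumaya R B]
    (P Q : Type w) [AddCommGroup P] [Module R P] [Module.Finite R P] [Module.Projective R P]
    [FaithfulSMul R P] [AddCommGroup Q] [Module R Q] [Module.Finite R Q] [Module.Projective R Q]
    [FaithfulSMul R Q]
    (hdeg : ∀ p : PrimeSpectrum R, Module.rankAtStalk A p = Module.rankAtStalk B p)
    (e : A ⊗[R] Module.End R P ≃ₐ[R] B ⊗[R] Module.End R Q) : Nonempty (A ≃ₐ[R] B) := by
  obtain ⟨p₀, θ, hθ⟩ := Groth.Agent.S16598.result hR P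
  obtain ⟨q₀, η, hη⟩ := Groth.Agent.S16598.result hR Q
  haveI : IsAzumaya R (Module.End R P) := Groth.Agent.S19589.result R P
  haveI : IsAzumaya R (Module.End R Q) := Groth.Agent.S19589.result R Q
  haveI : IsAzumaya R (A ⊗[R] Module.End R P) := Groth.Agent.S19587.result R A _
  refine nonempty_algEquiv_of_cornerData hR (cornerTensorEnd A P p₀ θ hθ)
    ((cornerTensorEnd B Q q₀ η hη).transport e.symm) (fun p => ?_)
  have h1 := congrFun (Module.rankAtStalk_eq_of_equiv e.toLinearEquiv) p
  rw [Module.rankAtStalk_tensorProduct, Module.rankAtStalk_tensorProduct, Pi.mul_apply,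
    Pi.mul_apply, LeftIdealLocal.rankAtStalk_end, LeftIdealLocal.rankAtStalk_end, hdeg p] at h1
  have hpos : 0 < Module.rankAtStalk B p := rankAtStalk_pos_of_faithful B p
  have h2 := Nat.eq_of_mul_eq_mul_left hpos h1
  have h3 : Module.rankAtStalk P p = Module.rankAtStalk Q p := Nat.mul_self_inj.1 h2
  rw [Module.rankAtStalk_tensorProduct, Module.rankAtStalk_tensorProduct, Pi.mul_apply,
    Pi.mul_apply, hdeg p, h3]

/-- The case `P = Q`: no degree hypothesis needed. -/
theorem nonempty_algEquiv_of_tensor_end_same (hR : LGRing.IsLGRing R) (A B : Type v) [Ring A]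
    [Algebra R A] [IsAzumaya R A] [Ring B] [Algebra R B] [IsAzumaya R B]
    (P : Type w) [AddCommGroup P] [Module R P] [Module.Finite R P] [Module.Projective R P]
    [FaithfulSMul R P]
    (e : A ⊗[R] Module.End R P ≃ₐ[R] B ⊗[R] Module.End R P) : Nonempty (A ≃ₐ[R] B) := by
  haveI : IsAzumaya R (Module.End R P) := Groth.Agent.S19589.result R P
  refine nonempty_algEquiv_of_tensor_end hR A B P P (fun p => ?_) e
  have h1 := congrFun (Module.rankAtStalk_eq_of_equiv e.toLinearEquiv) p
  rw [Module.rankAtStalk_tensorProduct, Module.rankAtStalk_tensorProduct, Pi.mul_apply,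
    Pi.mul_apply, LeftIdealLocal.rankAtStalk_end] at h1
  have hpos : 0 < Module.rankAtStalk P p := rankAtStalk_pos_of_faithful P p
  exact Nat.eq_of_mul_eq_mul_right (Nat.mul_pos hpos hpos) h1

end tensorEnd

end Groth.Agent.Lib.Lead.LGAz
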