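/-
Lead library: corners of Azumaya algebras. For an idempotent `e` of an Azumaya algebra `A`,
`M = A e`, `D = End_A(M)`: `A ⊗ D ≅ End_R(M)` and `D` satisfies the Azumaya bijectivity.
-/
import Mathlib
import Groth.Agent.Lib.Lead.LGAz3
import Groth.Agent.Lib.Lead.AzumayaOp

set_option autoImplicit false

namespace Groth.Agent.Lib.Lead.BrIdem

open TensorProduct
open Groth.Agent.Lib.Lead.LGAz (leftIdeal mem_leftIdeal_iff)

universe u v

/-- A projective module with nontrivial fibres is faithful. -/
theorem faithful_of_fibres_module (R : Type u) [CommRing R] (M : Type v) [AddCommGroup M]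
    [Module R M] [Module.Projective R M]
    (h : ∀ (p : Ideal R) [p.IsPrime], Nontrivial (p.ResidueField ⊗[R] M)) : FaithfulSMul R M := by
  obtain ⟨s, hs⟩ := (Module.projective_def' (R := R) (P := M)).1 inferInstance
  have hτ : Ideal.span {c : R | ∃ a b, c = s a b} = ⊤ := by
    by_contra hne
    obtain ⟨m, hm, hle⟩ := Ideal.exists_le_maximal _ hne
    haveI := hm.isPrime
    haveI := h m
    have h1 : ∀ a : M, (1 : m.ResidueField) ⊗ₜ[R] a = 0 := by
      intro a
      have ha : a = Finsupp.linearCombination R id (s a) := (LinearMap.congr_fun hs a).symm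
      rw [ha, Finsupp.linearCombination_apply, Finsupp.sum, TensorProduct.tmul_sum]
      refine Finset.sum_eq_zero (fun b _ => ?_)
      have hc : algebraMap R m.ResidueField (s a b) = 0 :=
        Ideal.algebraMap_residueField_eq_zero.2 (hle (Ideal.subset_span ⟨a, b, rfl⟩))
      rw [TensorProduct.tmul_smul, TensorProduct.smul_tmul', Algebra.smul_def, hc, zero_mul,
        TensorProduct.zero_tmul]
    have h2 : ∀ z : m.ResidueField ⊗[R] M, z = 0 := by
      intro z
      induction z using TensorProduct.induction_on with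
      | zero => rfl
      | tmul x a =>
        have hx : x ⊗ₜ[R] a = x • ((1 : m.ResidueField) ⊗ₜ[R] a) := by
          rw [TensorProduct.smul_tmul', smul_eq_mul, mul_one]
        rw [hx, h1, smul_zero]
      | add x y hx hy => rw [hx, hy, add_zero]
    obtain ⟨x, y, hxy⟩ := exists_pair_ne (m.ResidueField ⊗[R] M)
    exact hxy (by rw [h2 x, h2 y])
  refine ⟨fun {r₁ r₂} hr => ?_⟩
  have hra : ∀ a : M, (r₁ - r₂) • a = 0 := fun a => by rw [sub_smul, hr a, sub_self]
  have hall : ∀ c ∈ Ideal.span {c : R | ∃ a b, c = s a b}, (r₁ - r₂) * c = 0 := by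
    intro c hc
    induction hc using Submodule.span_induction with
    | mem c hc =>
      obtain ⟨a, b, rfl⟩ := hc
      have h3 : s ((r₁ - r₂) • a) b = (r₁ - r₂) * s a b := by
        rw [map_smul, Finsupp.smul_apply, smul_eq_mul]
      rw [← h3, hra, map_zero, Finsupp.zero_apply]
    | zero => rw [mul_zero]
    | add x y _ _ hx hy => rw [mul_add, hx, hy, add_zero]
    | smul a x _ hx => rw [smul_eq_mul, mul_left_comm, hx, mul_zero]
  have h1 := hall 1 (by rw [hτ]; exact Submodule.mem_top)
  rw [mul_one] at h1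
  exact sub_eq_zero.mp h1

/-- A retract (in the arrow category of sets) of a bijection is a bijection. -/
theorem bijective_of_retract {U V U' V' : Type*} (Ψ : U → V) (hΨ : Function.Bijective Ψ)
    (Φ : U' → V') (iU : U' → U) (rU : U → U') (hU : ∀ x, rU (iU x) = x)
    (iV : V' → V) (rV : V → V') (hV : ∀ y, rV (iV y) = y)
    (h1 : ∀ x, Ψ (iU x) = iV (Φ x)) (h2 : ∀ u, Φ (rU u) = rV (Ψ u)) : Function.Bijective Φ := by
  constructor
  · intro x y hxy
    have : iU x = iU y := hΨ.1 (by rw [h1, h1, hxy])
    rw [← hU x, ← hU y, this]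
  · intro y
    obtain ⟨u, hu⟩ := hΨ.2 (iV y)
    exact ⟨rU u, by rw [h2, hu, hV]⟩

theorem sandwich {A : Type*} [Ring A] {e p q : A} (x : A) (hp : p * e = p) (hq : e * q = q) :
    p * (e * x * e * q) = p * x * q := by
  calc p * (e * x * e * q) = (p * e) * x * (e * q) := by simp only [mul_assoc]
    _ = p * x * q := by rw [hp, hq]

/-- `X → Xᵐᵒᵖ` as a linear map. -/
def opL (R : Type*) [CommRing R] (X : Type*) [AddCommGroup X] [Module R X] : X →ₗ[R] Xᵐᵒᵖ :=
  (MulOpposite.opLinearEquiv R).toLinearMap

/-- `Xᵐᵒᵖ → X` as a linear map. -/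
def unopL (R : Type*) [CommRing R] (X : Type*) [AddCommGroup X] [Module R X] : Xᵐᵒᵖ →ₗ[R] X :=
  (MulOpposite.opLinearEquiv R).symm.toLinearMap

/-- The `R`-linear projection `A → A y`, `x ↦ x y`. -/
def proj (R : Type u) [CommRing R] {A : Type u} [Ring A] [Algebra R A] (y : A) :
    A →ₗ[R] leftIdeal y where
  toFun x := ⟨x * y, Submodule.mem_span_singleton.2 ⟨x, rfl⟩⟩
  map_add' a b := Subtype.ext (add_mul a b y)
  map_smul' r a := Subtype.ext (smul_mul_assoc r a y)

/-- The `R`-linear inclusion `A y → A`. -/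
def incl (R : Type u) [CommRing R] {A : Type u} [Ring A] [Algebra R A] (y : A) :
    leftIdeal y →ₗ[R] A where
  toFun x := x.1
  map_add' _ _ := rfl
  map_smul' _ _ := rfl

section basics

variable {R : Type u} [CommRing R] {A : Type u} [Ring A] [Algebra R A]

theorem coe_mul_self {y : A} (hy : IsIdempotentElem y) (m : leftIdeal y) : (m : A) * y = m :=
  (mem_leftIdeal_iff hy).1 m.2

theorem proj_incl {y : A} (hy : IsIdempotentElem y) (m : leftIdeal y) :
    proj R y (incl R y m) = m :=
  Subtype.ext (coe_mul_self hy m)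

theorem finite_R [Module.Finite R A] {y : A} (hy : IsIdempotentElem y) :
    Module.Finite R (leftIdeal y) :=
  Module.Finite.of_surjective (proj R y) (fun m => ⟨m.1, proj_incl hy m⟩)

theorem projective_R [Module.Projective R A] {y : A} (hy : IsIdempotentElem y) :
    Module.Projective R (leftIdeal y) :=
  Module.Projective.of_split (incl R y) (proj R y) (LinearMap.ext (proj_incl hy))

theorem rank_const [Module.Finite R A] [Module.Projective R A]
    [PreconnectedSpace (PrimeSpectrum R)]
    {y : A} (hy : IsIdempotentElem y) (p q : PrimeSpectrum R) :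
    Module.rankAtStalk (R := R) (leftIdeal y) p = Module.rankAtStalk (R := R) (leftIdeal y) q := by
  haveI := finite_R (R := R) hy
  haveI := projective_R (R := R) hy
  haveI : Module.FinitePresentation R (leftIdeal y) := Module.finitePresentation_of_projective R _
  exact (Module.isLocallyConstant_rankAtStalk (R := R)
    (M := leftIdeal y)).apply_eq_of_preconnectedSpace p q

theorem rank_pos [Module.Finite R A] [Module.Projective R A]
    [PreconnectedSpace (PrimeSpectrum R)]
    {y : A} (hy : IsIdempotentElem y) (hy0 : y ≠ 0) (p : PrimeSpectrum R) :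
    0 < Module.rankAtStalk (R := R) (leftIdeal y) p := by
  haveI := finite_R (R := R) hy
  haveI := projective_R (R := R) hy
  by_contra hcon
  have h0 : Module.rankAtStalk (R := R) (leftIdeal y) = 0 := by
    funext q
    rw [rank_const hy q p]
    exact Nat.eq_zero_of_not_pos hcon
  haveI : Subsingleton (leftIdeal y) := Module.rankAtStalk_eq_zero_iff_subsingleton.mp h0
  have h1 : (⟨y, Submodule.mem_span_singleton_self y⟩ : leftIdeal y) = 0 := Subsingleton.elim _ _
  exact hy0 (congrArg Subtype.val h1)

theorem faithful_leftIdeal [Module.Finite R A] [Module.Projective R A]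
    [PreconnectedSpace (PrimeSpectrum R)]
    {y : A} (hy : IsIdempotentElem y) (hy0 : y ≠ 0) : FaithfulSMul R (leftIdeal y) := by
  haveI := finite_R (R := R) hy
  haveI := projective_R (R := R) hy
  refine faithful_of_fibres_module R _ (fun p _ => ?_)
  have h2 := rank_pos (R := R) hy hy0 ⟨p, inferInstance⟩
  rw [← Ideal.finrank_fiber_eq_rankAtStalk] at h2
  exact Module.nontrivial_of_finrank_pos (R := p.ResidueField) h2

section split

variable {e x : A} (he : IsIdempotentElem e) (hx : IsIdempotentElem x) (hxe : x * e = x)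
  (hex : e * x = x)

include he hx hxe hex in
theorem idem_sub : IsIdempotentElem (e - x) := by
  show (e - x) * (e - x) = e - x
  rw [sub_mul, mul_sub, mul_sub, he.eq, hx.eq, hxe, hex]
  abel

/-- `A e ≃ A x × A (e - x)` for an idempotent `x = x e = e x`. -/
noncomputable def splitEquiv : leftIdeal e ≃ₗ[R] (leftIdeal x × leftIdeal (e - x)) :=
  LinearEquiv.ofLinear
    ((proj R x ∘ₗ incl R e).prod (proj R (e - x) ∘ₗ incl R e))
    ((proj R e ∘ₗ incl R x).coprod (proj R e ∘ₗ incl R (e - x)))
    (by
      refine LinearMap.ext fun ab => ?_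
      obtain ⟨a, b⟩ := ab
      have ha : (a : A) * x = a := coe_mul_self hx a
      have hb : (b : A) * (e - x) = b := coe_mul_self (idem_sub he hx hxe hex) b
      have hbx : (b : A) * x = 0 := by
        rw [← hb, mul_assoc, sub_mul, hex, hx.eq, sub_self, mul_zero]
      have hae : (a : A) * e = a := by rw [← ha, mul_assoc, hxe]
      have hbe : (b : A) * e = b := by rw [← hb, mul_assoc, sub_mul, he.eq, hxe]
      refine Prod.ext (Subtype.ext ?_) (Subtype.ext ?_)
      · show ((a : A) * e + (b : A) * e) * x = a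
        rw [hae, hbe, add_mul, ha, hbx, add_zero]
      · show ((a : A) * e + (b : A) * e) * (e - x) = b
        rw [hae, hbe, add_mul, hb, mul_sub, hae, ha, sub_self, zero_add])
    (by
      refine LinearMap.ext fun m => Subtype.ext ?_
      show ((m : A) * x) * e + ((m : A) * (e - x)) * e = m
      have h1 : (m : A) * x * e = m * x := by rw [mul_assoc, hxe]
      have h2 : (m : A) * (e - x) * e = m * (e - x) := by rw [mul_assoc, sub_mul, he.eq, hxe]
      rw [h1, h2, ← mul_add, add_sub_cancel, coe_mul_self he m])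

include he hx hxe hex in
theorem rank_split [Module.Finite R A] [Module.Projective R A] (p : PrimeSpectrum R) :
    Module.rankAtStalk (R := R) (leftIdeal e) p =
      Module.rankAtStalk (R := R) (leftIdeal x) p +
        Module.rankAtStalk (R := R) (leftIdeal (e - x)) p := by
  haveI := finite_R (R := R) hx
  haveI := projective_R (R := R) hx
  haveI := finite_R (R := R) (idem_sub he hx hxe hex)
  haveI := projective_R (R := R) (idem_sub he hx hxe hex)
  rw [Module.rankAtStalk_eq_of_equiv (splitEquiv (R := R) he hx hxe hex),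
    Module.rankAtStalk_prod]
  rfl

end split

end basics

/-- The generator `e` of `A e`. -/
def gen {A : Type u} [Ring A] (e : A) : leftIdeal e := ⟨e, Submodule.mem_span_singleton_self e⟩

/-- `d ↦ d(e)`. -/
def rho (R : Type u) [CommRing R] {A : Type u} [Ring A] [Algebra R A] (e : A) :
    Module.End A (leftIdeal e) →ₗ[R] A where
  toFun d := ((d (gen e) : leftIdeal e) : A)
  map_add' _ _ := rfl
  map_smul' _ _ := rfl

/-- `x ↦ (m ↦ m x e)`. -/
def sigma (R : Type u) [CommRing R] {A : Type u} [Ring A] [Algebra R A] (e : A) :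
    A →ₗ[R] Module.End A (leftIdeal e) where
  toFun x :=
    { toFun := fun m => ⟨(m : A) * x * e, Submodule.mem_span_singleton.2 ⟨(m : A) * x, rfl⟩⟩
      map_add' := fun a b => Subtype.ext
        (show ((a : A) + (b : A)) * x * e = (a : A) * x * e + (b : A) * x * e by
          rw [add_mul, add_mul])
      map_smul' := fun a m => Subtype.ext
        (show (a * (m : A)) * x * e = a * ((m : A) * x * e) by simp only [mul_assoc]) }
  map_add' x y := LinearMap.ext fun m => Subtype.ext
    (show (m : A) * (x + y) * e = (m : A) * x * e + (m : A) * y * e by rw [mul_add, add_mul])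
  map_smul' r x := LinearMap.ext fun m => Subtype.ext
    (show (m : A) * (r • x) * e = r • ((m : A) * x * e) by rw [mul_smul_comm, smul_mul_assoc])

/-- Restriction of scalars `End_A(M) → End_R(M)` as an algebra map. -/
def resD (R : Type u) [CommRing R] {A : Type u} [Ring A] [Algebra R A] (e : A) :
    Module.End A (leftIdeal e) →ₐ[R] Module.End R (leftIdeal e) where
  toFun d := d.restrictScalars R
  map_one' := rfl
  map_mul' _ _ := rfl
  map_zero' := rfl
  map_add' _ _ := rfl
  commutes' _ := LinearMap.ext fun _ => rfl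

/-- `Φ : A ⊗ D → End_R(M)`, `a ⊗ d ↦ (m ↦ a d(m))`. -/
noncomputable def Phi (R : Type u) [CommRing R] {A : Type u} [Ring A] [Algebra R A] (e : A) :
    A ⊗[R] Module.End A (leftIdeal e) →ₐ[R] Module.End R (leftIdeal e) :=
  Algebra.TensorProduct.lift (Algebra.lsmul R R (leftIdeal e)) (resD R e)
    (fun a d => by
      show _ * _ = _ * _
      exact LinearMap.ext fun m => (map_smul d a m).symm)

section corner

variable {R : Type u} [CommRing R] {A : Type u} [Ring A] [Algebra R A] {e : A}

theorem key (he : IsIdempotentElem e) (d : Module.End A (leftIdeal e)) (m : leftIdeal e) :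
    ((d m : leftIdeal e) : A) = (m : A) * ((d (gen e) : leftIdeal e) : A) := by
  have hm : m = (m : A) • gen e := Subtype.ext (coe_mul_self he m).symm
  conv_lhs => rw [hm, map_smul]
  rfl

theorem rho_mul_e (he : IsIdempotentElem e) (d : Module.End A (leftIdeal e)) :
    rho R e d * e = rho R e d := coe_mul_self he (d (gen e))

theorem e_mul_rho (he : IsIdempotentElem e) (d : Module.End A (leftIdeal e)) :
    e * rho R e d = rho R e d := (key he d (gen e)).symm

theorem sigma_rho (he : IsIdempotentElem e) (d : Module.End A (leftIdeal e)) :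
    sigma R e (rho R e d) = d :=
  LinearMap.ext fun m => Subtype.ext (by
    show (m : A) * rho R e d * e = ((d m : leftIdeal e) : A)
    rw [mul_assoc, rho_mul_e he]
    exact (key he d m).symm)

theorem sigma_e (he : IsIdempotentElem e) : sigma R e e = 1 :=
  LinearMap.ext fun m => Subtype.ext (by
    show (m : A) * e * e = m
    rw [coe_mul_self he, coe_mul_self he])

theorem rho_mul (he : IsIdempotentElem e) (d d' : Module.End A (leftIdeal e)) :
    rho R e (d * d') = rho R e d' * rho R e d := key he d (d' (gen e))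

theorem rho_sigma (x : A) : rho R e (sigma R e x) = e * x * e := rfl

theorem finite_D [Module.Finite R A] (he : IsIdempotentElem e) :
    Module.Finite R (Module.End A (leftIdeal e)) :=
  Module.Finite.of_surjective (sigma R e) (fun d => ⟨rho R e d, sigma_rho he d⟩)

theorem projective_D [Module.Projective R A] (he : IsIdempotentElem e) :
    Module.Projective R (Module.End A (leftIdeal e)) :=
  Module.Projective.of_split (rho R e) (sigma R e) (LinearMap.ext (sigma_rho he))

theorem faithful_D [FaithfulSMul R (leftIdeal e)] :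
    FaithfulSMul R (Module.End A (leftIdeal e)) :=
  ⟨fun {r₁ r₂} h => eq_of_smul_eq_smul (α := leftIdeal e) (fun m => by
    have := LinearMap.congr_fun (h 1) m
    simpa using this)⟩

theorem Phi_tmul_coe (a : A) (d : Module.End A (leftIdeal e)) (m : leftIdeal e) :
    ((Phi R e (a ⊗ₜ[R] d) m : leftIdeal e) : A) = a * ((d m : leftIdeal e) : A) := by
  rw [Phi, Algebra.TensorProduct.lift_tmul]
  rfl

/-! ### Case 1: `Φ` is bijective -/

variable (R e) in
/-- `a ⊗ d ↦ a ⊗ op (d e)`. -/
noncomputable def iU1 : A ⊗[R] Module.End A (leftIdeal e) →ₗ[R] A ⊗[R] Aᵐᵒᵖ :=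
  LinearMap.lTensor A (opL R A ∘ₗ rho R e)

variable (R e) in
/-- `a ⊗ op b ↦ a ⊗ σ b`. -/
noncomputable def rU1 : A ⊗[R] Aᵐᵒᵖ →ₗ[R] A ⊗[R] Module.End A (leftIdeal e) :=
  LinearMap.lTensor A (sigma R e ∘ₗ unopL R A)

variable (R e) in
/-- `g ↦ ι g π`. -/
def iV1 : Module.End R (leftIdeal e) →ₗ[R] Module.End R A where
  toFun g := incl R e ∘ₗ g ∘ₗ proj R e
  map_add' g h := LinearMap.ext fun x => by
    simp only [LinearMap.comp_apply, LinearMap.add_apply, map_add]
  map_smul' r g := LinearMap.ext fun x => by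
    simp only [LinearMap.comp_apply, LinearMap.smul_apply, map_smul, RingHom.id_apply]

variable (R e) in
/-- `h ↦ π h ι`. -/
def rV1 : Module.End R A →ₗ[R] Module.End R (leftIdeal e) where
  toFun h := proj R e ∘ₗ h ∘ₗ incl R e
  map_add' g h := LinearMap.ext fun x => by
    simp only [LinearMap.comp_apply, LinearMap.add_apply, map_add]
  map_smul' r g := LinearMap.ext fun x => by
    simp only [LinearMap.comp_apply, LinearMap.smul_apply, map_smul, RingHom.id_apply]

theorem hU1 (he : IsIdempotentElem e) (z : A ⊗[R] Module.End A (leftIdeal e)) :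
    rU1 R e (iU1 R e z) = z := by
  have h : (sigma R e ∘ₗ unopL R A) ∘ₗ (opL R A ∘ₗ rho R e) = LinearMap.id :=
    LinearMap.ext fun d => sigma_rho (R := R) he d
  rw [rU1, iU1, ← LinearMap.comp_apply, ← LinearMap.lTensor_comp, h, LinearMap.lTensor_id]
  rfl

theorem hV1 (he : IsIdempotentElem e) (g : Module.End R (leftIdeal e)) :
    rV1 R e (iV1 R e g) = g :=
  LinearMap.ext fun m => by
    show proj R e (incl R e (g (proj R e (incl R e m)))) = g m
    rw [proj_incl he, proj_incl he]

theorem H1_1 (he : IsIdempotentElem e) :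
    (AlgHom.mulLeftRight R A).toLinearMap ∘ₗ iU1 R e = iV1 R e ∘ₗ (Phi R e).toLinearMap := by
  refine TensorProduct.ext' fun a d => LinearMap.ext fun x => ?_
  show AlgHom.mulLeftRight R A (a ⊗ₜ[R] MulOpposite.op (rho R e d)) x =
    ((Phi R e (a ⊗ₜ[R] d) (proj R e x) : leftIdeal e) : A)
  rw [AlgHom.mulLeftRight_apply, Phi_tmul_coe, key he d (proj R e x)]
  show a * x * rho R e d = a * (x * e * rho R e d)
  rw [mul_assoc x e, e_mul_rho he, mul_assoc]

theorem H2_1 :
    (Phi R e).toLinearMap ∘ₗ rU1 R e = rV1 R e ∘ₗ (AlgHom.mulLeftRight R A).toLinearMap := by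
  refine TensorProduct.ext' fun a b => LinearMap.ext fun m => Subtype.ext ?_
  show ((Phi R e (a ⊗ₜ[R] sigma R e b.unop) m : leftIdeal e) : A) =
    (AlgHom.mulLeftRight R A (a ⊗ₜ[R] b) (m : A)) * e
  rw [Phi_tmul_coe, AlgHom.mulLeftRight_apply]
  show a * ((m : A) * b.unop * e) = a * (m : A) * b.unop * e
  simp only [mul_assoc]

theorem Phi_bijective [IsAzumaya R A] (he : IsIdempotentElem e) :
    Function.Bijective (Phi R e) :=
  bijective_of_retract (AlgHom.mulLeftRight R A) IsAzumaya.bij (Phi R e) (iU1 R e) (rU1 R e)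
    (hU1 he) (iV1 R e) (rV1 R e) (hV1 he) (fun z => LinearMap.congr_fun (H1_1 he) z)
    (fun u => LinearMap.congr_fun H2_1 u)

/-! ### Case 2: `D ⊗ Dᵐᵒᵖ → End_R(D)` is bijective -/

variable (R e) in
/-- `d ⊗ op d' ↦ ρ d' ⊗ op (ρ d)`. -/
noncomputable def iU2 :
    Module.End A (leftIdeal e) ⊗[R] (Module.End A (leftIdeal e))ᵐᵒᵖ →ₗ[R] A ⊗[R] Aᵐᵒᵖ :=
  TensorProduct.map (rho R e ∘ₗ unopL R (Module.End A (leftIdeal e))) (opL R A ∘ₗ rho R e) ∘ₗ
    (TensorProduct.comm R (Module.End A (leftIdeal e))
      (Module.End A (leftIdeal e))ᵐᵒᵖ).toLinearMap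

variable (R e) in
/-- `a ⊗ op b ↦ σ b ⊗ op (σ a)`. -/
noncomputable def rU2 :
    A ⊗[R] Aᵐᵒᵖ →ₗ[R] Module.End A (leftIdeal e) ⊗[R] (Module.End A (leftIdeal e))ᵐᵒᵖ :=
  (TensorProduct.comm R (Module.End A (leftIdeal e))ᵐᵒᵖ
      (Module.End A (leftIdeal e))).toLinearMap ∘ₗ
    TensorProduct.map (opL R (Module.End A (leftIdeal e)) ∘ₗ sigma R e)
      (sigma R e ∘ₗ unopL R A)

variable (R e) in
/-- `G ↦ ρ G σ`. -/
def iV2 : Module.End R (Module.End A (leftIdeal e)) →ₗ[R] Module.End R A where
  toFun g := rho R e ∘ₗ g ∘ₗ sigma R e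
  map_add' g h := LinearMap.ext fun x => by
    simp only [LinearMap.comp_apply, LinearMap.add_apply, map_add]
  map_smul' r g := LinearMap.ext fun x => by
    simp only [LinearMap.comp_apply, LinearMap.smul_apply, map_smul, RingHom.id_apply]

variable (R e) in
/-- `H ↦ σ H ρ`. -/
def rV2 : Module.End R A →ₗ[R] Module.End R (Module.End A (leftIdeal e)) where
  toFun h := sigma R e ∘ₗ h ∘ₗ rho R e
  map_add' g h := LinearMap.ext fun x => by
    simp only [LinearMap.comp_apply, LinearMap.add_apply, map_add]
  map_smul' r g := LinearMap.ext fun x => by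
    simp only [LinearMap.comp_apply, LinearMap.smul_apply, map_smul, RingHom.id_apply]

theorem hU2 (he : IsIdempotentElem e)
    (z : Module.End A (leftIdeal e) ⊗[R] (Module.End A (leftIdeal e))ᵐᵒᵖ) :
    rU2 R e (iU2 R e z) = z := by
  have h : rU2 R e ∘ₗ iU2 R e = LinearMap.id := by
    refine TensorProduct.ext' fun d d'' => ?_
    show sigma R e (rho R e d) ⊗ₜ[R] MulOpposite.op (sigma R e (rho R e d''.unop)) = d ⊗ₜ[R] d''
    rw [sigma_rho he, sigma_rho he, MulOpposite.op_unop]
  exact LinearMap.congr_fun h z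

theorem hV2 (he : IsIdempotentElem e) (g : Module.End R (Module.End A (leftIdeal e))) :
    rV2 R e (iV2 R e g) = g :=
  LinearMap.ext fun d => by
    show sigma R e (rho R e (g (sigma R e (rho R e d)))) = g d
    rw [sigma_rho he, sigma_rho he]

theorem H1_2 (he : IsIdempotentElem e) :
    (AlgHom.mulLeftRight R A).toLinearMap ∘ₗ iU2 R e =
      iV2 R e ∘ₗ (AlgHom.mulLeftRight R (Module.End A (leftIdeal e))).toLinearMap := by
  refine TensorProduct.ext' fun d d'' => LinearMap.ext fun x => ?_
  show AlgHom.mulLeftRight R A (rho R e d''.unop ⊗ₜ[R] MulOpposite.op (rho R e d)) x =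
    rho R e (AlgHom.mulLeftRight R (Module.End A (leftIdeal e)) (d ⊗ₜ[R] d'') (sigma R e x))
  rw [AlgHom.mulLeftRight_apply, AlgHom.mulLeftRight_apply, rho_mul he, rho_mul he, rho_sigma]
  show rho R e d''.unop * x * rho R e d = rho R e d''.unop * (e * x * e * rho R e d)
  rw [sandwich x (rho_mul_e he _) (e_mul_rho he _)]

theorem H2_2 (he : IsIdempotentElem e) :
    (AlgHom.mulLeftRight R (Module.End A (leftIdeal e))).toLinearMap ∘ₗ rU2 R e =
      rV2 R e ∘ₗ (AlgHom.mulLeftRight R A).toLinearMap := by
  refine TensorProduct.ext' fun a b => LinearMap.ext fun x => LinearMap.ext fun m =>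
    Subtype.ext ?_
  show (((AlgHom.mulLeftRight R (Module.End A (leftIdeal e))
      (sigma R e b.unop ⊗ₜ[R] MulOpposite.op (sigma R e a)) x) m : leftIdeal e) : A) =
    ((sigma R e (AlgHom.mulLeftRight R A (a ⊗ₜ[R] b) (rho R e x)) m : leftIdeal e) : A)
  rw [AlgHom.mulLeftRight_apply, AlgHom.mulLeftRight_apply]
  show ((x (sigma R e a m) : leftIdeal e) : A) * b.unop * e =
    (m : A) * (a * rho R e x * b.unop) * e
  rw [key he x (sigma R e a m)]
  show (m : A) * a * e * rho R e x * b.unop * e = _
  rw [mul_assoc ((m : A) * a) e, e_mul_rho he]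
  simp only [mul_assoc]

theorem Theta_bijective [IsAzumaya R A] (he : IsIdempotentElem e) :
    Function.Bijective (AlgHom.mulLeftRight R (Module.End A (leftIdeal e))) :=
  bijective_of_retract (AlgHom.mulLeftRight R A) IsAzumaya.bij
    (AlgHom.mulLeftRight R (Module.End A (leftIdeal e))) (iU2 R e) (rU2 R e)
    (hU2 he) (iV2 R e) (rV2 R e) (hV2 he) (fun z => LinearMap.congr_fun (H1_2 he) z)
    (fun u => LinearMap.congr_fun (H2_2 he) u)

end corner

end Groth.Agent.Lib.Lead.BrIdem
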