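/-
Lead library: reduced norms II.
The "flattening" `M_I(D) → M_{I × J}(L)` attached to `ρ : D → M_J(L)`, determinants of unipotent,
block diagonal and diagonal matrices, and Gaussian elimination over a division ring: the determinant
of the flattening of an invertible matrix over `D` is the determinant of `ρ δ` for a unit `δ`.
-/
import Mathlib
import Groth.Agent.Lib.Lead.RedNorm1

set_option autoImplicit false
set_option linter.style.haveILetI false

namespace Groth.Agent.Lib.Lead.RedNorm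

open scoped TensorProduct

universe u v w

section flat

variable {k : Type u} [Field k] {D : Type v} [Ring D] [Algebra k D] {L : Type w} [Field L]
  [Algebra k L] {J : Type} [Fintype J] [DecidableEq J] (ρ : D →ₐ[k] Matrix J J L)

/-- the flattening `M_I(D) → M_{I × J}(L)` -/
noncomputable def flat (I : Type) [Fintype I] [DecidableEq I] :
    Matrix I I D →ₐ[k] Matrix (I × J) (I × J) L :=
  ((Matrix.compAlgEquiv I J L k : Matrix I I (Matrix J J L) ≃ₐ[k] Matrix (I × J) (I × J) L) :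
    Matrix I I (Matrix J J L) →ₐ[k] Matrix (I × J) (I × J) L).comp ρ.mapMatrix

variable {I : Type} [Fintype I] [DecidableEq I]

theorem flat_apply (g : Matrix I I D) (i j : I) (p q : J) :
    flat ρ I g (i, p) (j, q) = ρ (g i j) p q := rfl

theorem det_flat_one_add {N : Matrix I I D} (hN : N * N = 0) : (flat ρ I (1 + N)).det = 1 := by
  rw [map_add, map_one]
  refine det_one_add_of_isNilpotent _ ⟨2, ?_⟩
  rw [sq, ← map_mul, hN, map_zero]

theorem isUnit_one_add {N : Matrix I I D} (hN : N * N = 0) : IsUnit (1 + N) := by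
  have h1 : (1 + N) * (1 - N) = 1 := by
    have : (1 + N) * (1 - N) = 1 - N * N := by noncomm_ring
    rw [this, hN, sub_zero]
  have h2 : (1 - N) * (1 + N) = 1 := by
    have : (1 - N) * (1 + N) = 1 - N * N := by noncomm_ring
    rw [this, hN, sub_zero]
  exact ⟨⟨1 + N, 1 - N, h1, h2⟩, rfl⟩

/-- reindexing -/
theorem det_flat_submatrix {I' : Type} [Fintype I'] [DecidableEq I'] (e : I ≃ I')
    (g : Matrix I' I' D) : (flat ρ I (g.submatrix e e)).det = (flat ρ I' g).det := by
  have h : flat ρ I (g.submatrix e e) =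
      (flat ρ I' g).submatrix (e.prodCongr (Equiv.refl J)) (e.prodCongr (Equiv.refl J)) := by
    ext ⟨i, p⟩ ⟨j, q⟩
    rfl
  rw [h, Matrix.det_submatrix_equiv_self]

/-- the equivalence used for block diagonal matrices -/
def blockEquiv (I J : Type) : (I × J) ⊕ J ≃ (I ⊕ Unit) × J where
  toFun := Sum.elim (fun ip => (Sum.inl ip.1, ip.2)) (fun q => (Sum.inr (), q))
  invFun := fun x => match x with
    | (Sum.inl i, p) => Sum.inl (i, p)
    | (Sum.inr _, q) => Sum.inr q
  left_inv := by rintro (⟨i, p⟩ | q) <;> rfl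
  right_inv := by rintro ⟨(i | u), p⟩ <;> rfl

theorem det_flat_fromBlocks_diag (A' : Matrix I I D) (d : Matrix Unit Unit D) :
    (flat ρ (I ⊕ Unit) (Matrix.fromBlocks A' 0 0 d)).det =
      (flat ρ I A').det * (ρ (d () ())).det := by
  have h : (flat ρ (I ⊕ Unit) (Matrix.fromBlocks A' 0 0 d)).submatrix (blockEquiv I J)
      (blockEquiv I J) = Matrix.fromBlocks (flat ρ I A') 0 0 (ρ (d () ())) := by
    ext (⟨i, p⟩ | p) (⟨j, q⟩ | q)
    · rfl
    · show ρ ((Matrix.fromBlocks A' 0 0 d) (Sum.inl i) (Sum.inr ())) p q = 0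
      rw [Matrix.fromBlocks_apply₁₂, Matrix.zero_apply, map_zero, Matrix.zero_apply]
    · show ρ ((Matrix.fromBlocks A' 0 0 d) (Sum.inr ()) (Sum.inl j)) p q = 0
      rw [Matrix.fromBlocks_apply₂₁, Matrix.zero_apply, map_zero, Matrix.zero_apply]
    · rfl
  rw [← Matrix.det_submatrix_equiv_self (blockEquiv I J), h, Matrix.det_fromBlocks_zero₂₁]

theorem det_flat_diagonal (v : I → D) :
    (flat ρ I (Matrix.diagonal v)).det = ∏ i, (ρ (v i)).det := by
  have h : flat ρ I (Matrix.diagonal v) =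
      (Matrix.blockDiagonal fun i => ρ (v i)).submatrix (Equiv.prodComm I J)
        (Equiv.prodComm I J) := by
    ext ⟨i, p⟩ ⟨j, q⟩
    show ρ (Matrix.diagonal v i j) p q = Matrix.blockDiagonal (fun i => ρ (v i)) (p, i) (q, j)
    rw [Matrix.blockDiagonal_apply', Matrix.diagonal_apply]
    split_ifs
    · rfl
    · rw [map_zero, Matrix.zero_apply]
  rw [h, Matrix.det_submatrix_equiv_self, Matrix.det_blockDiagonal]

theorem det_flat_diagonal_single (i₀ : I) (δ : D) :
    (flat ρ I (Matrix.diagonal (Function.update (fun _ => (1 : D)) i₀ δ))).det = (ρ δ).det := by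
  rw [det_flat_diagonal, Fintype.prod_eq_single i₀]
  · rw [Function.update_self]
  · intro i hi
    rw [Function.update_of_ne hi, map_one, Matrix.det_one]

end flat

section elim

variable {k : Type u} [Field k] {D : Type v} [DivisionRing D] [Algebra k D] {L : Type w} [Field L]
  [Algebra k L] {J : Type} [Fintype J] [DecidableEq J] (ρ : D →ₐ[k] Matrix J J L)

/-- index types for which the determinant of the flattening of every invertible matrix is the
determinant of `ρ δ` for a unit `δ` -/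
def Good (I : Type) [Fintype I] [DecidableEq I] : Prop :=
  ∀ g : Matrix I I D, IsUnit g → ∃ δ : Dˣ, (flat ρ I g).det = (ρ (δ : D)).det

theorem good_of_equiv {I I' : Type} [Fintype I] [DecidableEq I] [Fintype I'] [DecidableEq I']
    (e : I ≃ I') (h : Good ρ I) : Good ρ I' := by
  intro g hg
  have hg' : IsUnit (g.submatrix e e) := by
    have := hg.map (Matrix.reindexAlgEquiv k D e.symm)
    simpa [Matrix.reindexAlgEquiv_apply, Matrix.reindex_apply] using this
  obtain ⟨δ, hδ⟩ := h _ hg'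
  exact ⟨δ, by rw [← hδ, det_flat_submatrix]⟩

theorem good_of_isEmpty {I : Type} [Fintype I] [DecidableEq I] [IsEmpty I] : Good ρ I := by
  intro g _
  refine ⟨1, ?_⟩
  rw [Matrix.det_isEmpty, Units.val_one, map_one, Matrix.det_one]

theorem exists_row_ne_zero {I : Type} [Fintype I] [DecidableEq I] {g : Matrix I I D}
    (hg : IsUnit g) (r : I) : ∃ c, g r c ≠ 0 := by
  by_contra hall
  push_neg at hall
  obtain ⟨u, rfl⟩ := hg
  have h1 : ((u : Matrix I I D) * ((u⁻¹ : (Matrix I I D)ˣ) : Matrix I I D)) r r = 1 := by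
    rw [Units.mul_inv, Matrix.one_apply_eq]
  rw [Matrix.mul_apply] at h1
  have h2 : ∑ j, (u : Matrix I I D) r j * ((u⁻¹ : (Matrix I I D)ˣ) : Matrix I I D) j r = 0 :=
    Finset.sum_eq_zero fun j _ => by rw [hall j, zero_mul]
  rw [h2] at h1
  exact zero_ne_one h1

theorem isUnit_of_isUnit_fromBlocks_diag {I : Type} [Fintype I] [DecidableEq I]
    {A' : Matrix I I D} {d : Matrix Unit Unit D}
    (h : IsUnit (Matrix.fromBlocks A' 0 0 d)) : IsUnit A' := by
  obtain ⟨u, hu⟩ := h
  obtain ⟨M₁, M₂, M₃, M₄, hM⟩ : ∃ M₁ M₂ M₃ M₄,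
      ((u⁻¹ : (Matrix (I ⊕ Unit) (I ⊕ Unit) D)ˣ) : Matrix (I ⊕ Unit) (I ⊕ Unit) D) =
        Matrix.fromBlocks M₁ M₂ M₃ M₄ :=
    ⟨_, _, _, _, (Matrix.fromBlocks_toBlocks _).symm⟩
  have h1 : Matrix.fromBlocks A' 0 0 d * Matrix.fromBlocks M₁ M₂ M₃ M₄ = 1 := by
    rw [← hu, ← hM, Units.mul_inv]
  have h2 : Matrix.fromBlocks M₁ M₂ M₃ M₄ * Matrix.fromBlocks A' 0 0 d = 1 := by
    rw [← hu, ← hM, Units.inv_mul]
  rw [Matrix.fromBlocks_multiply, ← Matrix.fromBlocks_one, Matrix.fromBlocks_inj] at h1 h2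
  have e1 : A' * M₁ = 1 := by
    have := h1.1
    rwa [Matrix.zero_mul, add_zero] at this
  have e2 : M₁ * A' = 1 := by
    have := h2.1
    rwa [Matrix.mul_zero, add_zero] at this
  exact ⟨⟨A', M₁, e1, e2⟩, rfl⟩

theorem good_sum_unit_aux {I : Type} [Fintype I] [DecidableEq I] (h : Good ρ I)
    (g : Matrix (I ⊕ Unit) (I ⊕ Unit) D) (hg : IsUnit g)
    (hα : g (Sum.inr ()) (Sum.inr ()) ≠ 0) :
    ∃ δ : Dˣ, (flat ρ (I ⊕ Unit) g).det = (ρ (δ : D)).det := by
  obtain ⟨A, b, c, d, rfl⟩ : ∃ A b c d, g = Matrix.fromBlocks A b c d :=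
    ⟨_, _, _, _, (Matrix.fromBlocks_toBlocks g).symm⟩
  have hα' : d () () ≠ 0 := hα
  set dinv : Matrix Unit Unit D := Matrix.of fun _ _ => (d () ())⁻¹ with hdinv
  have h1 : d * dinv = 1 := by
    ext u v
    rw [Matrix.mul_apply, Fintype.sum_unique, Matrix.one_apply_eq]
    exact mul_inv_cancel₀ hα'
  have h2 : dinv * d = 1 := by
    ext u v
    rw [Matrix.mul_apply, Fintype.sum_unique, Matrix.one_apply_eq]
    exact inv_mul_cancel₀ hα'
  set N₁ : Matrix (I ⊕ Unit) (I ⊕ Unit) D := Matrix.fromBlocks 0 (-(b * dinv)) 0 0 with hN₁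
  set N₂ : Matrix (I ⊕ Unit) (I ⊕ Unit) D := Matrix.fromBlocks 0 0 (-(dinv * c)) 0 with hN₂
  have hN₁sq : N₁ * N₁ = 0 := by
    rw [hN₁, Matrix.fromBlocks_multiply]
    simp
  have hN₂sq : N₂ * N₂ = 0 := by
    rw [hN₂, Matrix.fromBlocks_multiply]
    simp
  have hU₁ : 1 + N₁ = Matrix.fromBlocks 1 (-(b * dinv)) 0 1 := by
    rw [hN₁, ← Matrix.fromBlocks_one, Matrix.fromBlocks_add]
    simp
  have hU₂ : 1 + N₂ = Matrix.fromBlocks 1 0 (-(dinv * c)) 1 := by
    rw [hN₂, ← Matrix.fromBlocks_one, Matrix.fromBlocks_add]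
    simp
  have hprod : (1 + N₁) * Matrix.fromBlocks A b c d * (1 + N₂) =
      Matrix.fromBlocks (A - b * dinv * c) 0 0 d := by
    rw [hU₁, hU₂, Matrix.fromBlocks_multiply, Matrix.fromBlocks_multiply]
    have e12 : (1 : Matrix I I D) * b + -(b * dinv) * d = 0 := by
      rw [Matrix.one_mul, Matrix.neg_mul, Matrix.mul_assoc, h2, Matrix.mul_one, add_neg_cancel]
    have e11 : (1 : Matrix I I D) * A + -(b * dinv) * c = A - b * dinv * c := by
      rw [Matrix.one_mul, Matrix.neg_mul, sub_eq_add_neg]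
    have e21 : (0 : Matrix Unit I D) * A + (1 : Matrix Unit Unit D) * c = c := by
      rw [Matrix.zero_mul, Matrix.one_mul, zero_add]
    have e22 : (0 : Matrix Unit I D) * b + (1 : Matrix Unit Unit D) * d = d := by
      rw [Matrix.zero_mul, Matrix.one_mul, zero_add]
    rw [e11, e12, e21, e22]
    congr 1
    · rw [Matrix.mul_one, Matrix.zero_mul, add_zero]
    · rw [Matrix.mul_zero, Matrix.zero_mul, add_zero]
    · rw [Matrix.mul_one, Matrix.mul_neg, ← Matrix.mul_assoc, h1, Matrix.one_mul, add_neg_cancel]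
    · rw [Matrix.mul_zero, Matrix.mul_one, zero_add]
  have hunit : IsUnit (Matrix.fromBlocks (A - b * dinv * c) 0 0 d) := by
    rw [← hprod]
    exact ((isUnit_one_add hN₁sq).mul hg).mul (isUnit_one_add hN₂sq)
  obtain ⟨δ', hδ'⟩ := h _ (isUnit_of_isUnit_fromBlocks_diag hunit)
  refine ⟨δ' * Units.mk0 (d () ()) hα', ?_⟩
  have hdet := congrArg (fun M => (flat ρ (I ⊕ Unit) M).det) hprod
  simp only [map_mul, Matrix.det_mul, det_flat_one_add ρ hN₁sq, det_flat_one_add ρ hN₂sq, one_mul,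
    mul_one] at hdet
  rw [hdet, det_flat_fromBlocks_diag, hδ', Units.val_mul, Units.val_mk0, map_mul, Matrix.det_mul]

theorem good_sum_unit {I : Type} [Fintype I] [DecidableEq I] (h : Good ρ I) :
    Good ρ (I ⊕ Unit) := by
  intro g hg
  by_cases hα : g (Sum.inr ()) (Sum.inr ()) = 0
  · obtain ⟨c, hc⟩ := exists_row_ne_zero hg (Sum.inr ())
    rcases c with i | u
    · set N : Matrix (I ⊕ Unit) (I ⊕ Unit) D := Matrix.single (Sum.inl i) (Sum.inr ()) 1 with hN
      have hNsq : N * N = 0 := by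
        rw [hN, Matrix.single_mul_single_of_ne]
        exact Sum.inr_ne_inl
      have hcorner : (g * (1 + N)) (Sum.inr ()) (Sum.inr ()) ≠ 0 := by
        rw [Matrix.mul_add, Matrix.mul_one, Matrix.add_apply, hα, zero_add, hN,
          Matrix.mul_single_apply_same, mul_one]
        exact hc
      obtain ⟨δ, hδ⟩ := good_sum_unit_aux ρ h (g * (1 + N)) (hg.mul (isUnit_one_add hNsq)) hcorner
      refine ⟨δ, ?_⟩
      rw [← hδ, map_mul, Matrix.det_mul, det_flat_one_add ρ hNsq, mul_one]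
    · exact absurd hα hc
  · exact good_sum_unit_aux ρ h g hg hα

theorem good_fin (r : ℕ) : Good ρ (Fin r) := by
  induction r with
  | zero => exact good_of_isEmpty ρ
  | succ r ih =>
    exact good_of_equiv ρ
      ((Equiv.sumCongr (Equiv.refl (Fin r)) finOneEquiv.symm).trans finSumFinEquiv)
      (good_sum_unit ρ ih)

theorem good (I : Type) [Fintype I] [DecidableEq I] : Good ρ I :=
  good_of_equiv ρ (Fintype.equivFin I).symm (good_fin ρ _)

end elim

end Groth.Agent.Lib.Lead.RedNorm
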