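/-
Lead library: reduced norms III.
Compatibility of reduced norms with the field norm: for a finite extension `K/k` with basis `b`,
the embedding `θ : K ⊗ A → M_T(A)` and an algebra map `ρ : A → M_Q(L)`:
`det (ρ_T (θ x)) = N_{K/k}(Nrd_{K ⊗ A}(x))` for units `x`.
-/
import Mathlib
import Groth.Agent.Lib.Lead.RedNorm2

set_option autoImplicit false
set_option linter.style.haveILetI false

namespace Groth.Agent.Lib.Lead.RedNorm

open scoped TensorProduct

universe u v w w'

section normCompat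

variable {k : Type u} [Field k] {K : Type w} [Field K] [Algebra k K]
  {A : Type v} [Ring A] [Algebra k A]
  {L : Type w'} [Field L] [Algebra k L] {Q : Type} [Fintype Q] [DecidableEq Q]
  {T : Type} [Fintype T] [DecidableEq T]

/-- scalar matrices as an algebra map -/
noncomputable def scalarAlgHom (T : Type) [Fintype T] [DecidableEq T] (k : Type u) [Field k]
    (A : Type v) [Ring A] [Algebra k A] : A →ₐ[k] Matrix T T A :=
  { toRingHom := Matrix.scalar T
    commutes' := fun c => by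
      ext s t
      simp only [RingHom.toMonoidHom_eq_coe, OneHom.toFun_eq_coe, MonoidHom.toOneHom_coe,
        MonoidHom.coe_coe, Matrix.scalar_apply, Matrix.diagonal_apply,
        Matrix.algebraMap_matrix_apply] }

theorem scalarAlgHom_apply (a : A) : scalarAlgHom T k A a = Matrix.scalar T a := rfl

/-- the embedding `K ⊗ A → M_T(A)` given by the regular representation of `K` -/
noncomputable def theta (b : Module.Basis T k K) : K ⊗[k] A →ₐ[k] Matrix T T A :=
  Algebra.TensorProduct.lift ((Algebra.ofId k A).mapMatrix.comp (Algebra.leftMulMatrix b))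
    (scalarAlgHom T k A) (fun c a => by
      rw [commute_iff_eq]
      ext s t
      simp only [AlgHom.comp_apply, AlgHom.mapMatrix_apply, scalarAlgHom_apply,
        Matrix.scalar_apply, Matrix.mul_diagonal, Matrix.diagonal_mul, Matrix.map_apply,
        Algebra.ofId_apply]
      exact Algebra.commutes _ _)

theorem theta_tmul_apply (b : Module.Basis T k K) (c : K) (a : A) (s t : T) :
    theta b (c ⊗ₜ[k] a) s t = Algebra.leftMulMatrix b c s t • a := by
  rw [theta, Algebra.TensorProduct.lift_tmul]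
  simp only [AlgHom.comp_apply, AlgHom.mapMatrix_apply, scalarAlgHom_apply,
    Matrix.scalar_apply, Matrix.mul_diagonal, Matrix.map_apply, Algebra.ofId_apply,
    Algebra.smul_def]

/-- the base change of `ρ` to `K`, with values in matrices over `L ⊗ K` -/
noncomputable def rhoR (ρ : A →ₐ[k] Matrix Q Q L) : K ⊗[k] A →ₐ[k] Matrix Q Q (L ⊗[k] K) :=
  Algebra.TensorProduct.lift
    (((Algebra.ofId (L ⊗[k] K) (Matrix Q Q (L ⊗[k] K))).restrictScalars k).comp
      (Algebra.TensorProduct.includeRight : K →ₐ[k] L ⊗[k] K))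
    ((Algebra.TensorProduct.includeLeft : L →ₐ[k] L ⊗[k] K).mapMatrix.comp ρ)
    (fun c a => by
      show Commute (algebraMap (L ⊗[k] K) (Matrix Q Q (L ⊗[k] K))
        ((Algebra.TensorProduct.includeRight : K →ₐ[k] L ⊗[k] K) c)) _
      exact Algebra.commute_algebraMap_left _ _)

theorem rhoR_tmul_apply (ρ : A →ₐ[k] Matrix Q Q L) (c : K) (a : A) (q q' : Q) :
    rhoR (K := K) ρ (c ⊗ₜ[k] a) q q' = (ρ a q q') ⊗ₜ[k] c := by
  rw [rhoR, Algebra.TensorProduct.lift_tmul]
  show (algebraMap (L ⊗[k] K) (Matrix Q Q (L ⊗[k] K)) ((1 : L) ⊗ₜ[k] c) *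
    (ρ a).map (Algebra.TensorProduct.includeLeft : L →ₐ[k] L ⊗[k] K)) q q' = _
  rw [← Algebra.smul_def, Matrix.smul_apply, Matrix.map_apply, smul_eq_mul,
    Algebra.TensorProduct.includeLeft_apply, Algebra.TensorProduct.tmul_mul_tmul, one_mul, mul_one]

theorem rhoR_algebraMap (ρ : A →ₐ[k] Matrix Q Q L) (c : K) :
    rhoR (K := K) ρ (algebraMap K (K ⊗[k] A) c) =
      Matrix.scalar Q ((Algebra.TensorProduct.includeRight : K →ₐ[k] L ⊗[k] K) c) := by
  rw [Algebra.TensorProduct.algebraMap_apply, Algebra.algebraMap_self_apply]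
  ext q q'
  rw [rhoR_tmul_apply, map_one, Matrix.scalar_apply, Matrix.diagonal_apply, Matrix.one_apply]
  split_ifs
  · rfl
  · rw [TensorProduct.zero_tmul]

/-- the regular representation of `L ⊗ K` over `L` -/
noncomputable def Lam (L : Type w') [Field L] [Algebra k L] (b : Module.Basis T k K) :
    L ⊗[k] K →ₐ[L] Matrix T T L :=
  Algebra.leftMulMatrix (Algebra.TensorProduct.basis L b)

theorem Lam_tmul (b : Module.Basis T k K) (ω : L) (c : K) (s t : T) :
    Lam L b (ω ⊗ₜ[k] c) s t = ω * algebraMap k L (Algebra.leftMulMatrix b c s t) := by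
  rw [Lam, Algebra.leftMulMatrix_eq_repr_mul, Algebra.TensorProduct.basis_apply,
    Algebra.TensorProduct.tmul_mul_tmul, mul_one, Algebra.TensorProduct.basis_repr_tmul,
    Finsupp.smul_apply, Finsupp.mapRange_apply, smul_eq_mul, Algebra.leftMulMatrix_eq_repr_mul]

theorem det_Lam_one_tmul (b : Module.Basis T k K) (c : K) :
    (Lam L b ((1 : L) ⊗ₜ[k] c)).det = algebraMap k L (Algebra.norm k c) := by
  have h : Lam L b ((1 : L) ⊗ₜ[k] c) = (algebraMap k L).mapMatrix (Algebra.leftMulMatrix b c) := by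
    ext s t
    rw [Lam_tmul, one_mul, RingHom.mapMatrix_apply, Matrix.map_apply]
  rw [h, ← RingHom.map_det, Algebra.norm_eq_matrix_det b]

/-- the two flattenings agree -/
theorem comp_map_Lam_eq (ρ : A →ₐ[k] Matrix Q Q L) (b : Module.Basis T k K) (x : K ⊗[k] A) :
    Matrix.compAlgEquiv Q T L k (((Lam L b).restrictScalars k).mapMatrix (rhoR ρ x)) =
      Matrix.reindexAlgEquiv k L (Equiv.prodComm T Q)
        (Matrix.compAlgEquiv T Q L k (ρ.mapMatrix (theta b x))) := by
  let G₂ : K ⊗[k] A →ₐ[k] Matrix (Q × T) (Q × T) L :=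
    ((Matrix.compAlgEquiv Q T L k : Matrix Q Q (Matrix T T L) ≃ₐ[k] Matrix (Q × T) (Q × T) L) :
      Matrix Q Q (Matrix T T L) →ₐ[k] Matrix (Q × T) (Q × T) L).comp
      ((((Lam L b).restrictScalars k).mapMatrix).comp (rhoR ρ))
  let G₁ : K ⊗[k] A →ₐ[k] Matrix (Q × T) (Q × T) L :=
    ((Matrix.reindexAlgEquiv k L (Equiv.prodComm T Q) :
        Matrix (T × Q) (T × Q) L ≃ₐ[k] Matrix (Q × T) (Q × T) L) :
      Matrix (T × Q) (T × Q) L →ₐ[k] Matrix (Q × T) (Q × T) L).comp
      (((Matrix.compAlgEquiv T Q L k : Matrix T T (Matrix Q Q L) ≃ₐ[k] Matrix (T × Q) (T × Q) L) :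
        Matrix T T (Matrix Q Q L) →ₐ[k] Matrix (T × Q) (T × Q) L).comp
        (ρ.mapMatrix.comp (theta b)))
  have h : G₂ = G₁ := by
    apply Algebra.TensorProduct.ext'
    intro c a
    ext ⟨q, s⟩ ⟨q', t⟩
    show Lam L b (rhoR ρ (c ⊗ₜ[k] a) q q') s t = ρ (theta b (c ⊗ₜ[k] a) s t) q q'
    rw [rhoR_tmul_apply, Lam_tmul, theta_tmul_apply, map_smul, Matrix.smul_apply,
      Algebra.smul_def, mul_comm]
  exact DFunLike.congr_fun h x

variable [FiniteDimensional k K] [Algebra.IsCentral k A] [IsSimpleRing A] [FiniteDimensional k A]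

/-- the key formula -/
theorem det_theta (ρ : A →ₐ[k] Matrix Q Q L) (hQ : Module.finrank k A = Fintype.card Q ^ 2)
    (b : Module.Basis T k K) {N' : K ⊗[k] A →* K} (hN' : CSAGal.IsRedNorm K (K ⊗[k] A) N')
    (x : K ⊗[k] A) (hx : IsUnit x) :
    (Matrix.compAlgEquiv T Q L k (ρ.mapMatrix (theta b x))).det =
      algebraMap k L (Algebra.norm k (N' x)) := by
  haveI : Algebra.IsCentral K (K ⊗[k] A) := Split.isCentral_baseChange K
  haveI : IsSimpleRing (K ⊗[k] A) := CSA.isSimpleRing_tensor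
  have hI : Module.finrank K (K ⊗[k] A) = Fintype.card Q ^ 2 := by
    rw [Module.finrank_baseChange, hQ]
  -- `N' x` is nonzero
  obtain ⟨ux, rfl⟩ := hx
  have hu : N' (ux : K ⊗[k] A) ≠ 0 := by
    intro h0
    have h1 : N' (ux : K ⊗[k] A) * N' ((ux⁻¹ : (K ⊗[k] A)ˣ) : K ⊗[k] A) = 1 := by
      rw [← map_mul, Units.mul_inv, map_one]
    rw [h0, zero_mul] at h1
    exact zero_ne_one h1
  set x : K ⊗[k] A := (ux : K ⊗[k] A) with hxdef
  set u : K := N' x with hudef
  -- nilpotent difference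
  have hnil := isNilpotent_det_sub hN' hI
    ((Algebra.TensorProduct.includeRight : K →ₐ[k] L ⊗[k] K) : K →+* L ⊗[k] K)
    ((rhoR (K := K) ρ : K ⊗[k] A →ₐ[k] Matrix Q Q (L ⊗[k] K)) : K ⊗[k] A →+* Matrix Q Q (L ⊗[k] K))
    (fun c => rhoR_algebraMap ρ c) x
  have hnil' : IsNilpotent ((rhoR (K := K) ρ x).det - (1 : L) ⊗ₜ[k] u) := hnil
  set δ : L ⊗[k] K := (rhoR (K := K) ρ x).det - (1 : L) ⊗ₜ[k] u with hδ
  have huinv : ((1 : L) ⊗ₜ[k] u) * ((1 : L) ⊗ₜ[k] u⁻¹) = (1 : L ⊗[k] K) := by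
    rw [Algebra.TensorProduct.tmul_mul_tmul, one_mul, mul_inv_cancel₀ hu]
    rfl
  have hdet : (rhoR (K := K) ρ x).det =
      ((1 : L) ⊗ₜ[k] u) * (1 + ((1 : L) ⊗ₜ[k] u⁻¹) * δ) := by
    rw [mul_add, mul_one, ← mul_assoc, huinv, one_mul, hδ]
    ring
  have hν : IsNilpotent (Lam L b (((1 : L) ⊗ₜ[k] u⁻¹) * δ)) :=
    (Commute.isNilpotent_mul_left (Commute.all _ _) hnil').map (Lam L b)
  -- determinant of the determinant
  have hdd := Matrix.det_det (M := rhoR (K := K) ρ x) ((Lam L b : L ⊗[k] K →ₐ[L] Matrix T T L) :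
    L ⊗[k] K →+* Matrix T T L)
  rw [← Matrix.det_reindexAlgEquiv k L (Equiv.prodComm T Q), ← comp_map_Lam_eq]
  calc (Matrix.compAlgEquiv Q T L k (((Lam L b).restrictScalars k).mapMatrix (rhoR ρ x))).det
      = (Lam L b (rhoR (K := K) ρ x).det).det := hdd.symm
    _ = (Lam L b ((1 : L) ⊗ₜ[k] u) * (1 + Lam L b (((1 : L) ⊗ₜ[k] u⁻¹) * δ))).det := by
        rw [hdet, map_mul, map_add, map_one]
    _ = algebraMap k L (Algebra.norm k u) := by
        rw [Matrix.det_mul, det_one_add_of_isNilpotent _ hν, mul_one, det_Lam_one_tmul]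

end normCompat

end Groth.Agent.Lib.Lead.RedNorm
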