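/-
Lead library: reduced norms IV (assembly).
* `redNorm_range_le`: Brauer equivalent algebras have the same reduced norm groups,
* `norm_redNorm_mem`: `N_{K/k}(Nrd_{K ⊗ A}(x)) ∈ Nrd(Aˣ)`,
* `fieldNorm_mem`: norms from splitting fields are reduced norms.
-/
import Mathlib
import Groth.Agent.Lib.Lead.RedNorm3
import Groth.Agent.Lib.Lead.Index
import Groth.Agent.Lib.Lead.Brauer2

set_option autoImplicit false
set_option linter.style.haveILetI false
set_option linter.unusedSectionVars false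

namespace Groth.Agent.Lib.Lead.RedNorm

open scoped TensorProduct
open Groth.Agent.Lib.Lead

universe u v w w' w''

section data

/-- the entry map `M_1(D) → D` -/
noncomputable def entryAlgHom (k : Type u) [Field k] (D : Type v) [Ring D] [Algebra k D] :
    Matrix (Fin 1) (Fin 1) D →ₐ[k] D :=
  { toFun := fun M => M 0 0
    map_one' := by simp
    map_mul' := fun M N => by simp [Matrix.mul_apply, Fin.sum_univ_one]
    map_zero' := rfl
    map_add' := fun M N => rfl
    commutes' := fun c => by simp [Matrix.algebraMap_matrix_apply] }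

/-- `D ≃ M_1(D)` -/
noncomputable def oneEquiv (k : Type u) [Field k] (D : Type v) [Ring D] [Algebra k D] :
    D ≃ₐ[k] Matrix (Fin 1) (Fin 1) D :=
  AlgEquiv.ofAlgHom (scalarAlgHom (Fin 1) k D) (entryAlgHom k D)
    (by
      apply AlgHom.ext
      intro M
      ext i j
      have hi : i = 0 := Subsingleton.elim _ _
      have hj : j = 0 := Subsingleton.elim _ _
      subst hi hj
      simp [scalarAlgHom_apply, entryAlgHom])
    (by
      apply AlgHom.ext
      intro a
      simp [scalarAlgHom_apply, entryAlgHom])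

variable (k : Type u) [Field k] (A : Type v) [Ring A] [Algebra k A] [Algebra.IsCentral k A]
  [IsSimpleRing A] [FiniteDimensional k A]

/-- Wedderburn data and a splitting of the division algebra -/
theorem exists_data :
    ∃ (s : ℕ) (D : Type v) (_ : DivisionRing D) (_ : Algebra k D) (L : Type u) (_ : Field L)
      (_ : Algebra k L) (m : ℕ) (_ : A ≃ₐ[k] Matrix (Fin s) (Fin s) D)
      (_ : D →ₐ[k] Matrix (Fin m) (Fin m) L),
      s ≠ 0 ∧ m ≠ 0 ∧ Algebra.IsCentral k D ∧ FiniteDimensional k D ∧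
        Module.finrank k D = m ^ 2 := by
  classical
  haveI : IsArtinianRing A := IsArtinianRing.of_finite k A
  obtain ⟨s, hs, D, _, _, _, ⟨eA⟩⟩ := IsSimpleRing.exists_algEquiv_matrix_divisionRing_finite k A
  obtain ⟨hs0, hc, hf⟩ := Index.div_props k A s D eA
  haveI := hc
  haveI := hf
  obtain ⟨d, k', _, _, hfin, hsep, hd, hdim, hk', m, hm, ⟨φ⟩⟩ :=
    Index.exists_splitting_field k D 1 D (oneEquiv k D)
  exact ⟨s, D, inferInstance, inferInstance, k', inferInstance, inferInstance, m, eA,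
    Brauer.algHomOfSplit φ, hs0, hm, hc, hf, Split.finrank_of_splits_equiv φ⟩

end data

section use

variable {k : Type u} [Field k] {A : Type v} [Ring A] [Algebra k A] [Algebra.IsCentral k A]
  [IsSimpleRing A] [FiniteDimensional k A]
  {D : Type w} [DivisionRing D] [Algebra k D] {L : Type w'} [Field L] [Algebra k L] {s m : ℕ}

theorem finrank_eq (eA : A ≃ₐ[k] Matrix (Fin s) (Fin s) D) (hD : Module.finrank k D = m ^ 2) :
    Module.finrank k A = Fintype.card (Fin s × Fin m) ^ 2 := by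
  rw [LinearEquiv.finrank_eq eA.toLinearEquiv, Module.finrank_matrix, hD, Fintype.card_prod]
  simp only [Fintype.card_fin]
  ring

/-- the algebra map `A → M_{s × m}(L)` -/
noncomputable def rhoA (eA : A ≃ₐ[k] Matrix (Fin s) (Fin s) D)
    (ρD : D →ₐ[k] Matrix (Fin m) (Fin m) L) :
    A →ₐ[k] Matrix (Fin s × Fin m) (Fin s × Fin m) L :=
  (flat ρD (Fin s)).comp (eA : A →ₐ[k] Matrix (Fin s) (Fin s) D)

theorem rhoA_apply (eA : A ≃ₐ[k] Matrix (Fin s) (Fin s) D)
    (ρD : D →ₐ[k] Matrix (Fin m) (Fin m) L) (a : A) :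
    rhoA eA ρD a = flat ρD (Fin s) (eA a) := rfl

theorem exists_delta {N : A →* k} (hN : CSAGal.IsRedNorm k A N)
    (eA : A ≃ₐ[k] Matrix (Fin s) (Fin s) D) (ρD : D →ₐ[k] Matrix (Fin m) (Fin m) L)
    (hD : Module.finrank k D = m ^ 2) (a : A) (ha : IsUnit a) :
    ∃ δ : Dˣ, algebraMap k L (N a) = (ρD (δ : D)).det := by
  obtain ⟨δ, hδ⟩ := good ρD (Fin s) (eA a) (ha.map eA)
  refine ⟨δ, ?_⟩
  rw [algebraMap_redNorm' hN (finrank_eq eA hD) (rhoA eA ρD) a, rhoA_apply]
  exact hδ

theorem exists_unit {N : A →* k} (hN : CSAGal.IsRedNorm k A N)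
    (eA : A ≃ₐ[k] Matrix (Fin s) (Fin s) D) (ρD : D →ₐ[k] Matrix (Fin m) (Fin m) L)
    (hD : Module.finrank k D = m ^ 2) (hs : s ≠ 0) (δ : Dˣ) :
    ∃ a : A, IsUnit a ∧ algebraMap k L (N a) = (ρD (δ : D)).det := by
  classical
  let i₀ : Fin s := ⟨0, Nat.pos_of_ne_zero hs⟩
  have hv : IsUnit (Function.update (fun _ : Fin s => (1 : D)) i₀ (δ : D)) := by
    rw [Pi.isUnit_iff]
    intro i
    by_cases hi : i = i₀
    · rw [hi, Function.update_self]
      exact δ.isUnit
    · rw [Function.update_of_ne hi]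
      exact isUnit_one
  have hdiag : IsUnit (Matrix.diagonal (Function.update (fun _ : Fin s => (1 : D)) i₀ (δ : D))) :=
    hv.map (Matrix.diagonalRingHom (Fin s) D)
  refine ⟨eA.symm (Matrix.diagonal (Function.update (fun _ : Fin s => (1 : D)) i₀ (δ : D))),
    hdiag.map eA.symm, ?_⟩
  rw [algebraMap_redNorm' hN (finrank_eq eA hD) (rhoA eA ρD), rhoA_apply,
    AlgEquiv.apply_symm_apply, det_flat_diagonal_single]

/-- a Brauer equivalent algebra is a matrix algebra over the same division algebra -/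
theorem exists_equiv_of_similar (eA : A ≃ₐ[k] Matrix (Fin s) (Fin s) D)
    [Algebra.IsCentral k D] [FiniteDimensional k D] (hs : s ≠ 0)
    (B : Type w'') [Ring B] [Algebra k B] [Algebra.IsCentral k B] [IsSimpleRing B]
    [FiniteDimensional k B] (p q : ℕ) (hp : p ≠ 0) (hq : q ≠ 0)
    (e : Matrix (Fin p) (Fin p) A ≃ₐ[k] Matrix (Fin q) (Fin q) B) :
    ∃ t : ℕ, t ≠ 0 ∧ Nonempty (B ≃ₐ[k] Matrix (Fin t) (Fin t) D) := by
  classical
  haveI : IsArtinianRing B := IsArtinianRing.of_finite k B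
  obtain ⟨t, ht, D₀, _, _, _, ⟨eW₀⟩⟩ := IsSimpleRing.exists_algEquiv_matrix_divisionRing_finite k B
  haveI : Nonempty (Fin t) := ⟨⟨0, Nat.pos_of_ne_zero (NeZero.ne t)⟩⟩
  haveI : Algebra.IsCentral k (Matrix (Fin t) (Fin t) D₀) := Brauer.isCentral_of_algEquiv' eW₀
  haveI : Algebra.IsCentral k D₀ := Split.isCentral_of_matrix (n := Fin t)
  let E : Matrix (Fin (q * t)) (Fin (q * t)) D₀ ≃ₐ[k] Matrix (Fin (p * s)) (Fin (p * s)) D :=
    ((Matrix.reindexAlgEquiv k D₀ finProdFinEquiv).symm.trans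
      (Matrix.compAlgEquiv (Fin q) (Fin t) D₀ k).symm).trans <|
    (eW₀.symm.mapMatrix (m := Fin q)).trans <| e.symm.trans <| (eA.mapMatrix (m := Fin p)).trans <|
    (Matrix.compAlgEquiv (Fin p) (Fin s) D k).trans (Matrix.reindexAlgEquiv k D finProdFinEquiv)
  obtain ⟨eD⟩ := Groth.Agent.S0193.result k D₀ D (q * t) (p * s)
    (Nat.mul_ne_zero hq (NeZero.ne t)) (Nat.mul_ne_zero hp hs) E
  exact ⟨t, NeZero.ne t, ⟨eW₀.trans eD.mapMatrix⟩⟩

end use

section main

/-- Brauer equivalent central simple algebras: every reduced norm of a unit of `A` is a reduced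
norm of a unit of `B`. -/
theorem redNorm_range_le (k : Type u) [Field k] (A : Type v) [Ring A] [Algebra k A]
    [Algebra.IsCentral k A] [IsSimpleRing A] [FiniteDimensional k A]
    (B : Type w) [Ring B] [Algebra k B] [Algebra.IsCentral k B] [IsSimpleRing B]
    [FiniteDimensional k B]
    (p q : ℕ) (hp : p ≠ 0) (hq : q ≠ 0)
    (e : Matrix (Fin p) (Fin p) A ≃ₐ[k] Matrix (Fin q) (Fin q) B)
    (NA : A →* k) (hNA : CSAGal.IsRedNorm k A NA) (NB : B →* k) (hNB : CSAGal.IsRedNorm k B NB)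
    (a : A) (ha : IsUnit a) : ∃ b : B, IsUnit b ∧ NB b = NA a := by
  obtain ⟨s, D, _, _, L, _, _, m, eA, ρD, hs, hm, hc, hf, hD⟩ := exists_data k A
  haveI := hc
  haveI := hf
  obtain ⟨t, ht, ⟨eB⟩⟩ := exists_equiv_of_similar eA hs B p q hp hq e
  obtain ⟨δ, hδ⟩ := exists_delta hNA eA ρD hD a ha
  obtain ⟨b, hb, hbδ⟩ := exists_unit hNB eB ρD hD ht δ
  exact ⟨b, hb, (algebraMap k L).injective (by rw [hbδ, hδ])⟩

/-- the field norm of a reduced norm of `K ⊗ A` is a reduced norm of `A` -/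
theorem norm_redNorm_mem (k : Type u) [Field k]
    (K : Type w) [Field K] [Algebra k K] [FiniteDimensional k K] (A : Type v) [Ring A] [Algebra k A]
    [Algebra.IsCentral k A] [IsSimpleRing A] [FiniteDimensional k A]
    (N : A →* k) (hN : CSAGal.IsRedNorm k A N)
    (N' : K ⊗[k] A →* K) (hN' : CSAGal.IsRedNorm K (K ⊗[k] A) N')
    (x : K ⊗[k] A) (hx : IsUnit x) : ∃ a : A, IsUnit a ∧ Algebra.norm k (N' x) = N a := by
  classical
  obtain ⟨s, D, _, _, L, _, _, m, eA, ρD, hs, hm, hc, hf, hD⟩ := exists_data k A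
  have h1 := det_theta (rhoA eA ρD) (finrank_eq eA hD) (Module.finBasis k K) hN' x hx
  have hβ : IsUnit (theta (A := A) (Module.finBasis k K) x) := hx.map (theta (Module.finBasis k K))
  have hg : IsUnit (Matrix.compAlgEquiv (Fin (Module.finrank k K)) (Fin s) D k
      ((eA : A →ₐ[k] Matrix (Fin s) (Fin s) D).mapMatrix (theta (Module.finBasis k K) x))) :=
    (hβ.map ((eA : A →ₐ[k] Matrix (Fin s) (Fin s) D).mapMatrix)).map
      (Matrix.compAlgEquiv (Fin (Module.finrank k K)) (Fin s) D k)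
  obtain ⟨δ, hδ⟩ := good ρD (Fin (Module.finrank k K) × Fin s) _ hg
  have h2 : (flat ρD (Fin (Module.finrank k K) × Fin s)
      (Matrix.compAlgEquiv (Fin (Module.finrank k K)) (Fin s) D k
        ((eA : A →ₐ[k] Matrix (Fin s) (Fin s) D).mapMatrix
          (theta (Module.finBasis k K) x)))).det =
      (Matrix.compAlgEquiv (Fin (Module.finrank k K)) (Fin s × Fin m) L k
        ((rhoA eA ρD).mapMatrix (theta (Module.finBasis k K) x))).det := by
    have h3 : flat ρD (Fin (Module.finrank k K) × Fin s)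
        (Matrix.compAlgEquiv (Fin (Module.finrank k K)) (Fin s) D k
          ((eA : A →ₐ[k] Matrix (Fin s) (Fin s) D).mapMatrix
            (theta (Module.finBasis k K) x))) =
        (Matrix.compAlgEquiv (Fin (Module.finrank k K)) (Fin s × Fin m) L k
          ((rhoA eA ρD).mapMatrix (theta (Module.finBasis k K) x))).submatrix
          (Equiv.prodAssoc (Fin (Module.finrank k K)) (Fin s) (Fin m))
          (Equiv.prodAssoc (Fin (Module.finrank k K)) (Fin s) (Fin m)) := by
      ext ⟨⟨t, i⟩, p⟩ ⟨⟨t', i'⟩, p'⟩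
      rfl
    rw [h3, Matrix.det_submatrix_equiv_self]
  obtain ⟨a, ha, haδ⟩ := exists_unit hN eA ρD hD hs δ
  refine ⟨a, ha, (algebraMap k L).injective ?_⟩
  rw [haδ, ← hδ, h2, h1]

/-- norms from a splitting field are reduced norms -/
theorem fieldNorm_mem (k : Type u) [Field k]
    (K : Type w) [Field K] [Algebra k K] [FiniteDimensional k K] (A : Type v) [Ring A] [Algebra k A]
    [Algebra.IsCentral k A] [IsSimpleRing A] [FiniteDimensional k A]
    (N : A →* k) (hN : CSAGal.IsRedNorm k A N) (hs : Curves.Splits k A K)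
    (x : K) (hx : x ≠ 0) : ∃ a : A, IsUnit a ∧ Algebra.norm k x = N a := by
  classical
  obtain ⟨n, hn, ⟨φ⟩⟩ := hs
  let N' : K ⊗[k] A →* K :=
    (Matrix.detMonoidHom (n := Fin n) (R := K)).comp (MonoidHomClass.toMonoidHom φ)
  have hN'app : ∀ u, N' u = (φ u).det := fun u => rfl
  have hN' : CSAGal.IsRedNorm K (K ⊗[k] A) N' := by
    refine ⟨K, inferInstance, inferInstance, inferInstance, n,
      (Algebra.TensorProduct.lid K (K ⊗[k] A)).trans φ, fun u => ?_⟩
    rw [hN'app, AlgEquiv.trans_apply, Algebra.TensorProduct.lid_tmul, one_smul]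
    rfl
  let i₀ : Fin n := ⟨0, Nat.pos_of_ne_zero hn⟩
  have hM : (Matrix.diagonal (Function.update (fun _ : Fin n => (1 : K)) i₀ x)).det = x := by
    rw [Matrix.det_diagonal, Fintype.prod_eq_single i₀]
    · rw [Function.update_self]
    · intro i hi
      rw [Function.update_of_ne hi]
  have hMu : IsUnit (Matrix.diagonal (Function.update (fun _ : Fin n => (1 : K)) i₀ x)) := by
    rw [Matrix.isUnit_iff_isUnit_det, hM]
    exact hx.isUnit
  obtain ⟨a, ha, hax⟩ := norm_redNorm_mem k K A N hN N' hN'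
    (φ.symm (Matrix.diagonal (Function.update (fun _ : Fin n => (1 : K)) i₀ x))) (hMu.map φ.symm)
  refine ⟨a, ha, ?_⟩
  rw [← hax, hN'app, AlgEquiv.apply_symm_apply, hM]

end main

end Groth.Agent.Lib.Lead.RedNorm
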