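import Groth.Agent.Lib.Helper23.CycE
import Groth.Agent.S1905
import Groth.Agent.S6482
import Mathlib.AlgebraicGeometry.Morphisms.ClosedImmersion
import Mathlib.AlgebraicGeometry.Morphisms.FiniteType

/-!
# Cycles and closed immersions

Transport of `Cyc.ordAt` / `Cyc.divFun` along closed immersions, pushforward of cycles along a closed
immersion, and construction of cycles from locally finite families of principal divisors.
-/

set_option autoImplicit false
universe u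
open AlgebraicGeometry CategoryTheory TopologicalSpace Topology

namespace Groth.Agent.Lib.Lead.CycClosed

open Groth.Agent.Lib.Helper23.CycLib

section algebra

variable {R R' K K' : Type u} [CommRing R] [CommRing R'] [Field K] [Field K']

theorem ordFrac_quot_congr_surj (s : R →+* K) (s' : R' →+* K') (φ : R →+* R')
    (hφ : Function.Surjective φ) (ρ : K ≃+* K') (hc : ∀ r, s' (φ r) = ρ (s r)) (g : K) :
    letI : Algebra (R ⧸ RingHom.ker s) K :=
      (Ideal.Quotient.lift (RingHom.ker s) s (fun _ ha => RingHom.mem_ker.mp ha)).toAlgebra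
    letI : Algebra (R' ⧸ RingHom.ker s') K' :=
      (Ideal.Quotient.lift (RingHom.ker s') s' (fun _ ha => RingHom.mem_ker.mp ha)).toAlgebra
    CycAlg.ordFrac (R ⧸ RingHom.ker s) K g = CycAlg.ordFrac (R' ⧸ RingHom.ker s') K' (ρ g) := by
  letI i1 : Algebra (R ⧸ RingHom.ker s) K :=
    (Ideal.Quotient.lift (RingHom.ker s) s (fun _ ha => RingHom.mem_ker.mp ha)).toAlgebra
  letI i2 : Algebra (R' ⧸ RingHom.ker s') K' :=
    (Ideal.Quotient.lift (RingHom.ker s') s' (fun _ ha => RingHom.mem_ker.mp ha)).toAlgebra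
  have hker : RingHom.ker s = Ideal.comap φ (RingHom.ker s') := by
    ext r
    rw [Ideal.mem_comap, RingHom.mem_ker, RingHom.mem_ker, hc]
    constructor
    · intro h; rw [h, map_zero]
    · intro h; exact ρ.injective (by rw [h, map_zero])
  let q : R ⧸ RingHom.ker s →+* R' ⧸ RingHom.ker s' :=
    Ideal.quotientMap (RingHom.ker s') φ (le_of_eq hker)
  have hq : Function.Bijective q :=
    ⟨Ideal.quotientMap_injective' (le_of_eq hker.symm), Ideal.quotientMap_surjective hφ⟩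
  let e : (R ⧸ RingHom.ker s) ≃+* (R' ⧸ RingHom.ker s') := RingEquiv.ofBijective q hq
  refine ordFrac_congr e ρ ?_ g
  intro r
  obtain ⟨r, rfl⟩ := Ideal.Quotient.mk_surjective r
  have h1 : e (Ideal.Quotient.mk _ r) = Ideal.Quotient.mk _ (φ r) := by
    show q (Ideal.Quotient.mk _ r) = _
    exact Ideal.quotientMap_mk
  rw [h1]
  change ρ (s r) = s' (φ r)
  rw [hc]

theorem ordFrac_inv' {R : Type u} [CommRing R] {K : Type u} [Field K] [Algebra R K] (g : K) :
    CycAlg.ordFrac R K g⁻¹ = - CycAlg.ordFrac R K g := by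
  classical
  by_cases h : IsNoetherianRing R ∧ Ring.KrullDimLE 1 R ∧ Nontrivial R ∧ IsFractionRing R K
  · obtain ⟨h1, h2, h3, h4⟩ := h
    have := h1
    have := h2
    have := h3
    have := h4
    rw [Groth.Agent.S1905.cycOrdFrac_eq_log, Groth.Agent.S1905.cycOrdFrac_eq_log, map_inv₀,
      WithZero.log_inv]
  · unfold CycAlg.ordFrac
    rw [dif_neg h, dif_neg h, neg_zero]

end algebra

variable {X Z : Scheme.{u}}

theorem divFun_inv (δ : X → ℤ) (ξ : X) (g : X.residueField ξ) (x : X) :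
    Cyc.divFun δ ξ g⁻¹ x = - Cyc.divFun δ ξ g x := by
  unfold Cyc.divFun
  by_cases hc : ξ ⤳ x ∧ δ x + 1 = δ ξ
  · rw [dif_pos hc, dif_pos hc]
    exact ordFrac_inv' g
  · rw [dif_neg hc, dif_neg hc, neg_zero]

theorem divFun_eq_zero_of_delta_ne (δ : X → ℤ) (ξ : X) (g : X.residueField ξ) (k : ℤ)
    (hξ : δ ξ = k + 1) (x : X) (hx : δ x ≠ k) : Cyc.divFun δ ξ g x = 0 := by
  unfold Cyc.divFun
  rw [dif_neg]
  rintro ⟨-, h⟩
  apply hx
  omega

theorem residueFieldMap_surjective (i : Z ⟶ X) [IsClosedImmersion i] (z : Z) :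
    Function.Surjective (i.residueFieldMap z).hom := by
  intro b
  obtain ⟨a, rfl⟩ := Z.residue_surjective z b
  obtain ⟨c, rfl⟩ := i.stalkMap_surjective z a
  refine ⟨(X.residue (i z)).hom c, ?_⟩
  change (X.residue (i z) ≫ i.residueFieldMap z).hom c = (i.stalkMap z ≫ Z.residue z).hom c
  rw [Scheme.residue_residueFieldMap]

/-- the residue field isomorphism of a closed immersion -/
noncomputable def resEquiv (i : Z ⟶ X) [IsClosedImmersion i] (z : Z) :
    X.residueField (i z) ≃+* Z.residueField z :=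
  RingEquiv.ofBijective (i.residueFieldMap z).hom
    ⟨(i.residueFieldMap z).hom.injective, residueFieldMap_surjective i z⟩

theorem ordAt_closedImmersion (i : Z ⟶ X) [IsClosedImmersion i] (u ξ : Z) (h : ξ ⤳ u)
    (g : X.residueField (i ξ)) :
    Cyc.ordAt (i u) (i ξ) (i.base.hom.map_specializes h) g =
      Cyc.ordAt u ξ h ((i.residueFieldMap ξ).hom g) := by
  unfold Cyc.ordAt
  exact ordFrac_quot_congr_surj (Cyc.specMap (i u) (i ξ) (i.base.hom.map_specializes h))
    (Cyc.specMap u ξ h) (i.stalkMap u).hom (i.stalkMap_surjective u) (resEquiv i ξ)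
    (fun r => Groth.Agent.S1905.specMap_stalkMap i u ξ h r) g

theorem divFun_closedImmersion (i : Z ⟶ X) [IsClosedImmersion i] (δ : X → ℤ) (δZ : Z → ℤ)
    (hδ : ∀ z, δZ z = δ (i z)) (ξ : Z) (g : X.residueField (i ξ)) (u : Z) :
    Cyc.divFun δ (i ξ) g (i u) = Cyc.divFun δZ ξ ((i.residueFieldMap ξ).hom g) u := by
  unfold Cyc.divFun
  have hiff : (i ξ ⤳ i u) ↔ (ξ ⤳ u) := i.isClosedEmbedding.isInducing.specializes_iff
  by_cases hc : ξ ⤳ u ∧ δZ u + 1 = δZ ξ
  · have hc' : i ξ ⤳ i u ∧ δ (i u) + 1 = δ (i ξ) :=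
      ⟨hiff.2 hc.1, by rw [← hδ, ← hδ]; exact hc.2⟩
    rw [dif_pos hc, dif_pos hc']
    exact ordAt_closedImmersion i u ξ hc.1 g
  · have hc' : ¬ (i ξ ⤳ i u ∧ δ (i u) + 1 = δ (i ξ)) :=
      fun h => hc ⟨hiff.1 h.1, by rw [hδ, hδ]; exact h.2⟩
    rw [dif_neg hc, dif_neg hc']

theorem divFun_eq_zero_of_notMem_range (i : Z ⟶ X) [IsClosedImmersion i] (δ : X → ℤ) (ξ : Z)
    (g : X.residueField (i ξ)) (x : X) (hx : x ∉ Set.range i) :
    Cyc.divFun δ (i ξ) g x = 0 := by
  unfold Cyc.divFun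
  rw [dif_neg]
  rintro ⟨h, -⟩
  exact hx (h.mem_closed i.isClosedEmbedding.isClosed_range ⟨ξ, rfl⟩)

/-- lifting a principal divisor supported on the image of a closed immersion -/
theorem exists_lift_divisor (i : Z ⟶ X) [IsClosedImmersion i] (δ : X → ℤ) (δZ : Z → ℤ)
    (hδ : ∀ z, δZ z = δ (i z)) (x : X) (hx : x ∈ Set.range i) (g : X.residueField x)
    (hg : g ≠ 0) :
    ∃ (z : Z) (g' : Z.residueField z), i z = x ∧ g' ≠ 0 ∧
      (∀ u, Cyc.divFun δ x g (i u) = Cyc.divFun δZ z g' u) ∧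
      (∀ y, y ∉ Set.range i → Cyc.divFun δ x g y = 0) := by
  obtain ⟨z, rfl⟩ := hx
  refine ⟨z, (i.residueFieldMap z).hom g, rfl, ?_, fun u => divFun_closedImmersion i δ δZ hδ z g u,
    fun y hy => divFun_eq_zero_of_notMem_range i δ z g y hy⟩
  intro h0
  exact hg ((i.residueFieldMap z).hom.injective (by rw [h0, map_zero]))

theorem map_apply_closedImmersion (i : Z ⟶ X) [IsClosedImmersion i] (δZ : Z → ℤ) (δ : X → ℤ)
    (hδ : ∀ z, δZ z = δ (i z)) (c : AlgebraicCycle Z ℤ) (u : Z) :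
    AlgebraicCycle.map i δZ δ c (i u) = c u := by
  classical
  simp only [AlgebraicCycle.map, Function.locallyFinsupp.map_apply]
  rw [finsum_mem_def, finsum_eq_single _ u]
  · rw [Set.indicator_of_mem (show u ∈ i ⁻¹' {i u} from rfl)]
    have hc : AlgebraicCycle.mapCoeff i δZ δ u = 1 := by
      unfold AlgebraicCycle.mapCoeff
      rw [if_pos (hδ u)]
      exact Groth.Agent.S6482.residueDegree_eq_one i u (residueFieldMap_surjective i u)
    rw [hc]; simp
  · intro y hy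
    apply Set.indicator_of_notMem
    intro hm
    exact hy (i.isClosedEmbedding.injective hm)

theorem map_apply_of_notMem_range (i : Z ⟶ X) [IsClosedImmersion i] (δZ : Z → ℤ) (δ : X → ℤ)
    (c : AlgebraicCycle Z ℤ) (x : X) (hx : x ∉ Set.range i) :
    AlgebraicCycle.map i δZ δ c x = 0 := by
  simp only [AlgebraicCycle.map, Function.locallyFinsupp.map_apply]
  apply finsum_mem_eq_zero_of_forall_eq_zero
  intro z hz
  exact absurd ⟨z, hz⟩ hx

theorem isDimFun_closedImmersion (i : Z ⟶ X) [IsClosedImmersion i] (δ : X → ℤ) (δZ : Z → ℤ)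
    (hδ : ∀ z, δZ z = δ (i z)) (h : Cyc.IsDimFun X δ) : Cyc.IsDimFun Z δZ := by
  intro x y hxy hne
  have hiff : ∀ a b : Z, (i a ⤳ i b) ↔ (a ⤳ b) :=
    fun a b => i.isClosedEmbedding.isInducing.specializes_iff
  have hne' : i x ≠ i y := fun e => hne (i.isClosedEmbedding.injective e)
  obtain ⟨h1, h2⟩ := h (i x) (i y) ((hiff x y).2 hxy) hne'
  refine ⟨by rw [hδ, hδ]; exact h1, fun himm => ?_⟩
  rw [hδ, hδ]
  apply h2
  intro z' hz1 hz2
  have hz' : z' ∈ Set.range i := hz1.mem_closed i.isClosedEmbedding.isClosed_range ⟨x, rfl⟩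
  obtain ⟨z, rfl⟩ := hz'
  rcases himm z ((hiff x z).1 hz1) ((hiff z y).1 hz2) with e | e
  · left; rw [e]
  · right; rw [e]

theorem family_support_finite (δ : X → ℤ) {ι : Type u} (ξ : ι → X)
    (f : (i : ι) → X.residueField (ξ i))
    (hlf : ∀ x : X, ∃ U : Set X, IsOpen U ∧ x ∈ U ∧ {i | (closure {ξ i} ∩ U).Nonempty}.Finite)
    (x : X) : (Function.support (fun i => Cyc.divFun δ (ξ i) (f i) x)).Finite := by
  obtain ⟨U, -, hxU, hUf⟩ := hlf x
  refine hUf.subset ?_
  intro i hi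
  have hspec : ξ i ⤳ x := by
    by_contra hns
    apply hi
    show Cyc.divFun δ (ξ i) (f i) x = 0
    unfold Cyc.divFun
    rw [dif_neg (fun h => hns h.1)]
  exact ⟨x, specializes_iff_mem_closure.1 hspec, hxU⟩

/-- a locally finite family of principal divisors sums to a cycle -/
theorem exists_cycle_of_family [IsLocallyNoetherian X] (δ : X → ℤ)
    (hδ : Cyc.IsDimFun X δ) {ι : Type u} (ξ : ι → X) (f : (i : ι) → X.residueField (ξ i))
    (hlf : ∀ x : X, ∃ U : Set X, IsOpen U ∧ x ∈ U ∧ {i | (closure {ξ i} ∩ U).Nonempty}.Finite) :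
    ∃ D : AlgebraicCycle X ℤ, ∀ x, D x = ∑ᶠ i, Cyc.divFun δ (ξ i) (f i) x := by
  classical
  let g : X → ℤ := fun x => ∑ᶠ i, Cyc.divFun δ (ξ i) (f i) x
  refine ⟨⟨g, fun _ _ => Set.mem_univ _, fun x _ => ?_⟩, fun x => rfl⟩
  obtain ⟨U, hUo, hxU, hUf⟩ := hlf x
  have hV := fun i => divFun_support_locallyFinite δ hδ (ξ i) (f i) x
  choose V hxV hVf using hV
  let W : Set X := U ∩ ⋂ i ∈ {i | (closure {ξ i} ∩ U).Nonempty}, (V i : Set X)
  have hWo : IsOpen W := hUo.inter (hUf.isOpen_biInter (fun i _ => (V i).2))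
  have hxW : x ∈ W := ⟨hxU, Set.mem_iInter₂.2 (fun i _ => hxV i)⟩
  refine ⟨W, hWo.mem_nhds hxW, ?_⟩
  refine (Set.Finite.biUnion hUf (fun i _ => hVf i)).subset ?_
  rintro y ⟨hyW, hy⟩
  have hy' : ∑ᶠ i, Cyc.divFun δ (ξ i) (f i) y ≠ 0 := hy
  have hex : ∃ i, Cyc.divFun δ (ξ i) (f i) y ≠ 0 := by
    by_contra hall
    push_neg at hall
    exact hy' (finsum_eq_zero_of_forall_eq_zero hall)
  obtain ⟨i, hi⟩ := hex
  have hspec : ξ i ⤳ y := by
    by_contra hns
    apply hi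
    unfold Cyc.divFun
    rw [dif_neg (fun h => hns h.1)]
  have hiJ : i ∈ {i | (closure {ξ i} ∩ U).Nonempty} :=
    ⟨y, specializes_iff_mem_closure.1 hspec, hyW.1⟩
  have hyV : y ∈ (V i : Set X) := Set.mem_iInter₂.1 hyW.2 i hiJ
  exact Set.mem_biUnion hiJ ⟨hyV, hi⟩

theorem locallyFinite_lift (i : Z ⟶ X) {ι κ : Type u} (ξ : ι → X) (e : κ → ι)
    (he : Function.Injective e) (ζ : κ → Z) (hζ : ∀ j, i (ζ j) = ξ (e j))
    (hlf : ∀ x : X, ∃ U : Set X, IsOpen U ∧ x ∈ U ∧ {a | (closure {ξ a} ∩ U).Nonempty}.Finite)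
    (z : Z) :
    ∃ U : Set Z, IsOpen U ∧ z ∈ U ∧ {j | (closure {ζ j} ∩ U).Nonempty}.Finite := by
  obtain ⟨U, hUo, hzU, hUf⟩ := hlf (i z)
  refine ⟨i ⁻¹' U, hUo.preimage i.continuous, hzU, ?_⟩
  refine (hUf.preimage he.injOn).subset ?_
  rintro j ⟨y, hy1, hy2⟩
  refine ⟨i y, ?_, hy2⟩
  have hs : ζ j ⤳ y := specializes_iff_mem_closure.2 hy1
  have hs' := hs.map i.continuous
  rw [hζ] at hs'
  exact specializes_iff_mem_closure.1 hs'

/-- restriction of a cycle along a closed immersion (as a function) is a cycle -/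
theorem exists_restrict_cycle {P : Scheme.{u}} (j : P ⟶ Z) [IsClosedImmersion j]
    (c : AlgebraicCycle Z ℤ) : ∃ b : AlgebraicCycle P ℤ, ∀ z, b z = c (j z) := by
  refine ⟨⟨fun z => c (j z), fun _ _ => Set.mem_univ _, fun z _ => ?_⟩, fun z => rfl⟩
  obtain ⟨t, ht, hfin⟩ := c.supportLocallyFiniteWithinDomain' (j z) (Set.mem_univ _)
  refine ⟨j ⁻¹' t, j.continuous.continuousAt.preimage_mem_nhds ht, ?_⟩
  refine (hfin.preimage (j.isClosedEmbedding.injective.injOn)).subset ?_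
  rintro y ⟨hy1, hy2⟩
  exact ⟨hy1, hy2⟩

theorem finsum_split {ι : Type*} (S : Set ι) (φ : ι → ℤ) (h : (Function.support φ).Finite) :
    ∑ᶠ i, φ i = ∑ᶠ j : S, φ j + ∑ᶠ j : (Sᶜ : Set ι), φ j := by
  rw [finsum_set_coe_eq_finsum_mem, finsum_set_coe_eq_finsum_mem,
    ← finsum_mem_union' disjoint_compl_right (h.subset Set.inter_subset_right)
      (h.subset Set.inter_subset_right),
    Set.union_compl_self, finsum_mem_univ]

end Groth.Agent.Lib.Lead.CycClosed
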