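import Groth.Agent.Lib.Helper3.InvTensor
import Groth.Agent.Lib.Helper3.QcohStalk
import Groth.Agent.Lib.Lead.CycClosed
import Groth.Agent.S1940
import Groth.Prelude.Def_C1

/-!
# First Chern class cap: basic stalk-level API

* stalks of an invertible module at points of an open carrying a generator (`stalk_surj`,
  `stalk_inj`, `exists_unit_of_span`);
* semilinearity of `stalkSpecializes` on modules (`spec_smul`, `spec_germ`);
* `secOrdAt_eq`: the order of a rational section computed with any local generator;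
* `secOrdAt_smul`, `exists_unit_smul_eq`: change of rational section;
* `ratEquivZero_of_div`: `Σ_ξ α(ξ) div(g_ξ)` is rationally equivalent to zero;
* `c1Cap_indep`: `c_1(L) ∩ α` does not depend on the chosen rational sections.
-/

set_option autoImplicit false
universe u
open CategoryTheory CategoryTheory.Limits AlgebraicGeometry TopologicalSpace Opposite
open Scheme.Modules

namespace Groth.Agent.Lib.Lead.C1Cap

open Groth.Agent.Lib.Helper3 Groth.Agent.Lib.Helper3.QCSec Groth.Agent.Lib.Helper3.InvGen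
  Groth.Agent.Lib.Helper3.InvTensor

section algebra

theorem ordFrac_mul' {R : Type u} [CommRing R] {K : Type u} [Field K] [Algebra R K] (f g : K)
    (hf : f ≠ 0) (hg : g ≠ 0) :
    CycAlg.ordFrac R K (f * g) = CycAlg.ordFrac R K f + CycAlg.ordFrac R K g := by
  classical
  by_cases h : IsNoetherianRing R ∧ Ring.KrullDimLE 1 R ∧ Nontrivial R ∧ IsFractionRing R K
  · obtain ⟨h1, h2, h3, h4⟩ := h
    have := h1
    have := h2
    have := h3
    have := h4
    rw [Groth.Agent.S1905.cycOrdFrac_eq_log, Groth.Agent.S1905.cycOrdFrac_eq_log,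
      Groth.Agent.S1905.cycOrdFrac_eq_log, map_mul,
      WithZero.log_mul ((map_ne_zero _).mpr hf) ((map_ne_zero _).mpr hg)]
  · unfold CycAlg.ordFrac
    rw [dif_neg h, dif_neg h, dif_neg h, add_zero]

theorem ordFrac_zpow {R : Type u} [CommRing R] {K : Type u} [Field K] [Algebra R K] (g : K)
    (n : ℤ) : CycAlg.ordFrac R K (g ^ n) = n * CycAlg.ordFrac R K g := by
  obtain ⟨m, rfl | rfl⟩ := n.eq_nat_or_neg
  · rw [zpow_natCast, Groth.Agent.S1940.ordFrac_pow]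
  · rw [zpow_neg, zpow_natCast, Groth.Agent.Lib.Lead.CycClosed.ordFrac_inv',
      Groth.Agent.S1940.ordFrac_pow]
    ring

end algebra

variable {X : Scheme.{u}}

theorem ordAt_mul (x ξ : X) (h : ξ ⤳ x) (f g : X.residueField ξ) (hf : f ≠ 0) (hg : g ≠ 0) :
    Cyc.ordAt x ξ h (f * g) = Cyc.ordAt x ξ h f + Cyc.ordAt x ξ h g :=
  ordFrac_mul' f g hf hg

theorem divFun_zpow (δ : X → ℤ) (ξ : X) (g : X.residueField ξ) (n : ℤ) (x : X) :
    Cyc.divFun δ ξ (g ^ n) x = n * Cyc.divFun δ ξ g x := by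
  unfold Cyc.divFun
  split_ifs with h
  · exact ordFrac_zpow g n
  · rw [mul_zero]

theorem ordAt_spec_unit (x ξ : X) (h : ξ ⤳ x) (u : X.presheaf.stalk x) (hu : IsUnit u) :
    Cyc.ordAt x ξ h (X.residue ξ (X.presheaf.stalkSpecializes h u)) = 0 := by
  have := Groth.Agent.Lib.Helper23.CycLib.ordFrac_algebraMap_unit
    (R := Cyc.LocQuot x ξ h) (K := X.residueField ξ)
    (Ideal.Quotient.mk _ u) (hu.map _)
  rw [Groth.Agent.Lib.Helper23.CycLib.algebraMap_locQuot_mk] at this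
  exact this

/-! ### germs and restriction -/

theorem germ_res (L : X.Modules) {A B : X.Opens} (h : A ≤ B) (x : X) (hx : x ∈ A)
    (s : Γ(L, B)) :
    L.presheaf.germ A x hx (res L h s) = L.presheaf.germ B x (h hx) s :=
  TopCat.Presheaf.germ_res_apply L.presheaf (homOfLE h) x hx s

theorem germ_rres {A B : X.Opens} (h : A ≤ B) (x : X) (hx : x ∈ A) (s : Γ(X, B)) :
    X.presheaf.germ A x hx (rres X h s) = X.presheaf.germ B x (h hx) s :=
  TopCat.Presheaf.germ_res_apply X.presheaf (homOfLE h) x hx s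

/-! ### stalks at points of an open with a generator -/

theorem stalk_surj {L : X.Modules} {U : X.Opens} {e : Γ(L, U)} (hg : IsGen L U e) (x : X)
    (hx : x ∈ U) (m : L.presheaf.stalk x) :
    ∃ a : X.presheaf.stalk x, m = a • L.presheaf.germ U x hx e := by
  obtain ⟨V, hxV, s, rfl⟩ := L.presheaf.exists_germ_eq (x := x) m
  have hW : V ⊓ U ≤ U := inf_le_right
  have hWV : V ⊓ U ≤ V := inf_le_left
  have hxW : x ∈ V ⊓ U := ⟨hxV, hx⟩
  obtain ⟨a, ha⟩ := (hg (V ⊓ U) hW).2 (res L hWV s)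
  have ha' : a • res L hW e = res L hWV s := ha
  refine ⟨X.presheaf.germ (V ⊓ U) x hxW a, ?_⟩
  have h1 : L.presheaf.germ V x hxV s = L.presheaf.germ (V ⊓ U) x hxW (res L hWV s) :=
    (germ_res L hWV x hxW s).symm
  have h2 : L.presheaf.germ U x hx e = L.presheaf.germ (V ⊓ U) x hxW (res L hW e) :=
    (germ_res L hW x hxW e).symm
  rw [h1, h2, ← QS.germ_smul L x hxW a (res L hW e), ha']

theorem stalk_inj {L : X.Modules} {U : X.Opens} {e : Γ(L, U)} (hg : IsGen L U e) (x : X)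
    (hx : x ∈ U) (a : X.presheaf.stalk x) (ha : a • L.presheaf.germ U x hx e = 0) : a = 0 := by
  obtain ⟨V, hxV, s, rfl⟩ := X.presheaf.exists_germ_eq (x := x) a
  have hW : V ⊓ U ≤ U := inf_le_right
  have hWV : V ⊓ U ≤ V := inf_le_left
  have hxW : x ∈ V ⊓ U := ⟨hxV, hx⟩
  have h1 : X.presheaf.germ V x hxV s = X.presheaf.germ (V ⊓ U) x hxW (rres X hWV s) :=
    (germ_rres hWV x hxW s).symm
  have h2 : L.presheaf.germ U x hx e = L.presheaf.germ (V ⊓ U) x hxW (res L hW e) :=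
    (germ_res L hW x hxW e).symm
  rw [h1, h2, ← QS.germ_smul L x hxW (rres X hWV s) (res L hW e)] at ha
  have h0 : L.presheaf.germ (V ⊓ U) x hxW (rres X hWV s • res L hW e) =
      L.presheaf.germ (V ⊓ U) x hxW (0 : Γ(L, V ⊓ U)) := by rw [ha, map_zero]
  obtain ⟨W', hxW', i₁, i₂, hi⟩ := TopCat.Presheaf.germ_eq L.presheaf x hxW hxW _ _ h0
  have hW'le : W' ≤ V ⊓ U := leOfHom i₁
  have h3 : res L hW'le (rres X hWV s • res L hW e) = 0 := by
    have h4 : L.presheaf.map i₂.op (0 : Γ(L, V ⊓ U)) = 0 := map_zero _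
    rw [h4] at hi
    exact hi
  rw [res_smul, res_res, rres_rres] at h3
  have h5 := (hg W' (hW'le.trans hW)).eq_zero h3
  have h6 : X.presheaf.germ (V ⊓ U) x hxW (rres X hWV s) =
      X.presheaf.germ W' x hxW' (rres X hW'le (rres X hWV s)) :=
    (germ_rres hW'le x hxW' _).symm
  rw [h1, h6, rres_rres, h5, map_zero]

theorem span_germ_eq_top {L : X.Modules} {U : X.Opens} {e : Γ(L, U)} (hg : IsGen L U e) (x : X)
    (hx : x ∈ U) :
    Submodule.span (X.presheaf.stalk x) {L.presheaf.germ U x hx e} = ⊤ := by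
  rw [eq_top_iff]
  intro m _
  obtain ⟨a, rfl⟩ := stalk_surj hg x hx m
  exact Submodule.smul_mem _ _ (Submodule.subset_span (Set.mem_singleton _))

theorem exists_unit_of_span {L : X.Modules} {U : X.Opens} {e : Γ(L, U)} (hg : IsGen L U e)
    (x : X) (hx : x ∈ U) (t : L.presheaf.stalk x)
    (ht : Submodule.span (X.presheaf.stalk x) {t} = ⊤) :
    ∃ u : X.presheaf.stalk x, IsUnit u ∧ t = u • L.presheaf.germ U x hx e := by
  obtain ⟨u, hu⟩ := stalk_surj hg x hx t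
  have hmem : L.presheaf.germ U x hx e ∈ Submodule.span (X.presheaf.stalk x) {t} := by
    rw [ht]; trivial
  obtain ⟨c, hc⟩ := Submodule.mem_span_singleton.mp hmem
  refine ⟨u, ?_, hu⟩
  have h1 : (c * u - 1) • L.presheaf.germ U x hx e = 0 := by
    rw [sub_smul, mul_smul, ← hu, hc, one_smul, sub_self]
  have h2 := stalk_inj hg x hx _ h1
  exact IsUnit.of_mul_eq_one c (by rw [mul_comm]; exact sub_eq_zero.mp h2)

/-! ### specialization maps on stalks of modules -/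

theorem spec_germ (L : X.Modules) {ξ x : X} (h : ξ ⤳ x) (U : X.Opens) (hx : x ∈ U)
    (s : Γ(L, U)) :
    L.presheaf.stalkSpecializes h (L.presheaf.germ U x hx s) =
      L.presheaf.germ U ξ (h.mem_open U.2 hx) s := by
  have h1 := ConcreteCategory.congr_hom
    (TopCat.Presheaf.germ_stalkSpecializes L.presheaf (U := U) hx h) s
  rwa [ConcreteCategory.comp_apply] at h1

theorem spec_germ_ring {ξ x : X} (h : ξ ⤳ x) (U : X.Opens) (hx : x ∈ U) (s : Γ(X, U)) :
    X.presheaf.stalkSpecializes h (X.presheaf.germ U x hx s) =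
      X.presheaf.germ U ξ (h.mem_open U.2 hx) s := by
  have h1 := ConcreteCategory.congr_hom
    (TopCat.Presheaf.germ_stalkSpecializes X.presheaf (U := U) hx h) s
  rwa [ConcreteCategory.comp_apply] at h1

theorem spec_smul (L : X.Modules) {ξ x : X} (h : ξ ⤳ x) (a : X.presheaf.stalk x)
    (m : L.presheaf.stalk x) :
    L.presheaf.stalkSpecializes h (a • m) =
      X.presheaf.stalkSpecializes h a • L.presheaf.stalkSpecializes h m := by
  obtain ⟨V, hxV, s, rfl⟩ := X.presheaf.exists_germ_eq (x := x) a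
  obtain ⟨V', hxV', n, rfl⟩ := L.presheaf.exists_germ_eq (x := x) m
  have hxW : x ∈ V ⊓ V' := ⟨hxV, hxV'⟩
  have hl : V ⊓ V' ≤ V := inf_le_left
  have hr : V ⊓ V' ≤ V' := inf_le_right
  have h1 : X.presheaf.germ V x hxV s = X.presheaf.germ (V ⊓ V') x hxW (rres X hl s) :=
    (germ_rres hl x hxW s).symm
  have h2 : L.presheaf.germ V' x hxV' n = L.presheaf.germ (V ⊓ V') x hxW (res L hr n) :=
    (germ_res L hr x hxW n).symm
  rw [h1, h2, ← QS.germ_smul L x hxW (rres X hl s) (res L hr n),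
    spec_germ L h (V ⊓ V') hxW (rres X hl s • res L hr n),
    spec_germ L h (V ⊓ V') hxW (res L hr n), spec_germ_ring h (V ⊓ V') hxW (rres X hl s),
    QS.germ_smul]

/-! ### the fibre `L(ξ)` -/

theorem exists_mem_of_mem_smul_top {L : X.Modules} {U : X.Opens} {e : Γ(L, U)}
    (hg : IsGen L U e) (ξ : X) (hξ : ξ ∈ U) (y : L.presheaf.stalk ξ)
    (hy : y ∈ IsLocalRing.maximalIdeal (X.presheaf.stalk ξ) •
      (⊤ : Submodule (X.presheaf.stalk ξ) (L.presheaf.stalk ξ))) :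
    ∃ c ∈ IsLocalRing.maximalIdeal (X.presheaf.stalk ξ), y = c • L.presheaf.germ U ξ hξ e := by
  refine Submodule.smul_induction_on hy ?_ ?_
  · intro r hr n _
    obtain ⟨b, rfl⟩ := stalk_surj hg ξ hξ n
    exact ⟨r * b, Ideal.mul_mem_right _ _ hr, (mul_smul _ _ _).symm⟩
  · rintro _ _ ⟨c, hc, rfl⟩ ⟨d, hd, rfl⟩
    exact ⟨c + d, Ideal.add_mem _ hc hd, (add_smul _ _ _).symm⟩

theorem mem_of_smul_mem {L : X.Modules} {U : X.Opens} {e : Γ(L, U)} (hg : IsGen L U e) (ξ : X)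
    (hξ : ξ ∈ U) (a : X.presheaf.stalk ξ)
    (h : a • L.presheaf.germ U ξ hξ e ∈ IsLocalRing.maximalIdeal (X.presheaf.stalk ξ) •
      (⊤ : Submodule (X.presheaf.stalk ξ) (L.presheaf.stalk ξ))) :
    a ∈ IsLocalRing.maximalIdeal (X.presheaf.stalk ξ) := by
  obtain ⟨c, hc, hce⟩ := exists_mem_of_mem_smul_top hg ξ hξ _ h
  have h0 : (a - c) • L.presheaf.germ U ξ hξ e = 0 := by rw [sub_smul, hce, sub_self]
  have h1 := stalk_inj hg ξ hξ _ h0
  rw [sub_eq_zero.mp h1]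
  exact hc

theorem isUnit_of_mk_ne_zero (L : X.Modules) (ξ : X) (ψ : X.presheaf.stalk ξ)
    (m : L.presheaf.stalk ξ)
    (h : (Submodule.Quotient.mk (ψ • m) : Cyc.secFibre L ξ) ≠ 0) : IsUnit ψ := by
  by_contra hnu
  apply h
  rw [Submodule.Quotient.mk_eq_zero]
  exact Submodule.smul_mem_smul ((IsLocalRing.mem_maximalIdeal ψ).mpr hnu) Submodule.mem_top

theorem exists_coord_unit {L : X.Modules} {U : X.Opens} {e : Γ(L, U)} (hg : IsGen L U e) (ξ : X)
    (hξ : ξ ∈ U) (s : Cyc.secFibre L ξ) (hs : s ≠ 0) :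
    ∃ ψ : X.presheaf.stalk ξ, IsUnit ψ ∧
      s = Submodule.Quotient.mk (ψ • L.presheaf.germ U ξ hξ e) := by
  obtain ⟨m, rfl⟩ := Submodule.Quotient.mk_surjective _ s
  obtain ⟨ψ, rfl⟩ := stalk_surj hg ξ hξ m
  exact ⟨ψ, isUnit_of_mk_ne_zero L ξ ψ _ hs, rfl⟩

theorem residue_eq_of_mk_eq {L : X.Modules} {U : X.Opens} {e : Γ(L, U)} (hg : IsGen L U e)
    (ξ : X) (hξ : ξ ∈ U) (a b : X.presheaf.stalk ξ)
    (h : (Submodule.Quotient.mk (a • L.presheaf.germ U ξ hξ e) : Cyc.secFibre L ξ) =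
      Submodule.Quotient.mk (b • L.presheaf.germ U ξ hξ e)) :
    X.residue ξ a = X.residue ξ b := by
  have h1 := (Submodule.Quotient.eq _).mp h
  rw [← sub_smul] at h1
  have h2 := mem_of_smul_mem hg ξ hξ _ h1
  have h3 : X.residue ξ (a - b) = 0 := (IsLocalRing.residue_eq_zero_iff _).mpr h2
  rw [map_sub] at h3
  exact sub_eq_zero.mp h3

/-! ### the order of a rational section -/

/-- The order of the rational section with coordinate `ψ` with respect to a generator `e` of `L`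
near `x` is the order of the residue class of `ψ`. -/
theorem secOrdAt_eq {L : X.Modules} {U : X.Opens} {e : Γ(L, U)} (hg : IsGen L U e) {ξ x : X}
    (h : ξ ⤳ x) (hx : x ∈ U) (ψ : X.presheaf.stalk ξ) (hψ : IsUnit ψ) :
    Cyc.secOrdAt L ξ x h
        (Submodule.Quotient.mk (ψ • L.presheaf.germ U ξ (h.mem_open U.2 hx) e)) =
      Cyc.ordAt x ξ h (X.residue ξ ψ) := by
  have hξ : ξ ∈ U := h.mem_open U.2 hx
  have ht : ∃ t : L.presheaf.stalk x, Submodule.span (X.presheaf.stalk x) {t} = ⊤ :=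
    ⟨L.presheaf.germ U x hx e, span_germ_eq_top hg x hx⟩
  obtain ⟨u, hu, htu⟩ := exists_unit_of_span hg x hx (Classical.choose ht)
    (Classical.choose_spec ht)
  have hspec : L.presheaf.stalkSpecializes h (Classical.choose ht) =
      X.presheaf.stalkSpecializes h u • L.presheaf.germ U ξ hξ e := by
    rw [htu, spec_smul, spec_germ]
  have hvu : IsUnit (X.presheaf.stalkSpecializes h u) := hu.map _
  have hφ : ∃ φ : X.presheaf.stalk ξ,
      (Submodule.Quotient.mk (ψ • L.presheaf.germ U ξ hξ e) : Cyc.secFibre L ξ) =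
        φ • (Submodule.Quotient.mk ((L.presheaf.stalkSpecializes h) (Classical.choose ht)) :
          Cyc.secFibre L ξ) := by
    obtain ⟨v', hv'⟩ := hvu.exists_left_inv
    refine ⟨ψ * v', ?_⟩
    rw [hspec, ← Submodule.Quotient.mk_smul, ← mul_smul, mul_assoc, hv', mul_one]
  have key : ∀ φ : X.presheaf.stalk ξ,
      (Submodule.Quotient.mk (ψ • L.presheaf.germ U ξ hξ e) : Cyc.secFibre L ξ) =
        φ • (Submodule.Quotient.mk ((L.presheaf.stalkSpecializes h) (Classical.choose ht)) :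
          Cyc.secFibre L ξ) →
      Cyc.ordAt x ξ h (X.residue ξ φ) = Cyc.ordAt x ξ h (X.residue ξ ψ) := by
    intro φ hφ₀
    rw [hspec, ← Submodule.Quotient.mk_smul, ← mul_smul] at hφ₀
    have hres := residue_eq_of_mk_eq hg ξ hξ _ _ hφ₀
    rw [map_mul] at hres
    have hψ0 : X.residue ξ ψ ≠ 0 := (hψ.map (X.residue ξ).hom).ne_zero
    have hv0 : X.residue ξ (X.presheaf.stalkSpecializes h u) ≠ 0 :=
      (hvu.map (X.residue ξ).hom).ne_zero
    have hφ0 : X.residue ξ φ ≠ 0 := by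
      intro h0
      rw [h0, zero_mul] at hres
      exact hψ0 hres
    rw [hres, ordAt_mul x ξ h _ _ hφ0 hv0, ordAt_spec_unit x ξ h u hu, add_zero]
  unfold Cyc.secOrdAt
  rw [dif_pos ht, dif_pos hφ]
  exact key _ (Classical.choose_spec hφ)

theorem secOrdAt_smul {L : X.Modules} (hL : PicF.IsInvertible L) {ξ x : X} (h : ξ ⤳ x)
    (s' : Cyc.secFibre L ξ) (hs' : s' ≠ 0) (a : X.presheaf.stalk ξ) (ha : IsUnit a) :
    Cyc.secOrdAt L ξ x h (a • s') =
      Cyc.ordAt x ξ h (X.residue ξ a) + Cyc.secOrdAt L ξ x h s' := by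
  obtain ⟨U, e, hxU, hg⟩ := exists_isGen hL x
  have hξ : ξ ∈ U := h.mem_open U.2 hxU
  obtain ⟨ψ, hψ, rfl⟩ := exists_coord_unit hg ξ hξ s' hs'
  have h1 : a • (Submodule.Quotient.mk (ψ • L.presheaf.germ U ξ hξ e) : Cyc.secFibre L ξ) =
      Submodule.Quotient.mk ((a * ψ) • L.presheaf.germ U ξ hξ e) := by
    rw [← Submodule.Quotient.mk_smul, ← mul_smul]
  rw [h1, secOrdAt_eq hg h hxU (a * ψ) (ha.mul hψ), secOrdAt_eq hg h hxU ψ hψ, map_mul,
    ordAt_mul x ξ h _ _ (ha.map (X.residue ξ).hom).ne_zero (hψ.map (X.residue ξ).hom).ne_zero]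

theorem exists_unit_smul_eq {L : X.Modules} (hL : PicF.IsInvertible L) (ξ : X)
    (s s' : Cyc.secFibre L ξ) (hs : s ≠ 0) (hs' : s' ≠ 0) :
    ∃ a : X.presheaf.stalk ξ, IsUnit a ∧ s = a • s' := by
  obtain ⟨U, e, hξ, hg⟩ := exists_isGen hL ξ
  obtain ⟨ψ, hψ, rfl⟩ := exists_coord_unit hg ξ hξ s hs
  obtain ⟨ψ', hψ', rfl⟩ := exists_coord_unit hg ξ hξ s' hs'
  obtain ⟨w, hw⟩ := hψ'.exists_left_inv
  refine ⟨ψ * w, hψ.mul (IsUnit.of_mul_eq_one ψ' hw), ?_⟩
  rw [← Submodule.Quotient.mk_smul, ← mul_smul, mul_assoc, hw, mul_one]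

/-! ### rational equivalence -/

theorem c1_support_finite (δ : X → ℤ) (L : X.Modules) (α : AlgebraicCycle X ℤ)
    (s : (ξ : X) → Cyc.secFibre L ξ) (x : X) :
    (Function.support fun ξ => α ξ * Cyc.secDivFun δ L ξ (s ξ) x).Finite := by
  obtain ⟨t, ht, hfin⟩ := α.supportLocallyFiniteWithinDomain' x (Set.mem_univ _)
  obtain ⟨U, hUt, hUo, hxU⟩ := mem_nhds_iff.mp ht
  refine hfin.subset ?_
  intro ξ hξ
  have hξ' : α ξ * Cyc.secDivFun δ L ξ (s ξ) x ≠ 0 := hξ
  have h1 : α ξ ≠ 0 := fun h0 => hξ' (by rw [h0, zero_mul])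
  have h2 : Cyc.secDivFun δ L ξ (s ξ) x ≠ 0 := fun h0 => hξ' (by rw [h0, mul_zero])
  have h3 : ξ ⤳ x := by
    by_contra hns
    apply h2
    unfold Cyc.secDivFun
    rw [dif_neg (fun hc => hns hc.1)]
  exact ⟨hUt (h3.mem_open hUo hxU), h1⟩

/-- `Σ_ξ α(ξ) div(g_ξ)` is rationally equivalent to zero. -/
theorem ratEquivZero_of_div (δ : X → ℤ) (k : ℤ) (α : AlgebraicCycle X ℤ)
    (hα : α ∈ Cyc.Zk X δ (k + 1)) (g : (ξ : X) → X.residueField ξ) (hg : ∀ ξ, g ξ ≠ 0)
    (γ : AlgebraicCycle X ℤ) (hγ : ∀ x, γ x = ∑ᶠ ξ : X, α ξ * Cyc.divFun δ ξ (g ξ) x) :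
    Cyc.RatEquivZero δ k γ := by
  classical
  refine ⟨{ξ : X // α ξ ≠ 0}, fun i => i.1, fun i => g i.1 ^ (α i.1), ?_, ?_, ?_, ?_⟩
  · intro i
    by_contra hne
    exact i.2 (hα i.1 hne)
  · intro i
    exact zpow_ne_zero _ (hg i.1)
  · intro x
    obtain ⟨t, ht, hfin⟩ := α.supportLocallyFiniteWithinDomain' x (Set.mem_univ _)
    obtain ⟨U, hUt, hUo, hxU⟩ := mem_nhds_iff.mp ht
    refine ⟨U, hUo, hxU, ?_⟩
    have hsub : {i : {ξ : X // α ξ ≠ 0} | (closure {i.1} ∩ U).Nonempty} ⊆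
        Subtype.val ⁻¹' (t ∩ Function.support α) := by
      rintro i ⟨y, hy1, hy2⟩
      have hspec : i.1 ⤳ y := specializes_iff_mem_closure.mpr hy1
      exact ⟨hUt (hspec.mem_open hUo hy2), i.2⟩
    exact (hfin.preimage Subtype.val_injective.injOn).subset hsub
  · intro x
    rw [hγ x]
    have h1 : ∀ i : {ξ : X // α ξ ≠ 0}, Cyc.divFun δ i.1 (g i.1 ^ (α i.1)) x =
        (fun ξ : X => α ξ * Cyc.divFun δ ξ (g ξ) x) i.1 :=
      fun i => divFun_zpow δ i.1 (g i.1) (α i.1) x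
    rw [finsum_congr h1,
      finsum_subtype_eq_finsum_cond (f := fun ξ : X => α ξ * Cyc.divFun δ ξ (g ξ) x)
        (fun ξ => α ξ ≠ 0)]
    refine finsum_congr (fun ξ => ?_)
    rw [finsum_eq_if]
    split_ifs with h0
    · rfl
    · have h0' : α ξ = 0 := not_not.mp h0
      rw [h0', zero_mul]

/-- `c_1(L) ∩ α` is independent of the chosen rational sections, up to rational equivalence. -/
theorem c1Cap_indep (δ : X → ℤ) (L : X.Modules) (hL : PicF.IsInvertible L) (k : ℤ)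
    (α : AlgebraicCycle X ℤ) (hα : α ∈ Cyc.Zk X δ (k + 1))
    (s s' : (ξ : X) → Cyc.secFibre L ξ) (hs : ∀ ξ, s ξ ≠ 0) (hs' : ∀ ξ, s' ξ ≠ 0)
    (γ γ' : AlgebraicCycle X ℤ) (hγ : ⇑γ = Cyc.c1CapFun δ L ⇑α s)
    (hγ' : ⇑γ' = Cyc.c1CapFun δ L ⇑α s') :
    Cyc.RatEquiv δ k γ γ' := by
  choose a ha hsa using fun ξ => exists_unit_smul_eq hL ξ (s ξ) (s' ξ) (hs ξ) (hs' ξ)
  show Cyc.RatEquivZero δ k (γ - γ')
  refine ratEquivZero_of_div δ k α hα (fun ξ => X.residue ξ (a ξ))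
    (fun ξ => ((ha ξ).map (X.residue ξ).hom).ne_zero) (γ - γ') (fun x => ?_)
  rw [Function.locallyFinsuppWithin.coe_sub, Pi.sub_apply, hγ, hγ']
  show (∑ᶠ ξ : X, α ξ * Cyc.secDivFun δ L ξ (s ξ) x) -
      (∑ᶠ ξ : X, α ξ * Cyc.secDivFun δ L ξ (s' ξ) x) =
    ∑ᶠ ξ : X, α ξ * Cyc.divFun δ ξ (X.residue ξ (a ξ)) x
  rw [← finsum_sub_distrib (c1_support_finite δ L α s x) (c1_support_finite δ L α s' x)]
  refine finsum_congr (fun ξ => ?_)
  show α ξ * Cyc.secDivFun δ L ξ (s ξ) x - α ξ * Cyc.secDivFun δ L ξ (s' ξ) x =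
    α ξ * Cyc.divFun δ ξ (X.residue ξ (a ξ)) x
  rw [← mul_sub]
  congr 1
  unfold Cyc.secDivFun Cyc.divFun
  split_ifs with hc
  · rw [hsa ξ, secOrdAt_smul hL hc.1 (s' ξ) (hs' ξ) (a ξ) (ha ξ)]
    ring
  · rw [sub_zero]

end Groth.Agent.Lib.Lead.C1Cap
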