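import Groth.Agent.Lib.Lead.C1Pull
import Groth.Agent.S1940

/-!
# `c_1(L) ∩ -` and flat pullback

* `exists_pull_section_gen`: pullback of rational sections along an arbitrary morphism, with the
  order computed through any local generator downstairs;
* `exists_cycle_pullFun`: the flat pullback of a cycle is a cycle;
* `pull_point_formula`: the pointwise form of "flat pullback of a sum of principal divisors"
  (the core of S1940).
-/

set_option autoImplicit false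
universe u
open CategoryTheory CategoryTheory.Limits AlgebraicGeometry TopologicalSpace Opposite
open Scheme.Modules

namespace Groth.Agent.Lib.Lead.C1Flat

open Groth.Agent.Lib.Helper3 Groth.Agent.Lib.Helper3.QCSec Groth.Agent.Lib.Helper3.InvGen
  Groth.Agent.Lib.Helper3.PbBasic Groth.Agent.Lib.Lead.C1Cap Groth.Agent.Lib.Lead.C1Pull
  Groth.Agent.Lib.Lead.CycPull Groth.Agent.Lib.Helper23.CycLib Groth.Agent.S1940

variable {X X' : Scheme.{u}}

theorem ordAt_zpow (x ξ : X) (h : ξ ⤳ x) (G : X.residueField ξ) (n : ℤ) :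
    Cyc.ordAt x ξ h (G ^ n) = n * Cyc.ordAt x ξ h G :=
  ordFrac_zpow G n

/-- The order of the pulled back rational section, computed with any generator downstairs. -/
theorem secOrdAt_pull_gen (p : X' ⟶ X) {L : X.Modules} {V V' : X.Opens} {e : Γ(L, V)}
    {e' : Γ(L, V')} (hg : IsGen L V e) (hg' : IsGen L V' e') (ξ' : X') (hξV : p ξ' ∈ V)
    (ψ : X.presheaf.stalk (p ξ')) (hψ : IsUnit ψ) (x' : X') (h : ξ' ⤳ x') (hxV' : p x' ∈ V')
    (hξV' : p ξ' ∈ V') (φ : X.presheaf.stalk (p ξ'))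
    (hφ : (Submodule.Quotient.mk (ψ • L.presheaf.germ V (p ξ') hξV e) :
        Cyc.secFibre L (p ξ')) = Submodule.Quotient.mk (φ • L.presheaf.germ V' (p ξ') hξV' e')) :
    Cyc.secOrdAt ((Scheme.Modules.pullback p).obj L) ξ' x' h
        (Submodule.Quotient.mk ((p.stalkMap ξ').hom ψ •
          ((Scheme.Modules.pullback p).obj L).presheaf.germ (p ⁻¹ᵁ V) ξ' hξV (pull p L V e))) =
      Cyc.ordAt x' ξ' h ((p.residueFieldMap ξ').hom (X.residue (p ξ') φ)) := by
  obtain ⟨a, ha1, ha2⟩ := pull_coord p L e hg' ξ' hξV hξV'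
  have hau : IsUnit a :=
    isUnit_of_smul_gen hg' (p ξ') hξV' a _ (span_germ_eq_top hg (p ξ') hξV) ha1
  have hg'D := isGen_pull p hg'
  have hxV'D : x' ∈ p ⁻¹ᵁ V' := hxV'
  have hres : X'.residue ξ' ((p.stalkMap ξ').hom (ψ * a)) =
      (p.residueFieldMap ξ').hom (X.residue (p ξ') (ψ * a)) := by
    change (p.stalkMap ξ' ≫ X'.residue ξ').hom (ψ * a) =
      (X.residue (p ξ') ≫ p.residueFieldMap ξ').hom (ψ * a)
    rw [Scheme.residue_residueFieldMap]
  have hφ' : X.residue (p ξ') (ψ * a) = X.residue (p ξ') φ := by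
    apply residue_eq_of_mk_eq hg' (p ξ') hξV'
    rw [← hφ, ha1, ← mul_smul]
  rw [ha2, ← mul_smul, ← map_mul,
    secOrdAt_eq hg'D h hxV'D ((p.stalkMap ξ').hom (ψ * a)) ((hψ.mul hau).map _), hres, hφ']

/-- A nonzero rational section of `L` at `p ξ'` induces a nonzero rational section of `p^*L` at
`ξ'` whose orders are computed by the coordinate downstairs. -/
theorem exists_pull_section_gen (p : X' ⟶ X) {L : X.Modules} (hL : PicF.IsInvertible L)
    (ξ' : X') (s : Cyc.secFibre L (p ξ')) (hs : s ≠ 0) :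
    ∃ t' : Cyc.secFibre ((Scheme.Modules.pullback p).obj L) ξ', t' ≠ 0 ∧
      ∀ (x' : X') (h : ξ' ⤳ x') (V' : X.Opens) (e' : Γ(L, V')) (_ : IsGen L V' e')
        (_ : p x' ∈ V') (hξV' : p ξ' ∈ V') (φ : X.presheaf.stalk (p ξ')),
        s = Submodule.Quotient.mk (φ • L.presheaf.germ V' (p ξ') hξV' e') →
        Cyc.secOrdAt ((Scheme.Modules.pullback p).obj L) ξ' x' h t' =
          Cyc.ordAt x' ξ' h ((p.residueFieldMap ξ').hom (X.residue (p ξ') φ)) := by
  obtain ⟨V, e, hξV, hg⟩ := exists_isGen hL (p ξ')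
  obtain ⟨ψ, hψ, rfl⟩ := exists_coord_unit hg (p ξ') hξV s hs
  have hψD : IsUnit ((p.stalkMap ξ').hom ψ) := hψ.map _
  exact ⟨Submodule.Quotient.mk ((p.stalkMap ξ').hom ψ •
      ((Scheme.Modules.pullback p).obj L).presheaf.germ (p ⁻¹ᵁ V) ξ' hξV (pull p L V e)),
    mk_ne_zero_of_isUnit (isGen_pull p hg) ξ' hξV _ hψD,
    fun x' h V' e' hg' hxV' hξV' φ hφ =>
      secOrdAt_pull_gen p hg hg' ξ' hξV ψ hψ x' h hxV' hξV' φ hφ⟩

theorem pullFun_ne_zero (p : X' ⟶ X) (δ : X → ℤ) (δ' : X' → ℤ) (hdimX' : Cyc.IsDimFun X' δ')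
    (c : ℤ) (hc : ∀ x' : X', (∀ y, p y = p x' → y ⤳ x' → y = x') → δ' x' = δ (p x') + c)
    (α : X → ℤ) (ξ' : X') (hξ' : Cyc.pullFun p δ' δ c α ξ' ≠ 0) :
    α (p ξ') ≠ 0 ∧ ∀ y, p y = p ξ' → y ⤳ ξ' → y = ξ' := by
  have hA : δ' ξ' = δ (p ξ') + c := by
    by_contra hA
    apply hξ'
    exact if_neg hA
  have hB := (Groth.Agent.S6479.delta_le_and p ξ' δ' δ hdimX' c hc).2 hA
  refine ⟨?_, hB⟩
  intro h0
  apply hξ'
  have hP : Cyc.pullFun p δ' δ c α ξ' = α (p ξ') * mult p ξ' := if_pos hA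
  rw [hP, h0, zero_mul]

/-- The flat pullback of a cycle is a cycle. -/
theorem exists_cycle_pullFun (p : X' ⟶ X) [IsLocallyNoetherian X'] (δ : X → ℤ) (δ' : X' → ℤ)
    (hdimX' : Cyc.IsDimFun X' δ') (c : ℤ)
    (hc : ∀ x' : X', (∀ y, p y = p x' → y ⤳ x' → y = x') → δ' x' = δ (p x') + c) (k : ℤ)
    (α : AlgebraicCycle X ℤ) (hα : α ∈ Cyc.Zk X δ k) :
    ∃ α' : AlgebraicCycle X' ℤ, ⇑α' = Cyc.pullFun p δ' δ c ⇑α ∧ α' ∈ Cyc.Zk X' δ' (k + c) := by
  classical
  refine ⟨⟨Cyc.pullFun p δ' δ c ⇑α, fun _ _ => Set.mem_univ _, fun x' _ => ?_⟩, rfl, ?_⟩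
  · obtain ⟨t, ht, hfin⟩ := α.supportLocallyFiniteWithinDomain' (p x') (Set.mem_univ _)
    obtain ⟨U₀, hU₀t, hU₀, hxU₀⟩ := mem_nhds_iff.mp ht
    obtain ⟨W, hW, hxW, hWsub⟩ := exists_isAffineOpen_mem_and_subset (x := x')
      (U := p ⁻¹ᵁ ⟨U₀, hU₀⟩) hxU₀
    haveI : IsNoetherianRing Γ(X', W) := IsLocallyNoetherian.component_noetherian ⟨W, hW⟩
    haveI : NoetherianSpace {x : X' // x ∈ W} := noetherianSpace_of_isAffineOpen W hW
    refine ⟨(W : Set X'), W.2.mem_nhds hxW, ?_⟩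
    have hB : (⋃ ξ ∈ (t ∩ Function.support ⇑α), {ξ' : X' | ξ' ∈ W ∧ p ξ' = ξ ∧
        ∀ y, p y = p ξ' → y ⤳ ξ' → y = ξ'}).Finite :=
      Set.Finite.biUnion hfin (fun ξ _ => finite_genF_in_open p W ξ)
    refine hB.subset ?_
    rintro ξ' ⟨hξ'W, hξ'⟩
    obtain ⟨h1, h2⟩ := pullFun_ne_zero p δ δ' hdimX' c hc ⇑α ξ' hξ'
    have h3 : p ξ' ∈ U₀ := hWsub hξ'W
    exact Set.mem_biUnion (x := p ξ') ⟨hU₀t h3, h1⟩ ⟨hξ'W, rfl, h2⟩
  · intro x' hx'
    show Cyc.pullFun p δ' δ c ⇑α x' = 0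
    by_cases hA : δ' x' = δ (p x') + c
    · have hP : Cyc.pullFun p δ' δ c (⇑α) x' = α (p x') * mult p x' := if_pos hA
      rw [hP, hα (p x') (by intro h; apply hx'; omega), zero_mul]
    · exact if_neg hA

/-- Pointwise form of the flat pullback of a sum of principal divisors. -/
theorem pull_point_formula [IsLocallyNoetherian X] [IsLocallyNoetherian X'] (δ : X → ℤ)
    (δ' : X' → ℤ) (hdimX : Cyc.IsDimFun X δ) (hdimX' : Cyc.IsDimFun X' δ') (p : X' ⟶ X) [Flat p]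
    (c : ℤ) (hc : ∀ x' : X', (∀ y, p y = p x' → y ⤳ x' → y = x') → δ' x' = δ (p x') + c)
    (k : ℤ) {ι : Type u} (ξ : ι → X) (f : (i : ι) → X.residueField (ξ i))
    (hδξ : ∀ i, δ (ξ i) = k + 1) (hf : ∀ i, f i ≠ 0) (x' : X') (a : ℤ)
    (ha : δ (p x') = k → a = ∑ᶠ i, Cyc.divFun δ (ξ i) (f i) (p x'))
    (ha0 : δ (p x') ≠ k → a = 0) :
    (if δ' x' = δ (p x') + c then a * mult p x' else 0) =
      ∑ᶠ i : ι, ∑ᶠ s : SIdx p ξ i, Cyc.divFun δ' s.1 (pfn p ξ f ⟨i, s⟩) x' := by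
  classical
  have hδpt : ∀ j : Σ i, SIdx p ξ i, δ' j.2.1 = k + 1 + c := by
    intro j
    have h1 := hc j.2.1 j.2.2.2
    rw [j.2.2.1, hδξ j.1] at h1
    exact h1
  have hB2 := Groth.Agent.S6479.delta_le_and p x' δ' δ hdimX' c hc
  by_cases hA : δ' x' = δ (p x') + c
  · rw [if_pos hA]
    have hgen : ∀ y, p y = p x' → y ⤳ x' → y = x' := hB2.2 hA
    by_cases hk : δ (p x') = k
    · rw [ha hk, finsum_mul]
      refine finsum_congr (fun i => ?_)
      by_cases hy : ξ i ⤳ p x'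
      · have hcond : ξ i ⤳ p x' ∧ δ (p x') + 1 = δ (ξ i) := ⟨hy, by rw [hδξ i, hk]⟩
        have hne : ξ i ≠ p x' := by
          intro h
          have h5 := hδξ i
          rw [h, hk] at h5
          omega
        have himm : ∀ z : X, ξ i ⤳ z → z ⤳ p x' → z = ξ i ∨ z = p x' :=
          fun z h1 h2 => immediate_of_delta hdimX hcond.2 z h1 h2
        have hG := pull_ord_formula p x' (ξ i) hy hne himm hgen (f i) (hf i)
        have hD : Cyc.divFun δ (ξ i) (f i) (p x') = Cyc.ordAt (p x') (ξ i) hy (f i) :=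
          dif_pos hcond
        rw [hD, hG]
        symm
        let e : GIdx p x' (ξ i) → SIdx p ξ i := fun ξ' => ⟨ξ'.1, ξ'.2.2.1, ξ'.2.2.2⟩
        have he : Function.Injective e := by
          intro a b h
          exact Subtype.ext (congrArg (fun z : SIdx p ξ i => z.1) h)
        refine finsum_eq_of_injective_of_support e he _ _ ?_ ?_
        · intro ξ'
          have h3 : δ' ξ'.1 = k + 1 + c := hδpt ⟨i, e ξ'⟩
          exact divFun_pfn_pos p ξ f δ' ⟨i, e ξ'⟩ x' ξ'.2.1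
            (by show δ' x' + 1 = δ' ξ'.1; omega)
        · intro s hs
          exact divFun_pfn_neg p ξ f δ' ⟨i, s⟩ x'
            (fun h => hs ⟨(⟨s.1, h.1, s.2.1, s.2.2⟩ : GIdx p x' (ξ i)), rfl⟩)
      · have hD : Cyc.divFun δ (ξ i) (f i) (p x') = 0 := dif_neg (fun h => hy h.1)
        rw [hD, zero_mul]
        symm
        apply finsum_eq_zero_of_forall_eq_zero
        intro s
        refine divFun_pfn_neg p ξ f δ' ⟨i, s⟩ x' (fun h => hy ?_)
        have h3 : p s.1 ⤳ p x' := p.base.hom.map_specializes h.1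
        rwa [s.2.1] at h3
    · rw [ha0 hk, zero_mul]
      symm
      apply finsum_eq_zero_of_forall_eq_zero
      intro i
      apply finsum_eq_zero_of_forall_eq_zero
      intro s
      refine divFun_pfn_neg p ξ f δ' ⟨i, s⟩ x' ?_
      rintro ⟨-, h2⟩
      have h2' : δ' x' + 1 = δ' s.1 := h2
      have h3' : δ' s.1 = k + 1 + c := hδpt ⟨i, s⟩
      apply hk
      omega
  · rw [if_neg hA]
    symm
    apply finsum_eq_zero_of_forall_eq_zero
    intro i
    apply finsum_eq_zero_of_forall_eq_zero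
    intro s
    by_cases hcond : s.1 ⤳ x' ∧ δ' x' + 1 = δ' s.1
    · have h3 : δ' s.1 = k + 1 + c := hδpt ⟨i, s⟩
      have hsp : ξ i ⤳ p x' := by
        have h4 : p s.1 ⤳ p x' := p.base.hom.map_specializes hcond.1
        rwa [s.2.1] at h4
      have hle := hB2.1
      have hc2 := hcond.2
      have heq : ξ i = p x' := by
        by_contra hne
        have h6 := (hdimX (ξ i) (p x') hsp hne).1
        have h7 := hδξ i
        omega
      have hpe : p x' = p s.1 := by rw [s.2.1, heq]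
      have h0 := ordAt_pull_eq_zero_of_eq p x' s.1 hcond.1 hpe
        ((X.residueFieldCongr s.2.1.symm).hom (f i)) (residueFieldCongr_ne_zero _ _ (hf i))
      have h5 := divFun_pfn_pos p ξ f δ' ⟨i, s⟩ x' hcond.1 hcond.2
      exact h5.trans (mul_eq_zero_of_right _ h0)
    · exact divFun_pfn_neg p ξ f δ' ⟨i, s⟩ x' hcond

end Groth.Agent.Lib.Lead.C1Flat
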