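import Groth.Agent.Lib.Lead.C1Pull
import Mathlib.AlgebraicGeometry.Noetherian

/-!
# The cycle of a closed subscheme

* `finite_inter_maximal`: in a locally Noetherian scheme the maximal points are locally finite;
* `exists_cycle_subschemeFun`: the coefficient function `[Y]_k` of a closed subscheme
  `ι : Y ⟶ X` with `δ ≤ k` on `Y` is a `k`-cycle.
-/

set_option autoImplicit false
universe u
open CategoryTheory CategoryTheory.Limits AlgebraicGeometry TopologicalSpace Opposite

namespace Groth.Agent.Lib.Lead.C1Sub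

variable {X Y : Scheme.{u}}

/-- A Noetherian quasi-sober `T0` space has finitely many maximal points. -/
theorem finite_maximal {α : Type u} [TopologicalSpace α] [T0Space α] [QuasiSober α]
    [NoetherianSpace α] : {η : α | ∀ z : α, z ⤳ η → z = η}.Finite := by
  have hfin : (genericPoints α).Finite :=
    genericPoints.finite NoetherianSpace.finite_irreducibleComponents
  refine hfin.subset ?_
  intro η hmax
  show closure {η} ∈ irreducibleComponents α
  obtain ⟨Z, hZ, hsub⟩ := exists_mem_irreducibleComponents_subset_of_isIrreducible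
    (closure {η}) isIrreducible_singleton.closure
  have hgen := genericPoints.isGenericPoint_ofComponent ⟨Z, hZ⟩
  have hmem : η ∈ Z := hsub (subset_closure (Set.mem_singleton _))
  have hspec : (genericPoints.ofComponent ⟨Z, hZ⟩).1 ⤳ η := by
    rw [specializes_iff_mem_closure, hgen.def]
    exact hmem
  have heq := hmax _ hspec
  rw [← heq, hgen.def]
  exact hZ

/-- In a locally Noetherian scheme, every point has an open neighbourhood containing only
finitely many maximal points. -/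
theorem finite_inter_maximal (Y : Scheme.{u}) [IsLocallyNoetherian Y] (y : Y) :
    ∃ U : Y.Opens, y ∈ U ∧ {η : Y | η ∈ U ∧ ∀ z : Y, z ⤳ η → z = η}.Finite := by
  obtain ⟨_, ⟨U, hU0, rfl⟩, hyU, -⟩ :=
    Y.isBasis_affineOpens.exists_subset_of_mem_open (Set.mem_univ y) isOpen_univ
  have hU : IsAffineOpen U := hU0
  haveI : IsNoetherianRing Γ(Y, U) := IsLocallyNoetherian.component_noetherian ⟨U, hU⟩
  have hNS : NoetherianSpace U := noetherianSpace_of_isAffineOpen U hU
  have hQS : QuasiSober U := U.isOpenEmbedding'.quasiSober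
  have hfin : {η : U | ∀ z : U, z ⤳ η → z = η}.Finite := @finite_maximal U _ _ hQS hNS
  refine ⟨U, hyU, (hfin.image Subtype.val).subset ?_⟩
  rintro η ⟨hηU, hmax⟩
  refine ⟨⟨η, hηU⟩, ?_, rfl⟩
  intro z hz
  exact Subtype.ext (hmax z.1 ((Topology.IsInducing.subtypeVal.specializes_iff).mpr hz))

theorem subschemeFun_apply_closedImmersion (ι : Y ⟶ X) [IsClosedImmersion ι] (δ : X → ℤ) (k : ℤ)
    (η : Y) :
    Cyc.subschemeFun δ k ι (ι η) = Cyc.subschemeFun (fun y => δ (ι y)) k (𝟙 Y) η := by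
  unfold Cyc.subschemeFun
  have hset : {z : Y | ι z = ι η} = {z : Y | (𝟙 Y : Y ⟶ Y) z = η} := by
    ext z
    exact ⟨fun h => ι.isClosedEmbedding.injective h, fun h => congrArg ι h⟩
  rw [hset]

theorem subschemeFun_eq_zero_of_notMem_range (ι : Y ⟶ X) (δ : X → ℤ) (k : ℤ) (x : X)
    (hx : x ∉ Set.range ⇑ι) : Cyc.subschemeFun δ k ι x = 0 := by
  unfold Cyc.subschemeFun
  split_ifs
  · apply finsum_mem_eq_zero_of_forall_eq_zero
    intro z hz
    exact absurd ⟨z, hz⟩ hx
  · rfl

/-- `[Y]_k` is a `k`-cycle when `δ ≤ k` on `Y`. -/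
theorem exists_cycle_subschemeFun (ι : Y ⟶ X) [IsClosedImmersion ι] [IsLocallyNoetherian Y]
    (δ : X → ℤ) (hdY : Cyc.IsDimFun Y (fun y => δ (ι y))) (k : ℤ) (hY : ∀ y : Y, δ (ι y) ≤ k) :
    ∃ A : AlgebraicCycle X ℤ, ⇑A = Cyc.subschemeFun δ k ι ∧ A ∈ Cyc.Zk X δ k := by
  classical
  have hsupp : ∀ ξ : X, Cyc.subschemeFun δ k ι ξ ≠ 0 →
      ∃ η : Y, ι η = ξ ∧ ∀ z : Y, z ⤳ η → z = η := by
    intro ξ hξ
    by_cases hr : ξ ∈ Set.range ⇑ι
    · obtain ⟨η, rfl⟩ := hr
      refine ⟨η, rfl, fun z hz => ?_⟩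
      by_contra hne
      have hk : δ (ι η) = k := by
        by_contra hk
        apply hξ
        unfold Cyc.subschemeFun
        rw [if_neg hk]
      have h1 : δ (ι η) < δ (ι z) := (hdY z η hz hne).1
      have h2 := hY z
      omega
    · exact absurd (subschemeFun_eq_zero_of_notMem_range ι δ k ξ hr) hξ
  refine ⟨⟨Cyc.subschemeFun δ k ι, fun _ _ => Set.mem_univ _, fun x _ => ?_⟩, rfl, ?_⟩
  · by_cases hx : x ∈ Set.range ⇑ι
    · obtain ⟨y, rfl⟩ := hx
      obtain ⟨U, hyU, hfin⟩ := finite_inter_maximal Y y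
      obtain ⟨W, hWo, hWU⟩ := ι.isClosedEmbedding.isInducing.isOpen_iff.mp U.2
      refine ⟨W, hWo.mem_nhds ?_, (hfin.image ⇑ι).subset ?_⟩
      · have hy : y ∈ (⇑ι ⁻¹' W) := by
          rw [hWU]
          exact hyU
        exact hy
      · rintro ξ ⟨hξW, hξ⟩
        obtain ⟨η, rfl, hmax⟩ := hsupp ξ hξ
        refine ⟨η, ⟨?_, hmax⟩, rfl⟩
        have hη : η ∈ (⇑ι ⁻¹' W) := hξW
        rw [hWU] at hη
        exact hη
    · refine ⟨(Set.range ⇑ι)ᶜ, ι.isClosedEmbedding.isClosed_range.isOpen_compl.mem_nhds hx, ?_⟩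
      refine Set.Finite.subset Set.finite_empty ?_
      rintro ξ ⟨hξr, hξ⟩
      obtain ⟨η, rfl, -⟩ := hsupp ξ hξ
      exact (hξr ⟨η, rfl⟩).elim
  · intro x hx
    show Cyc.subschemeFun δ k ι x = 0
    unfold Cyc.subschemeFun
    rw [if_neg hx]

end Groth.Agent.Lib.Lead.C1Sub
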