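import Mathlib
import Groth.Agent.Lib.Lead.LineP
import Groth.Agent.Lib.Lead.LineP2

/-!
# Finite point sets of `P^3` with the Cayley–Bacharach property

Elementary theory of finite sets `Z ⊂ P^3` with the Cayley–Bacharach property `CB n` in degree `n`:
* `cb_card`: a nonempty `CB n` set has at least `n + 2` points;
* `cb_collinear`: a `CB n` set (`n ≥ 1`) with at most `2n+1` points is collinear;
* `cb_main`: a `CB n` set (`n ≥ 1`) with at most `3n+1` points is coplanar or lies on two skew lines.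
-/

namespace Groth.Agent.Lib.Lead.CB

open MvPolynomial Module
open Groth.Agent.Lib.Lead.LineP

universe u
variable {k : Type u} [Field k]

abbrev P3 (k : Type u) [Field k] := Projectivization k (Fin 4 → k)

/-- Cayley–Bacharach property in degree `n`. -/
def CB (n : ℕ) (Z : Finset (P3 k)) : Prop :=
  ∀ z ∈ Z, ∀ p : MvPolynomial (Fin 4) k, p.IsHomogeneous n →
    (∀ z' ∈ Z, z' ≠ z → MvPolynomial.eval z'.rep p = 0) → MvPolynomial.eval z.rep p = 0

/-- `S` can be separated from `z` by a form of degree `d`. -/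
def Sep (z : P3 k) (S : Finset (P3 k)) (d : ℕ) : Prop :=
  ∃ p : MvPolynomial (Fin 4) k, p.IsHomogeneous d ∧ (∀ s ∈ S, MvPolynomial.eval s.rep p = 0) ∧
    MvPolynomial.eval z.rep p ≠ 0

theorem isHom_X_pow (i : Fin 4) (d : ℕ) : (X i ^ d : MvPolynomial (Fin 4) k).IsHomogeneous d := by
  have h := (MvPolynomial.isHomogeneous_X k i).pow d
  simpa using h

theorem exists_coord (z : P3 k) : ∃ i, z.rep i ≠ 0 := by
  by_contra h
  push Not at h
  exact z.rep_nonzero (funext h)

theorem sep_empty (z : P3 k) (d : ℕ) : Sep z ∅ d := by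
  obtain ⟨i, hi⟩ := exists_coord z
  refine ⟨X i ^ d, isHom_X_pow i d, fun s hs => absurd hs (Finset.notMem_empty s), ?_⟩
  rw [map_pow, eval_X]
  exact pow_ne_zero d hi

theorem sep_mono {z : P3 k} {S : Finset (P3 k)} {a b : ℕ} (h : Sep z S a) (hab : a ≤ b) :
    Sep z S b := by
  obtain ⟨p, hp, hpS, hpz⟩ := h
  obtain ⟨i, hi⟩ := exists_coord z
  refine ⟨p * X i ^ (b - a), ?_, ?_, ?_⟩
  · have := hp.mul (isHom_X_pow (k := k) i (b - a))
    rwa [Nat.add_sub_cancel' hab] at this
  · intro s hs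
    rw [map_mul, hpS s hs, zero_mul]
  · rw [map_mul, map_pow, eval_X]
    exact mul_ne_zero hpz (pow_ne_zero _ hi)

theorem sep_subset {z : P3 k} {S T : Finset (P3 k)} {a : ℕ} (h : Sep z S a) (hTS : T ⊆ S) :
    Sep z T a := by
  obtain ⟨p, hp, hpS, hpz⟩ := h
  exact ⟨p, hp, fun s hs => hpS s (hTS hs), hpz⟩

theorem sep_union [DecidableEq (P3 k)] {z : P3 k} {S T : Finset (P3 k)} {a b : ℕ}
    (h1 : Sep z S a) (h2 : Sep z T b) : Sep z (S ∪ T) (a + b) := by
  obtain ⟨p, hp, hpS, hpz⟩ := h1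
  obtain ⟨q, hq, hqT, hqz⟩ := h2
  refine ⟨p * q, hp.mul hq, ?_, ?_⟩
  · intro s hs
    rw [map_mul]
    rcases Finset.mem_union.mp hs with h | h
    · rw [hpS s h, zero_mul]
    · rw [hqT s h, mul_zero]
  · rw [map_mul]
    exact mul_ne_zero hpz hqz

theorem sep_subspace {z : P3 k} (W : Submodule k (Fin 4 → k)) (hz : z.rep ∉ W)
    (S : Finset (P3 k)) (hS : ∀ s ∈ S, s.rep ∈ W) : Sep z S 1 := by
  obtain ⟨f, hf1, hf2⟩ := Submodule.exists_le_ker_of_notMem hz
  refine ⟨lin f, lin_isHomogeneous f, ?_, ?_⟩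
  · intro s hs
    rw [eval_lin]
    exact LinearMap.mem_ker.mp (hf2 (hS s hs))
  · rw [eval_lin]
    exact hf1

theorem rep_mem_submodule (z : P3 k) : z.rep ∈ z.submodule := by
  rw [Projectivization.submodule_eq]
  exact Submodule.mem_span_singleton_self _

theorem rep_notMem_of_ne {s z : P3 k} (h : s ≠ z) : z.rep ∉ s.submodule := by
  intro hmem
  rw [Projectivization.submodule_eq, Submodule.mem_span_singleton] at hmem
  obtain ⟨c, hc⟩ := hmem
  have h1 : Projectivization.mk k z.rep z.rep_nonzero = Projectivization.mk k s.rep s.rep_nonzero :=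
    (Projectivization.mk_eq_mk_iff' k z.rep s.rep z.rep_nonzero s.rep_nonzero).mpr ⟨c, hc⟩
  rw [Projectivization.mk_rep, Projectivization.mk_rep] at h1
  exact h h1.symm

theorem submodule_le_iff (z : P3 k) (W : Submodule k (Fin 4 → k)) :
    z.submodule ≤ W ↔ z.rep ∈ W := by
  rw [Projectivization.submodule_eq, Submodule.span_singleton_le_iff_mem]

theorem sep_point {s z : P3 k} (h : s ≠ z) : Sep z {s} 1 :=
  sep_subspace s.submodule (rep_notMem_of_ne h) {s} (by
    intro t ht
    rw [Finset.mem_singleton] at ht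
    subst ht
    exact rep_mem_submodule t)

theorem sep_finset [DecidableEq (P3 k)] (z : P3 k) (S : Finset (P3 k)) (hz : z ∉ S) :
    Sep z S S.card := by
  induction S using Finset.induction_on with
  | empty =>
    rw [Finset.card_empty]
    exact sep_empty z 0
  | insert a S ha ih =>
    have hza : a ≠ z := fun h => hz (by rw [← h]; exact Finset.mem_insert_self a S)
    have hzS : z ∉ S := fun h => hz (Finset.mem_insert_of_mem h)
    have h1 := sep_union (sep_point hza) (ih hzS)
    rw [Finset.card_insert_of_notMem ha]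
    have h2 : insert a S = {a} ∪ S := Finset.insert_eq a S
    rw [h2, Nat.add_comm]
    exact h1

theorem sep_biUnion [DecidableEq (P3 k)] (z : P3 k) (S : Finset (P3 k))
    (T : P3 k → Finset (P3 k)) (h : ∀ p ∈ S, Sep z (T p) 1) :
    Sep z (S.biUnion T) S.card := by
  induction S using Finset.induction_on with
  | empty =>
    rw [Finset.biUnion_empty, Finset.card_empty]
    exact sep_empty z 0
  | insert a S ha ih =>
    rw [Finset.biUnion_insert, Finset.card_insert_of_notMem ha, Nat.add_comm]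
    exact sep_union (h a (Finset.mem_insert_self a S))
      (ih (fun p hp => h p (Finset.mem_insert_of_mem hp)))

theorem cb_not_sep [DecidableEq (P3 k)] {n : ℕ} {Z : Finset (P3 k)} (hCB : CB n Z) {z : P3 k}
    (hz : z ∈ Z) : ¬ Sep z (Z.erase z) n := by
  rintro ⟨p, hp, hpS, hpz⟩
  exact hpz (hCB z hz p hp (fun z' hz' hne => hpS z' (Finset.mem_erase.mpr ⟨hne, hz'⟩)))

theorem cb_sub {n d : ℕ} {Z Z' : Finset (P3 k)} (hCB : CB n Z) (hd : d ≤ n)
    (q : MvPolynomial (Fin 4) k) (hq : q.IsHomogeneous d) (hsub : Z' ⊆ Z)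
    (h0 : ∀ z ∈ Z, z ∉ Z' → eval z.rep q = 0) (h1 : ∀ z ∈ Z', eval z.rep q ≠ 0) :
    CB (n - d) Z' := by
  intro z hz p hp hvan
  have hpq : (p * q).IsHomogeneous n := by
    have := hp.mul hq
    rwa [Nat.sub_add_cancel hd] at this
  have := hCB z (hsub hz) (p * q) hpq (by
    intro z' hz' hne
    rw [map_mul]
    by_cases hmem : z' ∈ Z'
    · rw [hvan z' hmem hne, zero_mul]
    · rw [h0 z' hz' hmem, mul_zero])
  rw [map_mul] at this
  rcases mul_eq_zero.mp this with h | h
  · exact h
  · exact absurd h (h1 z hz)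

theorem cb_sub_lin {n : ℕ} {Z Z' : Finset (P3 k)} (hCB : CB n Z) (hn : 1 ≤ n)
    (f : (Fin 4 → k) →ₗ[k] k) (hsub : Z' ⊆ Z) (h0 : ∀ z ∈ Z, z ∉ Z' → f z.rep = 0)
    (h1 : ∀ z ∈ Z', f z.rep ≠ 0) : CB (n - 1) Z' :=
  cb_sub hCB hn (lin f) (lin_isHomogeneous f) hsub
    (fun z hz hz' => by rw [eval_lin]; exact h0 z hz hz')
    (fun z hz => by rw [eval_lin]; exact h1 z hz)

theorem cb_card [DecidableEq (P3 k)] {m : ℕ} {Z : Finset (P3 k)} (hCB : CB m Z)
    (hne : Z.Nonempty) : m + 2 ≤ Z.card := by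
  by_contra hlt
  obtain ⟨z, hz⟩ := hne
  have h1 := sep_finset z (Z.erase z) (Finset.notMem_erase z Z)
  rw [Finset.card_erase_of_mem hz] at h1
  exact cb_not_sep hCB hz (sep_mono h1 (by omega))

section counting
variable {α : Type*} [DecidableEq α]

theorem card_add_le {s t Z : Finset α} (hs : s ⊆ Z) (ht : t ⊆ Z) (hd : ∀ x ∈ s, x ∉ t) :
    s.card + t.card ≤ Z.card := by
  have h1 := Finset.card_union_add_card_inter s t
  have h2 : s ∩ t = ∅ := Finset.eq_empty_iff_forall_notMem.mpr (fun x hx =>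
    hd x (Finset.mem_inter.mp hx).1 (Finset.mem_inter.mp hx).2)
  have h3 : (s ∪ t).card ≤ Z.card := Finset.card_le_card (Finset.union_subset hs ht)
  rw [h2, Finset.card_empty] at h1
  omega

theorem card_add_add_le {s t u Z : Finset α} (hs : s ⊆ Z) (ht : t ⊆ Z) (hu : u ⊆ Z)
    (hst : ∀ x ∈ s, x ∉ t) (hsu : ∀ x ∈ s, x ∉ u) (htu : ∀ x ∈ t, x ∉ u) :
    s.card + t.card + u.card ≤ Z.card := by
  have h1 := Finset.card_union_add_card_inter s t
  have h2 : s ∩ t = ∅ := Finset.eq_empty_iff_forall_notMem.mpr (fun x hx =>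
    hst x (Finset.mem_inter.mp hx).1 (Finset.mem_inter.mp hx).2)
  rw [h2, Finset.card_empty] at h1
  have h3 := card_add_le (Finset.union_subset hs ht) hu (fun x hx => by
    rcases Finset.mem_union.mp hx with h | h
    · exact hsu x h
    · exact htu x h)
  omega

end counting

theorem finrank_V4 : Module.finrank k (Fin 4 → k) = 4 := by simp

theorem exists_plane (N : Submodule k (Fin 4 → k)) (hN : Module.finrank k N ≤ 3) :
    ∃ f : (Fin 4 → k) →ₗ[k] k, f ≠ 0 ∧ ∀ v ∈ N, f v = 0 := by
  have hlt : N < ⊤ := by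
    rw [lt_top_iff_ne_top]
    intro h
    rw [h, finrank_top, finrank_V4] at hN
    omega
  obtain ⟨f, hf, hNf⟩ := Submodule.exists_le_ker_of_lt_top N hlt
  exact ⟨f, hf, fun v hv => LinearMap.mem_ker.mp (hNf hv)⟩

/-- number of points of `Z` on the plane `f = 0`. -/
noncomputable def cnt (Z : Finset (P3 k)) (f : (Fin 4 → k) →ₗ[k] k) : ℕ := by
  classical exact (Z.filter (fun z => f z.rep = 0)).card

theorem le_cnt {Z A : Finset (P3 k)} {f : (Fin 4 → k) →ₗ[k] k} (hA : A ⊆ Z)
    (hf : ∀ a ∈ A, f a.rep = 0) : A.card ≤ cnt Z f := by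
  classical
  unfold cnt
  exact Finset.card_le_card (fun a ha => Finset.mem_filter.mpr ⟨hA ha, hf a ha⟩)

theorem cnt_le (Z : Finset (P3 k)) (f : (Fin 4 → k) →ₗ[k] k) : cnt Z f ≤ Z.card := by
  classical
  unfold cnt
  exact Finset.card_filter_le _ _

theorem cnt_add_le {Z Z1 : Finset (P3 k)} {f : (Fin 4 → k) →ₗ[k] k} (hZ1 : Z1 ⊆ Z)
    (hf : ∀ z ∈ Z1, f z.rep ≠ 0) : Z1.card + cnt Z f ≤ Z.card := by
  classical
  unfold cnt
  exact card_add_le hZ1 (Finset.filter_subset _ _)
    (fun x hx hx' => hf x hx (Finset.mem_filter.mp hx').2)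

theorem exists_max_plane (Z : Finset (P3 k)) :
    ∃ f0 : (Fin 4 → k) →ₗ[k] k, f0 ≠ 0 ∧ ∀ f : (Fin 4 → k) →ₗ[k] k, f ≠ 0 → cnt Z f ≤ cnt Z f0 := by
  classical
  obtain ⟨f3, hf3, -⟩ := exists_plane (k := k) ⊥ (by simp)
  let S : Finset ℕ := (Finset.range (Z.card + 1)).filter
    (fun a => ∃ f : (Fin 4 → k) →ₗ[k] k, f ≠ 0 ∧ cnt Z f = a)
  have hS : S.Nonempty := ⟨cnt Z f3, Finset.mem_filter.mpr
    ⟨Finset.mem_range.mpr (Nat.lt_succ_of_le (cnt_le Z f3)), f3, hf3, rfl⟩⟩
  obtain ⟨a, ha, hamax⟩ := Finset.exists_max_image S id hS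
  obtain ⟨-, f0, hf0, hf0a⟩ := Finset.mem_filter.mp ha
  refine ⟨f0, hf0, fun f hf => ?_⟩
  have hmem : cnt Z f ∈ S := Finset.mem_filter.mpr
    ⟨Finset.mem_range.mpr (Nat.lt_succ_of_le (cnt_le Z f)), f, hf, rfl⟩
  have := hamax (cnt Z f) hmem
  simp only [id] at this
  rw [hf0a]
  exact this

/-- `Z` lies on a line. -/
def Col (Z : Finset (P3 k)) : Prop :=
  ∃ W : Submodule k (Fin 4 → k), Module.finrank k W ≤ 2 ∧ ∀ z ∈ Z, z.rep ∈ W

/-- `Z` lies on a plane. -/
def Cop (Z : Finset (P3 k)) : Prop :=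
  ∃ f : (Fin 4 → k) →ₗ[k] k, f ≠ 0 ∧ ∀ z ∈ Z, f z.rep = 0

/-- `Z` lies on two skew lines, with at least `n+1` points on each and `|Z| ≥ 2n+3`. -/
def Skew (n : ℕ) (Z : Finset (P3 k)) : Prop :=
  ∃ W₁ W₂ : Submodule k (Fin 4 → k), Module.finrank k W₁ = 2 ∧ Module.finrank k W₂ = 2 ∧
    W₁ ⊓ W₂ = ⊥ ∧ (∀ z ∈ Z, z.rep ∈ W₁ ∨ z.rep ∈ W₂) ∧
    (∃ A : Finset (P3 k), A ⊆ Z ∧ (∀ z ∈ A, z.rep ∈ W₁) ∧ n + 1 ≤ A.card) ∧
    (∃ B : Finset (P3 k), B ⊆ Z ∧ (∀ z ∈ B, z.rep ∈ W₂) ∧ n + 1 ≤ B.card) ∧
    2 * n + 3 ≤ Z.card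

theorem finrank_sup_point_le (W : Submodule k (Fin 4 → k)) (z : P3 k) :
    Module.finrank k ↥(W ⊔ z.submodule) ≤ Module.finrank k W + 1 := by
  have := Submodule.finrank_add_le_finrank_add_finrank W z.submodule
  rw [Projectivization.finrank_submodule] at this
  exact this

theorem cb_collinear (m : ℕ) :
    1 ≤ m → ∀ Z : Finset (P3 k), CB m Z → Z.card ≤ 2 * m + 1 → Col Z := by
  classical
  induction m with
  | zero => intro h; omega
  | succ m ih =>
    intro _ Z hCB hcard
    by_contra hnc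
    have h0 : ∀ W : Submodule k (Fin 4 → k), Module.finrank k W ≤ 2 → ∃ z ∈ Z, z.rep ∉ W := by
      intro W hW
      by_contra h
      push Not at h
      exact hnc ⟨W, hW, h⟩
    obtain ⟨p, hpZ, -⟩ := h0 ⊥ (by simp)
    obtain ⟨q, hqZ, hq⟩ := h0 p.submodule (by rw [Projectivization.finrank_submodule]; omega)
    have hpq2 : Module.finrank k ↥(p.submodule ⊔ q.submodule) ≤ 2 := by
      have := finrank_sup_point_le p.submodule q
      rw [Projectivization.finrank_submodule] at this
      exact this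
    obtain ⟨r, hrZ, hr⟩ := h0 (p.submodule ⊔ q.submodule) hpq2
    obtain ⟨f, hfr, hfN⟩ := Submodule.exists_le_ker_of_notMem hr
    have hfp : f p.rep = 0 :=
      LinearMap.mem_ker.mp (hfN (Submodule.mem_sup_left (rep_mem_submodule p)))
    have hfq : f q.rep = 0 :=
      LinearMap.mem_ker.mp (hfN (Submodule.mem_sup_right (rep_mem_submodule q)))
    have hqp : q ≠ p := by
      intro h
      apply hq
      rw [h]
      exact rep_mem_submodule p
    set Z1 := Z.filter (fun z => f z.rep ≠ 0) with hZ1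
    have hZ1sub : Z1 ⊆ Z := Finset.filter_subset _ _
    have hr1 : r ∈ Z1 := Finset.mem_filter.mpr ⟨hrZ, hfr⟩
    have hCB1 : CB m Z1 := by
      have := cb_sub_lin hCB (Nat.succ_le_succ (Nat.zero_le m)) f hZ1sub
        (fun z hz hz' => by
          by_contra h
          exact hz' (Finset.mem_filter.mpr ⟨hz, h⟩))
        (fun z hz => (Finset.mem_filter.mp hz).2)
      simpa using this
    have hsub2 : Z1 ⊆ (Z.erase p).erase q := by
      intro z hz
      have hz' := Finset.mem_filter.mp hz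
      refine Finset.mem_erase.mpr ⟨?_, Finset.mem_erase.mpr ⟨?_, hz'.1⟩⟩
      · intro h
        exact hz'.2 (by rw [h]; exact hfq)
      · intro h
        exact hz'.2 (by rw [h]; exact hfp)
    have hc2 : Z1.card ≤ Z.card - 1 - 1 := by
      have := Finset.card_le_card hsub2
      rwa [Finset.card_erase_of_mem (Finset.mem_erase.mpr ⟨hqp, hqZ⟩),
        Finset.card_erase_of_mem hpZ] at this
    rcases Nat.eq_zero_or_pos m with hm0 | hmpos
    · subst hm0
      have := cb_card hCB1 ⟨r, hr1⟩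
      omega
    · obtain ⟨W1, hW1, hZ1W1⟩ := ih hmpos Z1 hCB1 (by omega)
      have hc1 := cb_card hCB1 ⟨r, hr1⟩
      obtain ⟨z', hz'Z, hz'⟩ := h0 W1 hW1
      set Z' := Z.filter (fun z => z.rep ∉ W1) with hZ'
      have hz'Z' : z' ∈ Z' := Finset.mem_filter.mpr ⟨hz'Z, hz'⟩
      have hZ'sub : Z' ⊆ Z := Finset.filter_subset _ _
      have hcount : Z1.card + Z'.card ≤ Z.card := card_add_le hZ1sub hZ'sub (fun x hx hx' =>
        (Finset.mem_filter.mp hx').2 (hZ1W1 x hx))
      have hA : Sep z' (Z.filter (fun z => z.rep ∈ W1)) 1 :=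
        sep_subspace W1 hz' _ (fun s hs => (Finset.mem_filter.mp hs).2)
      have hB : Sep z' (Z'.erase z') (Z'.erase z').card :=
        sep_finset z' _ (Finset.notMem_erase z' Z')
      have hAB := sep_union hA hB
      have hcov : Z.erase z' ⊆ Z.filter (fun z => z.rep ∈ W1) ∪ Z'.erase z' := by
        intro x hx
        obtain ⟨hne, hxZ⟩ := Finset.mem_erase.mp hx
        by_cases hxW : x.rep ∈ W1
        · exact Finset.mem_union_left _ (Finset.mem_filter.mpr ⟨hxZ, hxW⟩)
        · exact Finset.mem_union_right _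
            (Finset.mem_erase.mpr ⟨hne, Finset.mem_filter.mpr ⟨hxZ, hxW⟩⟩)
      have hBc : (Z'.erase z').card = Z'.card - 1 := Finset.card_erase_of_mem hz'Z'
      exact cb_not_sep hCB hz'Z (sep_mono (sep_subset hAB hcov) (by omega))

theorem cb_main (n : ℕ) :
    1 ≤ n → ∀ Z : Finset (P3 k), CB n Z → Z.card ≤ 3 * n + 1 → Cop Z ∨ Skew n Z := by
  classical
  induction n with
  | zero => intro h; omega
  | succ n ih =>
    intro _ Z hCB hcard
    by_cases hcop : Cop Z
    · exact Or.inl hcop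
    refine Or.inr ?_
    have hnc : ∀ N : Submodule k (Fin 4 → k), Module.finrank k N ≤ 3 → ∃ z ∈ Z, z.rep ∉ N := by
      intro N hN
      obtain ⟨f, hf, hfN⟩ := exists_plane N hN
      by_contra h
      push Not at h
      exact hcop ⟨f, hf, fun z hz => hfN _ (h z hz)⟩
    have hnc' : ∀ f : (Fin 4 → k) →ₗ[k] k, f ≠ 0 → ∃ z ∈ Z, f z.rep ≠ 0 := by
      intro f hf
      by_contra h
      push Not at h
      exact hcop ⟨f, hf, h⟩
    -- three distinct points
    obtain ⟨p, hpZ, -⟩ := hnc ⊥ (by simp)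
    obtain ⟨q, hqZ, hq⟩ := hnc p.submodule (by rw [Projectivization.finrank_submodule]; omega)
    have hpq2 : Module.finrank k ↥(p.submodule ⊔ q.submodule) ≤ 2 := by
      have := finrank_sup_point_le p.submodule q
      rw [Projectivization.finrank_submodule] at this
      exact this
    obtain ⟨r, hrZ, hr⟩ := hnc (p.submodule ⊔ q.submodule) (by omega)
    have hpqr3 : Module.finrank k ↥(p.submodule ⊔ q.submodule ⊔ r.submodule) ≤ 3 := by
      have := finrank_sup_point_le (p.submodule ⊔ q.submodule) r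
      omega
    have hqp : q ≠ p := by
      intro h
      apply hq
      rw [h]
      exact rep_mem_submodule p
    have hrp : r ≠ p := by
      intro h
      apply hr
      rw [h]
      exact Submodule.mem_sup_left (rep_mem_submodule p)
    have hrq : r ≠ q := by
      intro h
      apply hr
      rw [h]
      exact Submodule.mem_sup_right (rep_mem_submodule q)
    obtain ⟨f3, hf3, hf3N⟩ := exists_plane _ hpqr3
    have hcnt3 : 3 ≤ cnt Z f3 := by
      have hc : ({p, q, r} : Finset (P3 k)).card = 3 :=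
        Finset.card_eq_three.mpr ⟨p, q, r, hqp.symm, hrp.symm, hrq.symm, rfl⟩
      have h1 : ({p, q, r} : Finset (P3 k)).card ≤ cnt Z f3 := le_cnt (by
          intro x hx
          simp only [Finset.mem_insert, Finset.mem_singleton] at hx
          rcases hx with rfl | rfl | rfl
          · exact hpZ
          · exact hqZ
          · exact hrZ) (by
          intro x hx
          simp only [Finset.mem_insert, Finset.mem_singleton] at hx
          rcases hx with rfl | rfl | rfl
          · exact hf3N _ (Submodule.mem_sup_left (Submodule.mem_sup_left (rep_mem_submodule _)))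
          · exact hf3N _ (Submodule.mem_sup_left (Submodule.mem_sup_right (rep_mem_submodule _)))
          · exact hf3N _ (Submodule.mem_sup_right (rep_mem_submodule _)))
      omega
    obtain ⟨f0, hf0, hmax⟩ := exists_max_plane Z
    have hh3 : 3 ≤ cnt Z f0 := le_trans hcnt3 (hmax f3 hf3)
    set Z1 := Z.filter (fun z => f0 z.rep ≠ 0) with hZ1
    have hZ1sub : Z1 ⊆ Z := Finset.filter_subset _ _
    obtain ⟨z1, hz1Z, hz1⟩ := hnc' f0 hf0
    have hz1Z1 : z1 ∈ Z1 := Finset.mem_filter.mpr ⟨hz1Z, hz1⟩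
    have hCB1 : CB n Z1 := by
      have := cb_sub_lin hCB (Nat.succ_le_succ (Nat.zero_le n)) f0 hZ1sub
        (fun z hz hz' => by
          by_contra h
          exact hz' (Finset.mem_filter.mpr ⟨hz, h⟩))
        (fun z hz => (Finset.mem_filter.mp hz).2)
      simpa using this
    have hc1 : n + 2 ≤ Z1.card := cb_card hCB1 ⟨z1, hz1Z1⟩
    have hsum : Z1.card + cnt Z f0 ≤ Z.card :=
      cnt_add_le hZ1sub (fun z hz => (Finset.mem_filter.mp hz).2)
    rcases Nat.eq_zero_or_pos n with hn0 | hnpos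
    · exfalso
      subst hn0
      omega
    -- Step 1: a line with many points
    obtain ⟨M1, hM1, A, hAZ, hAM1, hAcard⟩ : ∃ M1 : Submodule k (Fin 4 → k),
        Module.finrank k M1 ≤ 2 ∧
        ∃ A : Finset (P3 k), A ⊆ Z ∧ (∀ z ∈ A, z.rep ∈ M1) ∧ n + 2 ≤ A.card := by
      rcases ih hnpos Z1 hCB1 (by omega) with hcop1 | hskew1
      · obtain ⟨f1, hf1, hf1Z1⟩ := hcop1
        have h1 : Z1.card ≤ cnt Z f1 := le_cnt hZ1sub hf1Z1
        have h2 := hmax f1 hf1
        obtain ⟨M1, hM1, hZ1M1⟩ := cb_collinear n hnpos Z1 hCB1 (by omega)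
        exact ⟨M1, hM1, Z1, hZ1sub, hZ1M1, hc1⟩
      · exfalso
        obtain ⟨W₁, W₂, hW₁, hW₂, hinf, -, ⟨A, hAZ1, hAW₁, hAc⟩, ⟨B, hBZ1, hBW₂, hBc⟩, hZ1c⟩ :=
          hskew1
        have hBne : B.Nonempty := Finset.card_pos.mp (by omega)
        obtain ⟨q', hq'B⟩ := hBne
        have hq'W₁ : q'.rep ∉ W₁ := by
          intro h
          have hmem : q'.rep ∈ W₁ ⊓ W₂ := ⟨h, hBW₂ q' hq'B⟩
          rw [hinf, Submodule.mem_bot] at hmem
          exact q'.rep_nonzero hmem
        have hN3 : Module.finrank k ↥(W₁ ⊔ q'.submodule) ≤ 3 := by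
          have := finrank_sup_point_le W₁ q'
          omega
        obtain ⟨f, hf, hfN⟩ := exists_plane _ hN3
        have hq'A : q' ∉ A := fun h => hq'W₁ (hAW₁ q' h)
        have h1 : (insert q' A).card ≤ cnt Z f := le_cnt (by
            intro x hx
            rcases Finset.mem_insert.mp hx with hx | hx
            · rw [hx]
              exact hZ1sub (hBZ1 hq'B)
            · exact hZ1sub (hAZ1 hx)) (by
            intro x hx
            rcases Finset.mem_insert.mp hx with hx | hx
            · rw [hx]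
              exact hfN _ (Submodule.mem_sup_right (rep_mem_submodule _))
            · exact hfN _ (Submodule.mem_sup_left (hAW₁ x hx)))
        rw [Finset.card_insert_of_notMem hq'A] at h1
        have h2 := hmax f hf
        omega
    -- Step 2: the second line
    obtain ⟨z', hz'Z, hz'⟩ := hnc M1 (by omega)
    have hN3 : Module.finrank k ↥(M1 ⊔ z'.submodule) ≤ 3 := by
      have := finrank_sup_point_le M1 z'
      omega
    obtain ⟨f', hf', hf'N⟩ := exists_plane _ hN3
    set Z2 := Z.filter (fun z => f' z.rep ≠ 0) with hZ2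
    have hZ2sub : Z2 ⊆ Z := Finset.filter_subset _ _
    obtain ⟨z2, hz2Z, hz2⟩ := hnc' f' hf'
    have hz2Z2 : z2 ∈ Z2 := Finset.mem_filter.mpr ⟨hz2Z, hz2⟩
    have hCB2 : CB n Z2 := by
      have := cb_sub_lin hCB (Nat.succ_le_succ (Nat.zero_le n)) f' hZ2sub
        (fun z hz hz' => by
          by_contra h
          exact hz' (Finset.mem_filter.mpr ⟨hz, h⟩))
        (fun z hz => (Finset.mem_filter.mp hz).2)
      simpa using this
    have hc2 : n + 2 ≤ Z2.card := cb_card hCB2 ⟨z2, hz2Z2⟩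
    have hz'A : z' ∉ A := fun h => hz' (hAM1 z' h)
    have hcount2 : (insert z' A).card + Z2.card ≤ Z.card := card_add_le (by
        intro x hx
        rcases Finset.mem_insert.mp hx with hx | hx
        · rw [hx]
          exact hz'Z
        · exact hAZ hx) hZ2sub (by
        intro x hx hx2
        have hfx : f' x.rep = 0 := by
          rcases Finset.mem_insert.mp hx with hx | hx
          · rw [hx]
            exact hf'N _ (Submodule.mem_sup_right (rep_mem_submodule _))
          · exact hf'N _ (Submodule.mem_sup_left (hAM1 x hx))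
        exact (Finset.mem_filter.mp hx2).2 hfx)
    rw [Finset.card_insert_of_notMem hz'A] at hcount2
    obtain ⟨M2, hM2, hZ2M2⟩ := cb_collinear n hnpos Z2 hCB2 (by omega)
    -- Step 3: every point lies on one of the two lines
    have hcover : ∀ z ∈ Z, z.rep ∈ M1 ∨ z.rep ∈ M2 := by
      intro w hwZ
      by_contra hw
      push Not at hw
      obtain ⟨hw1, hw2⟩ := hw
      set Wset := Z.filter (fun z => z.rep ∉ M1 ∧ z.rep ∉ M2) with hWset
      have hwW : w ∈ Wset := Finset.mem_filter.mpr ⟨hwZ, hw1, hw2⟩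
      have hcount3 : A.card + Z2.card + Wset.card ≤ Z.card :=
        card_add_add_le hAZ hZ2sub (Finset.filter_subset _ _)
          (fun x hx hx2 =>
            (Finset.mem_filter.mp hx2).2 (hf'N _ (Submodule.mem_sup_left (hAM1 x hx))))
          (fun x hx hxW => (Finset.mem_filter.mp hxW).2.1 (hAM1 x hx))
          (fun x hx hxW => (Finset.mem_filter.mp hxW).2.2 (hZ2M2 x hx))
      have hS1 : Sep w (Z.filter (fun z => z.rep ∈ M1)) 1 :=
        sep_subspace M1 hw1 _ (fun s hs => (Finset.mem_filter.mp hs).2)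
      have hS2 : Sep w (Z.filter (fun z => z.rep ∈ M2)) 1 :=
        sep_subspace M2 hw2 _ (fun s hs => (Finset.mem_filter.mp hs).2)
      have hS3 : Sep w (Wset.erase w) (Wset.erase w).card :=
        sep_finset w _ (Finset.notMem_erase w Wset)
      have hS := sep_union (sep_union hS1 hS2) hS3
      have hcov : Z.erase w ⊆ Z.filter (fun z => z.rep ∈ M1) ∪ Z.filter (fun z => z.rep ∈ M2) ∪
          Wset.erase w := by
        intro x hx
        obtain ⟨hne, hxZ⟩ := Finset.mem_erase.mp hx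
        by_cases hx1 : x.rep ∈ M1
        · exact Finset.mem_union_left _
            (Finset.mem_union_left _ (Finset.mem_filter.mpr ⟨hxZ, hx1⟩))
        · by_cases hx2 : x.rep ∈ M2
          · exact Finset.mem_union_left _
              (Finset.mem_union_right _ (Finset.mem_filter.mpr ⟨hxZ, hx2⟩))
          · exact Finset.mem_union_right _
              (Finset.mem_erase.mpr ⟨hne, Finset.mem_filter.mpr ⟨hxZ, hx1, hx2⟩⟩)
      have hWc : (Wset.erase w).card = Wset.card - 1 := Finset.card_erase_of_mem hwW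
      exact cb_not_sep hCB hwZ (sep_mono (sep_subset hS hcov) (by omega))
    -- Step 4: the lines are skew
    have hsup4 : 4 ≤ Module.finrank k ↥(M1 ⊔ M2) := by
      by_contra hlt
      obtain ⟨z, hzZ, hz⟩ := hnc (M1 ⊔ M2) (by omega)
      rcases hcover z hzZ with h | h
      · exact hz (Submodule.mem_sup_left h)
      · exact hz (Submodule.mem_sup_right h)
    have hsi := Submodule.finrank_sup_add_finrank_inf_eq M1 M2
    have hM1eq : Module.finrank k M1 = 2 := by omega
    have hM2eq : Module.finrank k M2 = 2 := by omega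
    have hinf0 : Module.finrank k ↥(M1 ⊓ M2) = 0 := by omega
    have hinf : M1 ⊓ M2 = ⊥ := Submodule.finrank_eq_zero.mp hinf0
    -- Step 5: counting
    have hdisj : ∀ x : P3 k, x.rep ∈ M1 → x.rep ∉ M2 := by
      intro x h1 h2
      have hmem : x.rep ∈ M1 ⊓ M2 := ⟨h1, h2⟩
      rw [hinf, Submodule.mem_bot] at hmem
      exact x.rep_nonzero hmem
    refine ⟨M1, M2, hM1eq, hM2eq, hinf, hcover, ⟨A, hAZ, hAM1, by omega⟩,
      ⟨Z2, hZ2sub, hZ2M2, by omega⟩, ?_⟩
    by_contra hlt
    set F1 := Z.filter (fun z => z.rep ∈ M1) with hF1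
    set F2 := Z.filter (fun z => z.rep ∈ M2) with hF2
    have hAF1 : A ⊆ F1 := fun x hx => Finset.mem_filter.mpr ⟨hAZ hx, hAM1 x hx⟩
    have hZ2F2 : Z2 ⊆ F2 := fun x hx => Finset.mem_filter.mpr ⟨hZ2sub hx, hZ2M2 x hx⟩
    have hF12 : F1.card + F2.card ≤ Z.card :=
      card_add_le (Finset.filter_subset _ _) (Finset.filter_subset _ _)
        (fun x hx hx2 => hdisj x (Finset.mem_filter.mp hx).2 (Finset.mem_filter.mp hx2).2)
    have hF1c := Finset.card_le_card hAF1
    have hF2c := Finset.card_le_card hZ2F2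
    have hF1eq : F1.card = n + 2 := by omega
    obtain ⟨z, hzF1⟩ : F1.Nonempty := Finset.card_pos.mp (by omega)
    have hzZ : z ∈ Z := (Finset.mem_filter.mp hzF1).1
    have hzM1 : z.rep ∈ M1 := (Finset.mem_filter.mp hzF1).2
    set S := F1.erase z with hS
    have hSc : S.card = n + 1 := by
      rw [Finset.card_erase_of_mem hzF1, hF1eq]
      rfl
    have hsepS : ∀ p ∈ S, Sep z (insert p F2) 1 := by
      intro p hp
      obtain ⟨hpz, hpF1⟩ := Finset.mem_erase.mp hp
      have hpM1 : p.rep ∈ M1 := (Finset.mem_filter.mp hpF1).2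
      have hzN : z.rep ∉ M2 ⊔ p.submodule := by
        intro hmem
        obtain ⟨y, hy, t, ht, hyt⟩ := Submodule.mem_sup.mp hmem
        rw [Projectivization.submodule_eq, Submodule.mem_span_singleton] at ht
        obtain ⟨c, rfl⟩ := ht
        have hy1 : y ∈ M1 := by
          have hyeq : y = z.rep - c • p.rep := by
            rw [← hyt]
            abel
          rw [hyeq]
          exact M1.sub_mem hzM1 (M1.smul_mem c hpM1)
        have hy0 : y = 0 := by
          have hmem' : y ∈ M1 ⊓ M2 := ⟨hy1, hy⟩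
          rwa [hinf, Submodule.mem_bot] at hmem'
        rw [hy0, zero_add] at hyt
        apply rep_notMem_of_ne hpz
        rw [Projectivization.submodule_eq, Submodule.mem_span_singleton]
        exact ⟨c, hyt⟩
      refine sep_subspace _ hzN _ ?_
      intro s hs
      rcases Finset.mem_insert.mp hs with hs | hs
      · rw [hs]
        exact Submodule.mem_sup_right (rep_mem_submodule _)
      · exact Submodule.mem_sup_left (Finset.mem_filter.mp hs).2
    have hbig := sep_biUnion z S (fun p => insert p F2) hsepS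
    have hSne : S.Nonempty := Finset.card_pos.mp (by omega)
    obtain ⟨p0, hp0⟩ := hSne
    have hcov : Z.erase z ⊆ S.biUnion (fun p => insert p F2) := by
      intro x hx
      obtain ⟨hne, hxZ⟩ := Finset.mem_erase.mp hx
      rw [Finset.mem_biUnion]
      rcases hcover x hxZ with h | h
      · exact ⟨x, Finset.mem_erase.mpr ⟨hne, Finset.mem_filter.mpr ⟨hxZ, h⟩⟩,
          Finset.mem_insert_self _ _⟩
      · exact ⟨p0, hp0, Finset.mem_insert_of_mem (Finset.mem_filter.mpr ⟨hxZ, h⟩)⟩
    exact cb_not_sep hCB hzZ (sep_mono (sep_subset hbig hcov) (by omega))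

end Groth.Agent.Lib.Lead.CB
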