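import Mathlib
import Groth.Agent.Lib.Lead.LineP2

/-!
# Linear forms: irreducibility, coprimality, and forms vanishing on many hyperplanes
-/

namespace Groth.Agent.Lib.Lead.LinForms

open MvPolynomial Groth.Agent.Lib.Lead.LineP

universe u
variable {k : Type u} [Field k] {σ : Type*}

theorem irreducible_of_isHomogeneous_one {ℓ : MvPolynomial σ k} (hℓ : ℓ.IsHomogeneous 1)
    (hℓ0 : ℓ ≠ 0) : Irreducible ℓ := by
  have htd : ℓ.totalDegree = 1 := MvPolynomial.IsHomogeneous.totalDegree hℓ hℓ0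
  have key : ∀ r : MvPolynomial σ k, r ≠ 0 → r.totalDegree = 0 → IsUnit r := by
    intro r hr0 hr
    rw [MvPolynomial.totalDegree_eq_zero_iff_eq_C] at hr
    have hc : MvPolynomial.coeff 0 r ≠ 0 := by
      intro hc
      apply hr0
      rw [hr, hc, map_zero]
    rw [hr]
    exact (isUnit_iff_ne_zero.mpr hc).map MvPolynomial.C
  refine irreducible_iff.mpr ⟨?_, ?_⟩
  · intro hu
    obtain ⟨u, hu⟩ := hu.exists_right_inv
    have hu0 : u ≠ 0 := by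
      rintro rfl
      simp at hu
    have h1 := MvPolynomial.totalDegree_mul_of_isDomain hℓ0 hu0
    rw [hu, MvPolynomial.totalDegree_one] at h1
    omega
  · intro p q hpq
    have hp0 : p ≠ 0 := by
      rintro rfl
      apply hℓ0
      rw [hpq, zero_mul]
    have hq0 : q ≠ 0 := by
      rintro rfl
      apply hℓ0
      rw [hpq, mul_zero]
    have h1 := MvPolynomial.totalDegree_mul_of_isDomain hp0 hq0
    rw [← hpq, htd] at h1
    by_cases hp : p.totalDegree = 0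
    · exact Or.inl (key p hp0 hp)
    · exact Or.inr (key q hq0 (by omega))

theorem not_dvd_of_eval {p q : MvPolynomial σ k} (x : σ → k) (h0 : eval x p = 0)
    (h1 : eval x q ≠ 0) : ¬ p ∣ q := by
  rintro ⟨s, rfl⟩
  rw [map_mul, h0, zero_mul] at h1
  exact h1 rfl

theorem isRelPrime_of_eval {ℓ q : MvPolynomial σ k} (hℓ : ℓ.IsHomogeneous 1) (hℓ0 : ℓ ≠ 0)
    (x : σ → k) (h0 : eval x ℓ = 0) (h1 : eval x q ≠ 0) : IsRelPrime ℓ q :=
  (irreducible_of_isHomogeneous_one hℓ hℓ0).isRelPrime_iff_not_dvd.mpr (not_dvd_of_eval x h0 h1)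

/-- A cubic form vanishing on four pairwise distinct hyperplanes is zero. -/
theorem cubic_eq_zero_of_four_lines [Fintype σ] [DecidableEq σ] [IsAlgClosed k]
    (F : MvPolynomial σ k) (hF : F.IsHomogeneous 3)
    (μ₁ μ₂ μ₃ μ₄ : (σ → k) →ₗ[k] k) (hμ₁ : μ₁ ≠ 0)
    (h12 : ∃ x, μ₁ x = 0 ∧ μ₂ x ≠ 0) (h13 : ∃ x, μ₁ x = 0 ∧ μ₃ x ≠ 0)
    (h14 : ∃ x, μ₁ x = 0 ∧ μ₄ x ≠ 0) (h23 : ∃ x, μ₂ x = 0 ∧ μ₃ x ≠ 0)
    (h24 : ∃ x, μ₂ x = 0 ∧ μ₄ x ≠ 0) (h34 : ∃ x, μ₃ x = 0 ∧ μ₄ x ≠ 0)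
    (hv₁ : ∀ x, μ₁ x = 0 → eval x F = 0) (hv₂ : ∀ x, μ₂ x = 0 → eval x F = 0)
    (hv₃ : ∀ x, μ₃ x = 0 → eval x F = 0) (hv₄ : ∀ x, μ₄ x = 0 → eval x F = 0) : F = 0 := by
  by_contra hF0
  have hne : ∀ μ : (σ → k) →ₗ[k] k, (∃ x, μ x ≠ 0) → lin μ ≠ 0 := by
    rintro μ ⟨x, hx⟩ h0
    apply hx
    rw [← eval_lin, h0, map_zero]
  have h1ne : lin μ₁ ≠ 0 := by
    apply hne
    by_contra hall
    push Not at hall
    exact hμ₁ (LinearMap.ext fun x => by rw [hall x, LinearMap.zero_apply])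
  have h2ne : lin μ₂ ≠ 0 := hne _ (h12.imp fun x hx => hx.2)
  have h3ne : lin μ₃ ≠ 0 := hne _ (h13.imp fun x hx => hx.2)
  have h4ne : lin μ₄ ≠ 0 := hne _ (h14.imp fun x hx => hx.2)
  have hrel : ∀ μ ν : (σ → k) →ₗ[k] k, lin μ ≠ 0 → (∃ x, μ x = 0 ∧ ν x ≠ 0) →
      IsRelPrime (lin μ) (lin ν) := by
    rintro μ ν hμ ⟨x, hx0, hx1⟩
    exact isRelPrime_of_eval (lin_isHomogeneous μ) hμ x (by rw [eval_lin]; exact hx0)
      (by rw [eval_lin]; exact hx1)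
  have hdvd : ∀ μ : (σ → k) →ₗ[k] k, lin μ ≠ 0 → (∀ x, μ x = 0 → eval x F = 0) →
      lin μ ∣ F := by
    intro μ hμ hv
    exact Ideal.mem_span_singleton.mp (mem_span_of_vanish (lin_isHomogeneous μ) hμ F
      (fun x hx => hv x (by rwa [eval_lin] at hx)))
  have hP : lin μ₁ * lin μ₂ * lin μ₃ * lin μ₄ ∣ F := by
    refine IsRelPrime.mul_dvd ?_ (IsRelPrime.mul_dvd ?_ (IsRelPrime.mul_dvd ?_ (hdvd _ h1ne hv₁)
      (hdvd _ h2ne hv₂)) (hdvd _ h3ne hv₃)) (hdvd _ h4ne hv₄)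
    · exact ((hrel _ _ h1ne h14).mul_left (hrel _ _ h2ne h24)).mul_left (hrel _ _ h3ne h34)
    · exact (hrel _ _ h1ne h13).mul_left (hrel _ _ h2ne h23)
    · exact hrel _ _ h1ne h12
  obtain ⟨s, hs⟩ := hP
  have hs0 : s ≠ 0 := by
    rintro rfl
    exact hF0 (by rw [hs, mul_zero])
  have hP0 : lin μ₁ * lin μ₂ * lin μ₃ * lin μ₄ ≠ 0 :=
    mul_ne_zero (mul_ne_zero (mul_ne_zero h1ne h2ne) h3ne) h4ne
  have hPh : (lin μ₁ * lin μ₂ * lin μ₃ * lin μ₄).IsHomogeneous 4 :=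
    (((lin_isHomogeneous μ₁).mul (lin_isHomogeneous μ₂)).mul (lin_isHomogeneous μ₃)).mul
      (lin_isHomogeneous μ₄)
  have h1 := totalDegree_mul_of_isDomain hP0 hs0
  rw [← hs, hF.totalDegree hF0, hPh.totalDegree hP0] at h1
  omega

end Groth.Agent.Lib.Lead.LinForms
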