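import Mathlib
import Groth.Agent.Lib.Lead.LinForms
import Groth.Agent.Lib.Lead.BezoutPts2

/-!
# Plane conics: ternary quadratic forms and symmetric matrices

`qf Q = Σ Q i j • X i X j`, `lf a = Σ a i • X i`.  Over an algebraically closed field with `2 ≠ 0`:
a singular conic splits into two lines, a reducible conic is a product of two linear forms, and the
rank of the symmetric matrix is read off the factorisation.
-/

namespace Groth.Agent.Lib.Lead.Conic

open MvPolynomial Module Matrix Groth.Agent.Lib.Lead.LineP Groth.Agent.Lib.Lead.LinForms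
open Groth.Agent.Lib.Lead.BezoutPts

universe u
variable {k : Type u} [Field k]

/-- the quadratic form of a matrix. -/
noncomputable def qf (Q : Matrix (Fin 3) (Fin 3) k) : MvPolynomial (Fin 3) k :=
  ∑ i : Fin 3, ∑ j : Fin 3, Q i j • (X i * X j)

/-- the linear form of a vector. -/
noncomputable def lf (a : Fin 3 → k) : MvPolynomial (Fin 3) k := ∑ i : Fin 3, a i • X i

theorem hc_mul {σ : Type*} {R : Type*} [CommSemiring R] {F c : MvPolynomial σ R} {d m : ℕ}
    (hF : F.IsHomogeneous d) (hdm : d ≤ m) :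
    homogeneousComponent m (F * c) = F * homogeneousComponent (m - d) c := by
  classical
  have h1 : ∀ j, homogeneousComponent m (F * homogeneousComponent j c)
      = if j = m - d then F * homogeneousComponent j c else 0 := by
    intro j
    have hh : (F * homogeneousComponent j c).IsHomogeneous (d + j) :=
      hF.mul (homogeneousComponent_isHomogeneous j c)
    rw [homogeneousComponent_of_mem hh]
    by_cases hj : j = m - d
    · rw [if_pos hj, if_pos (by omega)]
    · rw [if_neg hj, if_neg (by omega)]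
  conv_lhs => rw [← sum_homogeneousComponent c, Finset.mul_sum, map_sum]
  simp_rw [h1]
  rw [Finset.sum_ite_eq']
  split_ifs with hmem
  · rfl
  · rw [Finset.mem_range] at hmem
    rw [homogeneousComponent_eq_zero _ _ (by omega), mul_zero]

theorem eval_lf (a u : Fin 3 → k) : eval u (lf a) = a ⬝ᵥ u := by
  simp only [lf, map_sum, smul_eval, eval_X, dotProduct]

theorem lf_isHomogeneous (a : Fin 3 → k) : (lf a).IsHomogeneous 1 := by
  unfold lf
  refine IsHomogeneous.sum _ _ _ fun i _ => ?_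
  exact (homogeneousSubmodule (Fin 3) k 1).smul_mem (a i) (isHomogeneous_X k i)

theorem lf_smul (s : k) (a : Fin 3 → k) : lf (s • a) = s • lf a := by
  unfold lf
  rw [Finset.smul_sum]
  refine Finset.sum_congr rfl fun i _ => ?_
  rw [Pi.smul_apply, smul_eq_mul, mul_smul]

theorem lf_zero : lf (0 : Fin 3 → k) = 0 := by
  unfold lf
  simp

theorem pderiv_lf (i : Fin 3) (a : Fin 3 → k) : pderiv i (lf a) = C (a i) := by
  classical
  unfold lf
  rw [map_sum, Finset.sum_eq_single i]
  · rw [Derivation.map_smul, pderiv_X_self, smul_eq_C_mul, mul_one]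
  · intro j _ hji
    rw [Derivation.map_smul, pderiv_X_of_ne hji, smul_zero]
  · intro h
    exact absurd (Finset.mem_univ i) h

theorem qf_isHomogeneous (Q : Matrix (Fin 3) (Fin 3) k) : (qf Q).IsHomogeneous 2 := by
  unfold qf
  refine IsHomogeneous.sum _ _ _ fun i _ => IsHomogeneous.sum _ _ _ fun j _ => ?_
  exact (homogeneousSubmodule (Fin 3) k 2).smul_mem (Q i j)
    ((isHomogeneous_X k i).mul (isHomogeneous_X k j))

theorem eval_qf (Q : Matrix (Fin 3) (Fin 3) k) (u : Fin 3 → k) :
    eval u (qf Q) = u ⬝ᵥ (Q *ᵥ u) := by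
  simp only [qf, map_sum, smul_eval, map_mul, eval_X, dotProduct, Matrix.mulVec, Finset.mul_sum]
  refine Finset.sum_congr rfl fun i _ => Finset.sum_congr rfl fun j _ => ?_
  ring

theorem eval_pderiv_qf {Q : Matrix (Fin 3) (Fin 3) k} (hQ : Q.IsSymm) (i : Fin 3)
    (u : Fin 3 → k) : eval u (pderiv i (qf Q)) = 2 * (Q *ᵥ u) i := by
  classical
  have h1 : ∀ a b : Fin 3, eval u (pderiv i (X a * X b : MvPolynomial (Fin 3) k))
      = (if a = i then u b else 0) + (if b = i then u a else 0) := by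
    intro a b
    rw [pderiv_mul, pderiv_X, pderiv_X, Pi.single_apply, Pi.single_apply]
    split_ifs <;> simp
  have h2 : eval u (pderiv i (qf Q)) = ∑ a, ∑ b, Q a b *
      ((if a = i then u b else 0) + (if b = i then u a else 0)) := by
    unfold qf
    rw [map_sum, map_sum]
    refine Finset.sum_congr rfl fun a _ => ?_
    rw [map_sum, map_sum]
    refine Finset.sum_congr rfl fun b _ => ?_
    rw [Derivation.map_smul, smul_eval, h1]
  have h3 : ∀ a, ∑ b, Q a b * ((if a = i then u b else 0) + (if b = i then u a else 0))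
      = (if a = i then ∑ b, Q a b * u b else 0) + Q a i * u a := by
    intro a
    simp only [mul_add, Finset.sum_add_distrib]
    congr 1
    · by_cases h : a = i
      · simp only [if_pos h]
      · simp only [if_neg h, mul_zero, Finset.sum_const_zero]
    · rw [Finset.sum_eq_single i]
      · rw [if_pos rfl]
      · intro b _ hb
        rw [if_neg hb, mul_zero]
      · intro h
        exact absurd (Finset.mem_univ i) h
  rw [h2]
  simp_rw [h3]
  rw [Finset.sum_add_distrib, Finset.sum_ite_eq', if_pos (Finset.mem_univ i)]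
  have h4 : ∑ a, Q a i * u a = ∑ b, Q i b * u b :=
    Finset.sum_congr rfl fun a _ => by rw [hQ.apply i a]
  rw [h4, two_mul]
  rfl

theorem exists_lf_of_isHomogeneous_one (ℓ : MvPolynomial (Fin 3) k) (h : ℓ.IsHomogeneous 1) :
    ∃ a : Fin 3 → k, ℓ = lf a := by
  classical
  refine ⟨fun i => coeff (Finsupp.single i 1) ℓ, ?_⟩
  ext d
  unfold lf
  rw [coeff_sum]
  simp only [coeff_smul, coeff_X, smul_eq_mul, mul_ite, mul_one, mul_zero]
  by_cases hd : ∃ i : Fin 3, Finsupp.single i 1 = d
  · obtain ⟨i, rfl⟩ := hd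
    rw [Finset.sum_eq_single i]
    · rw [if_pos rfl]
    · intro j _ hji
      rw [if_neg]
      intro hji'
      exact hji (Finsupp.single_left_injective one_ne_zero hji')
    · intro hi
      exact absurd (Finset.mem_univ i) hi
  · push Not at hd
    rw [Finset.sum_eq_zero (fun i _ => if_neg (hd i))]
    by_contra hne
    have hdeg' := h hne
    have hdeg : d.degree = 1 := by
      rw [Finsupp.degree_eq_weight_one]
      exact hdeg'
    rw [Finsupp.degree_eq_sum, Fin.sum_univ_three] at hdeg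
    have hcases : (d 0 = 1 ∧ d 1 = 0 ∧ d 2 = 0) ∨ (d 0 = 0 ∧ d 1 = 1 ∧ d 2 = 0) ∨
        (d 0 = 0 ∧ d 1 = 0 ∧ d 2 = 1) := by omega
    rcases hcases with ⟨h0, h1, h2⟩ | ⟨h0, h1, h2⟩ | ⟨h0, h1, h2⟩
    · apply hd 0
      ext j
      fin_cases j <;> simp [h0, h1, h2]
    · apply hd 1
      ext j
      fin_cases j <;> simp [h0, h1, h2]
    · apply hd 2
      ext j
      fin_cases j <;> simp [h0, h1, h2]

theorem two_smul_mulVec {Q : Matrix (Fin 3) (Fin 3) k} (hQ : Q.IsSymm) {a b : Fin 3 → k}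
    (h : qf Q = lf a * lf b) (u : Fin 3 → k) :
    (2 : k) • (Q *ᵥ u) = (b ⬝ᵥ u) • a + (a ⬝ᵥ u) • b := by
  funext i
  have h1 := eval_pderiv_qf hQ i u
  rw [h, pderiv_mul, pderiv_lf, pderiv_lf, map_add, map_mul, map_mul, eval_C, eval_C, eval_lf,
    eval_lf] at h1
  simp only [Pi.smul_apply, Pi.add_apply, smul_eq_mul]
  linear_combination -h1

theorem mulVec_eq_zero_of_forall {Q : Matrix (Fin 3) (Fin 3) k}
    (h : ∀ u : Fin 3 → k, Q *ᵥ u = 0) : Q = 0 := by
  classical
  ext i j
  have := congrFun (h (Pi.single j 1)) i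
  rw [Matrix.mulVec_single_one] at this
  exact this

theorem qf_ne_zero (h2 : (2 : k) ≠ 0) {Q : Matrix (Fin 3) (Fin 3) k} (hQ : Q.IsSymm)
    (hQ0 : Q ≠ 0) : qf Q ≠ 0 := by
  intro h
  apply hQ0
  apply mulVec_eq_zero_of_forall
  intro u
  funext i
  have h1 := eval_pderiv_qf hQ i u
  rw [h, map_zero, map_zero] at h1
  rcases mul_eq_zero.mp h1.symm with h' | h'
  · exact absurd h' h2
  · exact h'

theorem exists_factor_of_det_eq_zero [IsAlgClosed k] {Q : Matrix (Fin 3) (Fin 3) k}
    (hQ : Q.IsSymm) (hdet : Q.det = 0) : ∃ a b : Fin 3 → k, qf Q = lf a * lf b := by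
  classical
  obtain ⟨u, hu0, hQu⟩ := Matrix.exists_mulVec_eq_zero_iff.mpr hdet
  have hcone : ∀ (w : Fin 3 → k) (s t : k),
      eval (s • u + t • w) (qf Q) = t ^ 2 * eval w (qf Q) := by
    intro w s t
    have huw : u ⬝ᵥ (Q *ᵥ w) = 0 := by
      rw [Matrix.dotProduct_mulVec, ← Matrix.mulVec_transpose, hQ.eq, hQu, zero_dotProduct]
    rw [eval_qf, eval_qf, Matrix.mulVec_add, Matrix.mulVec_smul, Matrix.mulVec_smul, hQu,
      smul_zero, zero_add, add_dotProduct, smul_dotProduct, smul_dotProduct, dotProduct_smul,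
      dotProduct_smul, huw]
    simp only [smul_eq_mul]
    ring
  obtain ⟨i₀, hi₀⟩ : ∃ i, u i ≠ 0 := by
    by_contra h
    push Not at h
    exact hu0 (funext h)
  obtain ⟨φ, hφdef⟩ : ∃ φ : (Fin 3 → k) →ₗ[k] k, φ = LinearMap.proj i₀ := ⟨_, rfl⟩
  have hφu : φ u = u i₀ := by rw [hφdef]; rfl
  have hφ : φ ≠ 0 := by
    intro h
    apply hi₀
    rw [← hφu, h, LinearMap.zero_apply]
  have hW : 2 ≤ finrank k ↥(LinearMap.ker φ) := by
    have := finrank_ker_of_ne_zero φ hφ
    rw [Fintype.card_fin] at this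
    omega
  obtain ⟨w, hwW, hw0, hfw⟩ :=
    exists_ne_zero_eval_eq_zero (qf_isHomogeneous Q) (LinearMap.ker φ) hW
  have hwu : w ∉ Submodule.span k {u} := by
    intro h
    obtain ⟨c, rfl⟩ := Submodule.mem_span_singleton.mp h
    have h0 : φ (c • u) = 0 := hwW
    rw [map_smul, smul_eq_mul, hφu] at h0
    rcases mul_eq_zero.mp h0 with hc | hc
    · apply hw0
      rw [hc, zero_smul]
    · exact hi₀ hc
  have h2' := finrank_span_pair hu0 hwu
  obtain ⟨x₀, hx₀⟩ : ∃ x₀, x₀ ∉ Submodule.span k ({u, w} : Set (Fin 3 → k)) := by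
    by_contra hall
    push Not at hall
    have htop : Submodule.span k ({u, w} : Set (Fin 3 → k)) = ⊤ :=
      eq_top_iff.mpr fun x _ => hall x
    rw [htop, finrank_top, Module.finrank_fintype_fun_eq_card, Fintype.card_fin] at h2'
    omega
  obtain ⟨μ, hμx, hμker⟩ := Submodule.exists_le_ker_of_notMem hx₀
  have hμ0 : μ ≠ 0 := by
    intro h
    rw [h] at hμx
    exact hμx rfl
  have hker : LinearMap.ker μ = Submodule.span k ({u, w} : Set (Fin 3 → k)) := by
    symm
    apply Submodule.eq_of_le_of_finrank_eq hμker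
    have := finrank_ker_of_ne_zero μ hμ0
    rw [Fintype.card_fin] at this
    omega
  have hvan : ∀ x, eval x (lin μ) = 0 → eval x (qf Q) = 0 := by
    intro x hx
    rw [eval_lin] at hx
    have hxm : x ∈ Submodule.span k ({u, w} : Set (Fin 3 → k)) := by
      rw [← hker]
      exact LinearMap.mem_ker.mpr hx
    obtain ⟨s, t, rfl⟩ := Submodule.mem_span_pair.mp hxm
    rw [hcone, hfw, mul_zero]
  have hlin0 : lin μ ≠ 0 := by
    intro h
    apply hμx
    rw [← eval_lin, h, map_zero]
  obtain ⟨m, hm⟩ := Ideal.mem_span_singleton.mp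
    (mem_span_of_vanish (lin_isHomogeneous μ) hlin0 (qf Q) hvan)
  have h1 : qf Q = lin μ * homogeneousComponent 1 m := by
    have := hc_mul (lin_isHomogeneous μ) (c := m) (m := 2) (by norm_num)
    rw [← hm, homogeneousComponent_eq_self (qf_isHomogeneous Q)] at this
    exact this
  obtain ⟨a, ha⟩ := exists_lf_of_isHomogeneous_one _ (lin_isHomogeneous μ)
  obtain ⟨b, hb⟩ := exists_lf_of_isHomogeneous_one _ (homogeneousComponent_isHomogeneous 1 m)
  exact ⟨a, b, by rw [h1, ha, hb]⟩

theorem exists_factor_of_mul {Q : Matrix (Fin 3) (Fin 3) k} (hf0 : qf Q ≠ 0)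
    {g h : MvPolynomial (Fin 3) k} (hgh : qf Q = g * h) (hg : ¬ IsUnit g) (hh : ¬ IsUnit h) :
    ∃ a b : Fin 3 → k, qf Q = lf a * lf b := by
  have hg0 : g ≠ 0 := by
    rintro rfl
    exact hf0 (by rw [hgh, zero_mul])
  have hh0 : h ≠ 0 := by
    rintro rfl
    exact hf0 (by rw [hgh, mul_zero])
  have hdeg := totalDegree_mul_of_isDomain hg0 hh0
  rw [← hgh, (qf_isHomogeneous Q).totalDegree hf0] at hdeg
  have key : ∀ r : MvPolynomial (Fin 3) k, r ≠ 0 → ¬ IsUnit r → r.totalDegree ≠ 0 := by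
    intro r hr0 hru hr
    apply hru
    rw [totalDegree_eq_zero_iff_eq_C] at hr
    have hc : coeff 0 r ≠ 0 := by
      intro hc
      apply hr0
      rw [hr, hc, map_zero]
    rw [hr]
    exact (isUnit_iff_ne_zero.mpr hc).map C
  have hkg := key g hg0 hg
  have hkh := key h hh0 hh
  have hdg : g.totalDegree = 1 := by omega
  have hdh : h.totalDegree = 1 := by omega
  have hgsum : g = homogeneousComponent 0 g + homogeneousComponent 1 g := by
    have := sum_homogeneousComponent g
    rw [hdg, Finset.sum_range_succ, Finset.sum_range_one] at this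
    exact this.symm
  have e1 : (2 : ℕ) - 0 = 2 := rfl
  have e2 : (2 : ℕ) - 1 = 1 := rfl
  have h1 : homogeneousComponent 2 (g * h)
      = homogeneousComponent 1 g * homogeneousComponent 1 h := by
    conv_lhs => rw [hgsum, add_mul, map_add]
    rw [hc_mul (homogeneousComponent_isHomogeneous 0 g) (by norm_num),
      hc_mul (homogeneousComponent_isHomogeneous 1 g) (by norm_num), e1, e2,
      homogeneousComponent_eq_zero 2 h (by rw [hdh]; norm_num), mul_zero, zero_add]
  have h2 : qf Q = homogeneousComponent 1 g * homogeneousComponent 1 h := by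
    rw [← h1, ← hgh, homogeneousComponent_eq_self (qf_isHomogeneous Q)]
  obtain ⟨a, ha⟩ := exists_lf_of_isHomogeneous_one _ (homogeneousComponent_isHomogeneous 1 g)
  obtain ⟨b, hb⟩ := exists_lf_of_isHomogeneous_one _ (homogeneousComponent_isHomogeneous 1 h)
  exact ⟨a, b, by rw [h2, ha, hb]⟩

theorem det_eq_zero_of_factor (h2 : (2 : k) ≠ 0) {Q : Matrix (Fin 3) (Fin 3) k} (hQ : Q.IsSymm)
    {a b : Fin 3 → k} (h : qf Q = lf a * lf b) : Q.det = 0 := by
  classical
  obtain ⟨M, hM⟩ : ∃ M : Matrix (Fin 3) (Fin 3) k, M = Matrix.of ![a, b, 0] := ⟨_, rfl⟩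
  have hMdet : M.det = 0 := Matrix.det_eq_zero_of_row_eq_zero 2 (fun j => by rw [hM]; rfl)
  obtain ⟨u, hu0, hMu⟩ := Matrix.exists_mulVec_eq_zero_iff.mpr hMdet
  have hau : a ⬝ᵥ u = 0 := by
    have := congrFun hMu 0
    rw [hM] at this
    exact this
  have hbu : b ⬝ᵥ u = 0 := by
    have := congrFun hMu 1
    rw [hM] at this
    exact this
  apply Matrix.exists_mulVec_eq_zero_iff.mp
  refine ⟨u, hu0, ?_⟩
  have := two_smul_mulVec hQ h u
  rw [hau, hbu, zero_smul, zero_smul, add_zero] at this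
  exact (smul_eq_zero.mp this).resolve_left h2

theorem range_le_span (h2 : (2 : k) ≠ 0) {Q : Matrix (Fin 3) (Fin 3) k} {a b : Fin 3 → k}
    (hF : ∀ u, (2 : k) • (Q *ᵥ u) = (b ⬝ᵥ u) • a + (a ⬝ᵥ u) • b) :
    LinearMap.range Q.mulVecLin ≤ Submodule.span k ({a, b} : Set (Fin 3 → k)) := by
  rintro x ⟨u, rfl⟩
  have : Q *ᵥ u = (2 : k)⁻¹ • ((b ⬝ᵥ u) • a + (a ⬝ᵥ u) • b) := by
    rw [← hF, smul_smul, inv_mul_cancel₀ h2, one_smul]
  rw [Matrix.mulVecLin_apply, this]
  exact Submodule.smul_mem _ _ (Submodule.add_mem _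
    (Submodule.smul_mem _ _ (Submodule.subset_span (by simp)))
    (Submodule.smul_mem _ _ (Submodule.subset_span (by simp))))

theorem rank_eq_two (h2 : (2 : k) ≠ 0) {Q : Matrix (Fin 3) (Fin 3) k} {a b : Fin 3 → k}
    (hF : ∀ u, (2 : k) • (Q *ᵥ u) = (b ⬝ᵥ u) • a + (a ⬝ᵥ u) • b)
    (hind : LinearIndependent k ![a, b]) : Q.rank = 2 := by
  classical
  have ha0 : a ≠ 0 := hind.ne_zero 0
  have hb : b ∉ Submodule.span k {a} := by
    intro h
    obtain ⟨c, hc⟩ := Submodule.mem_span_singleton.mp h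
    exact (LinearIndependent.pair_iff' ha0).mp hind c hc
  have hvec : ∀ μ : (Fin 3 → k) →ₗ[k] k, ∃ u : Fin 3 → k, ∀ x : Fin 3 → k, x ⬝ᵥ u = μ x := by
    intro μ
    refine ⟨fun i => μ (fun j => if i = j then 1 else 0), fun x => ?_⟩
    rw [LinearMap.pi_apply_eq_sum_univ μ x]
    simp only [dotProduct, smul_eq_mul]
  have hrange : Submodule.span k ({a, b} : Set (Fin 3 → k)) ≤ LinearMap.range Q.mulVecLin := by
    rw [Submodule.span_le]
    intro y hy
    rcases hy with rfl | hy
    · obtain ⟨μ, hμa, hμb⟩ := exists_dual_pair ha0 hb 0 2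
      obtain ⟨u, hu⟩ := hvec μ
      refine ⟨u, ?_⟩
      have := hF u
      rw [hu, hu, hμa, hμb, zero_smul, add_zero] at this
      rw [Matrix.mulVecLin_apply]
      exact smul_right_injective _ h2 this
    · rw [Set.mem_singleton_iff] at hy
      subst hy
      obtain ⟨μ, hμa, hμb⟩ := exists_dual_pair ha0 hb 2 0
      obtain ⟨u, hu⟩ := hvec μ
      refine ⟨u, ?_⟩
      have := hF u
      rw [hu, hu, hμa, hμb, zero_smul, zero_add] at this
      rw [Matrix.mulVecLin_apply]
      exact smul_right_injective _ h2 this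
  have heq : LinearMap.range Q.mulVecLin = Submodule.span k ({a, b} : Set (Fin 3 → k)) :=
    le_antisymm (range_le_span h2 hF) hrange
  show finrank k ↥(LinearMap.range Q.mulVecLin) = 2
  rw [heq]
  exact finrank_span_pair ha0 hb

theorem rank_ne_zero {Q : Matrix (Fin 3) (Fin 3) k} (hQ0 : Q ≠ 0) : Q.rank ≠ 0 := by
  intro h
  apply hQ0
  have hbot : LinearMap.range Q.mulVecLin = ⊥ := Submodule.finrank_eq_zero.mp h
  have hz : Q.mulVecLin = 0 := LinearMap.range_eq_bot.mp hbot
  apply mulVec_eq_zero_of_forall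
  intro u
  have := LinearMap.congr_fun hz u
  rw [Matrix.mulVecLin_apply] at this
  exact this

theorem dep_cases {a b : Fin 3 → k} (hdep : ¬ LinearIndependent k ![a, b]) :
    a = 0 ∨ ∃ c : k, b = c • a := by
  by_cases ha : a = 0
  · exact Or.inl ha
  · right
    by_contra h
    push Not at h
    exact hdep ((LinearIndependent.pair_iff' ha).mpr fun c hc => h c hc.symm)

theorem rank_eq_one (h2 : (2 : k) ≠ 0) {Q : Matrix (Fin 3) (Fin 3) k} {a b : Fin 3 → k}
    (hF : ∀ u, (2 : k) • (Q *ᵥ u) = (b ⬝ᵥ u) • a + (a ⬝ᵥ u) • b)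
    (hdep : ¬ LinearIndependent k ![a, b]) (hQ0 : Q ≠ 0) : Q.rank = 1 := by
  classical
  have hle : ∃ v : Fin 3 → k, Submodule.span k ({a, b} : Set (Fin 3 → k)) ≤ Submodule.span k {v} := by
    rcases dep_cases hdep with ha | ⟨c, hc⟩
    · refine ⟨b, ?_⟩
      rw [Submodule.span_le]
      intro y hy
      rcases hy with rfl | hy
      · rw [ha]
        exact Submodule.zero_mem _
      · rw [Set.mem_singleton_iff] at hy
        rw [hy]
        exact Submodule.mem_span_singleton_self b
    · refine ⟨a, ?_⟩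
      rw [Submodule.span_le]
      intro y hy
      rcases hy with rfl | hy
      · exact Submodule.mem_span_singleton_self _
      · rw [Set.mem_singleton_iff] at hy
        rw [hy, hc]
        exact Submodule.smul_mem _ _ (Submodule.mem_span_singleton_self a)
  obtain ⟨v, hv⟩ := hle
  have h1 : Q.rank ≤ 1 := by
    show finrank k ↥(LinearMap.range Q.mulVecLin) ≤ 1
    refine (Submodule.finrank_mono ((range_le_span h2 hF).trans hv)).trans ?_
    refine (finrank_span_le_card ({v} : Set (Fin 3 → k))).trans ?_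
    simp
  have h0 := rank_ne_zero hQ0
  omega

end Groth.Agent.Lib.Lead.Conic
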