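import Groth.Agent.Lib.Lead.CycClosed
import Groth.Agent.Lib.Helper26.DvrGRing
import Groth.Agent.S9684
import Groth.Prelude.Def_Bivar

/-!
# Mayer–Vietoris for cycles on a union of two closed subschemes
-/

set_option autoImplicit false
universe u
open AlgebraicGeometry CategoryTheory TopologicalSpace Topology
open CategoryTheory.Limits

namespace Groth.Agent.Lib.Lead.CycMV

open Groth.Agent.Lib.Lead.CycClosed

theorem exists_cycle_of_support_le {Z : Scheme.{u}} (c : AlgebraicCycle Z ℤ) (g : Z → ℤ)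
    (h : ∀ z, c z = 0 → g z = 0) : ∃ b : AlgebraicCycle Z ℤ, ∀ z, b z = g z := by
  refine ⟨⟨g, fun _ _ => Set.mem_univ _, fun z _ => ?_⟩, fun z => rfl⟩
  obtain ⟨t, ht, hfin⟩ := c.supportLocallyFiniteWithinDomain' z (Set.mem_univ _)
  refine ⟨t, ht, hfin.subset ?_⟩
  rintro y ⟨hy1, hy2⟩
  exact ⟨hy1, fun h0 => hy2 (h y h0)⟩

theorem isSetup_spec_field (k : Type u) [Field k] :
    Cyc.IsSetup (Spec (CommRingCat.of k)) (fun _ => 0) := by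
  haveI : Subsingleton ↥(Spec (CommRingCat.of k)) :=
    inferInstanceAs (Subsingleton (PrimeSpectrum k))
  refine ⟨inferInstance, fun x => ?_, fun x y _ hne => absurd (Subsingleton.elim x y) hne⟩
  have hx : x = genericPoint (Spec (CommRingCat.of k)) := Subsingleton.elim _ _
  rw [hx]
  letI : Field ((Spec (CommRingCat.of k)).presheaf.stalk (genericPoint (Spec (CommRingCat.of k)))) :=
    inferInstanceAs (Field (Spec (CommRingCat.of k)).functionField)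
  exact Groth.Agent.Lib.Helper26.DvrGRing.isUniversallyCatenary_of_isDedekindDomain _

theorem mv_core (X : Scheme.{u}) (δ : X → ℤ) [IsLocallyNoetherian X] (hdim : Cyc.IsDimFun X δ)
    (X₁ X₂ P : Scheme.{u}) (i₁ : X₁ ⟶ X) (i₂ : X₂ ⟶ X) [IsClosedImmersion i₁]
    [IsClosedImmersion i₂] (hcov : Set.range ⇑i₁ ∪ Set.range ⇑i₂ = Set.univ)
    (π₁ : P ⟶ X₁) (π₂ : P ⟶ X₂) [IsClosedImmersion π₁] [IsClosedImmersion π₂]
    (hcond : ∀ z : P, i₁ (π₁ z) = i₂ (π₂ z))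
    (hr₁ : ∀ x₁ : X₁, i₁ x₁ ∈ Set.range i₂ → x₁ ∈ Set.range π₁)
    (hr₂ : ∀ x₂ : X₂, i₂ x₂ ∈ Set.range i₁ → x₂ ∈ Set.range π₂)
    (wP : P → ℤ) (hwP : ∀ z, wP z = δ (i₁ (π₁ z)))
    (k : ℤ) (α₁ : AlgebraicCycle X₁ ℤ) (α₂ : AlgebraicCycle X₂ ℤ)
    (h₁ : α₁ ∈ Cyc.Zk X₁ (fun x => δ (i₁ x)) k)
    (h : Cyc.RatEquivZero δ k (AlgebraicCycle.map i₁ (fun x => δ (i₁ x)) δ α₁ -
      AlgebraicCycle.map i₂ (fun x => δ (i₂ x)) δ α₂)) :
    ∃ β : AlgebraicCycle P ℤ, β ∈ Cyc.Zk P wP k ∧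
      Cyc.RatEquivZero (fun x => δ (i₁ x)) k
        (α₁ - AlgebraicCycle.map π₁ wP (fun x => δ (i₁ x)) β) ∧
      Cyc.RatEquivZero (fun x => δ (i₂ x)) k
        (AlgebraicCycle.map π₂ wP (fun x => δ (i₂ x)) β - α₂) := by
  classical
  haveI : IsLocallyNoetherian X₁ := LocallyOfFiniteType.isLocallyNoetherian i₁
  haveI : IsLocallyNoetherian X₂ := LocallyOfFiniteType.isLocallyNoetherian i₂
  have hdim₁ : Cyc.IsDimFun X₁ (fun x => δ (i₁ x)) :=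
    isDimFun_closedImmersion i₁ δ _ (fun _ => rfl) hdim
  have hdim₂ : Cyc.IsDimFun X₂ (fun x => δ (i₂ x)) :=
    isDimFun_closedImmersion i₂ δ _ (fun _ => rfl) hdim
  obtain ⟨ι, ξ, f, hξ, hf, hlf, hsum⟩ := h
  let S₁ : Set ι := {i | ξ i ∈ Set.range i₁}
  have hS₂ : ∀ j : (S₁ᶜ : Set ι), ξ j.1 ∈ Set.range i₂ := by
    intro j
    have hmem : ξ j.1 ∈ Set.range ⇑i₁ ∪ Set.range ⇑i₂ := by rw [hcov]; exact Set.mem_univ _
    rcases hmem with h | h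
    · exact absurd h j.2
    · exact h
  have H₁ : ∀ j : S₁, ∃ (z : X₁) (g' : X₁.residueField z), i₁ z = ξ j.1 ∧ g' ≠ 0 ∧
      (∀ u, Cyc.divFun δ (ξ j.1) (f j.1) (i₁ u) = Cyc.divFun (fun x => δ (i₁ x)) z g' u) ∧
      (∀ y, y ∉ Set.range i₁ → Cyc.divFun δ (ξ j.1) (f j.1) y = 0) :=
    fun j => exists_lift_divisor i₁ δ _ (fun _ => rfl) (ξ j.1) j.2 (f j.1) (hf j.1)
  have H₂ : ∀ j : (S₁ᶜ : Set ι), ∃ (z : X₂) (g' : X₂.residueField z), i₂ z = ξ j.1 ∧ g' ≠ 0 ∧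
      (∀ u, Cyc.divFun δ (ξ j.1) (f j.1) (i₂ u) = Cyc.divFun (fun x => δ (i₂ x)) z g' u) ∧
      (∀ y, y ∉ Set.range i₂ → Cyc.divFun δ (ξ j.1) (f j.1) y = 0) :=
    fun j => exists_lift_divisor i₂ δ _ (fun _ => rfl) (ξ j.1) (hS₂ j) (f j.1) (hf j.1)
  choose ζ₁ g₁ hζ₁ hg₁ hdiv₁ hout₁ using H₁
  choose ζ₂ g₂ hζ₂ hg₂ hdiv₂ hout₂ using H₂
  have hlf₁ := locallyFinite_lift i₁ ξ (fun j : S₁ => j.1) Subtype.val_injective ζ₁ hζ₁ hlf
  have hlf₂ := locallyFinite_lift i₂ ξ (fun j : (S₁ᶜ : Set ι) => j.1) Subtype.val_injective ζ₂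
    hζ₂ hlf
  obtain ⟨D₁, hD₁⟩ := exists_cycle_of_family (fun x => δ (i₁ x)) hdim₁ ζ₁ g₁ hlf₁
  obtain ⟨D₂, hD₂⟩ := exists_cycle_of_family (fun x => δ (i₂ x)) hdim₂ ζ₂ g₂ hlf₂
  have hδζ₁ : ∀ j : S₁, δ (i₁ (ζ₁ j)) = k + 1 := fun j => by rw [hζ₁ j]; exact hξ j.1
  have hδζ₂ : ∀ j : (S₁ᶜ : Set ι), δ (i₂ (ζ₂ j)) = k + 1 := fun j => by rw [hζ₂ j]; exact hξ j.1
  have m₁ : ∀ (c : AlgebraicCycle X₁ ℤ) (u : X₁),
      AlgebraicCycle.map i₁ (fun x => δ (i₁ x)) δ c (i₁ u) = c u :=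
    fun c u => map_apply_closedImmersion i₁ (fun x => δ (i₁ x)) δ (fun _ => rfl) c u
  have n₁ : ∀ (c : AlgebraicCycle X₁ ℤ) (x : X), x ∉ Set.range i₁ →
      AlgebraicCycle.map i₁ (fun x => δ (i₁ x)) δ c x = 0 :=
    fun c x hx => map_apply_of_notMem_range i₁ (fun x => δ (i₁ x)) δ c x hx
  have m₂ : ∀ (c : AlgebraicCycle X₂ ℤ) (u : X₂),
      AlgebraicCycle.map i₂ (fun x => δ (i₂ x)) δ c (i₂ u) = c u :=
    fun c u => map_apply_closedImmersion i₂ (fun x => δ (i₂ x)) δ (fun _ => rfl) c u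
  have n₂ : ∀ (c : AlgebraicCycle X₂ ℤ) (x : X), x ∉ Set.range i₂ →
      AlgebraicCycle.map i₂ (fun x => δ (i₂ x)) δ c x = 0 :=
    fun c x hx => map_apply_of_notMem_range i₂ (fun x => δ (i₂ x)) δ c x hx
  have hsplit : ∀ x : X, AlgebraicCycle.map i₁ (fun x => δ (i₁ x)) δ α₁ x -
      AlgebraicCycle.map i₂ (fun x => δ (i₂ x)) δ α₂ x =
      ∑ᶠ j : S₁, Cyc.divFun δ (ξ j.1) (f j.1) x +
        ∑ᶠ j : (S₁ᶜ : Set ι), Cyc.divFun δ (ξ j.1) (f j.1) x := by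
    intro x
    have h3 := hsum x
    rw [Function.locallyFinsuppWithin.coe_sub, Pi.sub_apply] at h3
    rw [h3]
    exact finsum_split S₁ (fun i => Cyc.divFun δ (ξ i) (f i) x)
      (family_support_finite δ ξ f hlf x)
  have hC₁ : ∀ x, AlgebraicCycle.map i₁ (fun x => δ (i₁ x)) δ (α₁ - D₁) x =
      AlgebraicCycle.map i₁ (fun x => δ (i₁ x)) δ α₁ x -
        ∑ᶠ j : S₁, Cyc.divFun δ (ξ j.1) (f j.1) x := by
    intro x
    by_cases hx : x ∈ Set.range i₁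
    · obtain ⟨u, rfl⟩ := hx
      rw [m₁, m₁, Function.locallyFinsuppWithin.coe_sub, Pi.sub_apply, hD₁ u]
      congr 1
      exact finsum_congr (fun j => (hdiv₁ j u).symm)
    · rw [n₁ _ x hx, n₁ _ x hx, finsum_eq_zero_of_forall_eq_zero (fun j => hout₁ j x hx),
        sub_zero]
  have hC₂ : ∀ x, AlgebraicCycle.map i₂ (fun x => δ (i₂ x)) δ (α₂ + D₂) x =
      AlgebraicCycle.map i₂ (fun x => δ (i₂ x)) δ α₂ x +
        ∑ᶠ j : (S₁ᶜ : Set ι), Cyc.divFun δ (ξ j.1) (f j.1) x := by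
    intro x
    by_cases hx : x ∈ Set.range i₂
    · obtain ⟨u, rfl⟩ := hx
      rw [m₂, m₂, Function.locallyFinsuppWithin.coe_add, Pi.add_apply, hD₂ u]
      congr 1
      exact finsum_congr (fun j => (hdiv₂ j u).symm)
    · rw [n₂ _ x hx, n₂ _ x hx, finsum_eq_zero_of_forall_eq_zero (fun j => hout₂ j x hx),
        add_zero]
  have hstar : ∀ x, AlgebraicCycle.map i₁ (fun x => δ (i₁ x)) δ (α₁ - D₁) x =
      AlgebraicCycle.map i₂ (fun x => δ (i₂ x)) δ (α₂ + D₂) x := by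
    intro x
    rw [hC₁ x, hC₂ x]
    have h3 := hsplit x
    linarith
  obtain ⟨β, hβ⟩ := exists_restrict_cycle π₁ (α₁ - D₁)
  refine ⟨β, ?_, ?_, ?_⟩
  · intro z hz
    have hz' : δ (i₁ (π₁ z)) ≠ k := by rw [← hwP z]; exact hz
    rw [hβ z, Function.locallyFinsuppWithin.coe_sub, Pi.sub_apply, h₁ _ hz', hD₁,
      finsum_eq_zero_of_forall_eq_zero
        (fun j => divFun_eq_zero_of_delta_ne (fun x => δ (i₁ x)) (ζ₁ j) (g₁ j) k (hδζ₁ j) _ hz'),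
      sub_zero]
  · refine ⟨S₁, ζ₁, g₁, hδζ₁, hg₁, hlf₁, ?_⟩
    intro x₁
    rw [Function.locallyFinsuppWithin.coe_sub, Pi.sub_apply, ← hD₁ x₁]
    by_cases hx : x₁ ∈ Set.range π₁
    · obtain ⟨z, rfl⟩ := hx
      rw [map_apply_closedImmersion π₁ wP (fun x => δ (i₁ x)) hwP β z, hβ z,
        Function.locallyFinsuppWithin.coe_sub, Pi.sub_apply]
      ring
    · rw [map_apply_of_notMem_range π₁ _ _ β x₁ hx, sub_zero]
      have hx' : i₁ x₁ ∉ Set.range i₂ := fun hmem => hx (hr₁ x₁ hmem)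
      have e1 := hstar (i₁ x₁)
      rw [m₁, n₂ _ _ hx', Function.locallyFinsuppWithin.coe_sub, Pi.sub_apply] at e1
      linarith
  · refine ⟨(S₁ᶜ : Set ι), ζ₂, g₂, hδζ₂, hg₂, hlf₂, ?_⟩
    intro x₂
    rw [Function.locallyFinsuppWithin.coe_sub, Pi.sub_apply, ← hD₂ x₂]
    by_cases hx : x₂ ∈ Set.range π₂
    · obtain ⟨z, rfl⟩ := hx
      have e1 := hstar (i₁ (π₁ z))
      rw [m₁] at e1
      rw [hcond z, m₂, Function.locallyFinsuppWithin.coe_add, Pi.add_apply] at e1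
      rw [map_apply_closedImmersion π₂ wP (fun x => δ (i₂ x))
        (fun z => by rw [hwP z, hcond z]) β z, hβ z, e1]
      ring
    · rw [map_apply_of_notMem_range π₂ _ _ β x₂ hx, zero_sub]
      have hx' : i₂ x₂ ∉ Set.range i₁ := fun hmem => hx (hr₂ x₂ hmem)
      have e1 := hstar (i₂ x₂)
      rw [m₂, n₁ _ _ hx', Function.locallyFinsuppWithin.coe_add, Pi.add_apply] at e1
      linarith

end Groth.Agent.Lib.Lead.CycMV
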