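import Groth.Agent.S1905
import Groth.Agent.Lib.Helper22.AssocLen5

/-!
# Algebra behind the flat pullback of principal divisors (lead)

For a flat local homomorphism `φ : A → B` of Noetherian local rings, a prime `p` of `A` with
`A ⧸ p` of dimension one and `B ⧸ 𝔪_A B` of finite length:
`ℓ_A(A/(p + a)) · ℓ_B(B/𝔪_A B) = ∑_q ℓ(B_q/pB_q) · ℓ_B(B/(q + φ a))`, the sum over the minimal
primes `q` of `pB`.
-/

set_option autoImplicit false
universe u
open IsLocalRing

namespace Groth.Agent.Lib.Lead.CycPull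

open Groth.Agent.Lib.Helper22.AssocLen
open Groth.Agent.Lib.Helper23.CycLib (length_eq_of_semilinear)

section general

/-- order of vanishing in a quotient ring as a length over the ring. -/
theorem ord_quot_mk {R : Type u} [CommRing R] (I : Ideal R) (t : R) :
    Ring.ord (R ⧸ I) (Ideal.Quotient.mk I t) =
      Module.length R (R ⧸ (I ⊔ Ideal.span {t})) := by
  have hmap : (Ideal.span {t}).map (Ideal.Quotient.mk I) =
      Ideal.span {Ideal.Quotient.mk I t} := by
    rw [Ideal.map_span, Set.image_singleton]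
  unfold Ring.ord
  rw [← hmap]
  haveI : RingHomSurjective (Ideal.Quotient.mk I) := ⟨Ideal.Quotient.mk_surjective⟩
  let E := (DoubleQuot.quotQuotEquivQuotSup I (Ideal.span {t})).symm
  let F : (R ⧸ (I ⊔ Ideal.span {t})) →ₛₗ[Ideal.Quotient.mk I]
      ((R ⧸ I) ⧸ (Ideal.span {t}).map (Ideal.Quotient.mk I)) :=
    { toFun := E
      map_add' := map_add E
      map_smul' := by
        intro r x
        obtain ⟨x, rfl⟩ := Ideal.Quotient.mk_surjective x
        rfl }
  exact (length_eq_of_semilinear F E.bijective).symm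

theorem length_Ct_quot {R : Type u} [CommRing R] (I : Ideal R) (t : R) :
    Module.length R (Ct t (R ⧸ I)) = Module.length R (R ⧸ (I ⊔ Ideal.span {t})) := by
  have hQ : (I ⊔ Ideal.span {t} : Submodule R R).map ((I : Submodule R R).mkQ) =
      LinearMap.range (LinearMap.lsmul R (R ⧸ I) t) := by
    ext y
    constructor
    · rintro ⟨x, hx, rfl⟩
      obtain ⟨i, hi, j, hj, rfl⟩ := Submodule.mem_sup.mp hx
      obtain ⟨b, rfl⟩ := Ideal.mem_span_singleton'.mp hj
      refine ⟨(I : Submodule R R).mkQ b, ?_⟩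
      have h0 : (I : Submodule R R).mkQ i = 0 :=
        (Submodule.Quotient.mk_eq_zero (I : Submodule R R)).mpr hi
      rw [map_add, h0, zero_add]
      show t • (Submodule.Quotient.mk b : R ⧸ (I : Submodule R R)) =
        Submodule.Quotient.mk (b * t)
      rw [← Submodule.Quotient.mk_smul, smul_eq_mul, mul_comm]
    · rintro ⟨z, rfl⟩
      obtain ⟨b, rfl⟩ := Submodule.mkQ_surjective (I : Submodule R R) z
      refine ⟨t * b, ?_, ?_⟩
      · exact Submodule.mem_sup_right
          (Ideal.mul_mem_right b _ (Ideal.mem_span_singleton_self t))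
      · rfl
  exact ((Submodule.quotEquivOfEq _ _ hQ.symm).trans
    (Submodule.quotientQuotientEquivQuotient I (I ⊔ Ideal.span {t}) le_sup_left)).length_eq

/-- the localized length of `B ⧸ I` at `q` computed in any localization `T` of `B` at `q`. -/
theorem lam_quot_eq_length {B : Type u} [CommRing B] (q : Ideal B) [q.IsPrime] (I : Ideal B)
    (T : Type u) [CommRing T] [Algebra B T] [IsLocalization.AtPrime T q] :
    lam q (B ⧸ I) = Module.length T (T ⧸ I.map (algebraMap B T)) := by
  have h1 : lam q (B ⧸ I) = Module.length (Localization.AtPrime q)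
      ((Localization.AtPrime q) ⧸ I.map (algebraMap B (Localization.AtPrime q))) := by
    unfold lam
    have E0 : ((Localization.AtPrime q) ⧸ I.localized' (Localization.AtPrime q) q.primeCompl
        (Algebra.linearMap B (Localization.AtPrime q))) ≃ₗ[B]
        LocalizedModule q.primeCompl (B ⧸ I) :=
      IsLocalizedModule.linearEquiv q.primeCompl
        (I.toLocalizedQuotient' (Localization.AtPrime q) q.primeCompl
          (Algebra.linearMap B (Localization.AtPrime q)))
        (LocalizedModule.mkLinearMap q.primeCompl (B ⧸ I))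
    have E := LinearEquiv.extendScalarsOfIsLocalization q.primeCompl (Localization.AtPrime q) E0
    rw [← E.length_eq, Ideal.localized'_eq_map]
  rw [h1]
  let e : (Localization.AtPrime q) ≃ₐ[B] T :=
    IsLocalization.algEquiv q.primeCompl (Localization.AtPrime q) T
  have hJ : I.map (algebraMap B T) =
      (I.map (algebraMap B (Localization.AtPrime q))).map (e.toRingEquiv : _ →+* T) := by
    rw [Ideal.map_map]
    congr 1
    ext b
    simp [e]
  let E2 : ((Localization.AtPrime q) ⧸ I.map (algebraMap B (Localization.AtPrime q))) ≃+*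
      (T ⧸ I.map (algebraMap B T)) :=
    Ideal.quotientEquiv _ _ e.toRingEquiv hJ
  haveI : RingHomSurjective (e.toRingEquiv : (Localization.AtPrime q) →+* T) :=
    ⟨e.surjective⟩
  let F : ((Localization.AtPrime q) ⧸ I.map (algebraMap B (Localization.AtPrime q)))
      →ₛₗ[(e.toRingEquiv : (Localization.AtPrime q) →+* T)] (T ⧸ I.map (algebraMap B T)) :=
    { toFun := E2
      map_add' := map_add E2
      map_smul' := by
        intro r x
        obtain ⟨x, rfl⟩ := Ideal.Quotient.mk_surjective x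
        have h1 : r • (Ideal.Quotient.mk (I.map (algebraMap B (Localization.AtPrime q))) x) =
            Ideal.Quotient.mk _ (r * x) := rfl
        have h2 : ∀ y, E2 (Ideal.Quotient.mk _ y) = Ideal.Quotient.mk _ (e y) := fun y => rfl
        have h3 : ∀ (c y : T), c • (Ideal.Quotient.mk (I.map (algebraMap B T)) y) =
            Ideal.Quotient.mk _ (c * y) := fun c y => rfl
        show E2 (r • (Ideal.Quotient.mk _ x)) = _ • E2 (Ideal.Quotient.mk _ x)
        rw [h1, h2, h2, map_mul]
        exact (h3 _ _).symm }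
  exact length_eq_of_semilinear F E2.bijective

theorem isSMulRegular_quot_of_flat {A B : Type u} [CommRing A] [CommRing B] [Algebra A B]
    [Module.Flat A B] (p : Ideal A) [p.IsPrime] {a : A} (ha : a ∉ p) :
    IsSMulRegular (B ⧸ p.map (algebraMap A B)) (algebraMap A B a) := by
  haveI : Module.Flat (A ⧸ p) (B ⧸ p.map (algebraMap A B)) := by
    haveI := Module.Flat.baseChange A (A ⧸ p) B
    exact Module.Flat.of_linearEquiv
      (Algebra.TensorProduct.quotIdealMapEquivQuotTensor B p).toLinearEquiv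
  have hne : (Ideal.Quotient.mk p a) ≠ 0 := fun h => ha (Ideal.Quotient.eq_zero_iff_mem.mp h)
  have h1 : IsSMulRegular (A ⧸ p) (Ideal.Quotient.mk p a) :=
    (isRegular_of_ne_zero hne).left.isSMulRegular
  have h2 := IsSMulRegular.of_flat (S := B ⧸ p.map (algebraMap A B)) h1
  have key : ∀ z : B ⧸ p.map (algebraMap A B),
      algebraMap (A ⧸ p) (B ⧸ p.map (algebraMap A B)) (Ideal.Quotient.mk p a) • z =
        (algebraMap A B a) • z := by
    intro z
    obtain ⟨z, rfl⟩ := Ideal.Quotient.mk_surjective z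
    rfl
  intro x y hxy
  apply h2
  show algebraMap (A ⧸ p) (B ⧸ p.map (algebraMap A B)) (Ideal.Quotient.mk p a) • x =
    algebraMap (A ⧸ p) (B ⧸ p.map (algebraMap A B)) (Ideal.Quotient.mk p a) • y
  rw [key, key]
  exact hxy

theorem krullDimLE_one_quot {R : Type u} [CommRing R] [IsLocalRing R] (q : Ideal R) [q.IsPrime]
    (h : ∀ Q : Ideal R, Q.IsPrime → q ≤ Q → Q = q ∨ Q = maximalIdeal R) :
    Ring.KrullDimLE 1 (R ⧸ q) := by
  apply Ring.KrullDimLE.mk₁'
  intro J hJ0 hJ
  have hQ : (J.comap (Ideal.Quotient.mk q)).IsPrime := Ideal.comap_isPrime _ _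
  have hle : q ≤ J.comap (Ideal.Quotient.mk q) := by
    intro x hx
    rw [Ideal.mem_comap, Ideal.Quotient.eq_zero_iff_mem.mpr hx]
    exact J.zero_mem
  have hJmap : (J.comap (Ideal.Quotient.mk q)).map (Ideal.Quotient.mk q) = J :=
    Ideal.map_comap_of_surjective _ Ideal.Quotient.mk_surjective J
  rcases h _ hQ hle with h1 | h1
  · exfalso
    apply hJ0
    rw [← hJmap, h1, Ideal.map_quotient_self]
  · have h2 := Ideal.map_eq_top_or_isMaximal_of_surjective (Ideal.Quotient.mk q)
      Ideal.Quotient.mk_surjective (IsLocalRing.maximalIdeal.isMaximal R)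
    rw [← h1, hJmap] at h2
    exact h2.resolve_left hJ.ne_top

theorem length_quot_ne_top_of_forall_prime {R : Type u} [CommRing R] [IsLocalRing R]
    [IsNoetherianRing R] (q : Ideal R)
    (h : ∀ Q : Ideal R, Q.IsPrime → q ≤ Q → Q = maximalIdeal R) :
    Module.length R (R ⧸ q) ≠ ⊤ := by
  have hdim : Ring.KrullDimLE 0 (R ⧸ q) := by
    apply Ring.KrullDimLE.mk₀
    intro J hJ
    have hQ : (J.comap (Ideal.Quotient.mk q)).IsPrime := Ideal.comap_isPrime _ _
    have hle : q ≤ J.comap (Ideal.Quotient.mk q) := by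
      intro x hx
      rw [Ideal.mem_comap, Ideal.Quotient.eq_zero_iff_mem.mpr hx]
      exact J.zero_mem
    have hJmap : (J.comap (Ideal.Quotient.mk q)).map (Ideal.Quotient.mk q) = J :=
      Ideal.map_comap_of_surjective _ Ideal.Quotient.mk_surjective J
    have h1 := h _ hQ hle
    have h2 := Ideal.map_eq_top_or_isMaximal_of_surjective (Ideal.Quotient.mk q)
      Ideal.Quotient.mk_surjective (IsLocalRing.maximalIdeal.isMaximal R)
    rw [← h1, hJmap] at h2
    exact h2.resolve_left hJ.ne_top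
  haveI : IsArtinianRing (R ⧸ q) := isArtinianRing_iff_krullDimLE_zero.mpr hdim
  have h1 : Module.length (R ⧸ q) (R ⧸ q) ≠ ⊤ := Module.length_ne_top
  rwa [← Module.length_eq_of_surjective (S := R) Ideal.Quotient.mk_surjective] at h1

end general


section ALG

variable {A B : Type u} [CommRing A] [CommRing B] [IsLocalRing A] [IsLocalRing B]
  [IsNoetherianRing A] [IsNoetherianRing B] (φ : A →+* B) [IsLocalHom φ]
  (p : Ideal A) [p.IsPrime]

theorem regular_MQ (hφ : φ.Flat) {a : A} (ha : a ∉ p) :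
    IsSMulRegular (B ⧸ p.map φ) (φ a) := by
  letI := φ.toAlgebra
  haveI : Module.Flat A B := hφ
  exact isSMulRegular_quot_of_flat p ha

theorem notMem_of_mem_minimalPrimes (hφ : φ.Flat) {a : A} (ha : a ∉ p)
    (i : Idx (B := B) (B ⧸ p.map φ)) : φ a ∉ i.1 := by
  intro hmem
  have h1 := Module.associatedPrimes.minimalPrimes_annihilator_subset_associatedPrimes B
    (B ⧸ p.map φ) i.2
  have h2 : φ a ∈ ⋃ P ∈ associatedPrimes B (B ⧸ p.map φ), (P : Set B) :=
    Set.mem_biUnion h1 hmem
  rw [biUnion_associatedPrimes_eq_compl_regular B (B ⧸ p.map φ)] at h2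
  exact h2 (regular_MQ φ p hφ ha)

theorem NA_ne_top (hdim : Ring.KrullDimLE 1 (A ⧸ p)) {a : A} (ha : a ∉ p) :
    Module.length A (A ⧸ (p ⊔ Ideal.span {a})) ≠ ⊤ := by
  rw [← ord_quot_mk]
  haveI := hdim
  apply Ring.ord_ne_top
  exact mem_nonZeroDivisors_of_ne_zero (fun h => ha (Ideal.Quotient.eq_zero_iff_mem.mp h))

theorem alg_main (hφ : φ.Flat) (hdim : Ring.KrullDimLE 1 (A ⧸ p)) (hpm : p ≠ maximalIdeal A)
    (hfib : Module.length B (B ⧸ (maximalIdeal A).map φ) ≠ ⊤) :
    (∀ i : Idx (B := B) (B ⧸ p.map φ), ∀ Q : Ideal B, Q.IsPrime → i.1 ≤ Q →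
      Q = i.1 ∨ Q = maximalIdeal B) ∧
    (∀ a : A, a ∉ p →
      Module.length A (A ⧸ (p ⊔ Ideal.span {a})) *
          Module.length B (B ⧸ (maximalIdeal A).map φ) =
        ∑ᶠ i : Idx (B := B) (B ⧸ p.map φ), lam i.1 (B ⧸ p.map φ) *
          Module.length B (B ⧸ (i.1 ⊔ Ideal.span {φ a}))) := by
  classical
  haveI : Finite (Idx (B := B) (B ⧸ p.map φ)) :=
    (Ideal.finite_minimalPrimes_of_isNoetherianRing B
      (Module.annihilator B (B ⧸ p.map φ))).to_subtype
  haveI : Fintype (Idx (B := B) (B ⧸ p.map φ)) := Fintype.ofFinite _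
  have hple : p ≤ maximalIdeal A := IsLocalRing.le_maximalIdeal (Ideal.IsPrime.ne_top ‹_›)
  have hIle : Module.annihilator B (B ⧸ p.map φ) ≤ maximalIdeal B := by
    rw [Ideal.annihilator_quotient, Ideal.map_le_iff_le_comap]
    intro x hx
    exact map_nonunit φ x (hple hx)
  have key : ∀ a : A, a ∉ p → a ∈ maximalIdeal A →
      (Good (fun i : Idx (B := B) (B ⧸ p.map φ) => i.1) (B ⧸ p.map φ)) ∧
      Module.length A (A ⧸ (p ⊔ Ideal.span {a})) *
          Module.length B (B ⧸ (maximalIdeal A).map φ) =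
        ∑ i : Idx (B := B) (B ⧸ p.map φ), lam i.1 (B ⧸ p.map φ) *
          Module.length B (B ⧸ (i.1 ⊔ Ideal.span {φ a})) := by
    intro a ha ham
    have ht : φ a ∈ maximalIdeal B := map_nonunit φ a ham
    have hreg := regular_MQ φ p hφ ha
    have hlen : Module.length B (Ct (φ a) (B ⧸ p.map φ)) =
        Module.length A (A ⧸ (p ⊔ Ideal.span {a})) *
          Module.length B (B ⧸ (maximalIdeal A).map φ) := by
      rw [length_Ct_quot, ← Groth.Agent.S6479.length_formula φ hφ (p ⊔ Ideal.span {a}),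
        Ideal.map_sup, Ideal.map_span, Set.image_singleton]
    have hfin : Module.length B ((B ⧸ p.map φ) ⧸
        (Ideal.span {φ a} • (⊤ : Submodule B (B ⧸ p.map φ)))) ≠ ⊤ := by
      rw [← range_lsmul_eq (φ a) (B ⧸ p.map φ)]
      show Module.length B (Ct (φ a) (B ⧸ p.map φ)) ≠ ⊤
      rw [hlen]
      exact WithTop.mul_ne_top (NA_ne_top p hdim ha) hfib
    have hdimpos : 0 < Module.supportDim B (B ⧸ p.map φ) := by
      obtain ⟨q₀, hq₀min, hq₀le⟩ := Ideal.exists_minimalPrimes_le hIle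
      haveI : q₀.IsPrime := hq₀min.1.1
      have htq : φ a ∉ q₀ := notMem_of_mem_minimalPrimes φ p hφ ha ⟨q₀, hq₀min⟩
      have hlt : q₀ < maximalIdeal B := lt_of_le_of_ne hq₀le (fun h => htq (h ▸ ht))
      unfold Module.supportDim
      rw [Order.krullDim_pos_iff]
      refine ⟨⟨⟨q₀, inferInstance⟩, ?_⟩, ⟨⟨maximalIdeal B, inferInstance⟩, ?_⟩, ?_⟩
      · exact Module.mem_support_iff_of_finite.mpr hq₀min.1.2
      · exact Module.mem_support_iff_of_finite.mpr hIle
      · exact hlt
    obtain ⟨hinc, htP, hPm, hgood⟩ := setup (φ a) (B ⧸ p.map φ) ht hdimpos hfin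
    refine ⟨hgood, ?_⟩
    have hform := formula (P := fun i : Idx (B := B) (B ⧸ p.map φ) => i.1) ht hinc htP hPm
      (B ⧸ p.map φ) hgood
    rw [(length_Kt_eq_zero_iff (φ a) (B ⧸ p.map φ)).mpr hreg, zero_add, hlen] at hform
    exact hform
  obtain ⟨π, hπm, hπp⟩ : ∃ π, π ∈ maximalIdeal A ∧ π ∉ p :=
    SetLike.exists_of_lt (lt_of_le_of_ne hple hpm)
  have hgood := (key π hπp hπm).1
  constructor
  · intro i Q hQ hiQ
    have hQsupp : (⟨Q, hQ⟩ : PrimeSpectrum B) ∈ Module.support B (B ⧸ p.map φ) :=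
      Module.mem_support_iff_of_finite.mpr (le_trans i.2.1.2 hiQ)
    rcases hgood ⟨Q, hQ⟩ hQsupp with h | ⟨j, hj⟩
    · exact Or.inr h
    · left
      have hj' : Q = j.1 := hj
      have hij : i.1 ≤ j.1 := hj' ▸ hiQ
      have hji : j.1 ≤ i.1 := j.2.2 i.2.1 hij
      rw [hj']
      exact le_antisymm hji hij
  · intro a ha
    by_cases ham : a ∈ maximalIdeal A
    · rw [finsum_eq_sum_of_fintype]
      exact (key a ha ham).2
    · have hu : IsUnit a := by
        by_contra h
        exact ham ((IsLocalRing.mem_maximalIdeal a).mpr h)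
      have h1 : p ⊔ Ideal.span {a} = ⊤ := by
        rw [Ideal.span_singleton_eq_top.mpr hu, sup_top_eq]
      have h2 : ∀ i : Idx (B := B) (B ⧸ p.map φ), i.1 ⊔ Ideal.span {φ a} = ⊤ := by
        intro i
        rw [Ideal.span_singleton_eq_top.mpr (hu.map φ), sup_top_eq]
      have h3 : ∀ (R : Type u) [CommRing R], Module.length R (R ⧸ (⊤ : Ideal R)) = 0 := by
        intro R _
        rw [Module.length_eq_zero_iff]
        exact Ideal.Quotient.subsingleton_iff.mpr rfl
      have e1 : Module.length A (A ⧸ (p ⊔ Ideal.span {a})) = 0 := by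
        rw [Groth.Agent.S6479.length_congr _ _ h1]
        exact h3 A
      have e2 : ∀ i : Idx (B := B) (B ⧸ p.map φ),
          Module.length B (B ⧸ (i.1 ⊔ Ideal.span {φ a})) = 0 := fun i => by
        rw [Groth.Agent.S6479.length_congr _ _ (h2 i)]
        exact h3 B
      rw [e1, zero_mul]
      simp only [e2, mul_zero, finsum_zero]

theorem alg_core (hφ : φ.Flat) (hdim : Ring.KrullDimLE 1 (A ⧸ p)) (hpm : p ≠ maximalIdeal A)
    (hfib : Module.length B (B ⧸ (maximalIdeal A).map φ) ≠ ⊤)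
    {ι : Type u} (Ψ : ι → Ideal B)
    (hΨ : ∀ j, Ψ j ∈ (Module.annihilator B (B ⧸ p.map φ)).minimalPrimes)
    (hinj : Function.Injective Ψ)
    (hsurj : ∀ q ∈ (Module.annihilator B (B ⧸ p.map φ)).minimalPrimes, ∃ j, Ψ j = q)
    (m : ι → ℕ∞)
    (hm : ∀ j, (haveI : (Ψ j).IsPrime := (hΨ j).1.1; lam (Ψ j) (B ⧸ p.map φ)) = m j)
    (a c : A) (ha : a ∉ p) (hc : c ∉ p) :
    (((Module.length A (A ⧸ (p ⊔ Ideal.span {a}))).toNat : ℤ) -
      ((Module.length A (A ⧸ (p ⊔ Ideal.span {c}))).toNat : ℤ)) *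
        ((Module.length B (B ⧸ (maximalIdeal A).map φ)).toNat : ℤ) =
      ∑ᶠ j : ι, ((m j).toNat : ℤ) *
        (((Module.length B (B ⧸ (Ψ j ⊔ Ideal.span {φ a}))).toNat : ℤ) -
          ((Module.length B (B ⧸ (Ψ j ⊔ Ideal.span {φ c}))).toNat : ℤ)) := by
  classical
  obtain ⟨-, hE⟩ := alg_main φ p hφ hdim hpm hfib
  let Ψ' : ι → Idx (B := B) (B ⧸ p.map φ) := fun j => ⟨Ψ j, hΨ j⟩
  have hbij : Function.Bijective Ψ' := by
    constructor
    · intro j j' h
      exact hinj (congrArg Subtype.val h)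
    · rintro ⟨q, hq⟩
      obtain ⟨j, rfl⟩ := hsurj q hq
      exact ⟨j, rfl⟩
  haveI : Finite (Idx (B := B) (B ⧸ p.map φ)) :=
    (Ideal.finite_minimalPrimes_of_isNoetherianRing B
      (Module.annihilator B (B ⧸ p.map φ))).to_subtype
  haveI : Finite ι := Finite.of_injective Ψ' hbij.1
  haveI : Fintype ι := Fintype.ofFinite ι
  have hsum : ∀ b : A, b ∉ p →
      Module.length A (A ⧸ (p ⊔ Ideal.span {b})) *
          Module.length B (B ⧸ (maximalIdeal A).map φ) =
        ∑ j : ι, m j * Module.length B (B ⧸ (Ψ j ⊔ Ideal.span {φ b})) := by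
    intro b hb
    rw [hE b hb, ← finsum_eq_sum_of_fintype]
    symm
    apply finsum_eq_of_bijective Ψ' hbij
    intro j
    haveI : (Ψ j).IsPrime := (hΨ j).1.1
    show m j * _ = lam (Ψ j) (B ⧸ p.map φ) * _
    rw [hm j]
  have hnat : ∀ b : A, b ∉ p →
      (Module.length A (A ⧸ (p ⊔ Ideal.span {b}))).toNat *
          (Module.length B (B ⧸ (maximalIdeal A).map φ)).toNat =
        ∑ j : ι, (m j).toNat * (Module.length B (B ⧸ (Ψ j ⊔ Ideal.span {φ b}))).toNat := by
    intro b hb
    have h1 := hsum b hb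
    have hne : (∑ j : ι, m j * Module.length B (B ⧸ (Ψ j ⊔ Ideal.span {φ b}))) ≠ ⊤ := by
      rw [← h1]
      exact WithTop.mul_ne_top (NA_ne_top p hdim hb) hfib
    have h2 := congrArg ENat.toNat h1
    rw [ENat.toNat_mul,
      ENat.toNat_sum (fun j _ => ENat.sum_ne_top.mp hne j (Finset.mem_univ j))] at h2
    rw [h2]
    apply Finset.sum_congr rfl
    intro j _
    rw [ENat.toNat_mul]
  rw [finsum_eq_sum_of_fintype]
  have ea := hnat a ha
  have ec := hnat c hc
  have ea' : ((Module.length A (A ⧸ (p ⊔ Ideal.span {a}))).toNat : ℤ) *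
      ((Module.length B (B ⧸ (maximalIdeal A).map φ)).toNat : ℤ) =
      ∑ j : ι, ((m j).toNat : ℤ) *
        ((Module.length B (B ⧸ (Ψ j ⊔ Ideal.span {φ a}))).toNat : ℤ) := by
    exact_mod_cast ea
  have ec' : ((Module.length A (A ⧸ (p ⊔ Ideal.span {c}))).toNat : ℤ) *
      ((Module.length B (B ⧸ (maximalIdeal A).map φ)).toNat : ℤ) =
      ∑ j : ι, ((m j).toNat : ℤ) *
        ((Module.length B (B ⧸ (Ψ j ⊔ Ideal.span {φ c}))).toNat : ℤ) := by
    exact_mod_cast ec
  rw [sub_mul, ea', ec', ← Finset.sum_sub_distrib]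
  apply Finset.sum_congr rfl
  intro j _
  ring

end ALG

end Groth.Agent.Lib.Lead.CycPull
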