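/-
Lead library: Galois descent for vector spaces with a semilinear action of the Galois group,
given as a family of additive maps `T σ`.
-/
import Mathlib

set_option autoImplicit false
set_option linter.style.haveILetI false

namespace Groth.Agent.Lib.Lead.Descent

universe u v w

variable {k : Type u} [Field k] {K : Type v} [Field K] [Algebra k K] [FiniteDimensional k K]
  [IsGalois k K] {V : Type w} [AddCommGroup V] [Module K V] [Module k V] [IsScalarTower k K V]
  (T : (K ≃ₐ[k] K) → V → V)

/-- The fixed vectors of the family `T`. -/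
def Fixed : Set V := {v | ∀ σ, T σ v = v}

section

variable (hadd : ∀ σ v w, T σ (v + w) = T σ v + T σ w)
  (hsemi : ∀ σ (c : K) v, T σ (c • v) = σ c • T σ v)
  (hmul : ∀ σ τ v, T σ (T τ v) = T (σ * τ) v)

include hadd in
theorem map_zero (σ : K ≃ₐ[k] K) : T σ 0 = 0 := by
  have := hadd σ 0 0
  rw [add_zero] at this
  exact left_eq_add.mp this

include hadd in
theorem map_sum {ι : Type*} (s : Finset ι) (f : ι → V) (σ : K ≃ₐ[k] K) :
    T σ (∑ i ∈ s, f i) = ∑ i ∈ s, T σ (f i) :=
  _root_.map_sum (AddMonoidHom.mk' (T σ) (hadd σ)) f s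

include hadd hmul in
theorem trace_mem (v : V) : (∑ σ : K ≃ₐ[k] K, T σ v) ∈ Fixed T := by
  intro τ
  rw [map_sum T hadd]
  simp only [hmul]
  exact Fintype.sum_equiv (Equiv.mulLeft τ) _ _ (fun σ => rfl)

theorem linearIndependent_aut :
    LinearIndependent K (fun σ : K ≃ₐ[k] K => ((σ : K →ₐ[k] K) : K →* K) : _ → K → K) := by
  have h := linearIndependent_monoidHom K K
  have hinj : Function.Injective (fun σ : K ≃ₐ[k] K => ((σ : K →ₐ[k] K) : K →* K)) := by
    intro σ τ hστ
    ext x
    exact DFunLike.congr_fun hστ x
  exact h.comp _ hinj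

include hadd hsemi hmul in
/-- The fixed vectors span. -/
theorem span_fixed (hone : ∀ v, T 1 v = v) : Submodule.span K (Fixed T) = ⊤ := by
  classical
  by_contra hne
  obtain ⟨v, hv⟩ : ∃ v : V, v ∉ Submodule.span K (Fixed T) := by
    by_contra h
    push_neg at h
    exact hne (eq_top_iff.2 fun x _ => h x)
  obtain ⟨f, hfv, hf⟩ := Submodule.exists_dual_map_eq_bot_of_notMem hv inferInstance
  have hzero : ∀ w ∈ Submodule.span K (Fixed T), f w = 0 := by
    intro w hw
    have : f w ∈ (Submodule.span K (Fixed T)).map f := Submodule.mem_map_of_mem hw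
    rw [hf] at this
    exact (Submodule.mem_bot K).1 this
  have hsum : ∀ c : K, ∑ σ : K ≃ₐ[k] K, f (T σ v) * σ c = 0 := by
    intro c
    have h1 := hzero _ (Submodule.subset_span (trace_mem T hadd hmul (c • v)))
    rw [_root_.map_sum] at h1
    rw [← h1]
    refine Finset.sum_congr rfl (fun σ _ => ?_)
    rw [hsemi, map_smul, smul_eq_mul, mul_comm]
  have hli := linearIndependent_aut (k := k) (K := K)
  have := Fintype.linearIndependent_iff.1 hli (fun σ => f (T σ v)) (by
    funext c
    simp only [Finset.sum_apply, Pi.smul_apply, smul_eq_mul, Pi.zero_apply]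
    exact hsum c) 1
  rw [hone] at this
  exact hfv this

include hadd hsemi in
/-- Fixed families independent over `k` are independent over `K`. -/
theorem linearIndependent_of_fixed {ι : Type*} (v : ι → V) (hv : ∀ i, v i ∈ Fixed T)
    (hk : LinearIndependent k v) : LinearIndependent K v := by
  classical
  rw [linearIndependent_iff']
  intro s g hg i hi
  have key : ∀ c : K, Algebra.trace k K (c * g i) = 0 := by
    intro c
    have h1 : ∑ j ∈ s, Algebra.trace k K (c * g j) • v j = 0 := by
      have h2 : ∀ j ∈ s, Algebra.trace k K (c * g j) • v j =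
          ∑ σ : K ≃ₐ[k] K, T σ ((c * g j) • v j) := by
        intro j _
        rw [← algebraMap_smul K (Algebra.trace k K (c * g j)) (v j),
          _root_.trace_eq_sum_automorphisms, Finset.sum_smul]
        refine Finset.sum_congr rfl (fun σ _ => ?_)
        rw [hsemi, hv j σ]
      rw [Finset.sum_congr rfl h2, Finset.sum_comm]
      refine Finset.sum_eq_zero (fun σ _ => ?_)
      rw [← map_sum T hadd]
      have h3 : ∑ j ∈ s, (c * g j) • v j = c • ∑ j ∈ s, g j • v j := by
        rw [Finset.smul_sum]
        exact Finset.sum_congr rfl (fun j _ => mul_smul _ _ _)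
      rw [h3, hg, smul_zero, map_zero T hadd]
    exact linearIndependent_iff'.1 hk s (fun j => Algebra.trace k K (c * g j)) h1 i hi
  exact (_root_.traceForm_nondegenerate k K).2 (g i) (fun c => by
    rw [Algebra.traceForm_apply]; exact key c)

/-- The fixed vectors as a `k`-subspace. -/
def fixedSubmodule (hadd : ∀ σ v w, T σ (v + w) = T σ v + T σ w)
    (hsemi : ∀ σ (c : K) v, T σ (c • v) = σ c • T σ v) : Submodule k V where
  carrier := Fixed T
  add_mem' := fun {a b} ha hb σ => by rw [hadd, ha σ, hb σ]
  zero_mem' := fun σ => map_zero T hadd σ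
  smul_mem' := fun c v hv σ => by
    rw [← algebraMap_smul K c v, hsemi, hv σ, AlgEquiv.commutes]

include hmul in
/-- Dimension of the fixed space. -/
theorem finrank_fixed (hone : ∀ v, T 1 v = v) :
    Module.finrank k (fixedSubmodule T hadd hsemi) = Module.finrank K V := by
  classical
  set W := fixedSubmodule T hadd hsemi with hW
  let b := Module.Basis.ofVectorSpace k W
  let v : Module.Basis.ofVectorSpaceIndex k W → V := fun i => (b i : V)
  have hvk : LinearIndependent k v :=
    b.linearIndependent.map' W.subtype (Submodule.ker_subtype W)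
  have hvK : LinearIndependent K v :=
    linearIndependent_of_fixed T hadd hsemi v (fun i => (b i).2) hvk
  have hspan : ⊤ ≤ Submodule.span K (Set.range v) := by
    rw [← span_fixed T hadd hsemi hmul hone]
    refine Submodule.span_le.2 (fun w hw => ?_)
    have h1 : Submodule.span k (Set.range v) = W := by
      have : Set.range v = W.subtype '' Set.range b := by
        rw [← Set.range_comp]; rfl
      rw [this, Submodule.span_image, b.span_eq, Submodule.map_subtype_top]
    have h2 : w ∈ Submodule.span k (Set.range v) := by rw [h1]; exact hw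
    exact Submodule.span_le_restrictScalars k K (Set.range v) h2
  let B := Module.Basis.mk hvK hspan
  rw [Module.finrank_eq_nat_card_basis b, Module.finrank_eq_nat_card_basis B]

end

end Groth.Agent.Lib.Lead.Descent
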