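import Mathlib

/-!
# Formally unramified finite type algebras over an algebraically closed field, via dual numbers

`formallyUnramified_of_dualNumber`: a finite type algebra `B` over an algebraically closed field
`k` is formally unramified as soon as two `k`-algebra maps `B → k[ε]` agreeing modulo `ε` are equal.
-/

set_option autoImplicit false
set_option linter.style.haveILetI false

namespace Groth.Agent.Lib.Lead.DualNumUnram

open TrivSqZeroExt

variable {k B : Type*} [Field k] [CommRing B] [Algebra k B]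

/-- The `k`-algebra map `B → k[ε]`, `b ↦ φ b + d b ε`, attached to a point `φ` and a
`φ`-derivation `d`. -/
noncomputable def dualMap (φ : B →ₐ[k] k) (d : B →ₗ[k] k)
    (hd : ∀ a b, d (a * b) = φ a * d b + φ b * d a) : B →ₐ[k] DualNumber k :=
  AlgHom.ofLinearMap
    ((TrivSqZeroExt.inlAlgHom k k k).toLinearMap.comp φ.toLinearMap +
      (TrivSqZeroExt.inrHom k k).comp d)
    (by
      have h1 : d 1 = 0 := by
        have := hd 1 1
        simp only [mul_one, map_one, one_mul] at this
        linear_combination -this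
      ext <;> simp [h1])
    (by
      intro a b
      ext
      · simp
      · simp [hd a b]
        ring)

@[simp] theorem fst_dualMap (φ : B →ₐ[k] k) (d : B →ₗ[k] k)
    (hd : ∀ a b, d (a * b) = φ a * d b + φ b * d a) (b : B) :
    (dualMap φ d hd b).fst = φ b := by
  simp [dualMap]

@[simp] theorem snd_dualMap (φ : B →ₐ[k] k) (d : B →ₗ[k] k)
    (hd : ∀ a b, d (a * b) = φ a * d b + φ b * d a) (b : B) :
    (dualMap φ d hd b).snd = d b := by
  simp [dualMap]

theorem formallyUnramified_of_dualNumber [IsAlgClosed k] [Algebra.FiniteType k B]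
    (H : ∀ ψ₁ ψ₂ : B →ₐ[k] DualNumber k,
      (TrivSqZeroExt.fstHom k k k).comp ψ₁ = (TrivSqZeroExt.fstHom k k k).comp ψ₂ → ψ₁ = ψ₂) :
    Algebra.FormallyUnramified k B := by
  constructor
  by_contra hne
  have hAnn : Module.annihilator B Ω[B⁄k] ≠ ⊤ := fun h => hne (Module.annihilator_eq_top_iff.mp h)
  obtain ⟨m, hm, hle⟩ := Ideal.exists_le_maximal _ hAnn
  -- Nakayama: it suffices to show `Ω = m Ω`
  suffices hsm : (⊤ : Submodule B Ω[B⁄k]) ≤ m • ⊤ by
    obtain ⟨r, hr1, hr2⟩ := Submodule.exists_sub_one_mem_and_smul_eq_zero_of_fg_of_le_smul m ⊤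
      Module.Finite.fg_top hsm
    have hrA : r ∈ Module.annihilator B Ω[B⁄k] :=
      Module.mem_annihilator.mpr fun n => hr2 n trivial
    have : (1 : B) ∈ m := by
      have := m.sub_mem (hle hrA) hr1
      simpa using this
    exact hm.ne_top ((Ideal.eq_top_iff_one _).mpr this)
  by_contra hsm
  obtain ⟨ω, -, hω⟩ := SetLike.not_le_iff_exists.mp hsm
  -- the residue field is `k`
  haveI := hm
  letI : Field (B ⧸ m) := Ideal.Quotient.field m
  haveI : Algebra.FiniteType k (B ⧸ m) :=
    Algebra.FiniteType.of_surjective (Ideal.Quotient.mkₐ k m) Ideal.Quotient.mk_surjective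
  haveI : Module.Finite k (B ⧸ m) := finite_of_finite_type_of_isJacobsonRing k (B ⧸ m)
  have hbij : Function.Bijective (algebraMap k (B ⧸ m)) :=
    IsAlgClosed.algebraMap_bijective_of_isIntegral
  let e : (B ⧸ m) ≃ₐ[k] k := (AlgEquiv.ofBijective (Algebra.ofId k (B ⧸ m)) hbij).symm
  -- a functional on `Ω / m Ω` not vanishing at the class of `ω`
  have hq : (Submodule.Quotient.mk ω : Ω[B⁄k] ⧸ (m • ⊤ : Submodule B Ω[B⁄k])) ≠ 0 := by
    rwa [Ne, Submodule.Quotient.mk_eq_zero]
  obtain ⟨lam, hlam⟩ := Module.Projective.exists_dual_ne_zero (B ⧸ m) hq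
  -- the derivation `B → B/m`
  let L : Ω[B⁄k] →ₗ[B] (B ⧸ m) :=
    { toFun := fun x => lam (Submodule.Quotient.mk x)
      map_add' := fun x y => by simp
      map_smul' := fun b x => by
        change lam (Submodule.Quotient.mk (b • x)) = b • lam (Submodule.Quotient.mk x)
        rw [← Module.Quotient.mk_smul_mk, map_smul]
        rfl }
  let D : Derivation k B (B ⧸ m) := KaehlerDifferential.linearMapEquivDerivation k B L
  let φ : B →ₐ[k] k := (e : (B ⧸ m) →ₐ[k] k).comp (Ideal.Quotient.mkₐ k m)
  let d : B →ₗ[k] k := e.toLinearMap.comp (D : B →ₗ[k] (B ⧸ m))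
  have hd : ∀ a b, d (a * b) = φ a * d b + φ b * d a := by
    intro a b
    change e (D (a * b)) = e (Ideal.Quotient.mk m a) * e (D b) + e (Ideal.Quotient.mk m b) * e (D a)
    rw [D.leibniz, map_add, ← map_mul, ← map_mul]
    rfl
  have hd0 : ∀ a b, (0 : B →ₗ[k] k) (a * b) = φ a * (0 : B →ₗ[k] k) b + φ b * (0 : B →ₗ[k] k) a := by
    intro a b; simp
  have hψ := H (dualMap φ d hd) (dualMap φ 0 hd0) (by ext b; simp)
  have hD : ∀ b, D b = 0 := by
    intro b
    have h1 : d b = 0 := by
      have := congrArg (fun ψ : B →ₐ[k] DualNumber k => (ψ b).snd) hψ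
      simpa using this
    exact e.injective (by rw [map_zero]; exact h1)
  apply hlam
  change L ω = 0
  have hL : L = 0 := by
    apply (KaehlerDifferential.linearMapEquivDerivation k B).injective
    ext b
    change D b = 0
    exact hD b
  rw [hL]; rfl

end Groth.Agent.Lib.Lead.DualNumUnram
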