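import Mathlib
import Groth.Prelude.Def_Dual3
import Groth.Prelude.Def_BlowUp2
import Groth.Prelude.Def_RegImm
import Groth.Agent.Lib.Helper2.RDBridge

/-!
# Bridges for `R Hom(O_D, O_X)` of an effective Cartier divisor (lead)

* `isRegularImmersion_of_isEffCartier`: the closed subscheme of an effective Cartier ideal is a
  regular immersion of codimension one.
* `nonempty_HD_iso`, `isZero_HD_neg`: `Hᵏ(RF(O)) ≅ RᵏF(M)` for `O ∈ D⁺` isomorphic to `M[0]`.
-/

set_option autoImplicit false
set_option linter.style.haveILetI false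
universe u
open CategoryTheory CategoryTheory.Limits AlgebraicGeometry TopologicalSpace Opposite

namespace Groth.Agent.Lib.Lead.EffCartRHom

section RegImm

variable {X : Scheme.{u}}

theorem isRegularImmersion_of_isEffCartier (I : X.IdealSheafData)
    (hI : BlowUp.IsEffCartierIdeal I) :
    RegImm.IsRegularImmersionOfCodim RegImm.Kind.regular 1 I.subschemeι := by
  refine ⟨inferInstance, fun z => ?_⟩
  obtain ⟨U, hzU, f, hf, hfI⟩ := hI (I.subschemeι z)
  refine ⟨U, hzU, inferInstance, [f], rfl, ?_, ?_⟩
  · show RingTheory.Sequence.IsRegular Γ(X, U.1) [f]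
    refine ⟨?_, ?_⟩
    · rw [RingTheory.Sequence.isWeaklyRegular_singleton_iff]
      rw [isSMulRegular_iff_right_eq_zero_of_smul]
      intro m hm
      rw [smul_eq_mul, mul_comm] at hm
      exact (mul_right_mem_nonZeroDivisors_eq_zero_iff hf).mp hm
    · intro h
      rw [Ideal.ofList_singleton, ← hfI] at h
      have hz : I.subschemeι z ∈ I.support := by
        rw [← SetLike.mem_coe, ← I.range_subschemeι]
        exact ⟨z, rfl⟩
      rw [Scheme.IdealSheafData.mem_support_iff_of_mem hzU] at hz
      have htop : I.ideal U = ⊤ := by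
        have h2 : I.ideal U • (⊤ : Submodule Γ(X, U.1) Γ(X, U.1)) = I.ideal U := by
          simp
        rw [h2] at h
        exact h.symm
      rw [htop] at hz
      simp at hz
      exact hz hzU
  · rw [Scheme.IdealSheafData.ker_subschemeι_app, hfI, Ideal.ofList_singleton]

end RegImm

section Bridge

open Groth.Agent.Lib.Helper2

variable {C : Type*} [Category C] [Abelian C] [HasDerivedCategory C] [EnoughInjectives C]
  {D : Type*} [Category D] [Abelian D] [HasDerivedCategory D]
  (F : C ⥤ D) [F.Additive]

/-- an object of `D⁺` whose underlying object is `M[0]` is isomorphic to `Q(M[0])` in `D⁺` -/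
noncomputable def plusIso (O : DerivedCategory.Plus C) (M : C)
    (e : O.obj ≅ (DerivedCategory.singleFunctor C 0).obj M) :
    O ≅ DerivedCategory.Plus.Q.obj ((RDBridge.sP C).obj M) :=
  DerivedCategory.Plus.ι.preimageIso (e ≪≫ (DerivedCategory.singleFunctorIsoCompQ C 0).app M)

theorem nonempty_HD_iso (O : DerivedCategory.Plus C) (M : C)
    (hO : Nonempty (O.obj ≅ (DerivedCategory.singleFunctor C 0).obj M)) (k : ℕ) :
    Nonempty ((DerivedCategory.homologyFunctor D (k : ℤ)).obj
      ((F.rightDerivedFunctorPlus.obj O).obj) ≅ (F.rightDerived k).obj M) := by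
  obtain ⟨e⟩ := hO
  let e0 := plusIso O M e
  let I := injectiveResolution M
  exact ⟨(F.rightDerivedFunctorPlus ⋙ DerivedCategory.Plus.ι ⋙
    DerivedCategory.homologyFunctor D k).mapIso e0 ≪≫ RDBridge.wIso F I k⟩

theorem isZero_HD_neg (O : DerivedCategory.Plus C) (M : C)
    (hO : Nonempty (O.obj ≅ (DerivedCategory.singleFunctor C 0).obj M)) (n : ℤ) (hn : n < 0) :
    IsZero ((DerivedCategory.homologyFunctor D n).obj
      ((F.rightDerivedFunctorPlus.obj O).obj)) := by
  obtain ⟨e⟩ := hO
  let e0 := plusIso O M e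
  exact (RDBridge.isZero_RH_neg F M n hn).of_iso
    ((F.rightDerivedFunctorPlus ⋙ DerivedCategory.Plus.ι ⋙
      DerivedCategory.homologyFunctor D n).mapIso e0)

end Bridge

end Groth.Agent.Lib.Lead.EffCartRHom
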