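import Mathlib
import Groth.Agent.Lib.Lead.EffCartRHomA
import Groth.Agent.S11902
import Groth.Agent.Lib.Helper2.ExtVan.RegImm
import Groth.Agent.Lib.Helper2.ShriekExt.Shriek
import Groth.Agent.Lib.Helper2.ClImm.FF
import Groth.Agent.Lib.Helper2.Dual.Ext
import Groth.Agent.Lib.Helper2.Dual.SheafDD
import Groth.Agent.Lib.Helper13.SheafHomExact
import Groth.Agent.Lib.Helper13.SectOnLES
import Groth.Agent.Lib.Helper16.MVIdeal
import Groth.Agent.Lib.Helper17.EffCartMod
import Groth.Agent.Lib.Helper17.AmpleFin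
import Groth.Agent.Lib.Helper26.FinPush

/-!
# `R Hom(O_D, O_X) = N[-1]` for an effective Cartier divisor (lead)
-/

set_option autoImplicit false
set_option linter.style.haveILetI false
universe u
open CategoryTheory CategoryTheory.Limits AlgebraicGeometry TopologicalSpace Opposite

attribute [local instance] HasDerivedCategory.standard

namespace Groth.Agent.Lib.Lead.EffCartRHom

open Groth.Agent.Lib.Helper13 Groth.Agent.Lib.Helper2 Groth.Agent.Lib.Helper2.Dual
  Groth.Agent.Lib.Helper2.ShriekExt Scheme.Modules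

theorem isZero_of_isZero_pushforward {Z X : Scheme.{u}} (i : Z ⟶ X) [IsClosedImmersion i]
    (A : Z.Modules) (h : IsZero ((pushforward i).obj A)) : IsZero A := by
  haveI := ClImm.faithful_pushforward i
  rw [IsZero.iff_id_eq_zero]
  apply (pushforward i).map_injective
  rw [(pushforward i).map_id, (pushforward i).map_zero]
  exact h.eq_of_src _ _

variable (X : Scheme.{u}) (I : X.IdealSheafData) (hI : BlowUp.IsEffCartierIdeal I)

include hI in
theorem ext_zero [HasInjectiveResolutions (ModSite.Mod X.sheaf)]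
    [ModSite.HasSheafHom (O := X.sheaf) (pushO I.subschemeι)] :
    IsZero ((ModSite.extSh (O := X.sheaf) (pushO I.subschemeι) 0).obj (OO X)) := by
  have hreg := isRegularImmersion_of_isEffCartier I hI
  have hfl := Groth.Agent.Lib.Helper26.FinPush.isFinLocFree_structureModule X
  exact ExtVan.isZero_extSh_pushforward_of_regularImmersion I.subschemeι 1 hreg (OO X) hfl
    (OO I.subscheme) 0 Nat.zero_lt_one

set_option maxHeartbeats 1600000 in
include hI in
theorem ext_one [HasInjectiveResolutions (ModSite.Mod X.sheaf)]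
    [ModSite.HasSheafHom (O := X.sheaf) (pushO I.subschemeι)] (L : X.Modules)
    (hL : ClSub.IsInverseOf L (ClSub.idealMod I)) :
    Nonempty ((ModSite.extSh (O := X.sheaf) (pushO I.subschemeι) 1).obj (OO X) ≅
      (pushforward I.subschemeι).obj ((Scheme.Modules.pullback I.subschemeι).obj L)) := by
  have hL' : ClSub.IsInverseOf L (ClSub.idealMod I.subschemeι.ker) := by
    rw [I.ker_subschemeι]
    exact hL
  obtain ⟨c⟩ := Groth.Agent.S11902.result X I.subscheme I.subschemeι
    (isRegularImmersion_of_isEffCartier I hI) L hL' (OO X)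
  have a1 : CohB1.tensorMod (pushO I.subschemeι) (CohB1.tensorMod L (OO X)) ≅
      CohB1.tensorMod (pushO I.subschemeι) L :=
    ((ModSite.tensorBi X.sheaf).obj (pushO I.subschemeι)).mapIso ((rho X).app L)
  have a2 : CohB1.tensorMod (pushO I.subschemeι) L ≅ CohB1.tensorMod L (pushO I.subschemeι) :=
    ss X (pushO I.subschemeι) L
  have a3 : CohB1.tensorMod L (pushO I.subschemeι) ≅
      (pushforward I.subschemeι).obj ((Scheme.Modules.pullback I.subschemeι).obj L) :=
    (tensorPushIso I.subschemeι).app L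
  exact ⟨c ≪≫ a1 ≪≫ a2 ≪≫ a3⟩

include hI in
theorem ext_ge_two [HasInjectiveResolutions (ModSite.Mod X.sheaf)]
    [ModSite.HasSheafHom (O := X.sheaf) (pushO I.subschemeι)] (q : ℕ) :
    IsZero ((ModSite.extSh (O := X.sheaf) (pushO I.subschemeι) (q + 2)).obj (OO X)) := by
  let p : OO X ⟶ pushO I.subschemeι := ClSub.toSubscheme I
  let ι : ClSub.idealMod I ⟶ OO X := kernel.ι p
  have w : ι ≫ p = 0 := kernel.condition p
  haveI hp : Epi p := H16MVIdeal.epi_toSubscheme I
  have hS : (ShortComplex.mk ι p w).ShortExact :=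
    ShortComplex.ShortExact.mk' (ShortComplex.exact_kernel p)
      (inferInstanceAs (Mono (kernel.ι p))) hp
  have hE : PreservesFiniteColimits (ModSite.sheafHom (O := X.sheaf) (OO X)) :=
    pfc_HH (OO X) (Groth.Agent.Lib.Helper26.FinPush.isFinLocFree_structureModule X)
  obtain ⟨c⟩ := SheafHomExact.nonempty_extSh_iso (O := X.sheaf) ι p w hS hE q (OO X)
  refine IsZero.of_iso ?_ c.symm
  have hIfl : FlatMod.IsFinLocFree (ClSub.idealMod I) :=
    Groth.Agent.Lib.Helper17.AmpleFin.isFinLocFree_of_isInvertible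
      ((Groth.Agent.Lib.Helper17.EffCartMod.isInvertible_idealMod_iff I).mpr hI)
  haveI := ModSite.sheafHom_additive X.sheaf (ClSub.idealMod I)
  haveI : PreservesFiniteColimits (ModSite.sheafHom (O := X.sheaf) (ClSub.idealMod I)) :=
    pfc_HH (ClSub.idealMod I) hIfl
  haveI : PreservesFiniteLimits (ModSite.sheafHom (O := X.sheaf) (ClSub.idealMod I)) :=
    SheafHomExact.pfl_sheafHom (O := X.sheaf) (ClSub.idealMod I)
  have h := SectOnLES.isZero_rightDerived_succ_of_exact
    (ModSite.sheafHom (O := X.sheaf) (ClSub.idealMod I)) q (OO X)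
  exact h

set_option maxHeartbeats 1600000 in
include hI in
/-- **`R Hom(O_D, O_X) = N[-1]`** for an effective Cartier divisor `D` with normal sheaf
`N = i^* O_X(D)`. -/
theorem main [Dual3.HasHomO I.subschemeι] [EnoughInjectives X.Modules] (L : X.Modules)
    (hL : ClSub.IsInverseOf L (ClSub.idealMod I)) (O : DerivedCategory.Plus X.Modules)
    (hO : Nonempty (O.obj ≅ DCoh.inD X (Coh.structureModule X))) :
    (∀ j : ℤ, j ≠ 1 → IsZero (DCoh.HD ((Dual3.RHomOPlus I.subschemeι).obj O).obj j)) ∧
      Nonempty (DCoh.HD ((Dual3.RHomOPlus I.subschemeι).obj O).obj 1 ≅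
        (Scheme.Modules.pullback I.subschemeι).obj L) := by
  haveI : HasInjectiveResolutions X.Modules := inferInstance
  haveI hIR : HasInjectiveResolutions (ModSite.Mod X.sheaf) :=
    ‹HasInjectiveResolutions X.Modules›
  haveI hSH : ModSite.HasSheafHom (O := X.sheaf) (pushO I.subschemeι) :=
    ModSiteTensor.hasSheafHom _ _
  have key : ∀ k : ℕ, Nonempty ((pushforward I.subschemeι).obj
      (DCoh.HD ((Dual3.RHomOPlus I.subschemeι).obj O).obj (k : ℤ)) ≅
      (ModSite.extSh (O := X.sheaf) (pushO I.subschemeι) k).obj (OO X)) := by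
    intro k
    obtain ⟨e1⟩ := nonempty_HD_iso (Dual3.homO I.subschemeι) O (OO X) hO k
    obtain ⟨e2⟩ := ShriekExt.nonempty_rightDerived_shriek_iso I.subschemeι k
    exact ⟨(pushforward I.subschemeι).mapIso e1 ≪≫ e2.app (OO X)⟩
  constructor
  · intro j hj
    by_cases hneg : j < 0
    · exact isZero_HD_neg (Dual3.homO I.subschemeι) O (OO X) hO j hneg
    · obtain ⟨k, rfl⟩ := Int.eq_ofNat_of_zero_le (not_lt.mp hneg)
      apply isZero_of_isZero_pushforward I.subschemeι
      obtain ⟨e⟩ := key k
      refine IsZero.of_iso ?_ e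
      match k, hj with
      | 0, _ => exact ext_zero X I hI
      | 1, h => exact absurd rfl h
      | (q + 2), _ => exact ext_ge_two X I hI q
  · obtain ⟨e⟩ := key 1
    obtain ⟨c⟩ := ext_one X I hI L hL
    exact ⟨(ClImm.fullyFaithfulPushforward I.subschemeι).preimageIso (e ≪≫ c)⟩

end Groth.Agent.Lib.Lead.EffCartRHom
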