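/-
Lead library: lifting idempotents in a (noncommutative) finite algebra over a henselian local ring.
-/
import Mathlib
import Groth.Agent.Lib.Helper8.HenselSplit

set_option autoImplicit false
universe u v
open IsLocalRing Polynomial

namespace Groth.Agent.Lib.Lead.NCIdem

theorem mul_mem_smul_top {R : Type u} [CommRing R] (I : Ideal R) {D : Type v} [Ring D]
    [Algebra R D] {y : D} (hy : y ∈ I • (⊤ : Submodule R D)) (d : D) :
    y * d ∈ I • (⊤ : Submodule R D) ∧ d * y ∈ I • (⊤ : Submodule R D) := by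
  refine Submodule.smul_induction_on hy (fun r hr n _ => ⟨?_, ?_⟩) (fun a b ha hb => ⟨?_, ?_⟩)
  · rw [smul_mul_assoc]; exact Submodule.smul_mem_smul hr Submodule.mem_top
  · rw [mul_smul_comm]; exact Submodule.smul_mem_smul hr Submodule.mem_top
  · rw [add_mul]; exact Submodule.add_mem _ ha.1 hb.1
  · rw [mul_add]; exact Submodule.add_mem _ ha.2 hb.2

/-- Idempotents lift from `D / 𝔪 D` to `D` for a finite algebra `D` over a henselian local
ring. -/
theorem exists_idempotent (R : Type u) [CommRing R] [HenselianLocalRing R] (D : Type u) [Ring D]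
    [Algebra R D] [Module.Finite R D] (x : D)
    (hx : x * x - x ∈ maximalIdeal R • (⊤ : Submodule R D)) :
    ∃ e : D, IsIdempotentElem e ∧ e - x ∈ maximalIdeal R • (⊤ : Submodule R D) := by
  classical
  obtain ⟨p, hpm, -, hpc, hp0⟩ :=
    LinearMap.exists_monic_and_natDegree_eq_and_coeff_mem_pow_and_aeval_eq_zero R
      (Algebra.lmul R D (x * x - x)) (maximalIdeal R) (by
        rintro _ ⟨d, rfl⟩
        exact (mul_mem_smul_top _ hx d).1)
  rw [Polynomial.aeval_algHom_apply] at hp0
  have hp1 : aeval (x * x - x) p = 0 := by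
    have h := LinearMap.congr_fun hp0 1
    rw [LinearMap.zero_apply] at h
    rw [← mul_one (aeval (x * x - x) p)]
    exact h
  haveI : Algebra.IsIntegral R D := Algebra.IsIntegral.of_finite R D
  have hcomm : ∀ a ∈ ({x} : Set D), ∀ b ∈ ({x} : Set D), a * b = b * a := by
    intro a ha b hb
    rw [Set.mem_singleton_iff] at ha hb
    rw [ha, hb]
  letI : CommRing (Algebra.adjoin R {x}) := Algebra.adjoinCommRingOfComm R hcomm
  haveI : Module.Finite R (Algebra.adjoin R {x}) :=
    Algebra.finite_adjoin_simple_of_isIntegral (Algebra.IsIntegral.isIntegral x)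
  haveI : Algebra.IsIntegral R (Algebra.adjoin R {x}) :=
    Algebra.IsIntegral.of_finite R (Algebra.adjoin R {x})
  obtain ⟨x', hx'⟩ : ∃ x' : Algebra.adjoin R {x}, (x' : D) = x :=
    ⟨⟨x, Algebra.subset_adjoin (Set.mem_singleton x)⟩, rfl⟩
  obtain ⟨y, hy⟩ : ∃ y : Algebra.adjoin R {x}, y = x' * x' - x' := ⟨_, rfl⟩
  have hyD : (y : D) = x * x - x := by
    rw [hy]
    show (x' : D) * x' - x' = _
    rw [hx']
  have hy0 : aeval y p = 0 := by
    apply Subtype.ext
    have h1 : ((aeval y p : Algebra.adjoin R {x}) : D) = aeval (y : D) p :=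
      Polynomial.aeval_subalgebra_coe p (Algebra.adjoin R {x}) y
    rw [h1, hyD, hp1]; rfl
  obtain ⟨N, hN⟩ : ∃ N : ℕ, N = p.natDegree := ⟨_, rfl⟩
  have hyN : y ^ N ∈ (maximalIdeal R).map (algebraMap R (Algebra.adjoin R {x})) := by
    have h1 : aeval y p = ∑ i ∈ Finset.range (p.natDegree + 1), p.coeff i • y ^ i :=
      Polynomial.aeval_eq_sum_range y
    rw [hy0, Finset.sum_range_succ, hpm.coeff_natDegree, one_smul, ← hN] at h1
    have h2 : y ^ N = -∑ i ∈ Finset.range N, p.coeff i • y ^ i := by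
      rw [eq_neg_iff_add_eq_zero, add_comm]; exact h1.symm
    rw [h2]
    refine (Ideal.neg_mem_iff _).2 (Ideal.sum_mem _ fun i hi => ?_)
    rw [Algebra.smul_def]
    refine Ideal.mul_mem_right _ _ (Ideal.mem_map_of_mem _ ?_)
    have h3 := hpc i
    rw [← hN] at h3
    have hi' : N - i ≠ 0 := by
      have := Finset.mem_range.1 hi
      omega
    exact Ideal.pow_le_self hi' h3
  have hmax : ∀ M : Ideal (Algebra.adjoin R {x}), M.IsMaximal → x' * (x' - 1) ∈ M := by
    intro M hM
    have hmM : (maximalIdeal R).map (algebraMap R (Algebra.adjoin R {x})) ≤ M := by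
      rw [Ideal.map_le_iff_le_comap]
      have : (M.comap (algebraMap R (Algebra.adjoin R {x}))).IsMaximal :=
        Ideal.isMaximal_comap_of_isIntegral_of_isMaximal M
      exact (IsLocalRing.eq_maximalIdeal this).ge
    have h1 : y ∈ M := hM.isPrime.mem_of_pow_mem N (hmM hyN)
    have h2 : x' * (x' - 1) = y := by rw [hy]; ring
    rw [h2]; exact h1
  obtain ⟨e, he, hM⟩ :=
    Groth.Agent.Lib.Helper8.exists_idempotent_notMem_iff R (Algebra.adjoin R {x}) {M | x' ∉ M}
  have hjac : e - x' ∈ Ideal.jacobson (⊥ : Ideal (Algebra.adjoin R {x})) := by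
    rw [Ideal.jacobson, Ideal.mem_sInf]
    rintro M ⟨_, hMmax⟩
    have h1 := hmax M hMmax
    have h2 : e * (e - 1) ∈ M := by
      rw [mul_sub, he.eq, mul_one, sub_self]; exact M.zero_mem
    by_cases haM : x' ∈ M
    · have : e ∈ M := by
        by_contra h
        exact ((hM M hMmax).mp h) haM
      exact M.sub_mem this haM
    · have heM : e ∉ M := (hM M hMmax).mpr haM
      have h3 : x' - 1 ∈ M := (hMmax.isPrime.mem_or_mem h1).resolve_left haM
      have h4 : e - 1 ∈ M := (hMmax.isPrime.mem_or_mem h2).resolve_left heM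
      have : e - x' = (e - 1) - (x' - 1) := by ring
      rw [this]; exact M.sub_mem h4 h3
  have hu : IsUnit (1 - (e - x') ^ 2) := by
    have := Ideal.mem_jacobson_bot.mp hjac (-(e - x'))
    have h : (e - x') * -(e - x') + 1 = 1 - (e - x') ^ 2 := by ring
    rwa [h] at this
  obtain ⟨u, hu'⟩ := hu
  have hprod : (e - x') * (u : Algebra.adjoin R {x}) =
      (1 + x' - (e + e + e)) * (x' * x' - x') := by
    rw [hu']
    linear_combination (3 * x' - e - 1) * he.eq
  refine ⟨(e : D), congrArg Subtype.val he.eq, ?_⟩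
  have h1 : ((e : D) - x) * ((u : Algebra.adjoin R {x}) : D) =
      (1 + x - ((e : D) + e + e)) * (x * x - x) := by
    have h := congrArg Subtype.val hprod
    have h' : ((e : D) - (x' : D)) * ((u : Algebra.adjoin R {x}) : D) =
      (1 + (x' : D) - ((e : D) + e + e)) * ((x' : D) * x' - x') := h
    rwa [hx'] at h'
  have h2 : ((u : Algebra.adjoin R {x}) : D) *
      (((u⁻¹ : (Algebra.adjoin R {x})ˣ) : Algebra.adjoin R {x}) : D) = 1 :=
    congrArg Subtype.val (Units.mul_inv u)
  have h3 : (e : D) - x = (1 + x - ((e : D) + e + e)) * (x * x - x) *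
      (((u⁻¹ : (Algebra.adjoin R {x})ˣ) : Algebra.adjoin R {x}) : D) := by
    rw [← h1, mul_assoc, h2, mul_one]
  rw [h3]
  exact (mul_mem_smul_top _ (mul_mem_smul_top _ hx _).2 _).1

end Groth.Agent.Lib.Lead.NCIdem
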