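/-
Lead library: over a henselian local ring, isomorphisms of special fibres of Azumaya algebras lift.
-/
import Mathlib
import Groth.Agent.Lib.Lead.AzHom
import Groth.Agent.Lib.Lead.NCIdem
import Groth.Agent.Lib.Lead.AzumayaOp
import Groth.Agent.S19587
import Groth.Agent.S19588

set_option autoImplicit false
universe u v
open TensorProduct IsLocalRing

namespace Groth.Agent.Lib.Lead.HensAzIso

theorem mem_smul_top_of_tmul_eq_zero (R : Type u) [CommRing R] [IsLocalRing R] {M : Type v}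
    [AddCommGroup M] [Module R M] (y : M)
    (h : (1 : ResidueField R) ⊗ₜ[R] y = 0) : y ∈ maximalIdeal R • (⊤ : Submodule R M) := by
  have h1 := congrArg (TensorProduct.quotTensorEquivQuotSMul M (maximalIdeal R)) h
  have h1' := h1.trans (map_zero _)
  have h2 : TensorProduct.quotTensorEquivQuotSMul M (maximalIdeal R)
      ((1 : R ⧸ maximalIdeal R) ⊗ₜ[R] y) = Submodule.Quotient.mk y :=
    TensorProduct.quotTensorEquivQuotSMul_mk_one_tmul (maximalIdeal R) y
  exact (Submodule.Quotient.mk_eq_zero _).1 (h2.symm.trans h1')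

theorem tmul_eq_zero_of_mem_smul_top (R : Type u) [CommRing R] [IsLocalRing R] {M : Type v}
    [AddCommGroup M] [Module R M] (y : M) (h : y ∈ maximalIdeal R • (⊤ : Submodule R M)) :
    (1 : ResidueField R) ⊗ₜ[R] y = 0 := by
  refine Submodule.smul_induction_on h (fun r hr n _ => ?_) (fun a b ha hb => ?_)
  · rw [← TensorProduct.smul_tmul, ← Algebra.algebraMap_eq_smul_one]
    have : algebraMap R (ResidueField R) r = 0 := (IsLocalRing.residue_eq_zero_iff r).2 hr
    rw [this, TensorProduct.zero_tmul]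
  · rw [TensorProduct.tmul_add, ha, hb, add_zero]

section
variable (R : Type u) [CommRing R] [IsLocalRing R] (A : Type u) [Ring A] [Algebra R A]
  (B : Type u) [Ring B] [Algebra R B]
  (e₀ : (ResidueField R ⊗[R] A) ≃ₐ[ResidueField R] (ResidueField R ⊗[R] B))

/-- The action of `A` on `k ⊗ B` by left multiplication through `e₀`. -/
noncomputable def actA : A →ₐ[R] Module.End (ResidueField R) (ResidueField R ⊗[R] B) :=
  ((Algebra.lmul (ResidueField R) (ResidueField R ⊗[R] B)).restrictScalars R).comp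
    (((e₀ : (ResidueField R ⊗[R] A) →ₐ[ResidueField R] (ResidueField R ⊗[R] B)).restrictScalars R).comp
      Algebra.TensorProduct.includeRight)

theorem actA_apply (a : A) (y : ResidueField R ⊗[R] B) :
    actA R A B e₀ a y = e₀ (1 ⊗ₜ[R] a) * y := rfl

/-- The action of `Bᵐᵒᵖ` on `k ⊗ B` by right multiplication. -/
noncomputable def actB : Bᵐᵒᵖ →ₐ[R] Module.End (ResidueField R) (ResidueField R ⊗[R] B) :=
  AlgHom.ofLinearMap
    ((((LinearMap.mul (ResidueField R) (ResidueField R ⊗[R] B)).flip.restrictScalars R).comp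
      (TensorProduct.mk R (ResidueField R) B 1)).comp
        (MulOpposite.opLinearEquiv R).symm.toLinearMap)
    (by
      apply LinearMap.ext
      intro y
      show y * ((1 : ResidueField R) ⊗ₜ[R] (1 : B)) = y
      rw [← Algebra.TensorProduct.one_def, mul_one])
    (by
      intro b c
      apply LinearMap.ext
      intro y
      simp [mul_assoc])

theorem actB_apply (b : Bᵐᵒᵖ) (y : ResidueField R ⊗[R] B) :
    actB R B b y = y * (1 ⊗ₜ[R] b.unop) := rfl

end

section main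
variable (R : Type u) [CommRing R] [HenselianLocalRing R] (A : Type u) [Ring A] [Algebra R A]
  [IsAzumaya R A] (B : Type u) [Ring B] [Algebra R B] [IsAzumaya R B]
  (e₀ : (ResidueField R ⊗[R] A) ≃ₐ[ResidueField R] (ResidueField R ⊗[R] B))

include e₀ in
theorem main : ∃ e : A ≃ₐ[R] B, ∀ a : A,
    e₀ ((1 : ResidueField R) ⊗ₜ[R] a) = (1 : ResidueField R) ⊗ₜ[R] (e a) := by
  classical
  haveI : IsAzumaya R Bᵐᵒᵖ := AzumayaOp.isAzumaya_op R B
  haveI hD : IsAzumaya R (A ⊗[R] Bᵐᵒᵖ) := Groth.Agent.S19587.result R A Bᵐᵒᵖ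
  haveI : Module.Free R A := Module.free_of_flat_of_isLocalRing
  haveI : Module.Free R B := Module.free_of_flat_of_isLocalRing
  haveI : Module.Free R Bᵐᵒᵖ := Module.free_of_flat_of_isLocalRing
  obtain ⟨hcD, hsD⟩ := AzumayaFibre2.csa_of_isAzumaya R (A ⊗[R] Bᵐᵒᵖ) (ResidueField R)
  obtain ⟨hcB, hsB⟩ := AzumayaFibre2.csa_of_isAzumaya R B (ResidueField R)
  haveI := hsD
  haveI := hsB
  -- the action of `A ⊗ Bᵐᵒᵖ` on `k ⊗ B`
  obtain ⟨Φ, hΦ⟩ : ∃ Φ : A ⊗[R] Bᵐᵒᵖ →ₐ[R]
      Module.End (ResidueField R) (ResidueField R ⊗[R] B),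
      ∀ a b' y, Φ (a ⊗ₜ[R] b') y = e₀ (1 ⊗ₜ[R] a) * y * (1 ⊗ₜ[R] b'.unop) := by
    refine ⟨Algebra.TensorProduct.lift (actA R A B e₀) (actB R B) (fun a b' => ?_),
      fun a b' y => ?_⟩
    · show actA R A B e₀ a * actB R B b' = actB R B b' * actA R A B e₀ a
      apply LinearMap.ext
      intro y
      show actA R A B e₀ a (actB R B b' y) = actB R B b' (actA R A B e₀ a y)
      rw [actA_apply, actA_apply, actB_apply, actB_apply, mul_assoc]
    · rw [Algebra.TensorProduct.lift_tmul]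
      show actA R A B e₀ a (actB R B b' y) = _
      rw [actA_apply, actB_apply, mul_assoc]
  obtain ⟨Φk, hΦk⟩ : ∃ Φk : ResidueField R ⊗[R] (A ⊗[R] Bᵐᵒᵖ) →ₐ[ResidueField R]
      Module.End (ResidueField R) (ResidueField R ⊗[R] B),
      ∀ c d, Φk (c ⊗ₜ[R] d) = c • Φ d := by
    refine ⟨Algebra.TensorProduct.lift (Algebra.ofId _ _) Φ (fun c d => Algebra.commutes _ _),
      fun c d => ?_⟩
    rw [Algebra.TensorProduct.lift_tmul, Algebra.ofId_apply, Algebra.algebraMap_eq_smul_one,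
      smul_mul_assoc, one_mul]
  have hΦinj : Function.Injective Φk := fun x y hxy => RingHom.injective Φk.toRingHom hxy
  have hdimAB : Module.finrank R A = Module.finrank R B := by
    have h1 : Module.finrank (ResidueField R) (ResidueField R ⊗[R] A) = Module.finrank R A :=
      Module.finrank_baseChange
    have h2 : Module.finrank (ResidueField R) (ResidueField R ⊗[R] B) = Module.finrank R B :=
      Module.finrank_baseChange
    rw [← h1, ← h2]
    exact e₀.toLinearEquiv.finrank_eq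
  have hdim : Module.finrank (ResidueField R) (ResidueField R ⊗[R] (A ⊗[R] Bᵐᵒᵖ)) =
      Module.finrank (ResidueField R)
        (Module.End (ResidueField R) (ResidueField R ⊗[R] B)) := by
    rw [Module.finrank_baseChange, Module.finrank_tensorProduct, Module.finrank_linearMap,
      Module.finrank_baseChange, hdimAB,
      (MulOpposite.opLinearEquiv R : B ≃ₗ[R] Bᵐᵒᵖ).finrank_eq]
  have hΦsurj : Function.Surjective Φk :=
    (LinearMap.injective_iff_surjective_of_finrank_eq_finrank hdim (f := Φk.toLinearMap)).1 hΦinj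
  -- the rank one projection
  have h1ne : (1 : ResidueField R ⊗[R] B) ≠ 0 := one_ne_zero
  obtain ⟨ℓ, hℓ⟩ := LinearMap.exists_leftInverse_of_injective
    (LinearMap.toSpanSingleton (ResidueField R) (ResidueField R ⊗[R] B) 1)
    (LinearMap.ker_toSpanSingleton (ResidueField R) h1ne)
  have hℓ1 : ℓ 1 = 1 := by
    have := LinearMap.congr_fun hℓ 1
    simpa using this
  obtain ⟨π, hπ⟩ : ∃ π : Module.End (ResidueField R) (ResidueField R ⊗[R] B),
      ∀ y, π y = ℓ y • (1 : ResidueField R ⊗[R] B) :=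
    ⟨(LinearMap.toSpanSingleton _ _ 1).comp ℓ, fun y => rfl⟩
  have hππ : π * π = π := by
    apply LinearMap.ext
    intro y
    rw [Module.End.mul_apply, hπ, hπ, map_smul, hℓ1, smul_eq_mul, mul_one]
  obtain ⟨ε₀, hε₀⟩ := hΦsurj π
  have hεidem : ε₀ * ε₀ = ε₀ := hΦinj (by rw [map_mul, hε₀, hππ])
  obtain ⟨x, hx⟩ := (TensorProduct.mk_surjective _ _ _ IsLocalRing.residue_surjective :
    Function.Surjective (TensorProduct.mk R (ResidueField R) (A ⊗[R] Bᵐᵒᵖ) 1)) ε₀
  have hx' : (1 : ResidueField R) ⊗ₜ[R] x = ε₀ := hx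
  have hxm : x * x - x ∈ maximalIdeal R • (⊤ : Submodule R (A ⊗[R] Bᵐᵒᵖ)) := by
    apply mem_smul_top_of_tmul_eq_zero
    have h : ((1 : ResidueField R) ⊗ₜ[R] x) * ((1 : ResidueField R) ⊗ₜ[R] x) =
        (1 : ResidueField R) ⊗ₜ[R] (x * x) := by
      rw [Algebra.TensorProduct.tmul_mul_tmul, one_mul]
    rw [TensorProduct.tmul_sub, ← h, hx', hεidem, sub_self]
  obtain ⟨e, he, hex⟩ := NCIdem.exists_idempotent R (A ⊗[R] Bᵐᵒᵖ) x hxm
  have heε : (1 : ResidueField R) ⊗ₜ[R] e = ε₀ := by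
    have h := tmul_eq_zero_of_mem_smul_top R (e - x) hex
    rw [TensorProduct.tmul_sub, sub_eq_zero] at h
    rw [h, hx']
  have hΦe : Φ e = π := by
    have h := hΦk 1 e
    rw [one_smul, heε, hε₀] at h
    exact h.symm
  obtain ⟨Γ, hΓ⟩ : ∃ Γ : B →ₗ[R] A ⊗[R] Bᵐᵒᵖ,
      ∀ b, Γ b = ((1 : A) ⊗ₜ[R] MulOpposite.op b) * e :=
    ⟨((LinearMap.mulRight R e).comp (TensorProduct.mk R A Bᵐᵒᵖ 1)).comp
      (MulOpposite.opLinearEquiv R).toLinearMap, fun b => rfl⟩
  have hΦΓ : ∀ b y, Φ (Γ b) y = ℓ y • ((1 : ResidueField R) ⊗ₜ[R] b) := by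
    intro b y
    rw [hΓ, map_mul, Module.End.mul_apply, hΦe, hπ, hΦ, ← Algebra.TensorProduct.one_def,
      map_one, one_mul, MulOpposite.unop_op, smul_mul_assoc, one_mul]
  have hΓinj : Function.Injective Γ := by
    have h1 : Function.Injective (Γ.lTensor (ResidueField R)) := by
      have hcomp : ∀ z : ResidueField R ⊗[R] B,
          Φk (Γ.lTensor (ResidueField R) z) 1 = z := by
        intro z
        induction z using TensorProduct.induction_on with
        | zero => rw [map_zero, map_zero, LinearMap.zero_apply]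
        | tmul c b =>
          rw [LinearMap.lTensor_tmul, hΦk, LinearMap.smul_apply, hΦΓ, hℓ1, one_smul,
            TensorProduct.smul_tmul', smul_eq_mul, mul_one]
        | add z w hz hw => rw [map_add, map_add, LinearMap.add_apply, hz, hw]
      intro z w hzw
      rw [← hcomp z, ← hcomp w, hzw]
    obtain ⟨l', hl'⟩ :=
      (IsLocalRing.split_injective_iff_lTensor_residueField_injective Γ).2 h1
    exact Function.LeftInverse.injective (g := l') (fun b => LinearMap.congr_fun hl' b)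
  have hF2 : ∀ d : A ⊗[R] Bᵐᵒᵖ, ∃ b : B,
      (1 : ResidueField R) ⊗ₜ[R] (d * e) = (1 : ResidueField R) ⊗ₜ[R] (Γ b) := by
    intro d
    obtain ⟨b, hb⟩ := (TensorProduct.mk_surjective _ _ _ IsLocalRing.residue_surjective :
      Function.Surjective (TensorProduct.mk R (ResidueField R) B 1)) (Φ d 1)
    have hb' : (1 : ResidueField R) ⊗ₜ[R] b = Φ d 1 := hb
    refine ⟨b, hΦinj ?_⟩
    rw [hΦk, hΦk, one_smul, one_smul]
    apply LinearMap.ext
    intro y
    rw [map_mul, Module.End.mul_apply, hΦe, hπ, map_smul, hΦΓ, hb']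
  have hrange : ∀ d : A ⊗[R] Bᵐᵒᵖ, ∃ b : B, Γ b = d * e := by
    have hle : LinearMap.range (LinearMap.mulRight R e) ≤ LinearMap.range Γ := by
      refine Submodule.le_of_le_smul_of_le_jacobson_bot (I := maximalIdeal R) ?_
        (IsLocalRing.maximalIdeal_le_jacobson _) ?_
      · rw [LinearMap.range_eq_map]
        exact Submodule.FG.map _ Module.Finite.fg_top
      · rintro _ ⟨d, rfl⟩
        obtain ⟨b, hb⟩ := hF2 d
        have hy : d * e - Γ b ∈ maximalIdeal R • (⊤ : Submodule R (A ⊗[R] Bᵐᵒᵖ)) := by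
          apply mem_smul_top_of_tmul_eq_zero
          rw [TensorProduct.tmul_sub, hb, sub_self]
        have hye : (d * e - Γ b) * e = d * e - Γ b := by
          rw [sub_mul, mul_assoc, he.eq, hΓ, mul_assoc, he.eq]
        have hmem : ∀ z ∈ maximalIdeal R • (⊤ : Submodule R (A ⊗[R] Bᵐᵒᵖ)),
            z * e ∈ maximalIdeal R • LinearMap.range (LinearMap.mulRight R e) := by
          intro z hz
          refine Submodule.smul_induction_on hz (fun r hr n _ => ?_) (fun a b ha hb => ?_)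
          · rw [smul_mul_assoc]
            exact Submodule.smul_mem_smul hr ⟨n, rfl⟩
          · rw [add_mul]
            exact Submodule.add_mem _ ha hb
        have h1 : (LinearMap.mulRight R e) d = Γ b + (d * e - Γ b) := by
          rw [LinearMap.mulRight_apply]
          abel
        rw [h1]
        refine Submodule.add_mem_sup ⟨b, rfl⟩ ?_
        rw [← hye]
        exact hmem _ hy
    intro d
    obtain ⟨b, hb⟩ := hle ⟨d, rfl⟩
    exact ⟨b, hb⟩
  have hexφ : ∀ a : A, ∃ b : B, Γ b = (a ⊗ₜ[R] (1 : Bᵐᵒᵖ)) * e := fun a => hrange _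
  choose φ hφ using hexφ
  have hone : φ 1 = 1 := by
    apply hΓinj
    rw [hφ, hΓ, MulOpposite.op_one]
  have hadd : ∀ a a', φ (a + a') = φ a + φ a' := by
    intro a a'
    apply hΓinj
    rw [map_add, hφ, hφ, hφ, TensorProduct.add_tmul, add_mul]
  have hsmul : ∀ (r : R) a, φ (r • a) = r • φ a := by
    intro r a
    apply hΓinj
    rw [map_smul, hφ, hφ, ← TensorProduct.smul_tmul', smul_mul_assoc]
  have hmul : ∀ a a', φ (a * a') = φ a * φ a' := by
    intro a a'
    apply hΓinj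
    have hc : ((1 : A) ⊗ₜ[R] MulOpposite.op (φ a')) * (a ⊗ₜ[R] (1 : Bᵐᵒᵖ)) =
        (a ⊗ₜ[R] (1 : Bᵐᵒᵖ)) * ((1 : A) ⊗ₜ[R] MulOpposite.op (φ a')) := by
      rw [Algebra.TensorProduct.tmul_mul_tmul, Algebra.TensorProduct.tmul_mul_tmul, one_mul,
        mul_one, one_mul, mul_one]
    calc Γ (φ (a * a')) = ((a * a') ⊗ₜ[R] (1 : Bᵐᵒᵖ)) * e := hφ _
      _ = (a ⊗ₜ[R] (1 : Bᵐᵒᵖ)) * ((a' ⊗ₜ[R] (1 : Bᵐᵒᵖ)) * e) := by
          rw [← mul_assoc, Algebra.TensorProduct.tmul_mul_tmul, one_mul]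
      _ = (a ⊗ₜ[R] (1 : Bᵐᵒᵖ)) * (((1 : A) ⊗ₜ[R] MulOpposite.op (φ a')) * e) := by
          rw [← hφ a', hΓ]
      _ = ((1 : A) ⊗ₜ[R] MulOpposite.op (φ a')) * ((a ⊗ₜ[R] (1 : Bᵐᵒᵖ)) * e) := by
          rw [← mul_assoc, ← hc, mul_assoc]
      _ = ((1 : A) ⊗ₜ[R] MulOpposite.op (φ a')) *
            (((1 : A) ⊗ₜ[R] MulOpposite.op (φ a)) * e) := by
          rw [← hφ a, hΓ]
      _ = Γ (φ a * φ a') := by
          rw [hΓ, ← mul_assoc, Algebra.TensorProduct.tmul_mul_tmul, one_mul, MulOpposite.op_mul]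
  obtain ⟨φa, hφa⟩ : ∃ φa : A →ₐ[R] B, ∀ a, φa a = φ a :=
    ⟨AlgHom.ofLinearMap { toFun := φ, map_add' := hadd, map_smul' := hsmul } hone hmul,
      fun a => rfl⟩
  have hrank : ∀ p : PrimeSpectrum R,
      Module.rankAtStalk (R := R) A p = Module.rankAtStalk (R := R) B p := by
    intro p
    rw [Module.rankAtStalk_eq_finrank_of_free, Module.rankAtStalk_eq_finrank_of_free, hdimAB]
  refine ⟨AlgEquiv.ofBijective φa (AzHom.bijective_of_azumaya φa hrank), fun a => ?_⟩
  rw [AlgEquiv.coe_ofBijective, hφa]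
  have h1 : Φ (Γ (φ a)) 1 = Φ ((a ⊗ₜ[R] (1 : Bᵐᵒᵖ)) * e) 1 := by rw [hφ]
  rw [hΦΓ, hℓ1, one_smul, map_mul, Module.End.mul_apply, hΦe, hπ, hℓ1, one_smul, hΦ,
    MulOpposite.unop_one, ← Algebra.TensorProduct.one_def, mul_one, mul_one] at h1
  exact h1.symm

end main

end Groth.Agent.Lib.Lead.HensAzIso
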