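/-
Lead library: the Lagrange idempotent attached to a simple root, and rank-one idempotents in
Azumaya algebras.

* `eps ξ P lam u`: for `P(ξ) = 0`, `P(lam) = 0`, `u = P'(lam)` a unit, the idempotent
  `P₁(ξ)/P₁(lam)` with `P = (X - lam) P₁`;
* `aeval_mul_eps`, `eps_idem`, `corner_eps`;
* `corner_surj`: for an idempotent `ε` with `ε B ε = L ε` in an Azumaya algebra, every
  endomorphism of `B ε` is a left multiplication;
* `finrank_range_mulRight`: over a field the left ideal `C ε` has dimension `r` if `dim C = r²`.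
-/
import Mathlib

set_option autoImplicit false
universe u v
open Polynomial

namespace Groth.Agent.Lib.Lead.Lagrange

section lagrange

variable {L : Type u} [CommRing L] {B : Type v} [Ring B] [Algebra L B]

/-- `P / (X - lam)`. -/
noncomputable def P1 (P : L[X]) (lam : L) : L[X] := P /ₘ (X - C lam)

theorem P_eq (P : L[X]) (lam : L) (hroot : P.IsRoot lam) : (X - C lam) * P1 P lam = P :=
  Polynomial.mul_divByMonic_eq_iff_isRoot.2 hroot

theorem eval_P1 (P : L[X]) (lam : L) (hroot : P.IsRoot lam) :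
    (P1 P lam).eval lam = P.derivative.eval lam := by
  have h := congrArg (fun q => (Polynomial.derivative q).eval lam) (P_eq P lam hroot)
  simp only [Polynomial.derivative_mul, Polynomial.derivative_sub, Polynomial.derivative_X,
    Polynomial.derivative_C, sub_zero, one_mul, Polynomial.eval_add, Polynomial.eval_mul,
    Polynomial.eval_sub, Polynomial.eval_X, Polynomial.eval_C, sub_self, zero_mul, add_zero] at h
  exact h

theorem monic_P1 (P : L[X]) (lam : L) (hP : P.Monic) (hroot : P.IsRoot lam) :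
    (P1 P lam).Monic := by
  have h := P_eq P lam hroot
  exact Polynomial.Monic.of_mul_monic_left (Polynomial.monic_X_sub_C lam) (by rw [h]; exact hP)

theorem natDegree_P1 [Nontrivial L] (P : L[X]) (lam : L) (hP : P.Monic) (hroot : P.IsRoot lam) :
    (P1 P lam).natDegree + 1 = P.natDegree := by
  have h := P_eq P lam hroot
  have h2 := (Polynomial.monic_X_sub_C lam).natDegree_mul (monic_P1 P lam hP hroot)
  rw [h, Polynomial.natDegree_X_sub_C] at h2
  omega

/-- Key identity: `g(ξ) P₁(ξ) = g(lam) P₁(ξ)`. -/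
theorem aeval_mul_aeval_P1 (ξ : B) (P : L[X]) (lam : L) (hroot : P.IsRoot lam)
    (hξ : Polynomial.aeval ξ P = 0) (g : L[X]) :
    Polynomial.aeval ξ g * Polynomial.aeval ξ (P1 P lam) =
      g.eval lam • Polynomial.aeval ξ (P1 P lam) := by
  have hr : (g - C (g.eval lam)).IsRoot lam := by
    rw [Polynomial.IsRoot, Polynomial.eval_sub, Polynomial.eval_C, sub_self]
  have h1 : (X - C lam) * ((g - C (g.eval lam)) /ₘ (X - C lam)) = g - C (g.eval lam) :=
    Polynomial.mul_divByMonic_eq_iff_isRoot.2 hr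
  have h2 : (g - C (g.eval lam)) * P1 P lam = ((g - C (g.eval lam)) /ₘ (X - C lam)) * P := by
    calc (g - C (g.eval lam)) * P1 P lam
        = ((X - C lam) * ((g - C (g.eval lam)) /ₘ (X - C lam))) * P1 P lam := by rw [h1]
      _ = ((g - C (g.eval lam)) /ₘ (X - C lam)) * ((X - C lam) * P1 P lam) := by ring
      _ = ((g - C (g.eval lam)) /ₘ (X - C lam)) * P := by rw [P_eq P lam hroot]
  have h3 := congrArg (Polynomial.aeval ξ) h2
  rw [map_mul, map_mul, hξ, mul_zero, map_sub, sub_mul, sub_eq_zero, Polynomial.aeval_C,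
    ← Algebra.smul_def] at h3
  exact h3

variable (ξ : B) (P : L[X]) (lam : L) (u : Lˣ)

/-- The Lagrange idempotent. -/
noncomputable def eps : B := ((u⁻¹ : Lˣ) : L) • Polynomial.aeval ξ (P1 P lam)

theorem eps_eq_aeval : eps ξ P lam u = Polynomial.aeval ξ (C ((u⁻¹ : Lˣ) : L) * P1 P lam) := by
  rw [eps, map_mul, Polynomial.aeval_C, Algebra.smul_def]

variable {ξ P lam u}

theorem aeval_mul_eps (hroot : P.IsRoot lam) (hξ : Polynomial.aeval ξ P = 0) (g : L[X]) :
    Polynomial.aeval ξ g * eps ξ P lam u = g.eval lam • eps ξ P lam u := by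
  rw [eps, mul_smul_comm, aeval_mul_aeval_P1 ξ P lam hroot hξ g, smul_comm]

theorem eps_mul_aeval (hroot : P.IsRoot lam) (hξ : Polynomial.aeval ξ P = 0) (g : L[X]) :
    eps ξ P lam u * Polynomial.aeval ξ g = g.eval lam • eps ξ P lam u := by
  rw [← aeval_mul_eps hroot hξ g, eps_eq_aeval, ← map_mul, ← map_mul, mul_comm]

theorem eps_idem (hroot : P.IsRoot lam) (hξ : Polynomial.aeval ξ P = 0)
    (hu : (u : L) = (P1 P lam).eval lam) :
    eps ξ P lam u * eps ξ P lam u = eps ξ P lam u := by
  show (((u⁻¹ : Lˣ) : L) • Polynomial.aeval ξ (P1 P lam)) * eps ξ P lam u = eps ξ P lam u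
  rw [smul_mul_assoc, aeval_mul_eps hroot hξ, ← hu, smul_smul, Units.inv_mul, one_smul]

theorem xi_mul_eps (hroot : P.IsRoot lam) (hξ : Polynomial.aeval ξ P = 0) :
    ξ * eps ξ P lam u = lam • eps ξ P lam u := by
  have h := aeval_mul_eps (u := u) hroot hξ (X : L[X])
  rwa [Polynomial.aeval_X, Polynomial.eval_X] at h

theorem eps_mul_xi (hroot : P.IsRoot lam) (hξ : Polynomial.aeval ξ P = 0) :
    eps ξ P lam u * ξ = lam • eps ξ P lam u := by
  have h := eps_mul_aeval (u := u) hroot hξ (X : L[X])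
  rwa [Polynomial.aeval_X, Polynomial.eval_X] at h

/-- The corner `ε B ε` consists of scalar multiples of `ε` if the centralizer of `ξ` consists of
polynomials in `ξ`. -/
theorem corner_eps (hroot : P.IsRoot lam) (hξ : Polynomial.aeval ξ P = 0)
    (hu : (u : L) = (P1 P lam).eval lam)
    (hcent : ∀ c : B, ξ * c = c * ξ → ∃ g : L[X], c = Polynomial.aeval ξ g) (b : B) :
    ∃ c : L, eps ξ P lam u * b * eps ξ P lam u = c • eps ξ P lam u := by
  have hcomm : ξ * (eps ξ P lam u * b * eps ξ P lam u) =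
      (eps ξ P lam u * b * eps ξ P lam u) * ξ := by
    rw [← mul_assoc, ← mul_assoc, xi_mul_eps hroot hξ, mul_assoc (eps ξ P lam u * b),
      eps_mul_xi hroot hξ, smul_mul_assoc, smul_mul_assoc, mul_smul_comm]
  obtain ⟨g, hg⟩ := hcent _ hcomm
  refine ⟨g.eval lam, ?_⟩
  have h1 : eps ξ P lam u * b * eps ξ P lam u =
      (eps ξ P lam u * b * eps ξ P lam u) * eps ξ P lam u := by
    rw [mul_assoc (eps ξ P lam u * b), eps_idem hroot hξ hu]
  rw [h1]
  conv_lhs => rw [hg]
  exact aeval_mul_eps hroot hξ g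

end lagrange

section corner

variable {L : Type u} [CommRing L] {B : Type v} [Ring B] [Algebra L B]

theorem corner_aux (ε : B) (hcorner : ∀ b : B, ∃ c : L, ε * b * ε = c • ε)
    (w : TensorProduct L B Bᵐᵒᵖ) :
    ∃ a : B, ∀ y : B, AlgHom.mulLeftRight L B w (y * ε) * ε = a * y * ε := by
  induction w using TensorProduct.induction_on with
  | zero => exact ⟨0, fun y => by simp⟩
  | tmul a' b' =>
    obtain ⟨c, hc⟩ := hcorner b'.unop
    refine ⟨c • a', fun y => ?_⟩
    have h1 : AlgHom.mulLeftRight L B (a' ⊗ₜ[L] b') (y * ε) = a' * (y * ε) * b'.unop := by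
      rw [AlgHom.mulLeftRight_apply]
    rw [h1]
    calc a' * (y * ε) * b'.unop * ε = a' * y * (ε * b'.unop * ε) := by simp only [mul_assoc]
      _ = a' * y * (c • ε) := by rw [hc]
      _ = c • a' * y * ε := by rw [mul_smul_comm, smul_mul_assoc, smul_mul_assoc]
  | add w₁ w₂ h₁ h₂ =>
    obtain ⟨a₁, ha₁⟩ := h₁
    obtain ⟨a₂, ha₂⟩ := h₂
    refine ⟨a₁ + a₂, fun y => ?_⟩
    rw [map_add, LinearMap.add_apply, add_mul, ha₁, ha₂, add_mul, add_mul]

/-- Every endomorphism of `B ε` is a left multiplication. -/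
theorem corner_surj (hbij : Function.Bijective (AlgHom.mulLeftRight L B)) (ε : B)
    (hcorner : ∀ b : B, ∃ c : L, ε * b * ε = c • ε) (T : B →ₗ[L] B)
    (h1 : ∀ y, T (y * ε) = T y) (h2 : ∀ y, T y * ε = T y) :
    ∃ a : B, ∀ y, T y = a * y * ε := by
  obtain ⟨w, hw⟩ := hbij.2 T
  obtain ⟨a, ha⟩ := corner_aux ε hcorner w
  refine ⟨a, fun y => ?_⟩
  rw [← ha y, hw, h1, h2]

end corner

section field

variable {K : Type u} [Field K] {C : Type v} [Ring C] [Algebra K C] [FiniteDimensional K C]
  [IsSimpleRing C]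

/-- A rank one idempotent of a split-type algebra of dimension `r²` generates a left ideal of
dimension `r`. -/
theorem finrank_range_mulRight (hbij : Function.Bijective (AlgHom.mulLeftRight K C)) (ε : C)
    (hε : ε * ε = ε) (hne : ε ≠ 0) (hcorner : ∀ b : C, ∃ c : K, ε * b * ε = c • ε) (r : ℕ)
    (hr : Module.finrank K C = r ^ 2) :
    Module.finrank K (LinearMap.range (LinearMap.mulRight K ε)) = r := by
  classical
  have hmem : ∀ a : C, ∀ m ∈ LinearMap.range (LinearMap.mulRight K ε),
      LinearMap.mulLeft K a m ∈ LinearMap.range (LinearMap.mulRight K ε) := by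
    rintro a _ ⟨y, rfl⟩
    exact ⟨a * y, by simp only [LinearMap.mulRight_apply, LinearMap.mulLeft_apply, mul_assoc]⟩
  let Ξ : C →ₗ[K] (LinearMap.range (LinearMap.mulRight K ε) →ₗ[K]
      LinearMap.range (LinearMap.mulRight K ε)) :=
    { toFun := fun a => (LinearMap.mulLeft K a).restrict (hmem a)
      map_add' := fun a b => by
        ext m
        simp only [LinearMap.restrict_coe_apply, LinearMap.mulLeft_apply, LinearMap.add_apply,
          Submodule.coe_add, add_mul]
      map_smul' := fun c a => by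
        ext m
        simp only [LinearMap.restrict_coe_apply, LinearMap.mulLeft_apply, LinearMap.smul_apply,
          Submodule.coe_smul, smul_mul_assoc, RingHom.id_apply] }
  have hΞ : ∀ (a : C) (m : LinearMap.range (LinearMap.mulRight K ε)),
      ((Ξ a m : LinearMap.range (LinearMap.mulRight K ε)) : C) = a * (m : C) := fun a m => rfl
  have hinj : Function.Injective Ξ := by
    rw [injective_iff_map_eq_zero]
    intro a ha
    by_contra hane
    let I : TwoSidedIdeal C := TwoSidedIdeal.mk' {a | ∀ c, a * c * ε = 0}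
      (by intro c; rw [zero_mul, zero_mul])
      (by
        intro a b ha hb c
        rw [add_mul, add_mul, ha c, hb c, add_zero])
      (by
        intro a ha c
        rw [neg_mul, neg_mul, ha c, neg_zero])
      (by
        intro x a ha c
        rw [mul_assoc, mul_assoc, ← mul_assoc a, ha c, mul_zero])
      (by
        intro a x ha c
        rw [mul_assoc a x c]
        exact ha (x * c))
    have haI : a ∈ I := (TwoSidedIdeal.mem_mk' _ _ _ _ _ _ _).2 (fun c => by
      have h := congrArg (fun f => ((f ⟨c * ε, ⟨c, rfl⟩⟩ :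
        LinearMap.range (LinearMap.mulRight K ε)) : C)) ha
      simp only [hΞ, LinearMap.zero_apply, ZeroMemClass.coe_zero] at h
      rw [mul_assoc]
      exact h)
    have h1 := IsSimpleRing.one_mem_of_ne_zero_mem I hane haI
    have h1' := (TwoSidedIdeal.mem_mk' _ _ _ _ _ _ _).1 h1 1
    rw [one_mul, one_mul] at h1'
    exact hne h1'
  have hsurj : Function.Surjective Ξ := by
    intro T'
    obtain ⟨T, hTdef⟩ : ∃ T : C →ₗ[K] C, T = (LinearMap.range (LinearMap.mulRight K ε)).subtype ∘ₗ
        T' ∘ₗ (LinearMap.mulRight K ε).rangeRestrict := ⟨_, rfl⟩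
    have hT : ∀ y, T y = ((T' ⟨y * ε, ⟨y, rfl⟩⟩ : LinearMap.range (LinearMap.mulRight K ε)) : C) := by
      intro y
      rw [hTdef]
      rfl
    have h1 : ∀ y, T (y * ε) = T y := by
      intro y
      rw [hT, hT]
      congr 2
      apply Subtype.ext
      show y * ε * ε = y * ε
      rw [mul_assoc, hε]
    have h2 : ∀ y, T y * ε = T y := by
      intro y
      rw [hT]
      obtain ⟨z, hz⟩ := (T' ⟨y * ε, ⟨y, rfl⟩⟩).2
      rw [← hz, LinearMap.mulRight_apply, mul_assoc, hε]
    obtain ⟨a, ha⟩ := corner_surj hbij ε hcorner T h1 h2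
    refine ⟨a, ?_⟩
    ext ⟨m, y, rfl⟩
    rw [hΞ]
    show a * (y * ε) = ((T' ⟨y * ε, ⟨y, rfl⟩⟩ : LinearMap.range (LinearMap.mulRight K ε)) : C)
    rw [← hT, ha, mul_assoc]
  have h3 := (LinearEquiv.ofBijective Ξ ⟨hinj, hsurj⟩).finrank_eq
  rw [hr, Module.finrank_linearMap, ← sq] at h3
  exact (Nat.pow_left_injective (by norm_num : 2 ≠ 0) h3).symm

end field

end Groth.Agent.Lib.Lead.Lagrange
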