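/-
Lead library: regular (separable, maximal-rank) elements of central simple and Azumaya algebras.

* `finrank_adjoin_eq_natDegree`: `dim k[x] = deg minpoly x`;
* `commutant_bound`: an endomorphism with `dim V` distinct eigenvalues has a small commutant;
* `finrank_centralizer_le`, `mem_span_of_commute`: in a central simple algebra of dimension `r²`,
  the centralizer of an element with separable minimal polynomial of degree `r` is `k[x]`;
* `local_centralizer`: lifting of this from the residue field to a local ring.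
-/
import Mathlib
import Groth.Agent.Lib.Lead.CSA
import Groth.Agent.Lib.Lead.Split

set_option autoImplicit false
universe u v w
open TensorProduct Polynomial

namespace Groth.Agent.Lib.Lead.RegularElt

theorem finrank_adjoin_eq_natDegree {k : Type u} [Field k] {B : Type v} [Ring B] [Nontrivial B]
    [Algebra k B] [FiniteDimensional k B] (x : B) :
    Module.finrank k (Algebra.adjoin k ({x} : Set B)) = (minpoly k x).natDegree := by
  have hint : IsIntegral k x := Algebra.IsIntegral.isIntegral x
  have hli := linearIndependent_pow (K := k) x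
  have hspan : Subalgebra.toSubmodule (Algebra.adjoin k ({x} : Set B)) =
      Submodule.span k (Set.range fun i : Fin (minpoly k x).natDegree => x ^ (i : ℕ)) := by
    apply le_antisymm
    · intro y hy
      rw [Subalgebra.mem_toSubmodule, Algebra.adjoin_singleton_eq_range_aeval,
        AlgHom.mem_range] at hy
      obtain ⟨q, rfl⟩ := hy
      have h1 : Polynomial.aeval x q = Polynomial.aeval x (q %ₘ minpoly k x) := by
        conv_lhs => rw [← Polynomial.modByMonic_add_div q (minpoly k x)]
        rw [map_add, map_mul, minpoly.aeval, zero_mul, add_zero]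
      have hdeg : (q %ₘ minpoly k x).natDegree < (minpoly k x).natDegree :=
        Polynomial.natDegree_modByMonic_lt q (minpoly.monic hint) (minpoly.ne_one k x)
      rw [h1, Polynomial.aeval_eq_sum_range' hdeg]
      refine Submodule.sum_mem _ fun i hi => Submodule.smul_mem _ _ (Submodule.subset_span ?_)
      exact ⟨⟨i, Finset.mem_range.1 hi⟩, rfl⟩
    · rw [Submodule.span_le]
      rintro _ ⟨i, rfl⟩
      exact Subalgebra.pow_mem _ (Algebra.subset_adjoin (Set.mem_singleton x)) _
  rw [← Subalgebra.finrank_toSubmodule, hspan, finrank_span_eq_card hli, Fintype.card_fin]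

theorem commutant_bound {K : Type u} [Field K] {V : Type v} [AddCommGroup V] [Module K V]
    [FiniteDimensional K V] (y : Module.End K V) (r : ℕ) [NeZero r]
    (hV : Module.finrank K V = r)
    (μ : Fin r → K) (hμ : Function.Injective μ) (hev : ∀ i, y.HasEigenvalue (μ i)) :
    ∃ F : Module.End K V →ₗ[K] (Fin r → K),
      ∀ Z : Module.End K V, Z * y = y * Z → F Z = 0 → Z = 0 := by
  classical
  haveI : Nonempty (Fin r) := ⟨0⟩
  choose v hv using fun i => (hev i).exists_hasEigenvector
  have hli : LinearIndependent K v := Module.End.eigenvectors_linearIndependent' y μ hμ v hv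
  obtain ⟨b, hb⟩ : ∃ b : Module.Basis (Fin r) K V, ∀ i, b i = v i :=
    ⟨basisOfLinearIndependentOfCardEqFinrank hli (by rw [Fintype.card_fin, hV]), fun i => by
      rw [coe_basisOfLinearIndependentOfCardEqFinrank]⟩
  let F : Module.End K V →ₗ[K] (Fin r → K) :=
    LinearMap.pi (fun i => (b.coord i) ∘ₗ (LinearMap.applyₗ (v i)))
  have hFdef : ∀ Z i, F Z i = b.repr (Z (v i)) i := fun Z i => rfl
  refine ⟨F, fun Z hZ hFZ => ?_⟩
  apply b.ext
  intro i
  rw [LinearMap.zero_apply, hb]
  have h1 : y (Z (v i)) = μ i • Z (v i) := by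
    have h := LinearMap.congr_fun hZ (v i)
    rw [Module.End.mul_apply, Module.End.mul_apply, (hv i).apply_eq_smul, map_smul] at h
    exact h.symm
  have hy : ∀ w : V, y w = ∑ l, (b.repr w l * μ l) • b l := by
    intro w
    conv_lhs => rw [← b.sum_repr w]
    rw [map_sum]
    refine Finset.sum_congr rfl fun l _ => ?_
    rw [map_smul, hb, (hv l).apply_eq_smul, smul_smul]
  apply b.ext_elem
  intro j
  rw [map_zero, Finsupp.zero_apply]
  by_cases hj : j = i
  · rw [hj, ← hFdef, hFZ, Pi.zero_apply]
  · have h3 : b.repr (y (Z (v i))) j = b.repr (Z (v i)) j * μ j := by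
      rw [hy (Z (v i))]
      exact congrFun (b.repr_sum_self _) j
    rw [h1, map_smul, Finsupp.smul_apply, smul_eq_mul] at h3
    have h4 : (μ i - μ j) * b.repr (Z (v i)) j = 0 := by rw [sub_mul, h3]; ring
    rcases mul_eq_zero.1 h4 with h5 | h5
    · exact absurd (hμ (sub_eq_zero.1 h5)).symm hj
    · exact h5

theorem finrank_centralizer_le_aux {k : Type u} [Field k] {B : Type v} [Ring B] [Algebra k B]
    [FiniteDimensional k B] (K : Type w) [Field K] [Algebra k K] [IsAlgClosed K] (n : ℕ)
    [NeZero n] (e : K ⊗[k] B ≃ₐ[K] Module.End K (Fin n → K)) (x : B)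
    (hsep : (minpoly k x).Separable) (hdeg : (minpoly k x).natDegree = n) :
    Module.finrank k (LinearMap.ker (LinearMap.mulLeft k x - LinearMap.mulRight k x)) ≤ n := by
  classical
  have hint : IsIntegral k x := Algebra.IsIntegral.isIntegral x
  have hx1 : LinearIndependent k (fun i : Fin n => x ^ (i : ℕ)) :=
    hdeg ▸ linearIndependent_pow (K := k) x
  have hpow : LinearIndependent K (fun i : Fin n => (e (1 ⊗ₜ x)) ^ (i : ℕ)) := by
    have h2 := Module.Flat.linearIndependent_one_tmul (S := K) hx1
    have h3 := h2.map' e.toLinearMap (LinearMap.ker_eq_bot.2 e.injective)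
    convert h3 using 1
    all_goals first
      | (funext i
         rw [Function.comp_apply, AlgEquiv.toLinearMap_apply, ← map_pow,
           Algebra.TensorProduct.tmul_pow, one_pow])
      | rfl
  have hroot : Polynomial.aeval (e (1 ⊗ₜ x)) ((minpoly k x).map (algebraMap k K)) = 0 := by
    have h1 : Polynomial.aeval ((1 : K) ⊗ₜ[k] x) ((minpoly k x).map (algebraMap k K)) = 0 := by
      rw [Polynomial.aeval_map_algebraMap]
      have h2 := Polynomial.aeval_algHom_apply
        (Algebra.TensorProduct.includeRight : B →ₐ[k] K ⊗[k] B) x (minpoly k x)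
      rw [Algebra.TensorProduct.includeRight_apply] at h2
      rw [h2, minpoly.aeval, map_zero]
    have h3 := Polynomial.aeval_algHom_apply (e : K ⊗[k] B →ₐ[K] Module.End K (Fin n → K))
      ((1 : K) ⊗ₜ[k] x) ((minpoly k x).map (algebraMap k K))
    rw [h1, map_zero] at h3
    exact h3
  have hy_int : IsIntegral K (e (1 ⊗ₜ x)) := Algebra.IsIntegral.isIntegral _
  have hmonic : ((minpoly k x).map (algebraMap k K)).Monic := (minpoly.monic hint).map _
  have hdegK : ((minpoly k x).map (algebraMap k K)).natDegree = n := by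
    rw [Polynomial.natDegree_map, hdeg]
  have hge : n ≤ (minpoly K (e (1 ⊗ₜ x))).natDegree := by
    by_contra hlt
    rw [not_le] at hlt
    have hsum : ∑ i : Fin n, (minpoly K (e (1 ⊗ₜ x))).coeff i • (e (1 ⊗ₜ x)) ^ (i : ℕ) = 0 := by
      rw [Fin.sum_univ_eq_sum_range
        (fun i => (minpoly K (e (1 ⊗ₜ x))).coeff i • (e (1 ⊗ₜ x)) ^ i) n,
        ← Polynomial.aeval_eq_sum_range' hlt, minpoly.aeval]
    have h0 : (minpoly K (e (1 ⊗ₜ x))).coeff (minpoly K (e (1 ⊗ₜ x))).natDegree = 0 :=
      Fintype.linearIndependent_iff.1 hpow (fun i => (minpoly K (e (1 ⊗ₜ x))).coeff i) hsum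
        ⟨_, hlt⟩
    rw [(minpoly.monic hy_int).coeff_natDegree] at h0
    exact one_ne_zero h0
  have hmin : (minpoly k x).map (algebraMap k K) = minpoly K (e (1 ⊗ₜ x)) :=
    Polynomial.eq_of_monic_of_dvd_of_natDegree_le (minpoly.monic hy_int) hmonic
      (minpoly.dvd K _ hroot) (by rw [hdegK]; exact hge)
  have hsepK : ((minpoly k x).map (algebraMap k K)).Separable := hsep.map
  have hnodup := Polynomial.nodup_roots hsepK
  have hcard : ((minpoly k x).map (algebraMap k K)).roots.toFinset.card = n := by
    rw [Multiset.toFinset_card_of_nodup hnodup,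
      ← (IsAlgClosed.splits ((minpoly k x).map (algebraMap k K))).natDegree_eq_card_roots, hdegK]
  obtain ⟨eq⟩ : Nonempty (((minpoly k x).map (algebraMap k K)).roots.toFinset ≃ Fin n) :=
    ⟨Finset.equivFinOfCardEq hcard⟩
  have hev : ∀ i : Fin n, (e (1 ⊗ₜ x)).HasEigenvalue ((eq.symm i : K)) := by
    intro i
    apply Module.End.hasEigenvalue_of_isRoot
    rw [← hmin]
    have h := (eq.symm i).2
    rw [Multiset.mem_toFinset] at h
    exact Polynomial.isRoot_of_mem_roots h
  have hinjμ : Function.Injective (fun i : Fin n => ((eq.symm i : K))) :=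
    fun i j h => eq.symm.injective (Subtype.ext h)
  obtain ⟨F, hF⟩ := commutant_bound (e (1 ⊗ₜ x)) n (Module.finrank_fin_fun K) _ hinjμ hev
  have hιinj : Function.Injective
      ((LinearMap.ker (LinearMap.mulLeft k x - LinearMap.mulRight k x)).subtype.baseChange K) :=
    Module.Flat.lTensor_preserves_injective_linearMap (M := K)
      (LinearMap.ker (LinearMap.mulLeft k x - LinearMap.mulRight k x)).subtype
      (Submodule.injective_subtype _)
  have hcomm : ∀ z : K ⊗[k] (LinearMap.ker (LinearMap.mulLeft k x - LinearMap.mulRight k x)),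
      ((LinearMap.ker (LinearMap.mulLeft k x - LinearMap.mulRight k x)).subtype.baseChange K z) *
        (1 ⊗ₜ x) = (1 ⊗ₜ x) *
      ((LinearMap.ker (LinearMap.mulLeft k x - LinearMap.mulRight k x)).subtype.baseChange K z) := by
    intro z
    induction z using TensorProduct.induction_on with
    | zero => rw [map_zero, zero_mul, mul_zero]
    | tmul a c =>
      rw [LinearMap.baseChange_tmul, Algebra.TensorProduct.tmul_mul_tmul,
        Algebra.TensorProduct.tmul_mul_tmul, mul_one, one_mul]
      congr 1
      have hc := c.2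
      rw [LinearMap.mem_ker, LinearMap.sub_apply, LinearMap.mulLeft_apply,
        LinearMap.mulRight_apply, sub_eq_zero] at hc
      exact hc.symm
    | add z w hz hw => rw [map_add, add_mul, mul_add, hz, hw]
  have hGinj : Function.Injective (F ∘ₗ e.toLinearMap ∘ₗ
      ((LinearMap.ker (LinearMap.mulLeft k x - LinearMap.mulRight k x)).subtype.baseChange K)) := by
    rw [injective_iff_map_eq_zero]
    intro z hz
    apply hιinj
    rw [map_zero]
    apply e.injective
    rw [map_zero]
    refine hF _ ?_ hz
    rw [← map_mul, ← map_mul, hcomm]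
  calc Module.finrank k (LinearMap.ker (LinearMap.mulLeft k x - LinearMap.mulRight k x))
      = Module.finrank K
          (K ⊗[k] (LinearMap.ker (LinearMap.mulLeft k x - LinearMap.mulRight k x))) :=
        (Module.finrank_baseChange).symm
    _ ≤ Module.finrank K (Fin n → K) := LinearMap.finrank_le_finrank_of_injective hGinj
    _ = n := Module.finrank_fin_fun K

theorem finrank_centralizer_le {k : Type u} [Field k] {B : Type v} [Ring B] [Algebra k B]
    [Algebra.IsCentral k B] [IsSimpleRing B] [FiniteDimensional k B] (r : ℕ)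
    (hB : Module.finrank k B = r ^ 2) (x : B) (hsep : (minpoly k x).Separable)
    (hdeg : (minpoly k x).natDegree = r) :
    Module.finrank k (LinearMap.ker (LinearMap.mulLeft k x - LinearMap.mulRight k x)) ≤ r := by
  haveI : IsSimpleRing (AlgebraicClosure k ⊗[k] B) := CSA.isSimpleRing_tensor
  obtain ⟨n, hn, ⟨e⟩⟩ := IsSimpleRing.exists_algEquiv_matrix_of_isAlgClosed (AlgebraicClosure k)
    (AlgebraicClosure k ⊗[k] B)
  have hnr : n = r := by
    have h1 := Split.finrank_of_splits_equiv e
    rw [hB] at h1
    exact (Nat.pow_left_injective (by norm_num : 2 ≠ 0) h1).symm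
  subst hnr
  exact finrank_centralizer_le_aux (AlgebraicClosure k) n (e.trans Matrix.toLinAlgEquiv') x hsep
    hdeg

theorem mem_span_of_commute {k : Type u} [Field k] {B : Type v} [Ring B] [Algebra k B]
    [Algebra.IsCentral k B] [IsSimpleRing B] [FiniteDimensional k B] (r : ℕ)
    (hB : Module.finrank k B = r ^ 2) (x : B) (hsep : (minpoly k x).Separable)
    (hdeg : (minpoly k x).natDegree = r) (c : B) (hc : x * c = c * x) :
    c ∈ Submodule.span k (Set.range fun i : Fin r => x ^ (i : ℕ)) := by
  have hx1 : LinearIndependent k (fun i : Fin r => x ^ (i : ℕ)) :=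
    hdeg ▸ linearIndependent_pow (K := k) x
  have hle : Submodule.span k (Set.range fun i : Fin r => x ^ (i : ℕ)) ≤
      LinearMap.ker (LinearMap.mulLeft k x - LinearMap.mulRight k x) := by
    rw [Submodule.span_le]
    rintro _ ⟨i, rfl⟩
    rw [SetLike.mem_coe, LinearMap.mem_ker, LinearMap.sub_apply, LinearMap.mulLeft_apply,
      LinearMap.mulRight_apply, sub_eq_zero, ← pow_succ', ← pow_succ]
  have hfr : Module.finrank k (LinearMap.ker (LinearMap.mulLeft k x - LinearMap.mulRight k x)) ≤
      Module.finrank k (Submodule.span k (Set.range fun i : Fin r => x ^ (i : ℕ))) := by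
    rw [finrank_span_eq_card hx1, Fintype.card_fin]
    exact finrank_centralizer_le r hB x hsep hdeg
  have heq := Submodule.eq_of_le_of_finrank_le hle hfr
  rw [heq, LinearMap.mem_ker, LinearMap.sub_apply, LinearMap.mulLeft_apply,
    LinearMap.mulRight_apply, hc, sub_self]

section loc

variable (R : Type u) [CommRing R] [IsLocalRing R] (A : Type v) [Ring A] [Algebra R A]

theorem tmul_linearCombination (r : ℕ) (ξ : A) (c : Fin r → R) :
    ((1 : IsLocalRing.ResidueField R) ⊗ₜ[R]
      (Fintype.linearCombination R (fun i : Fin r => ξ ^ (i : ℕ)) c) :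
        IsLocalRing.ResidueField R ⊗[R] A) =
      ∑ i, algebraMap R (IsLocalRing.ResidueField R) (c i) •
        ((1 : IsLocalRing.ResidueField R) ⊗ₜ[R] ξ) ^ (i : ℕ) := by
  rw [Fintype.linearCombination_apply, TensorProduct.tmul_sum]
  refine Finset.sum_congr rfl fun i _ => ?_
  rw [Algebra.TensorProduct.tmul_pow, one_pow, TensorProduct.tmul_smul, algebraMap_smul]

theorem local_centralizer [Module.Finite R A] [Module.Free R A] (r : ℕ) (ξ : A)
    (hlin : LinearIndependent (IsLocalRing.ResidueField R)
      (fun i : Fin r => ((1 : IsLocalRing.ResidueField R) ⊗ₜ[R] ξ :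
        IsLocalRing.ResidueField R ⊗[R] A) ^ (i : ℕ)))
    (hcent : ∀ c : IsLocalRing.ResidueField R ⊗[R] A,
      ((1 : IsLocalRing.ResidueField R) ⊗ₜ[R] ξ) * c =
        c * ((1 : IsLocalRing.ResidueField R) ⊗ₜ[R] ξ) →
      c ∈ Submodule.span (IsLocalRing.ResidueField R)
        (Set.range fun i : Fin r => ((1 : IsLocalRing.ResidueField R) ⊗ₜ[R] ξ :
          IsLocalRing.ResidueField R ⊗[R] A) ^ (i : ℕ))) :
    LinearIndependent R (fun i : Fin r => ξ ^ (i : ℕ)) ∧
      ∀ c : A, ξ * c = c * ξ →
        c ∈ Submodule.span R (Set.range fun i : Fin r => ξ ^ (i : ℕ)) := by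
  classical
  obtain ⟨φ, hφdef⟩ : ∃ φ : (Fin r → R) →ₗ[R] A,
      φ = Fintype.linearCombination R (fun i : Fin r => ξ ^ (i : ℕ)) := ⟨_, rfl⟩
  have hzero : ∀ c : Fin r → R, (∀ i, algebraMap R (IsLocalRing.ResidueField R) (c i) = 0) →
      ((1 : IsLocalRing.ResidueField R) ⊗ₜ[R] c :
        IsLocalRing.ResidueField R ⊗[R] (Fin r → R)) = 0 := by
    intro c hc
    have h1 : c = ∑ i, c i • (Pi.single i (1 : R) : Fin r → R) := by
      ext j
      simp [Finset.sum_apply, Pi.single_apply]
    rw [h1, TensorProduct.tmul_sum]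
    refine Finset.sum_eq_zero fun i _ => ?_
    rw [TensorProduct.tmul_smul, ← algebraMap_smul (IsLocalRing.ResidueField R) (c i), hc i,
      zero_smul]
  have hφinj : Function.Injective (LinearMap.lTensor (IsLocalRing.ResidueField R) φ) := by
    rw [injective_iff_map_eq_zero]
    intro z hz
    obtain ⟨c, rfl⟩ := TensorProduct.mk_surjective R (Fin r → R) (IsLocalRing.ResidueField R)
      IsLocalRing.residue_surjective z
    rw [TensorProduct.mk_apply, LinearMap.lTensor_tmul, hφdef, tmul_linearCombination] at hz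
    rw [TensorProduct.mk_apply]
    exact hzero c (Fintype.linearIndependent_iff.1 hlin
      (fun i => algebraMap R (IsLocalRing.ResidueField R) (c i)) hz)
  obtain ⟨ρ, hρ⟩ :=
    (IsLocalRing.split_injective_iff_lTensor_residueField_injective φ).2 hφinj
  have hρ' : ∀ c, ρ (φ c) = c := fun c => LinearMap.congr_fun hρ c
  have hLI : LinearIndependent R (fun i : Fin r => ξ ^ (i : ℕ)) := by
    rw [linearIndependent_iff_injective_fintypeLinearCombination, ← hφdef]
    exact Function.LeftInverse.injective hρ'
  refine ⟨hLI, ?_⟩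
  obtain ⟨Θ, hΘ⟩ : ∃ Θ : A →ₗ[R] (Fin r → R) × A, ∀ a, Θ a = (ρ a, ξ * a - a * ξ) :=
    ⟨ρ.prod (LinearMap.mulLeft R ξ - LinearMap.mulRight R ξ), fun a => rfl⟩
  have hΘinj : Function.Injective (LinearMap.lTensor (IsLocalRing.ResidueField R) Θ) := by
    rw [injective_iff_map_eq_zero]
    intro z hz
    obtain ⟨a, rfl⟩ := TensorProduct.mk_surjective R A (IsLocalRing.ResidueField R)
      IsLocalRing.residue_surjective z
    rw [TensorProduct.mk_apply] at hz ⊢
    rw [LinearMap.lTensor_tmul, hΘ] at hz
    have h1 := congrArg (LinearMap.lTensor (IsLocalRing.ResidueField R)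
      (LinearMap.fst R (Fin r → R) A)) hz
    have h2 := congrArg (LinearMap.lTensor (IsLocalRing.ResidueField R)
      (LinearMap.snd R (Fin r → R) A)) hz
    rw [LinearMap.lTensor_tmul, map_zero, LinearMap.fst_apply] at h1
    rw [LinearMap.lTensor_tmul, map_zero, LinearMap.snd_apply] at h2
    have h3 : ((1 : IsLocalRing.ResidueField R) ⊗ₜ[R] ξ) *
        ((1 : IsLocalRing.ResidueField R) ⊗ₜ[R] a) =
        ((1 : IsLocalRing.ResidueField R) ⊗ₜ[R] a) *
          ((1 : IsLocalRing.ResidueField R) ⊗ₜ[R] ξ) := by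
      rw [← sub_eq_zero, Algebra.TensorProduct.tmul_mul_tmul, Algebra.TensorProduct.tmul_mul_tmul,
        ← TensorProduct.tmul_sub, mul_one, h2]
    obtain ⟨g, hg⟩ := (Submodule.mem_span_range_iff_exists_fun
      (IsLocalRing.ResidueField R)).1 (hcent _ h3)
    choose c hc using fun i => IsLocalRing.residue_surjective (g i)
    have h4 : ((1 : IsLocalRing.ResidueField R) ⊗ₜ[R] a : IsLocalRing.ResidueField R ⊗[R] A) =
        (1 : IsLocalRing.ResidueField R) ⊗ₜ[R] φ c := by
      rw [hφdef, tmul_linearCombination, ← hg]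
      refine Finset.sum_congr rfl fun i _ => ?_
      rw [← hc i]
      rfl
    have h5 := congrArg (LinearMap.lTensor (IsLocalRing.ResidueField R) ρ) h4
    rw [LinearMap.lTensor_tmul, LinearMap.lTensor_tmul, h1, hρ'] at h5
    have h6 := congrArg (LinearMap.lTensor (IsLocalRing.ResidueField R) φ) h5
    rw [map_zero, LinearMap.lTensor_tmul] at h6
    rw [h4, ← h6]
  obtain ⟨Θ', hΘ'⟩ :=
    (IsLocalRing.split_injective_iff_lTensor_residueField_injective Θ).2 hΘinj
  have hΘi : Function.Injective Θ :=
    Function.LeftInverse.injective (fun a => LinearMap.congr_fun hΘ' a)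
  intro c hc
  have hcomm : ∀ d : Fin r → R, ξ * φ d = φ d * ξ := by
    intro d
    rw [hφdef, Fintype.linearCombination_apply, Finset.mul_sum, Finset.sum_mul]
    refine Finset.sum_congr rfl fun i _ => ?_
    rw [mul_smul_comm, smul_mul_assoc, ← pow_succ', ← pow_succ]
  have hcφ : c = φ (ρ c) := by
    apply hΘi
    rw [hΘ, hΘ, hρ', hc, sub_self, hcomm, sub_self]
  rw [hcφ, hφdef, Fintype.linearCombination_apply]
  exact Submodule.sum_mem _ fun i _ => Submodule.smul_mem _ _ (Submodule.subset_span ⟨i, rfl⟩)

end loc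

end Groth.Agent.Lib.Lead.RegularElt
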