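/-
Lead library: existence of regular elements (separable minimal polynomial of maximal degree) in a
central simple algebra, and minimal polynomials under base change.
-/
import Mathlib
import Groth.Agent.Lib.Lead.CSA
import Groth.Agent.Lib.Lead.Split
import Groth.Agent.Lib.Lead.RedNorm5
import Groth.Agent.Lib.Lead.RegularElt

set_option autoImplicit false
universe u v w w'
open TensorProduct Polynomial

namespace Groth.Agent.Lib.Lead.RegularExists

/-- The minimal polynomial is compatible with base field extension. -/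
theorem minpoly_map_eq {k : Type u} [Field k] {B : Type v} [Ring B] [Algebra k B]
    [FiniteDimensional k B] (K : Type w) [Field K] [Algebra k K] {E : Type w'} [Ring E]
    [Algebra K E] (e : K ⊗[k] B →ₐ[K] E) (he : Function.Injective e) (x : B) :
    (minpoly k x).map (algebraMap k K) = minpoly K (e (1 ⊗ₜ x)) := by
  classical
  have hint : IsIntegral k x := Algebra.IsIntegral.isIntegral x
  have hx1 := linearIndependent_pow (K := k) x
  have hpow : LinearIndependent K
      (fun i : Fin (minpoly k x).natDegree => (e (1 ⊗ₜ x)) ^ (i : ℕ)) := by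
    have h2 := Module.Flat.linearIndependent_one_tmul (S := K) hx1
    have h3 := h2.map' e.toLinearMap (LinearMap.ker_eq_bot.2 he)
    convert h3 using 1
    all_goals first
      | (funext i
         rw [Function.comp_apply, AlgHom.toLinearMap_apply, ← map_pow,
           Algebra.TensorProduct.tmul_pow, one_pow])
      | rfl
  have hroot : Polynomial.aeval (e (1 ⊗ₜ x)) ((minpoly k x).map (algebraMap k K)) = 0 := by
    have h1 : Polynomial.aeval ((1 : K) ⊗ₜ[k] x) ((minpoly k x).map (algebraMap k K)) = 0 := by
      rw [Polynomial.aeval_map_algebraMap]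
      have h2 := Polynomial.aeval_algHom_apply
        (Algebra.TensorProduct.includeRight : B →ₐ[k] K ⊗[k] B) x (minpoly k x)
      rw [Algebra.TensorProduct.includeRight_apply] at h2
      rw [h2, minpoly.aeval, map_zero]
    have h3 := Polynomial.aeval_algHom_apply e
      ((1 : K) ⊗ₜ[k] x) ((minpoly k x).map (algebraMap k K))
    rw [h1, map_zero] at h3
    exact h3
  have hmonic : ((minpoly k x).map (algebraMap k K)).Monic := (minpoly.monic hint).map _
  have hy_int : IsIntegral K (e (1 ⊗ₜ x)) := ⟨_, hmonic, by
    rw [← Polynomial.aeval_def]; exact hroot⟩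
  have hdegK : ((minpoly k x).map (algebraMap k K)).natDegree = (minpoly k x).natDegree :=
    Polynomial.natDegree_map _
  have hge : (minpoly k x).natDegree ≤ (minpoly K (e (1 ⊗ₜ x))).natDegree := by
    by_contra hlt
    rw [not_le] at hlt
    have hsum : ∑ i : Fin (minpoly k x).natDegree,
        (minpoly K (e (1 ⊗ₜ x))).coeff i • (e (1 ⊗ₜ x)) ^ (i : ℕ) = 0 := by
      rw [Fin.sum_univ_eq_sum_range
        (fun i => (minpoly K (e (1 ⊗ₜ x))).coeff i • (e (1 ⊗ₜ x)) ^ i) (minpoly k x).natDegree,
        ← Polynomial.aeval_eq_sum_range' hlt, minpoly.aeval]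
    have h0 : (minpoly K (e (1 ⊗ₜ x))).coeff (minpoly K (e (1 ⊗ₜ x))).natDegree = 0 :=
      Fintype.linearIndependent_iff.1 hpow (fun i => (minpoly K (e (1 ⊗ₜ x))).coeff i) hsum
        ⟨_, hlt⟩
    rw [(minpoly.monic hy_int).coeff_natDegree] at h0
    exact one_ne_zero h0
  exact Polynomial.eq_of_monic_of_dvd_of_natDegree_le (minpoly.monic hy_int) hmonic
    (minpoly.dvd K _ hroot) (by rw [hdegK]; exact hge)

/-- Separability of the characteristic polynomial is generic: coefficients can be moved into an
infinite subfield. -/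
theorem exists_sep_of_coeffs {k : Type u} [Field k] [Infinite k] {L : Type w} [Field L]
    [Algebra k L] {m N : ℕ} (M : Fin N → Matrix (Fin m) (Fin m) L) (c : Fin N → L)
    (h : (∑ i, c i • M i).charpoly.Separable) :
    ∃ t : Fin N → k, (∑ i, algebraMap k L (t i) • M i).charpoly.Separable := by
  classical
  have key : ∀ j : ℕ, j ≤ N → ∃ c' : Fin N → L,
      (∀ i : Fin N, (i : ℕ) < j → ∃ t : k, c' i = algebraMap k L t) ∧
        (∑ i, c' i • M i).charpoly.Separable := by
    intro j
    induction j with
    | zero => intro _; exact ⟨c, fun i hi => absurd hi (Nat.not_lt_zero _), h⟩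
    | succ j ih =>
      intro hj
      obtain ⟨c', hc', hsep⟩ := ih (Nat.le_of_succ_le hj)
      have hsplit : ∀ d : Fin N → L, ∑ i, d i • M i =
          (∑ i ∈ Finset.univ.erase (⟨j, hj⟩ : Fin N), d i • M i) +
            d ⟨j, hj⟩ • M ⟨j, hj⟩ := by
        intro d
        rw [Finset.sum_erase_add _ _ (Finset.mem_univ _)]
      obtain ⟨r, hr, hr'⟩ := RedNorm.exists_poly_of_separable
        (∑ i ∈ Finset.univ.erase (⟨j, hj⟩ : Fin N), c' i • M i) (M ⟨j, hj⟩) (c' ⟨j, hj⟩)
        (by rw [← hsplit]; exact hsep)
      obtain ⟨t, -, ht⟩ := RedNorm.exists_good (k := k) r hr ∅ Set.finite_empty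
      refine ⟨Function.update c' ⟨j, hj⟩ (algebraMap k L t), ?_, ?_⟩
      · intro i hi
        by_cases hij : i = ⟨j, hj⟩
        · exact ⟨t, by rw [hij, Function.update_self]⟩
        · rw [Function.update_of_ne hij]
          apply hc'
          have hne : (i : ℕ) ≠ j := fun h => hij (Fin.ext h)
          omega
      · rw [hsplit, Function.update_self]
        have hsame : ∑ i ∈ Finset.univ.erase (⟨j, hj⟩ : Fin N),
            Function.update c' ⟨j, hj⟩ (algebraMap k L t) i • M i =
            ∑ i ∈ Finset.univ.erase (⟨j, hj⟩ : Fin N), c' i • M i := by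
          refine Finset.sum_congr rfl fun i hi => ?_
          rw [Function.update_of_ne (Finset.ne_of_mem_erase hi)]
        rw [hsame]
        exact hr' _ ht
  obtain ⟨c', hc', hsep⟩ := key N le_rfl
  choose t ht using fun i : Fin N => hc' i i.2
  refine ⟨t, ?_⟩
  have hsum : ∑ i, algebraMap k L (t i) • M i = ∑ i, c' i • M i :=
    Finset.sum_congr rfl fun i _ => by rw [ht i]
  rw [hsum]
  exact hsep

section csa

variable {k : Type u} [Field k] {B : Type v} [Ring B] [Algebra k B] [Algebra.IsCentral k B]
  [IsSimpleRing B] [FiniteDimensional k B]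

theorem exists_regular_infinite [Infinite k] (r : ℕ) (hB : Module.finrank k B = r ^ 2) :
    ∃ x : B, (minpoly k x).Separable ∧ (minpoly k x).natDegree = r := by
  classical
  haveI : IsSimpleRing (AlgebraicClosure k ⊗[k] B) := CSA.isSimpleRing_tensor
  obtain ⟨n, hn, ⟨e⟩⟩ := IsSimpleRing.exists_algEquiv_matrix_of_isAlgClosed (AlgebraicClosure k)
    (AlgebraicClosure k ⊗[k] B)
  have hnr : n = r := by
    have h1 := Split.finrank_of_splits_equiv e
    rw [hB] at h1
    exact (Nat.pow_left_injective (by norm_num : 2 ≠ 0) h1).symm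
  subst hnr
  have hd : Function.Injective
      (fun i : Fin n => algebraMap k (AlgebraicClosure k) (Infinite.natEmbedding k (i : ℕ))) :=
    fun i j hij => Fin.ext ((Infinite.natEmbedding k).injective
      ((algebraMap k (AlgebraicClosure k)).injective hij))
  have hMsep : (Matrix.diagonal
      (fun i : Fin n => algebraMap k (AlgebraicClosure k)
        (Infinite.natEmbedding k (i : ℕ)))).charpoly.Separable := by
    rw [Matrix.charpoly_diagonal]
    exact Polynomial.separable_prod_X_sub_C_iff.2 hd
  have hM : ∀ Mstar : Matrix (Fin n) (Fin n) (AlgebraicClosure k),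
      Mstar = ∑ i, ((Module.finBasis k B).baseChange (AlgebraicClosure k)).repr (e.symm Mstar) i •
        e ((1 : AlgebraicClosure k) ⊗ₜ[k] (Module.finBasis k B) i) := by
    intro Mstar
    conv_lhs => rw [← e.apply_symm_apply Mstar,
      ← ((Module.finBasis k B).baseChange (AlgebraicClosure k)).sum_repr (e.symm Mstar)]
    rw [map_sum]
    refine Finset.sum_congr rfl fun i _ => ?_
    rw [map_smul, Module.Basis.baseChange_apply]
  rw [hM (Matrix.diagonal _)] at hMsep
  obtain ⟨t, ht⟩ := exists_sep_of_coeffs (k := k)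
    (fun i => e ((1 : AlgebraicClosure k) ⊗ₜ[k] (Module.finBasis k B) i)) _ hMsep
  have hx : e ((1 : AlgebraicClosure k) ⊗ₜ[k] (∑ i, t i • (Module.finBasis k B) i)) =
      ∑ i, algebraMap k (AlgebraicClosure k) (t i) •
        e ((1 : AlgebraicClosure k) ⊗ₜ[k] (Module.finBasis k B) i) := by
    rw [TensorProduct.tmul_sum, map_sum]
    refine Finset.sum_congr rfl fun i _ => ?_
    rw [TensorProduct.tmul_smul, ← algebraMap_smul (AlgebraicClosure k) (t i), map_smul]
  rw [← hx] at ht
  refine ⟨∑ i, t i • (Module.finBasis k B) i, ?_, ?_⟩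
  · have h1 := minpoly_map_eq (AlgebraicClosure k)
      (e : AlgebraicClosure k ⊗[k] B →ₐ[AlgebraicClosure k]
        Matrix (Fin n) (Fin n) (AlgebraicClosure k)) e.injective
      (∑ i, t i • (Module.finBasis k B) i)
    have h2 : (minpoly (AlgebraicClosure k) (e ((1 : AlgebraicClosure k) ⊗ₜ[k]
        (∑ i, t i • (Module.finBasis k B) i)))).Separable :=
      ht.of_dvd (Matrix.minpoly_dvd_charpoly _)
    rw [AlgEquiv.coe_algHom] at h1
    rw [← h1] at h2
    exact Polynomial.separable_map (algebraMap k (AlgebraicClosure k)) |>.1 h2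
  · have h1 := minpoly_map_eq (AlgebraicClosure k)
      (e : AlgebraicClosure k ⊗[k] B →ₐ[AlgebraicClosure k]
        Matrix (Fin n) (Fin n) (AlgebraicClosure k)) e.injective
      (∑ i, t i • (Module.finBasis k B) i)
    rw [AlgEquiv.coe_algHom] at h1
    have hchi0 : (e ((1 : AlgebraicClosure k) ⊗ₜ[k]
        (∑ i, t i • (Module.finBasis k B) i))).charpoly ≠ 0 := (Matrix.charpoly_monic _).ne_zero
    have hle : (e ((1 : AlgebraicClosure k) ⊗ₜ[k]
        (∑ i, t i • (Module.finBasis k B) i))).charpoly.roots ≤
        (minpoly (AlgebraicClosure k) (e ((1 : AlgebraicClosure k) ⊗ₜ[k]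
          (∑ i, t i • (Module.finBasis k B) i)))).roots := by
      rw [Multiset.le_iff_subset (Polynomial.nodup_roots ht)]
      intro lam hlam
      rw [Polynomial.mem_roots hchi0] at hlam
      have hspec := Matrix.mem_spectrum_iff_isRoot_charpoly.2 hlam
      have h3 := spectrum.subset_polynomial_aeval
        (e ((1 : AlgebraicClosure k) ⊗ₜ[k] (∑ i, t i • (Module.finBasis k B) i)))
        (minpoly (AlgebraicClosure k) (e ((1 : AlgebraicClosure k) ⊗ₜ[k]
          (∑ i, t i • (Module.finBasis k B) i)))) ⟨lam, hspec, rfl⟩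
      rw [minpoly.aeval, spectrum.zero_eq, Set.mem_singleton_iff] at h3
      rw [Polynomial.mem_roots (minpoly.ne_zero (Algebra.IsIntegral.isIntegral _))]
      exact h3
    have hdvd := (IsAlgClosed.splits _).dvd_of_roots_le_roots hchi0 hle
    have hdeg1 := Polynomial.natDegree_le_of_dvd hdvd
      (minpoly.ne_zero (Algebra.IsIntegral.isIntegral _))
    have hdeg2 := Polynomial.natDegree_le_of_dvd (Matrix.minpoly_dvd_charpoly
      (e ((1 : AlgebraicClosure k) ⊗ₜ[k] (∑ i, t i • (Module.finBasis k B) i)))) hchi0
    rw [Matrix.charpoly_natDegree_eq_dim, Fintype.card_fin] at hdeg1 hdeg2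
    rw [← Polynomial.natDegree_map (algebraMap k (AlgebraicClosure k)), h1]
    exact le_antisymm hdeg2 hdeg1

theorem exists_regular_finite [Finite k] (r : ℕ) (hB : Module.finrank k B = r ^ 2) :
    ∃ x : B, (minpoly k x).Separable ∧ (minpoly k x).natDegree = r := by
  classical
  haveI : IsArtinianRing B := IsArtinianRing.of_finite k B
  obtain ⟨s, hs, D, _, _, _, ⟨e⟩⟩ := IsSimpleRing.exists_algEquiv_matrix_divisionRing_finite k B
  haveI : Nonempty (Fin s) := ⟨⟨0, Nat.pos_of_ne_zero (NeZero.ne s)⟩⟩
  haveI : Algebra.IsCentral k (Matrix (Fin s) (Fin s) D) := Algebra.IsCentral.of_algEquiv k _ _ e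
  haveI : Algebra.IsCentral k D := Split.isCentral_of_matrix (n := Fin s)
  haveI : Finite D := Module.finite_of_finite k
  have hcomm : ∀ x y : D, x * y = y * x := by
    letI := littleWedderburn D
    intro x y
    exact mul_comm x y
  have htop : (⊥ : Subalgebra k D) = ⊤ := by
    rw [← Algebra.IsCentral.center_eq_bot k D]
    ext z
    simp [Subalgebra.mem_center_iff, hcomm]
  have h1 : Module.finrank k D = 1 := Subalgebra.bot_eq_top_iff_finrank_eq_one.1 htop
  have hsr : s = r := by
    have h2 : Module.finrank k B = s ^ 2 := by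
      rw [LinearEquiv.finrank_eq e.toLinearEquiv, Module.finrank_matrix, h1]
      simp [sq]
    rw [hB] at h2
    exact (Nat.pow_left_injective (by norm_num : 2 ≠ 0) h2).symm
  subst hsr
  obtain ⟨p, hp⟩ := CharP.exists k
  haveI := hp
  haveI : Fact p.Prime := ⟨CharP.char_is_prime k p⟩
  obtain ⟨θ, hθ⟩ := Field.exists_primitive_element k (FiniteField.Extension k p s)
  have hint : IsIntegral k θ := Algebra.IsIntegral.isIntegral θ
  have hdegθ : (minpoly k θ).natDegree = s := by
    rw [← IntermediateField.adjoin.finrank hint, hθ, IntermediateField.finrank_top',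
      FiniteField.finrank_extension]
  have hsepθ : (minpoly k θ).Separable := Algebra.IsSeparable.isSeparable k θ
  let φ : FiniteField.Extension k p s →ₐ[k] B :=
    (e.symm : Matrix (Fin s) (Fin s) D →ₐ[k] B).comp
      ((Algebra.ofId k D).mapMatrix.comp
        (((LinearMap.toMatrixAlgEquiv (Module.finBasisOfFinrankEq k (FiniteField.Extension k p s)
          (FiniteField.finrank_extension k p s))) :
            Module.End k (FiniteField.Extension k p s) →ₐ[k] Matrix (Fin s) (Fin s) k).comp
          (Algebra.lmul k (FiniteField.Extension k p s))))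
  have hφ : Function.Injective φ := (φ : FiniteField.Extension k p s →+* B).injective
  refine ⟨φ θ, ?_, ?_⟩
  · rw [minpoly.algHom_eq φ hφ]; exact hsepθ
  · rw [minpoly.algHom_eq φ hφ]; exact hdegθ

theorem exists_regular (r : ℕ) (hB : Module.finrank k B = r ^ 2) :
    ∃ x : B, (minpoly k x).Separable ∧ (minpoly k x).natDegree = r := by
  rcases finite_or_infinite k with h | h
  · exact exists_regular_finite r hB
  · exact exists_regular_infinite r hB

end csa

end Groth.Agent.Lib.Lead.RegularExists
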