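/-
Lead library: local splitting of Azumaya algebras by a finite étale free monogenic extension.

* `centralizer_baseChange`: the centralizer of `1 ⊗ ξ` in `E ⊗ A` (`E` flat) consists of
  polynomials in `1 ⊗ ξ` if the centralizer of `ξ` in `A` is spanned by powers of `ξ`;
* `finite_maximalSpectrum`: a finite algebra over a local ring is semilocal;
* `exists_split`: an Azumaya algebra of rank `r²` over a local ring `R` admits an algebra
  homomorphism to `M_r(R[X]/(P))` with `P` monic separable of degree `r`.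
-/
import Mathlib
import Groth.Agent.Lib.Lead.Lagrange
import Groth.Agent.Lib.Lead.AzHom
import Groth.Agent.Lib.Lead.RegularExists
import Groth.Agent.Lib.Lead.RegularElt
import Groth.Agent.Lib.Lead.AzumayaLocal
import Groth.Agent.Lib.Helper8.MonogenicUnram
import Groth.Agent.Lib.Helper8.FiniteEtaleLift
import Groth.Agent.S19588

set_option autoImplicit false
universe u v w
open TensorProduct Polynomial

namespace Groth.Agent.Lib.Lead.LocalSplit

section cent

variable {R : Type u} [CommRing R] {A : Type v} [Ring A] [Algebra R A] (E : Type w) [CommRing E]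
  [Algebra R E]

theorem tmul_pow_sum (r : ℕ) (ξ : A) (e : E) (c : Fin r → R) :
    e ⊗ₜ[R] (∑ i, c i • ξ ^ (i : ℕ)) =
      Polynomial.aeval ((1 : E) ⊗ₜ[R] ξ) (∑ i : Fin r, C (c i • e) * X ^ (i : ℕ)) := by
  rw [TensorProduct.tmul_sum, map_sum]
  refine Finset.sum_congr rfl fun i _ => ?_
  rw [map_mul, Polynomial.aeval_C, map_pow, Polynomial.aeval_X, Algebra.TensorProduct.tmul_pow,
    one_pow, Algebra.TensorProduct.algebraMap_apply, Algebra.algebraMap_self, RingHom.id_apply,
    Algebra.TensorProduct.tmul_mul_tmul, mul_one, one_mul, TensorProduct.tmul_smul,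
    TensorProduct.smul_tmul']

variable [Module.Flat R E]

theorem centralizer_baseChange (r : ℕ) (ξ : A)
    (hcent : ∀ c : A, ξ * c = c * ξ →
      c ∈ Submodule.span R (Set.range fun i : Fin r => ξ ^ (i : ℕ)))
    (z : E ⊗[R] A) (hz : ((1 : E) ⊗ₜ[R] ξ) * z = z * ((1 : E) ⊗ₜ[R] ξ)) :
    ∃ g : E[X], z = Polynomial.aeval ((1 : E) ⊗ₜ[R] ξ) g := by
  obtain ⟨φ, hφdef⟩ : ∃ φ : (Fin r → R) →ₗ[R] A,
      φ = Fintype.linearCombination R (fun i : Fin r => ξ ^ (i : ℕ)) := ⟨_, rfl⟩
  obtain ⟨δ, hδdef⟩ : ∃ δ : A →ₗ[R] A, δ = LinearMap.mulLeft R ξ - LinearMap.mulRight R ξ :=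
    ⟨_, rfl⟩
  have hδ : ∀ a, δ a = ξ * a - a * ξ := fun a => by
    rw [hδdef, LinearMap.sub_apply, LinearMap.mulLeft_apply, LinearMap.mulRight_apply]
  have hφ : ∀ c, φ c = ∑ i, c i • ξ ^ (i : ℕ) := fun c => by
    rw [hφdef, Fintype.linearCombination_apply]
  have hex : Function.Exact φ δ := by
    intro a
    constructor
    · intro ha
      rw [hδ, sub_eq_zero] at ha
      obtain ⟨c, hc⟩ := (Submodule.mem_span_range_iff_exists_fun R).1 (hcent a ha)
      exact ⟨c, by rw [hφ, hc]⟩
    · rintro ⟨c, rfl⟩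
      rw [hδ, hφ, sub_eq_zero, Finset.mul_sum, Finset.sum_mul]
      refine Finset.sum_congr rfl fun i _ => ?_
      rw [mul_smul_comm, smul_mul_assoc, ← pow_succ', ← pow_succ]
  have hexE := Module.Flat.lTensor_exact E hex
  have hδz : ∀ z : E ⊗[R] A, LinearMap.lTensor E δ z =
      ((1 : E) ⊗ₜ[R] ξ) * z - z * ((1 : E) ⊗ₜ[R] ξ) := by
    intro z
    induction z using TensorProduct.induction_on with
    | zero => rw [map_zero, mul_zero, zero_mul, sub_zero]
    | tmul e a =>
      rw [LinearMap.lTensor_tmul, hδ, Algebra.TensorProduct.tmul_mul_tmul,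
        Algebra.TensorProduct.tmul_mul_tmul, one_mul, mul_one, TensorProduct.tmul_sub]
    | add x y hx hy => rw [map_add, hx, hy, mul_add, add_mul]; abel
  obtain ⟨w, hw⟩ := (hexE z).1 (by rw [hδz, hz, sub_self])
  have hall : ∀ w : E ⊗[R] (Fin r → R), ∃ g : E[X],
      LinearMap.lTensor E φ w = Polynomial.aeval ((1 : E) ⊗ₜ[R] ξ) g := by
    intro w
    induction w using TensorProduct.induction_on with
    | zero => exact ⟨0, by rw [map_zero, map_zero]⟩
    | tmul e c => exact ⟨_, by rw [LinearMap.lTensor_tmul, hφ, tmul_pow_sum]⟩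
    | add x y hx hy =>
      obtain ⟨g₁, h₁⟩ := hx
      obtain ⟨g₂, h₂⟩ := hy
      exact ⟨g₁ + g₂, by rw [map_add, h₁, h₂, map_add]⟩
  obtain ⟨g, hg⟩ := hall w
  exact ⟨g, by rw [← hw, hg]⟩

end cent

section semilocal

theorem finite_maximalSpectrum (R : Type u) [CommRing R] [IsLocalRing R] (E : Type v) [CommRing E]
    [Algebra R E] [Module.Finite R E] : Finite (MaximalSpectrum E) := by
  classical
  obtain ⟨f, hfdef⟩ : ∃ f : E →+* IsLocalRing.ResidueField R ⊗[R] E,
      f = (Algebra.TensorProduct.includeRight :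
        E →ₐ[R] IsLocalRing.ResidueField R ⊗[R] E).toRingHom := ⟨_, rfl⟩
  have hfapp : ∀ e, f e = (1 : IsLocalRing.ResidueField R) ⊗ₜ[R] e := fun e => by
    rw [hfdef]; rfl
  have hf : Function.Surjective f := by
    intro z
    obtain ⟨e, rfl⟩ := TensorProduct.mk_surjective R E (IsLocalRing.ResidueField R)
      IsLocalRing.residue_surjective z
    exact ⟨e, by rw [hfapp, TensorProduct.mk_apply]⟩
  haveI : IsArtinianRing (IsLocalRing.ResidueField R ⊗[R] E) :=
    IsArtinianRing.of_finite (IsLocalRing.ResidueField R) _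
  haveI : Algebra.IsIntegral R E := Algebra.IsIntegral.of_finite R E
  let g : MaximalSpectrum (IsLocalRing.ResidueField R ⊗[R] E) → MaximalSpectrum E := fun n =>
    ⟨Ideal.comap f n.asIdeal,
      haveI := n.isMaximal
      Ideal.comap_isMaximal_of_surjective f hf⟩
  have hg : Function.Surjective g := by
    intro n
    haveI := n.isMaximal
    have hcomap : Ideal.comap (algebraMap R E) n.asIdeal = IsLocalRing.maximalIdeal R :=
      IsLocalRing.eq_maximalIdeal (Ideal.isMaximal_comap_of_isIntegral_of_isMaximal n.asIdeal)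
    have hkill : ∀ a ∈ IsLocalRing.maximalIdeal R,
        (Algebra.ofId R (E ⧸ n.asIdeal)) a = 0 := by
      intro a ha
      rw [Algebra.ofId_apply, IsScalarTower.algebraMap_apply R E (E ⧸ n.asIdeal),
        Ideal.Quotient.algebraMap_eq, Ideal.Quotient.eq_zero_iff_mem]
      rw [← hcomap] at ha
      exact ha
    let ψ : IsLocalRing.ResidueField R ⊗[R] E →ₐ[R] E ⧸ n.asIdeal :=
      Algebra.TensorProduct.productMap
        (Ideal.Quotient.liftₐ (IsLocalRing.maximalIdeal R) (Algebra.ofId R (E ⧸ n.asIdeal)) hkill :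
          IsLocalRing.ResidueField R →ₐ[R] E ⧸ n.asIdeal)
        (Ideal.Quotient.mkₐ R n.asIdeal)
    have hψ : ∀ e, ψ (f e) = Ideal.Quotient.mk n.asIdeal e := by
      intro e
      rw [hfapp, Algebra.TensorProduct.productMap_apply_tmul, map_one, one_mul]
      rfl
    have hne : Ideal.map f n.asIdeal ≠ ⊤ := by
      intro htop
      have h1 : (1 : IsLocalRing.ResidueField R ⊗[R] E) ∈ Ideal.map f n.asIdeal := by
        rw [htop]; exact Submodule.mem_top
      obtain ⟨x, hx, hfx⟩ := (Ideal.mem_map_iff_of_surjective f hf).1 h1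
      have h2 := hψ x
      rw [hfx, map_one] at h2
      have h3 : Ideal.Quotient.mk n.asIdeal x = 0 := Ideal.Quotient.eq_zero_iff_mem.2 hx
      rw [h3] at h2
      haveI : Nontrivial (E ⧸ n.asIdeal) := Ideal.Quotient.nontrivial_iff.2 n.isMaximal.ne_top
      exact one_ne_zero h2
    have hmax : (Ideal.map f n.asIdeal).IsMaximal :=
      (Ideal.map_eq_top_or_isMaximal_of_surjective f hf n.isMaximal).resolve_left hne
    refine ⟨⟨Ideal.map f n.asIdeal, hmax⟩, ?_⟩
    apply MaximalSpectrum.ext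
    show Ideal.comap f (Ideal.map f n.asIdeal) = n.asIdeal
    haveI := hmax
    exact (n.isMaximal.eq_of_le (Ideal.comap_isMaximal_of_surjective f hf).ne_top
      Ideal.le_comap_map).symm
  exact Finite.of_surjective g hg

end semilocal

section regdata

variable (R : Type u) [CommRing R] [IsLocalRing R] (A : Type u) [Ring A] [Algebra R A]
  [IsAzumaya R A]

/-- A regular element of an Azumaya algebra over a local ring, with all the data needed later. -/
theorem exists_regular_data (r : ℕ) (hA : Module.finrank R A = r ^ 2) :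
    ∃ (ξ : A) (P : R[X]), P.Monic ∧ P.natDegree = r ∧ P.Separable ∧ 1 ≤ r ∧
      Polynomial.aeval ξ P = 0 ∧
      (∀ c : A, ξ * c = c * ξ →
        c ∈ Submodule.span R (Set.range fun i : Fin r => ξ ^ (i : ℕ))) ∧
      ∃ φ0 : A →ₗ[R] R, ∀ i : Fin r, φ0 (ξ ^ (i : ℕ)) = if (i : ℕ) + 1 = r then 1 else 0 := by
  classical
  haveI : Module.Free R A := Module.free_of_flat_of_isLocalRing
  haveI : IsAzumaya (IsLocalRing.ResidueField R) (IsLocalRing.ResidueField R ⊗[R] A) :=
    Groth.Agent.S19588.result R (IsLocalRing.ResidueField R) A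
  haveI : Nontrivial (IsLocalRing.ResidueField R ⊗[R] A) := by
    by_contra hn
    rw [not_nontrivial_iff_subsingleton] at hn
    have h1 : (1 : IsLocalRing.ResidueField R) = 0 :=
      eq_of_smul_eq_smul (α := IsLocalRing.ResidueField R ⊗[R] A)
        (fun x => Subsingleton.elim _ _)
    exact one_ne_zero h1
  obtain ⟨hcen, hsim⟩ := Groth.Agent.Lib.Lead.AzumayaLocal.csa_of_bijective
    (IsAzumaya.bij (R := IsLocalRing.ResidueField R) (A := IsLocalRing.ResidueField R ⊗[R] A))
  haveI := hcen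
  haveI := hsim
  have hB : Module.finrank (IsLocalRing.ResidueField R) (IsLocalRing.ResidueField R ⊗[R] A) =
      r ^ 2 := by
    rw [Module.finrank_baseChange, hA]
  obtain ⟨xbar, hsepx, hdeg⟩ := Groth.Agent.Lib.Lead.RegularExists.exists_regular
    (k := IsLocalRing.ResidueField R) (B := IsLocalRing.ResidueField R ⊗[R] A) r hB
  obtain ⟨ξ, rfl⟩ := TensorProduct.mk_surjective R A (IsLocalRing.ResidueField R)
    IsLocalRing.residue_surjective xbar
  rw [TensorProduct.mk_apply] at hsepx hdeg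
  have hlin : LinearIndependent (IsLocalRing.ResidueField R)
      (fun i : Fin r => ((1 : IsLocalRing.ResidueField R) ⊗ₜ[R] ξ :
        IsLocalRing.ResidueField R ⊗[R] A) ^ (i : ℕ)) :=
    hdeg ▸ linearIndependent_pow (K := IsLocalRing.ResidueField R)
      ((1 : IsLocalRing.ResidueField R) ⊗ₜ[R] ξ : IsLocalRing.ResidueField R ⊗[R] A)
  obtain ⟨h1, h2⟩ := Groth.Agent.Lib.Lead.RegularElt.local_centralizer R A r ξ hlin
    (fun c hc => Groth.Agent.Lib.Lead.RegularElt.mem_span_of_commute r hB _ hsepx hdeg c hc)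
  obtain ⟨c, hc⟩ := (Submodule.mem_span_range_iff_exists_fun R).1
    (h2 (ξ ^ r) (by rw [← pow_succ', ← pow_succ]))
  have hlt : (∑ i : Fin r, Polynomial.C (c i) * (Polynomial.X : Polynomial R) ^ (i : ℕ)).degree <
      (r : WithBot ℕ) := Polynomial.degree_sum_fin_lt c
  obtain ⟨P, hPdef⟩ : ∃ P : Polynomial R, P = Polynomial.X ^ r -
      ∑ i : Fin r, Polynomial.C (c i) * (Polynomial.X : Polynomial R) ^ (i : ℕ) := ⟨_, rfl⟩
  have hPmonic : P.Monic := by rw [hPdef]; exact Polynomial.monic_X_pow_sub hlt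
  have hPdeg : P.natDegree = r := by
    rw [hPdef]
    exact Polynomial.natDegree_eq_of_degree_eq_some
      ((Polynomial.degree_sub_eq_left_of_degree_lt (by rwa [Polynomial.degree_X_pow])).trans
        (Polynomial.degree_X_pow r))
  have hPξ : Polynomial.aeval ξ P = 0 := by
    rw [hPdef, map_sub, map_pow, Polynomial.aeval_X, map_sum, ← hc, sub_eq_zero]
    refine Finset.sum_congr rfl fun i _ => ?_
    rw [map_mul, Polynomial.aeval_C, map_pow, Polynomial.aeval_X, Algebra.smul_def]
  have hPbar : Polynomial.aeval ((1 : IsLocalRing.ResidueField R) ⊗ₜ[R] ξ :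
      IsLocalRing.ResidueField R ⊗[R] A)
      (P.map (algebraMap R (IsLocalRing.ResidueField R))) = 0 := by
    rw [Polynomial.aeval_map_algebraMap]
    have h3 := Polynomial.aeval_algHom_apply
      (Algebra.TensorProduct.includeRight : A →ₐ[R] IsLocalRing.ResidueField R ⊗[R] A) ξ P
    rw [Algebra.TensorProduct.includeRight_apply] at h3
    rw [h3, hPξ, map_zero]
  have hxint : IsIntegral (IsLocalRing.ResidueField R)
      ((1 : IsLocalRing.ResidueField R) ⊗ₜ[R] ξ : IsLocalRing.ResidueField R ⊗[R] A) :=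
    Algebra.IsIntegral.isIntegral _
  have hPmap : P.map (algebraMap R (IsLocalRing.ResidueField R)) =
      minpoly (IsLocalRing.ResidueField R)
        ((1 : IsLocalRing.ResidueField R) ⊗ₜ[R] ξ : IsLocalRing.ResidueField R ⊗[R] A) :=
    Polynomial.eq_of_monic_of_dvd_of_natDegree_le (minpoly.monic hxint) (hPmonic.map _)
      (minpoly.dvd _ _ hPbar) (by rw [hPmonic.natDegree_map, hPdeg, hdeg])
  have hPsep : P.Separable := by
    obtain ⟨c', d', hcd⟩ := Groth.Agent.Lib.Helper8.separable_of_map_residue_separable P hPmonic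
      (by
        have : IsLocalRing.residue R = algebraMap R (IsLocalRing.ResidueField R) := rfl
        rw [this, hPmap]
        exact hsepx)
    exact ⟨d', c', by linear_combination hcd⟩
  have hr1 : 1 ≤ r := by
    rcases Nat.eq_zero_or_pos r with hr0 | hr0
    · exfalso
      have hP1 : P = 1 := by
        rw [← hPmonic.natDegree_eq_zero]
        rw [hPdeg, hr0]
      have : (minpoly (IsLocalRing.ResidueField R)
          ((1 : IsLocalRing.ResidueField R) ⊗ₜ[R] ξ :
            IsLocalRing.ResidueField R ⊗[R] A)) = 1 := by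
        rw [← hPmap, hP1, Polynomial.map_one]
      exact minpoly.ne_one _ _ this
    · exact hr0
  refine ⟨ξ, P, hPmonic, hPdeg, hPsep, hr1, hPξ, h2, ?_⟩
  -- the retraction
  obtain ⟨φ, hφdef⟩ : ∃ φ : (Fin r → R) →ₗ[R] A,
      φ = Fintype.linearCombination R (fun i : Fin r => ξ ^ (i : ℕ)) := ⟨_, rfl⟩
  have hzero : ∀ c : Fin r → R, (∀ i, algebraMap R (IsLocalRing.ResidueField R) (c i) = 0) →
      ((1 : IsLocalRing.ResidueField R) ⊗ₜ[R] c :
        IsLocalRing.ResidueField R ⊗[R] (Fin r → R)) = 0 := by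
    intro c hc
    have h1 : c = ∑ i, c i • (Pi.single i (1 : R) : Fin r → R) := by
      ext j
      simp [Finset.sum_apply, Pi.single_apply]
    rw [h1, TensorProduct.tmul_sum]
    refine Finset.sum_eq_zero fun i _ => ?_
    rw [TensorProduct.tmul_smul, ← algebraMap_smul (IsLocalRing.ResidueField R) (c i), hc i,
      zero_smul]
  have hφinj : Function.Injective (LinearMap.lTensor (IsLocalRing.ResidueField R) φ) := by
    rw [injective_iff_map_eq_zero]
    intro z hz
    obtain ⟨c, rfl⟩ := TensorProduct.mk_surjective R (Fin r → R) (IsLocalRing.ResidueField R)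
      IsLocalRing.residue_surjective z
    rw [TensorProduct.mk_apply, LinearMap.lTensor_tmul, hφdef,
      Groth.Agent.Lib.Lead.RegularElt.tmul_linearCombination] at hz
    rw [TensorProduct.mk_apply]
    exact hzero c (Fintype.linearIndependent_iff.1 hlin
      (fun i => algebraMap R (IsLocalRing.ResidueField R) (c i)) hz)
  obtain ⟨ρ, hρ⟩ :=
    (IsLocalRing.split_injective_iff_lTensor_residueField_injective φ).2 hφinj
  have hρ' : ∀ c, ρ (φ c) = c := fun c => LinearMap.congr_fun hρ c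
  refine ⟨(LinearMap.proj (⟨r - 1, by omega⟩ : Fin r)) ∘ₗ ρ, fun i => ?_⟩
  have hφi : φ (Pi.single i (1 : R) : Fin r → R) = ξ ^ (i : ℕ) := by
    rw [hφdef, Fintype.linearCombination_apply_single, one_smul]
  rw [LinearMap.comp_apply, ← hφi, hρ', LinearMap.proj_apply, Pi.single_apply]
  have hiff : ((⟨r - 1, by omega⟩ : Fin r) = i) ↔ ((i : ℕ) + 1 = r) := by
    rw [Fin.ext_iff]
    have := i.2
    constructor <;> intro h <;> simp only at h ⊢ <;> omega
  simp only [hiff]

end regdata

section fibre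

variable {E : Type u} [CommRing E] {B : Type v} [Ring B] [Algebra E B] [IsAzumaya E B]
  [Module.Free E B]

/-- The fibre rank of the left ideal generated by a rank one idempotent. -/
theorem finrank_fibre (ε : B) (hε : ε * ε = ε) (hcorner : ∀ b : B, ∃ c : E, ε * b * ε = c • ε)
    (Φ0 : B →ₗ[E] E) (hΦ : IsUnit (Φ0 ε)) (r : ℕ) (hr : Module.finrank E B = r ^ 2)
    (n : Ideal E) [hn : n.IsMaximal] :
    Module.finrank (E ⧸ n) ((E ⧸ n) ⊗[E] LinearMap.range (LinearMap.mulRight E ε)) = r := by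
  classical
  letI : Field (E ⧸ n) := Ideal.Quotient.field n
  haveI : Nontrivial E := ⟨⟨0, 1, fun h => hn.ne_top ((Ideal.eq_top_iff_one n).2 (by
    have : (1 : E) = 0 := h.symm
    rw [this]; exact n.zero_mem))⟩⟩
  haveI : IsAzumaya (E ⧸ n) ((E ⧸ n) ⊗[E] B) := Groth.Agent.S19588.result E (E ⧸ n) B
  obtain ⟨hc, hs⟩ := AzumayaFibre2.csa_of_isAzumaya_field (E ⧸ n) ((E ⧸ n) ⊗[E] B)
  haveI := hc
  haveI := hs
  have hrC : Module.finrank (E ⧸ n) ((E ⧸ n) ⊗[E] B) = r ^ 2 := by
    rw [Module.finrank_baseChange, hr]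
  obtain ⟨εb, hεb⟩ : ∃ εb : (E ⧸ n) ⊗[E] B, εb = (1 : E ⧸ n) ⊗ₜ[E] ε := ⟨_, rfl⟩
  have hεbidem : εb * εb = εb := by
    rw [hεb, Algebra.TensorProduct.tmul_mul_tmul, one_mul, hε]
  have hεbcorner : ∀ c : (E ⧸ n) ⊗[E] B, ∃ k : E ⧸ n, εb * c * εb = k • εb := by
    intro c
    induction c using TensorProduct.induction_on with
    | zero => exact ⟨0, by rw [mul_zero, zero_mul, zero_smul]⟩
    | tmul k b =>
      obtain ⟨c, hc⟩ := hcorner b
      refine ⟨k * algebraMap E (E ⧸ n) c, ?_⟩
      rw [hεb, Algebra.TensorProduct.tmul_mul_tmul, Algebra.TensorProduct.tmul_mul_tmul, one_mul,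
        mul_one, hc, TensorProduct.tmul_smul, TensorProduct.smul_tmul', TensorProduct.smul_tmul']
      congr 1
      rw [Algebra.smul_def, smul_eq_mul, mul_one, mul_comm]
    | add x y hx hy =>
      obtain ⟨k₁, h₁⟩ := hx
      obtain ⟨k₂, h₂⟩ := hy
      exact ⟨k₁ + k₂, by rw [mul_add, add_mul, h₁, h₂, add_smul]⟩
  have hεbne : εb ≠ 0 := by
    intro h0
    have h1 := congrArg (fun z => (TensorProduct.AlgebraTensorModule.rid E (E ⧸ n) (E ⧸ n))
      (LinearMap.baseChange (E ⧸ n) Φ0 z)) h0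
    simp only [hεb, LinearMap.baseChange_tmul, TensorProduct.AlgebraTensorModule.rid_tmul,
      map_zero] at h1
    rw [Algebra.smul_def, mul_one] at h1
    exact (hΦ.map (algebraMap E (E ⧸ n))).ne_zero h1
  have hR := Lagrange.finrank_range_mulRight (K := E ⧸ n) IsAzumaya.bij εb hεbidem hεbne
    hεbcorner r hrC
  obtain ⟨j, hjdef⟩ : ∃ j : (E ⧸ n) ⊗[E] (LinearMap.range (LinearMap.mulRight E ε)) →ₗ[E ⧸ n]
      (E ⧸ n) ⊗[E] B,
      j = LinearMap.baseChange (E ⧸ n) (LinearMap.range (LinearMap.mulRight E ε)).subtype :=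
    ⟨_, rfl⟩
  have hjinj : Function.Injective j := by
    obtain ⟨π, hπdef⟩ : ∃ π : B →ₗ[E] LinearMap.range (LinearMap.mulRight E ε),
        π = (LinearMap.mulRight E ε).rangeRestrict := ⟨_, rfl⟩
    have hπ : π ∘ₗ (LinearMap.range (LinearMap.mulRight E ε)).subtype = LinearMap.id := by
      ext ⟨m, y, rfl⟩
      rw [hπdef]
      show (LinearMap.mulRight E ε) ((LinearMap.mulRight E ε) y) = (LinearMap.mulRight E ε) y
      rw [LinearMap.mulRight_apply, LinearMap.mulRight_apply, mul_assoc, hε]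
    have h2 : (LinearMap.baseChange (E ⧸ n) π) ∘ₗ j = LinearMap.id := by
      rw [hjdef, ← LinearMap.baseChange_comp, hπ, LinearMap.baseChange_id]
    exact Function.LeftInverse.injective (fun x => LinearMap.congr_fun h2 x)
  have hjrange : LinearMap.range j = LinearMap.range (LinearMap.mulRight (E ⧸ n) εb) := by
    apply le_antisymm
    · rintro _ ⟨x, rfl⟩
      induction x using TensorProduct.induction_on with
      | zero => rw [map_zero]; exact Submodule.zero_mem _
      | tmul k m =>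
        obtain ⟨m, y, rfl⟩ := m
        refine ⟨k ⊗ₜ[E] y, ?_⟩
        rw [hjdef, LinearMap.baseChange_tmul, LinearMap.mulRight_apply, hεb,
          Algebra.TensorProduct.tmul_mul_tmul, mul_one]
        rfl
      | add x y hx hy => rw [map_add]; exact Submodule.add_mem _ hx hy
    · rintro _ ⟨c, rfl⟩
      rw [LinearMap.mulRight_apply]
      induction c using TensorProduct.induction_on with
      | zero => rw [zero_mul]; exact Submodule.zero_mem _
      | tmul k b =>
        refine ⟨k ⊗ₜ[E] ⟨b * ε, ⟨b, rfl⟩⟩, ?_⟩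
        rw [hjdef, LinearMap.baseChange_tmul, hεb, Algebra.TensorProduct.tmul_mul_tmul, mul_one]
        rfl
      | add x y hx hy => rw [add_mul]; exact Submodule.add_mem _ hx hy
  have h5 := LinearMap.finrank_range_of_inj hjinj
  rw [hjrange] at h5
  exact h5.symm.trans hR

end fibre

section main

variable (R : Type u) [CommRing R] [IsLocalRing R] (A : Type u) [Ring A] [Algebra R A]
  [IsAzumaya R A]

theorem nontrivial_adjoinRoot {R : Type u} [CommRing R] [Nontrivial R] (P : R[X]) (hP : P.Monic)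
    (hdeg : 1 ≤ P.natDegree) : Nontrivial (AdjoinRoot P) := by
  refine ⟨⟨0, 1, fun h => ?_⟩⟩
  have h1 : AdjoinRoot.mk P 1 = 0 := by rw [map_one]; exact h.symm
  rw [AdjoinRoot.mk_eq_zero] at h1
  have h2 : P = 1 := (hP.isUnit_iff).1 (isUnit_of_dvd_one h1)
  rw [h2, Polynomial.natDegree_one] at hdeg
  omega

/-- Local splitting: an Azumaya algebra of rank `r²` over a local ring maps to `M_r(R[X]/(P))`. -/
theorem exists_split (r : ℕ) (hA : Module.finrank R A = r ^ 2) :
    ∃ P : R[X], P.Monic ∧ P.natDegree = r ∧ P.Separable ∧ 1 ≤ r ∧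
      Nonempty (A →ₐ[R] Matrix (Fin r) (Fin r) (AdjoinRoot P)) := by
  classical
  obtain ⟨ξ, P, hPmonic, hPdeg, hPsep, hr1, hPξ, hcent, φ0, hφ0⟩ := exists_regular_data R A r hA
  refine ⟨P, hPmonic, hPdeg, hPsep, hr1, ?_⟩
  haveI : Module.Free R A := Module.free_of_flat_of_isLocalRing
  haveI hEfree : Module.Free R (AdjoinRoot P) :=
    Module.Free.of_basis (AdjoinRoot.powerBasis' hPmonic).basis
  haveI hEfin : Module.Finite R (AdjoinRoot P) :=
    Module.Finite.of_basis (AdjoinRoot.powerBasis' hPmonic).basis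
  haveI : Nontrivial (AdjoinRoot P) := nontrivial_adjoinRoot P hPmonic (by rw [hPdeg]; exact hr1)
  haveI : IsAzumaya (AdjoinRoot P) (AdjoinRoot P ⊗[R] A) :=
    Groth.Agent.S19588.result R (AdjoinRoot P) A
  haveI := finite_maximalSpectrum R (AdjoinRoot P)
  obtain ⟨lam, hlam⟩ : ∃ lam : AdjoinRoot P, lam = AdjoinRoot.root P := ⟨_, rfl⟩
  obtain ⟨PE, hPE⟩ : ∃ PE : (AdjoinRoot P)[X], PE = P.map (algebraMap R (AdjoinRoot P)) :=
    ⟨_, rfl⟩
  have hPEmonic : PE.Monic := by rw [hPE]; exact hPmonic.map _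
  have hPEdeg : PE.natDegree = r := by rw [hPE, hPmonic.natDegree_map, hPdeg]
  have hroot : PE.IsRoot lam := by
    rw [hPE, hlam, AdjoinRoot.algebraMap_eq]
    exact AdjoinRoot.isRoot_root P
  obtain ⟨a, b, hab⟩ := hPsep
  have hder : (Polynomial.derivative PE).eval lam *
      (b.map (algebraMap R (AdjoinRoot P))).eval lam = 1 := by
    have h := congrArg (fun q => (q.map (algebraMap R (AdjoinRoot P))).eval lam) hab
    simp only [Polynomial.map_add, Polynomial.map_mul, Polynomial.map_one, Polynomial.eval_add,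
      Polynomial.eval_mul, Polynomial.eval_one] at h
    rw [← Polynomial.derivative_map, ← hPE, hroot, mul_zero, zero_add, mul_comm] at h
    exact h
  obtain ⟨u, hu'⟩ : ∃ u : (AdjoinRoot P)ˣ, (u : AdjoinRoot P) = (Polynomial.derivative PE).eval lam :=
    ⟨Units.mkOfMulEqOne _ _ hder, rfl⟩
  have hu : (u : AdjoinRoot P) = (Lagrange.P1 PE lam).eval lam := by
    rw [hu', Lagrange.eval_P1 PE lam hroot]
  obtain ⟨ξE, hξEdef⟩ : ∃ ξE : AdjoinRoot P ⊗[R] A, ξE = (1 : AdjoinRoot P) ⊗ₜ[R] ξ := ⟨_, rfl⟩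
  have hξE : Polynomial.aeval ξE PE = 0 := by
    rw [hPE, Polynomial.aeval_map_algebraMap, hξEdef]
    have h3 := Polynomial.aeval_algHom_apply
      (Algebra.TensorProduct.includeRight : A →ₐ[R] AdjoinRoot P ⊗[R] A) ξ P
    rw [Algebra.TensorProduct.includeRight_apply] at h3
    rw [h3, hPξ, map_zero]
  have hcentE : ∀ z : AdjoinRoot P ⊗[R] A, ξE * z = z * ξE →
      ∃ g : (AdjoinRoot P)[X], z = Polynomial.aeval ξE g := by
    intro z hz
    rw [hξEdef] at hz ⊢
    exact centralizer_baseChange (AdjoinRoot P) r ξ hcent z hz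
  obtain ⟨ε, hεdef⟩ : ∃ ε : AdjoinRoot P ⊗[R] A, ε = Lagrange.eps ξE PE lam u := ⟨_, rfl⟩
  have hidem : ε * ε = ε := by rw [hεdef]; exact Lagrange.eps_idem hroot hξE hu
  have hcorner : ∀ b : AdjoinRoot P ⊗[R] A, ∃ c : AdjoinRoot P, ε * b * ε = c • ε := by
    intro b
    rw [hεdef]
    exact Lagrange.corner_eps hroot hξE hu hcentE b
  -- the functional
  obtain ⟨Φ0, hΦ0⟩ : ∃ Φ0 : (AdjoinRoot P ⊗[R] A) →ₗ[AdjoinRoot P] AdjoinRoot P,
      ∀ (e : AdjoinRoot P) (x : A), Φ0 (e ⊗ₜ x) = φ0 x • e :=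
    ⟨(TensorProduct.AlgebraTensorModule.rid R (AdjoinRoot P) (AdjoinRoot P)).toLinearMap ∘ₗ
      (LinearMap.baseChange (AdjoinRoot P) φ0), fun e x => by
        rw [LinearMap.comp_apply, LinearMap.baseChange_tmul, LinearEquiv.coe_coe,
          TensorProduct.AlgebraTensorModule.rid_tmul]⟩
  have hP1monic := Lagrange.monic_P1 PE lam hPEmonic hroot
  have hP1deg := Lagrange.natDegree_P1 PE lam hPEmonic hroot
  have hΦε : Φ0 ε = ((u⁻¹ : (AdjoinRoot P)ˣ) : AdjoinRoot P) := by
    have h1 : Polynomial.aeval ξE (Lagrange.P1 PE lam) =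
        ∑ i : Fin r, ((Lagrange.P1 PE lam).coeff (i : ℕ)) ⊗ₜ[R] (ξ ^ (i : ℕ)) := by
      rw [Polynomial.aeval_eq_sum_range, hP1deg, hPEdeg, Finset.sum_range]
      refine Finset.sum_congr rfl fun i _ => ?_
      rw [hξEdef, Algebra.TensorProduct.tmul_pow, one_pow, TensorProduct.smul_tmul', smul_eq_mul,
        mul_one]
    rw [hεdef, Lagrange.eps, map_smul, h1, map_sum]
    have h2 : ∑ i : Fin r, Φ0 (((Lagrange.P1 PE lam).coeff (i : ℕ)) ⊗ₜ[R] (ξ ^ (i : ℕ))) =
        (Lagrange.P1 PE lam).coeff (r - 1) := by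
      rw [Finset.sum_eq_single (⟨r - 1, by omega⟩ : Fin r)]
      · rw [hΦ0, hφ0, if_pos (by simp only; omega), one_smul]
      · intro i _ hi
        rw [hΦ0, hφ0, if_neg, zero_smul]
        intro h
        apply hi
        apply Fin.ext
        simp only
        omega
      · intro h
        exact absurd (Finset.mem_univ _) h
    rw [h2]
    have h3 : (Lagrange.P1 PE lam).coeff (r - 1) = 1 := by
      have h4 := hP1monic.coeff_natDegree
      have h5 : (Lagrange.P1 PE lam).natDegree = r - 1 := by omega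
      rw [h5] at h4
      exact h4
    rw [h3, smul_eq_mul, mul_one]
  have hΦunit : IsUnit (Φ0 ε) := by rw [hΦε]; exact (u⁻¹).isUnit
  have hrB : Module.finrank (AdjoinRoot P) (AdjoinRoot P ⊗[R] A) = r ^ 2 := by
    rw [Module.finrank_baseChange, hA]
  have rk : ∀ n : MaximalSpectrum (AdjoinRoot P),
      Module.finrank (AdjoinRoot P ⧸ n.asIdeal) ((AdjoinRoot P ⧸ n.asIdeal) ⊗[AdjoinRoot P]
        LinearMap.range (LinearMap.mulRight (AdjoinRoot P) ε)) = r := by
    intro n
    haveI := n.isMaximal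
    exact finrank_fibre ε hidem hcorner Φ0 hΦunit r hrB n.asIdeal
  haveI : Module.Projective (AdjoinRoot P) (LinearMap.range (LinearMap.mulRight (AdjoinRoot P) ε)) := by
    refine Module.Projective.of_split (LinearMap.range (LinearMap.mulRight (AdjoinRoot P) ε)).subtype
      (LinearMap.mulRight (AdjoinRoot P) ε).rangeRestrict ?_
    ext ⟨m, y, rfl⟩
    show (LinearMap.mulRight (AdjoinRoot P) ε) ((LinearMap.mulRight (AdjoinRoot P) ε) y) =
      (LinearMap.mulRight (AdjoinRoot P) ε) y
    rw [LinearMap.mulRight_apply, LinearMap.mulRight_apply, mul_assoc, hidem]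
  obtain ⟨bas⟩ := Module.nonempty_basis_of_flat_of_finrank_eq (AdjoinRoot P)
    (LinearMap.range (LinearMap.mulRight (AdjoinRoot P) ε)) r rk
  have hmem : ∀ x : AdjoinRoot P ⊗[R] A,
      ∀ m ∈ LinearMap.range (LinearMap.mulRight (AdjoinRoot P) ε),
      LinearMap.mulLeft (AdjoinRoot P) x m ∈
        LinearMap.range (LinearMap.mulRight (AdjoinRoot P) ε) := by
    rintro x _ ⟨y, rfl⟩
    exact ⟨x * y, by simp only [LinearMap.mulRight_apply, LinearMap.mulLeft_apply, mul_assoc]⟩
  let Ξ : (AdjoinRoot P ⊗[R] A) →ₐ[AdjoinRoot P]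
      Module.End (AdjoinRoot P) (LinearMap.range (LinearMap.mulRight (AdjoinRoot P) ε)) :=
    { toFun := fun x => (LinearMap.mulLeft (AdjoinRoot P) x).restrict (hmem x)
      map_one' := by
        ext m
        show (1 : AdjoinRoot P ⊗[R] A) * (m : AdjoinRoot P ⊗[R] A) = m
        rw [one_mul]
      map_mul' := fun x y => by
        ext m
        show x * y * (m : AdjoinRoot P ⊗[R] A) = x * (y * m)
        rw [mul_assoc]
      map_zero' := by
        ext m
        show (0 : AdjoinRoot P ⊗[R] A) * (m : AdjoinRoot P ⊗[R] A) = 0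
        rw [zero_mul]
      map_add' := fun x y => by
        ext m
        show (x + y) * (m : AdjoinRoot P ⊗[R] A) = x * m + y * m
        rw [add_mul]
      commutes' := fun e => by
        ext m
        show algebraMap (AdjoinRoot P) (AdjoinRoot P ⊗[R] A) e * (m : AdjoinRoot P ⊗[R] A) =
          e • (m : AdjoinRoot P ⊗[R] A)
        rw [Algebra.smul_def] }
  exact ⟨((LinearMap.toMatrixAlgEquiv bas).restrictScalars R).toAlgHom.comp
    ((Ξ.restrictScalars R).comp Algebra.TensorProduct.includeRight)⟩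

end main

end Groth.Agent.Lib.Lead.LocalSplit
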