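/-
Lead library: an Azumaya algebra of rank `r²` over a local ring is free of rank `r` over a finite
étale commutative subalgebra of rank `r`, and is split by it.
-/
import Mathlib
import Groth.Agent.Lib.Lead.AzHom
import Groth.Agent.Lib.Lead.LocalSplit
import Groth.Agent.Lib.Lead.HensAzIso
import Groth.Agent.S19588
import Groth.Agent.S19589

set_option autoImplicit false
universe u v
open TensorProduct IsLocalRing

namespace Groth.Agent.Lib.Lead.EtaleSubalg

set_option backward.inferInstanceAs.wrap.data false in
theorem isReduced_quotient (R : Type u) [CommRing R] [IsLocalRing R] (E : Type v) [CommRing E]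
    [Algebra R E] [Algebra.Etale R E] [Module.Finite R E] :
    IsReduced (E ⧸ (maximalIdeal R).map (algebraMap R E)) := by
  let mR := (maximalIdeal R).map (algebraMap R E)
  let : Algebra (ResidueField R) (E ⧸ mR) := (inferInstanceAs <| Algebra (R ⧸ _) _)
  have : IsScalarTower R (ResidueField R) (E ⧸ mR) :=
    (inferInstanceAs <| IsScalarTower R (R ⧸ _) _)
  have : Algebra.FormallyUnramified (ResidueField R) (E ⧸ mR) := .of_restrictScalars R _ _
  have : Algebra.EssFiniteType (ResidueField R) (E ⧸ mR) := .of_comp R _ _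
  exact Algebra.FormallyUnramified.isReduced_of_field (ResidueField R) (E ⧸ mR)

theorem mem_map_of_forall_maximal (R : Type u) [CommRing R] [IsLocalRing R] (E : Type v)
    [CommRing E] [Algebra R E] [Algebra.Etale R E] [Module.Finite R E] (x : E)
    (hx : ∀ P : Ideal E, P.IsMaximal → x ∈ P) :
    x ∈ (maximalIdeal R).map (algebraMap R E) := by
  haveI := isReduced_quotient R E
  have hrad : ((maximalIdeal R).map (algebraMap R E)).IsRadical :=
    (Ideal.isRadical_iff_quotient_reduced _).2 inferInstance
  rw [← hrad.radical, Ideal.radical_eq_sInf, Ideal.mem_sInf]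
  rintro Q ⟨hIQ, hQ⟩
  haveI := hQ
  haveI : Algebra.IsIntegral R E := Algebra.IsIntegral.of_finite R E
  have hQmax : Q.IsMaximal := by
    apply Ideal.isMaximal_of_isIntegral_of_isMaximal_comap (R := R) Q
    have hle : maximalIdeal R ≤ Q.comap (algebraMap R E) := Ideal.map_le_iff_le_comap.1 hIQ
    have : maximalIdeal R = Q.comap (algebraMap R E) :=
      (maximalIdeal.isMaximal R).eq_of_le (Ideal.comap_ne_top _ hQ.ne_top) hle
    rw [← this]
    exact maximalIdeal.isMaximal R
  exact hx Q hQmax

theorem le_finrank_fibre {R : Type u} [CommRing R] {A : Type u} [Ring A] [Algebra R A]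
    [IsAzumaya R A] {E : Type u} [CommRing E] [Algebra R E] [Module E A] [IsScalarTower R E A]
    [Module.Finite E A] (hlin : ∀ (a : A) (e : E) (y : A), a * (e • y) = e • (a * y))
    (P : Ideal E) [P.IsMaximal] (r : ℕ)
    (hC : Module.finrank (E ⧸ P) ((E ⧸ P) ⊗[R] A) = r ^ 2)
    (hV : Nontrivial ((E ⧸ P) ⊗[E] A)) :
    r ≤ Module.finrank (E ⧸ P) ((E ⧸ P) ⊗[E] A) := by
  letI : Field (E ⧸ P) := Ideal.Quotient.field P
  obtain ⟨hc, hs⟩ := AzumayaFibre2.csa_of_isAzumaya R A (E ⧸ P)
  haveI := hs
  let lE : A →ₐ[R] Module.End E A :=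
    { toFun := fun a =>
        { toFun := fun y => a * y, map_add' := mul_add a, map_smul' := fun e y => hlin a e y }
      map_one' := by ext y; exact one_mul y
      map_mul' := fun a b => by ext y; exact mul_assoc a b y
      map_zero' := by ext y; exact zero_mul y
      map_add' := fun a b => by ext y; exact add_mul a b y
      commutes' := fun s => by
        ext y
        show algebraMap R A s * y = s • y
        rw [Algebra.smul_def] }
  let ρA : A →ₐ[R] Module.End (E ⧸ P) ((E ⧸ P) ⊗[E] A) :=
    ((Module.End.baseChangeHom E (E ⧸ P) A).restrictScalars R).comp lE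
  let ρ : (E ⧸ P) ⊗[R] A →ₐ[E ⧸ P] Module.End (E ⧸ P) ((E ⧸ P) ⊗[E] A) :=
    Algebra.TensorProduct.lift (Algebra.ofId (E ⧸ P) _) ρA (fun c a => Algebra.commutes c (ρA a))
  have hinj : Function.Injective ρ := fun x y h => RingHom.injective ρ.toRingHom h
  have h1 := LinearMap.finrank_le_finrank_of_injective (f := ρ.toLinearMap) hinj
  rw [hC, Module.finrank_linearMap] at h1
  exact (Nat.pow_le_pow_iff_left two_ne_zero).1 (by rw [sq (Module.finrank _ _)]; exact h1)

theorem single_mem_smul_top (R : Type u) [CommRing R] (I : Ideal R) (E : Type v) [CommRing E]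
    [Algebra R E] (n : ℕ) (j : Fin n) (e : E) (he : e ∈ I.map (algebraMap R E)) :
    (Pi.single j e : Fin n → E) ∈ I • (⊤ : Submodule R (Fin n → E)) := by
  have h1 : e ∈ I • (⊤ : Submodule R E) := by
    rw [Ideal.smul_top_eq_map]
    exact he
  have h2 : (LinearMap.single R (fun _ : Fin n => E) j) e ∈
      (I • (⊤ : Submodule R E)).map (LinearMap.single R (fun _ : Fin n => E) j) :=
    Submodule.mem_map_of_mem h1
  rw [Submodule.map_smul''] at h2
  exact Submodule.smul_mono le_rfl le_top h2

theorem main (R : Type u) [CommRing R] [IsLocalRing R] (A : Type u) [Ring A] [Algebra R A]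
    [IsAzumaya R A] (r : ℕ) (hA : Module.finrank R A = r ^ 2) (E : Type u) [CommRing E]
    [Algebra R E] [Algebra.Etale R E] [Module.Finite R E] [Module.Free R E]
    (hE : Module.finrank R E = r) (u : E →ₐ[R] A)
    (hu : Function.Injective (u.toLinearMap.lTensor (ResidueField R))) [Module E A]
    (hmod : ∀ (e : E) (a : A), e • a = a * u e) :
    Module.Free E A ∧ Module.finrank E A = r ∧
      Nonempty ((E ⊗[R] A) ≃ₐ[E] Module.End E A) := by
  classical
  haveI htower : IsScalarTower R E A := ⟨fun s e a => by
    rw [hmod, hmod, map_smul, mul_smul_comm]⟩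
  have hlin : ∀ (a : A) (e : E) (y : A), a * (e • y) = e • (a * y) := fun a e y => by
    rw [hmod, hmod, mul_assoc]
  haveI : Module.Free R A := Module.free_of_flat_of_isLocalRing
  haveI : Nontrivial A := by
    by_contra hn
    rw [not_nontrivial_iff_subsingleton] at hn
    have h1 : (1 : R) = 0 := eq_of_smul_eq_smul (α := A) (fun x => Subsingleton.elim _ _)
    exact one_ne_zero h1
  haveI : Nontrivial E := u.toRingHom.domain_nontrivial
  obtain ⟨l', hl'⟩ :=
    (IsLocalRing.split_injective_iff_lTensor_residueField_injective u.toLinearMap).2 hu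
  have huinj : Function.Injective u :=
    Function.LeftInverse.injective (g := l') (fun e => LinearMap.congr_fun hl' e)
  haveI : Module.Finite E A := Module.Finite.of_restrictScalars_finite R E A
  haveI : Algebra.IsIntegral R E := Algebra.IsIntegral.of_finite R E
  haveI : Finite (MaximalSpectrum E) := LocalSplit.finite_maximalSpectrum R E
  -- lower bound for the fibre ranks
  have hlow : ∀ P : MaximalSpectrum E,
      r ≤ Module.finrank (E ⧸ P.asIdeal) ((E ⧸ P.asIdeal) ⊗[E] A) := by
    intro P
    haveI := P.isMaximal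
    have hC : Module.finrank (E ⧸ P.asIdeal) ((E ⧸ P.asIdeal) ⊗[R] A) = r ^ 2 := by
      rw [Module.finrank_baseChange, hA]
    have hne : P.asIdeal • (⊤ : Submodule E A) ≠ ⊤ := by
      intro htop
      obtain ⟨e, he1, he2⟩ := Submodule.exists_sub_one_mem_and_smul_eq_zero_of_fg_of_le_smul
        P.asIdeal (⊤ : Submodule E A) Module.Finite.fg_top (by rw [htop])
      have h0 : u e = 0 := by
        have := he2 1 Submodule.mem_top
        rwa [hmod, one_mul] at this
      have he0 : e = 0 := huinj (by rw [h0, map_zero])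
      rw [he0, zero_sub] at he1
      have h1 : (1 : E) ∈ P.asIdeal := by
        have := P.asIdeal.neg_mem he1
        rwa [neg_neg] at this
      exact P.isMaximal.ne_top ((Ideal.eq_top_iff_one _).2 h1)
    haveI : Nontrivial (A ⧸ P.asIdeal • (⊤ : Submodule E A)) :=
      Submodule.Quotient.nontrivial_iff.2 hne
    have hV : Nontrivial ((E ⧸ P.asIdeal) ⊗[E] A) :=
      (TensorProduct.quotTensorEquivQuotSMul A P.asIdeal).toEquiv.nontrivial
    exact le_finrank_fibre hlin P.asIdeal r hC hV
  have hcop : Pairwise (Function.onFun IsCoprime fun P : MaximalSpectrum E => P.asIdeal) :=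
    fun _ _ ne => Ideal.isCoprime_of_isMaximal (MaximalSpectrum.ext_iff.ne.mp ne)
  have hexv : ∀ P : MaximalSpectrum E, ∃ v : Fin r → (E ⧸ P.asIdeal) ⊗[E] A,
      LinearIndependent (E ⧸ P.asIdeal) v := by
    intro P
    letI : Field (E ⧸ P.asIdeal) := Ideal.Quotient.field P.asIdeal
    exact ⟨_, (Module.finBasis (E ⧸ P.asIdeal)
      ((E ⧸ P.asIdeal) ⊗[E] A)).linearIndependent.comp _ (Fin.castLE_injective (hlow P))⟩
  choose v hv using hexv
  have hexa := fun j : Fin r => Ideal.pi_tensorProductMk_quotient_surjective A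
    (fun P : MaximalSpectrum E => P.asIdeal) hcop (fun P => v P j)
  choose a ha using hexa
  have ha' : ∀ j (P : MaximalSpectrum E), (1 : E ⧸ P.asIdeal) ⊗ₜ[E] a j = v P j :=
    fun j P => congrFun (ha j) P
  obtain ⟨ψ, hψ⟩ : ∃ ψ : (Fin r → E) →ₗ[E] A, ∀ x, ψ x = ∑ j, x j • a j :=
    ⟨Fintype.linearCombination E a, fun x => Fintype.linearCombination_apply E a x⟩
  have key : ∀ x : Fin r → E, ψ x ∈ maximalIdeal R • (⊤ : Submodule R A) →
      ∀ j, x j ∈ (maximalIdeal R).map (algebraMap R E) := by
    intro x hx j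
    apply mem_map_of_forall_maximal R E
    intro P0 hP0
    obtain ⟨P, hP⟩ : ∃ P : MaximalSpectrum E, P.asIdeal = P0 := ⟨⟨P0, hP0⟩, rfl⟩
    rw [← hP]
    have hcomap : P.asIdeal.comap (algebraMap R E) = maximalIdeal R := by
      haveI := P.isMaximal
      exact IsLocalRing.eq_maximalIdeal
        (Ideal.isMaximal_comap_of_isIntegral_of_isMaximal (R := R) P.asIdeal)
    have h0 : (1 : E ⧸ P.asIdeal) ⊗ₜ[E] (ψ x) = 0 := by
      refine Submodule.smul_induction_on hx (fun s hs n _ => ?_) (fun a b ha hb => ?_)
      · have hsP : algebraMap R E s ∈ P.asIdeal := by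
          have : s ∈ P.asIdeal.comap (algebraMap R E) := by rw [hcomap]; exact hs
          exact this
        have h1 : (algebraMap R E s) • (1 : E ⧸ P.asIdeal) = 0 := by
          rw [Algebra.smul_def, mul_one]
          exact Ideal.Quotient.eq_zero_iff_mem.2 hsP
        rw [← algebraMap_smul E s n, ← TensorProduct.smul_tmul, h1, TensorProduct.zero_tmul]
      · rw [TensorProduct.tmul_add, ha, hb, add_zero]
    have h1 : (1 : E ⧸ P.asIdeal) ⊗ₜ[E] (ψ x) =
        ∑ i, (Ideal.Quotient.mk P.asIdeal (x i)) • v P i := by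
      rw [hψ, TensorProduct.tmul_sum]
      refine Finset.sum_congr rfl fun i _ => ?_
      rw [← ha' i P, ← TensorProduct.smul_tmul, TensorProduct.smul_tmul', Algebra.smul_def,
        mul_one, smul_eq_mul, mul_one]
      rfl
    have h2 := Fintype.linearIndependent_iff.1 (hv P)
      (fun i => Ideal.Quotient.mk P.asIdeal (x i)) (h1.symm.trans h0) j
    exact Ideal.Quotient.eq_zero_iff_mem.1 h2
  obtain ⟨ψR, hψR⟩ : ∃ ψR : (Fin r → E) →ₗ[R] A, ∀ x, ψR x = ψ x :=
    ⟨ψ.restrictScalars R, fun x => rfl⟩
  have hmk : Function.Surjective (TensorProduct.mk R (ResidueField R) (Fin r → E) 1) :=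
    TensorProduct.mk_surjective _ _ _ IsLocalRing.residue_surjective
  have hinjk : Function.Injective (ψR.lTensor (ResidueField R)) := by
    rw [injective_iff_map_eq_zero]
    intro z hz
    obtain ⟨x, rfl⟩ := hmk z
    have hz' : (1 : ResidueField R) ⊗ₜ[R] (ψ x) = 0 := by
      rw [← hψR]; exact hz
    have hmem := HensAzIso.mem_smul_top_of_tmul_eq_zero R (ψ x) hz'
    have hxj := key x hmem
    apply HensAzIso.tmul_eq_zero_of_mem_smul_top
    rw [← Finset.univ_sum_single x]
    exact Submodule.sum_mem _ fun j _ =>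
      single_mem_smul_top R (maximalIdeal R) E r j (x j) (hxj j)
  obtain ⟨l2, hl2⟩ :=
    (IsLocalRing.split_injective_iff_lTensor_residueField_injective ψR).2 hinjk
  have hψinj : Function.Injective ψ := fun x y h =>
    Function.LeftInverse.injective (g := l2) (fun e => LinearMap.congr_fun hl2 e)
      (by rw [hψR, hψR, h])
  have hdim : Module.finrank (ResidueField R) (ResidueField R ⊗[R] (Fin r → E)) =
      Module.finrank (ResidueField R) (ResidueField R ⊗[R] A) := by
    rw [Module.finrank_baseChange, Module.finrank_baseChange, Module.finrank_pi_fintype,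
      Finset.sum_const, Finset.card_univ, Fintype.card_fin, smul_eq_mul, hE, hA, sq]
  have hsurjk : Function.Surjective (ψR.lTensor (ResidueField R)) := by
    have h := (LinearMap.injective_iff_surjective_of_finrank_eq_finrank hdim
      (f := ψR.baseChange (ResidueField R))).1 (by
        rw [LinearMap.baseChange_eq_ltensor]; exact hinjk)
    rwa [LinearMap.baseChange_eq_ltensor] at h
  have hψsurj : Function.Surjective ψ := by
    have hr : LinearMap.range ψR = ⊤ := by
      rw [← IsLocalRing.map_tensorProduct_mk_eq_top, eq_top_iff]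
      rintro z -
      obtain ⟨w, rfl⟩ := hsurjk z
      obtain ⟨x, rfl⟩ := hmk w
      exact ⟨ψR x, ⟨x, rfl⟩, rfl⟩
    intro y
    obtain ⟨x, hx⟩ := LinearMap.range_eq_top.1 hr y
    exact ⟨x, by rw [← hψR, hx]⟩
  obtain ⟨b⟩ : Nonempty (Module.Basis (Fin r) E A) :=
    ⟨Module.Basis.ofEquivFun (LinearEquiv.ofBijective ψ ⟨hψinj, hψsurj⟩).symm⟩
  haveI hfree : Module.Free E A := Module.Free.of_basis b
  have hfin : Module.finrank E A = r := by
    rw [Module.finrank_eq_card_basis b, Fintype.card_fin]
  refine ⟨hfree, hfin, ?_⟩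
  -- the splitting isomorphism
  haveI : FaithfulSMul E A := ⟨fun {e e'} h => huinj (by
    have := h 1
    rwa [hmod, hmod, one_mul, one_mul] at this)⟩
  haveI : IsAzumaya E (Module.End E A) := Groth.Agent.S19589.result E A
  haveI : IsAzumaya E (E ⊗[R] A) := Groth.Agent.S19588.result R E A
  let lE : A →ₐ[R] Module.End E A :=
    { toFun := fun a =>
        { toFun := fun y => a * y, map_add' := mul_add a, map_smul' := fun e y => hlin a e y }
      map_one' := by ext y; exact one_mul y
      map_mul' := fun a b => by ext y; exact mul_assoc a b y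
      map_zero' := by ext y; exact zero_mul y
      map_add' := fun a b => by ext y; exact add_mul a b y
      commutes' := fun s => by
        ext y
        show algebraMap R A s * y = s • y
        rw [Algebra.smul_def] }
  let Φ : E ⊗[R] A →ₐ[E] Module.End E A :=
    Algebra.TensorProduct.lift (Algebra.ofId E _) lE (fun e a => Algebra.commutes e (lE a))
  have hrank : ∀ p : PrimeSpectrum E, Module.rankAtStalk (R := E) (E ⊗[R] A) p =
      Module.rankAtStalk (R := E) (Module.End E A) p := by
    intro p
    rw [Module.rankAtStalk_eq_finrank_of_free, Module.rankAtStalk_eq_finrank_of_free,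
      Module.finrank_baseChange, Module.finrank_linearMap, hfin, hA, sq]
  exact ⟨AlgEquiv.ofBijective Φ (AzHom.bijective_of_azumaya Φ hrank)⟩

end Groth.Agent.Lib.Lead.EtaleSubalg
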