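import Mathlib
import Groth.Prelude
import Groth.Agent.Lib.Helper18.FamilyBaer
import Groth.Agent.Lib.Helper13.KInjSch
import Groth.Agent.Lib.Helper13.SuppOpen
import Groth.Agent.Lib.Helper13.ModGrothendieck
import Groth.Agent.Lib.Helper25.ExtZeroFlat
import Groth.Agent.Lib.Helper2.RHom.EZStalk

/-!
# A locally injective `O_X`-module is injective (lead)

Baer's criterion for the separating family `j_{V!} O_V`, `V` running over the opens on which the
module restricts to an injective module.
-/

set_option autoImplicit false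
set_option linter.style.haveILetI false
universe u

open CategoryTheory CategoryTheory.Limits AlgebraicGeometry TopologicalSpace Opposite
open Groth.Agent.Lib.Helper2.Stk Groth.Agent.Lib.Helper3

namespace Groth.Agent.Lib.Lead.LocInj

/-- restriction along an isomorphism of schemes preserves injective modules -/
lemma injective_restrict_iso {Y Z : Scheme.{u}} (e : Y ≅ Z) (I : Z.Modules) (hI : Injective I) :
    Injective ((Scheme.Modules.restrictFunctor e.hom).obj I) := by
  let η : 𝟭 Z.Modules ≅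
      Scheme.Modules.restrictFunctor e.hom ⋙ Scheme.Modules.restrictFunctor e.inv :=
    Scheme.Modules.restrictFunctorId.symm ≪≫
      Scheme.Modules.restrictFunctorCongr (e.inv_hom_id).symm ≪≫
      Scheme.Modules.restrictFunctorComp e.inv e.hom
  let ε : Scheme.Modules.restrictFunctor e.inv ⋙ Scheme.Modules.restrictFunctor e.hom ≅
      𝟭 Y.Modules :=
    (Scheme.Modules.restrictFunctorComp e.hom e.inv).symm ≪≫
      Scheme.Modules.restrictFunctorCongr (e.hom_inv_id) ≪≫
      Scheme.Modules.restrictFunctorId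
  let E : Z.Modules ≌ Y.Modules := CategoryTheory.Equivalence.mk (Scheme.Modules.restrictFunctor e.hom)
    (Scheme.Modules.restrictFunctor e.inv) η ε
  exact (E.map_injective_iff I).2 hI

variable {X : Scheme.{u}}

/-- if `F|_U` is injective and `V ≤ U` then `F|_V` is injective -/
lemma injective_restrict_of_le {U V : X.Opens} (hVU : V ≤ U) (F : X.Modules)
    (hF : Injective ((Scheme.Modules.restrictFunctor U.ι).obj F)) :
    Injective ((Scheme.Modules.restrictFunctor V.ι).obj F) := by
  let W : (U : Scheme.{u}).Opens := U.ι ⁻¹ᵁ V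
  have h1 := Groth.Agent.Lib.Helper13.KInjSch.injective_restrict W
    ((Scheme.Modules.restrictFunctor U.ι).obj F) hF
  let g : (W : Scheme.{u}) ⟶ X := W.ι ≫ U.ι
  have hrange : Set.range V.ι = Set.range g := by
    have h2 : Set.range g = U.ι '' (Set.range W.ι) := by
      show Set.range (W.ι ≫ U.ι) = _
      rw [Scheme.Hom.comp_base, TopCat.coe_comp, Set.range_comp]
    rw [h2, Scheme.Opens.range_ι, Scheme.Opens.range_ι]
    show (V : Set X) = U.ι '' (U.ι ⁻¹' V)
    rw [Set.image_preimage_eq_inter_range, Scheme.Opens.range_ι]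
    exact (Set.inter_eq_left.2 hVU).symm
  let e : (V : Scheme.{u}) ≅ (W : Scheme.{u}) := IsOpenImmersion.isoOfRangeEq V.ι g hrange
  have fac : e.hom ≫ g = V.ι := IsOpenImmersion.isoOfRangeEq_hom_fac V.ι g hrange
  have h3 : Injective ((Scheme.Modules.restrictFunctor g).obj F) :=
    Injective.of_iso ((Scheme.Modules.restrictFunctorComp W.ι U.ι).app F).symm h1
  have h4 := injective_restrict_iso e _ h3
  refine Injective.of_iso ?_ h4
  exact ((Scheme.Modules.restrictFunctorComp e.hom g).app F).symm ≪≫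
    (Scheme.Modules.restrictFunctorCongr fac).app F

/-- a morphism which vanishes on `V` has vanishing stalk maps at the points of `V` -/
lemma stalk_map_eq_zero_of_restrict (V : X.Opens) {M N : X.Modules} (d : M ⟶ N)
    (hd : (Scheme.Modules.restrictFunctor V.ι).map d = 0) (y : (V : Scheme.{u})) :
    (Φ (V.ι.base y)).map d = 0 := by
  have hnat := (Scheme.Modules.restrictStalkNatIso V.ι y).hom.naturality d
  have h0 : (Scheme.Modules.restrictFunctor V.ι ⋙ Scheme.Modules.toPresheaf (V : Scheme.{u}) ⋙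
      TopCat.Presheaf.stalkFunctor Ab.{u} y).map d = 0 := by
    rw [Functor.comp_map, hd]
    have hz : Scheme.Modules.Hom.mapPresheaf
        (0 : (Scheme.Modules.restrictFunctor V.ι).obj M ⟶ (Scheme.Modules.restrictFunctor V.ι).obj N) = 0 := rfl
    show (TopCat.Presheaf.stalkFunctor Ab.{u} y).map (Scheme.Modules.Hom.mapPresheaf 0) = 0
    rw [hz, Functor.map_zero]
  rw [h0, zero_comp] at hnat
  have h1 : (Scheme.Modules.toPresheaf X ⋙
      TopCat.Presheaf.stalkFunctor Ab.{u} (V.ι.base y)).map d = 0 := by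
    rw [← cancel_epi ((Scheme.Modules.restrictStalkNatIso V.ι y).hom.app M), ← hnat, comp_zero]
  ext m
  exact congrArg (fun k => k.hom m) h1

/-- a morphism out of a submodule of `j_! B` which vanishes on `V` is zero -/
lemma eq_zero_of_restrict_eq_zero (V : X.Opens) (B : (V : Scheme.{u}).Modules) {S N : X.Modules}
    (i : S ⟶ (CxOX.extZero V.ι).obj B) [Mono i] (d : S ⟶ N)
    (hd : (Scheme.Modules.restrictFunctor V.ι).map d = 0) : d = 0 := by
  apply Groth.Agent.Lib.Helper25.PullFaithful.eq_zero_of_stalk_zero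
  intro y
  by_cases hy : y ∈ V
  · exact stalk_map_eq_zero_of_restrict V d hd ⟨y, hy⟩
  · have hz : IsZero ((Φ y).obj S) := by
      haveI : Mono ((Φ y).map i) := (ModuleCat.mono_iff_injective _).2 (Φ_map_injective i y)
      exact IsZero.of_mono ((Φ y).map i) (Groth.Agent.Lib.Helper2.RHom.isZero_stalk_extZero V y hy B)
    exact hz.eq_of_src _ _

/-- the lifting property: maps from submodules of `j_! O_V` to `F` extend when `F|_V` is injective -/
lemma exists_lift (V : X.Opens) (F : X.Modules)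
    (hF : Injective ((Scheme.Modules.restrictFunctor V.ι).obj F)) {S : X.Modules}
    (i : S ⟶ CxOX.extZeroUnit V.ι) [Mono i] (φ : S ⟶ F) :
    ∃ ψ : CxOX.extZeroUnit V.ι ⟶ F, i ≫ ψ = φ := by
  let r := Scheme.Modules.restrictFunctor V.ι
  let adj := CxOX.extZeroAdj V.ι
  haveI : r.IsRightAdjoint := adj.isRightAdjoint
  haveI : Mono (r.map i) := inferInstance
  let ψ' : r.obj (CxOX.extZeroUnit V.ι) ⟶ r.obj F := Injective.factorThru (r.map φ) (r.map i)
  have hψ' : r.map i ≫ ψ' = r.map φ := Injective.comp_factorThru _ _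
  let O := Coh.structureModule (V : Scheme.{u})
  let ψ : CxOX.extZeroUnit V.ι ⟶ F := (adj.homEquiv O F).symm (adj.unit.app O ≫ ψ')
  have h1 : adj.unit.app O ≫ r.map ψ = adj.unit.app O ≫ ψ' := by
    have h0 := Equiv.apply_symm_apply (adj.homEquiv O F) (adj.unit.app O ≫ ψ')
    rw [Adjunction.homEquiv_unit] at h0
    exact h0
  haveI : IsIso adj.unit := Groth.Agent.Lib.Helper13.SuppOpen.isIso_extZeroAdj_unit V
  have h2 : r.map ψ = ψ' := (cancel_epi (adj.unit.app O)).1 h1
  refine ⟨ψ, ?_⟩
  have h3 : i ≫ ψ - φ = 0 := by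
    apply eq_zero_of_restrict_eq_zero V O i
    rw [Functor.map_sub, Functor.map_comp, h2, hψ', sub_self]
  exact sub_eq_zero.1 h3

/-- the extensions by zero `j_{V!} O_V`, for `V` in a basis, separate the category of modules -/
lemma isSeparating (B : Set X.Opens)
    (hB : ∀ (W : X.Opens) (y : X), y ∈ W → ∃ V ∈ B, y ∈ V ∧ V ≤ W) :
    ObjectProperty.IsSeparating
      (ObjectProperty.ofObj (fun V : B => CxOX.extZeroUnit V.1.ι)) := by
  intro M N f g hfg
  apply Scheme.Modules.hom_ext
  intro W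
  ext s
  apply TopCat.Presheaf.section_ext (⟨N.presheaf, N.isSheaf⟩ : TopCat.Sheaf Ab X.toTopCat) W
  intro y hy
  obtain ⟨V, hVB, hyV, hVW⟩ := hB W y hy
  have hle : V.ι ''ᵁ ⊤ ≤ V := V.ι_image_le ⊤
  have hy' : y ∈ V.ι ''ᵁ ⊤ := by
    rw [Scheme.Opens.ι_image_top]; exact hyV
  let s' : Γ(M, V) := QCSec.res M hVW s
  have h1 := hfg _ (ObjectProperty.ofObj_apply _ (⟨V, hVB⟩ : B))
    (Groth.Agent.Lib.Helper25.ExtZeroFlat.homOfSecExt M V s')
  have h2 := congrArg (fun k => k.app (V.ι ''ᵁ ⊤)
    (Groth.Agent.Lib.Helper25.ExtZeroFlat.unitSec V)) h1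
  have h3 : f.app (V.ι ''ᵁ ⊤) (QCSec.res M hle s') = g.app (V.ι ''ᵁ ⊤) (QCSec.res M hle s') := by
    rw [← Groth.Agent.Lib.Helper25.ExtZeroFlat.homOfSecExt_app_unitSec M V s']
    exact h2
  have h4 : QCSec.res M hle s' = QCSec.res M (hle.trans hVW) s := QCSec.res_res M hle hVW s
  rw [h4, QCExact.app_res', QCExact.app_res'] at h3
  have e1 := TopCat.Presheaf.germ_res_apply N.presheaf (homOfLE (hle.trans hVW)) y hy' (f.app W s)
  have e2 := TopCat.Presheaf.germ_res_apply N.presheaf (homOfLE (hle.trans hVW)) y hy' (g.app W s)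
  refine e1.symm.trans (Eq.trans ?_ e2)
  exact congrArg _ h3

/-- on an empty scheme all morphisms of modules agree -/
lemma hom_eq_of_isEmpty (hX : ¬ Nonempty X) {M N : X.Modules} (f g : M ⟶ N) : f = g := by
  have : f - g = 0 := by
    apply Groth.Agent.Lib.Helper25.PullFaithful.eq_zero_of_stalk_zero
    intro y
    exact absurd ⟨y⟩ hX
  exact sub_eq_zero.1 this

/-- a locally injective module is injective -/
theorem injective_of_locally_injective (F : X.Modules)
    (hF : ∀ x : X, ∃ U : X.Opens, x ∈ U ∧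
      Injective ((Scheme.Modules.restrictFunctor U.ι).obj F)) : Injective F := by
  classical
  haveI : IsGrothendieckAbelian.{u} X.Modules :=
    Groth.Agent.Lib.Helper13.ModGrothendieck.isGrothendieckAbelian X.ringCatSheaf
  by_cases hne : Nonempty X
  · let B : Set X.Opens := {V | Injective ((Scheme.Modules.restrictFunctor V.ι).obj F)}
    have hB : ∀ (W : X.Opens) (y : X), y ∈ W → ∃ V ∈ B, y ∈ V ∧ V ≤ W := by
      intro W y hy
      obtain ⟨U, hyU, hU⟩ := hF y
      exact ⟨W ⊓ U, injective_restrict_of_le inf_le_right F hU, ⟨hy, hyU⟩, inf_le_left⟩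
    haveI : Nonempty B := by
      obtain ⟨x⟩ := hne
      obtain ⟨U, -, hU⟩ := hF x
      exact ⟨⟨U, hU⟩⟩
    rw [injective_iff_rlp_monomorphisms_zero,
      ← Groth.Agent.Lib.Helper18.FamilyBaer.genMonos_rlp (isSeparating B hB)]
    intro A A' i hi
    obtain ⟨⟨V, S⟩⟩ := hi
    constructor
    intro f g sq
    obtain ⟨ψ, hψ⟩ := exists_lift V.1 F V.2 S.arrow f
    exact ⟨⟨{ l := ψ, fac_left := hψ, fac_right := (Limits.isZero_zero _).eq_of_tgt _ _ }⟩⟩
  · exact ⟨fun g f _ => ⟨0, hom_eq_of_isEmpty hne _ _⟩⟩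

end Groth.Agent.Lib.Lead.LocInj
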