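import Mathlib
import Groth.Prelude
import Groth.Agent.Lib.Helper2.Stk.Sky
import Groth.Agent.Lib.Helper25.PullFaithful

/-!
# `Γ_Z` preserves injective modules (lead)

For an open immersion `j : U ⟶ X` the functor `Γ_Z(F) = ker (F ⟶ j_* j^* F)` sends injective
`O_X`-modules to injective `O_X`-modules: it is "right adjoint" to the exact functor
`F ↦ coker (j_! j^* F ⟶ F)`.
-/

set_option autoImplicit false
set_option linter.style.haveILetI false
universe u

open CategoryTheory CategoryTheory.Limits AlgebraicGeometry TopologicalSpace Opposite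
open Groth.Agent.Lib.Helper2.Stk Scheme.Modules

namespace Groth.Agent.Lib.Lead.GammaZInj

variable {U X : Scheme.{u}} (j : U ⟶ X) [IsOpenImmersion j]

/-- `j_!` is fully faithful: the unit of `j_! ⊣ j^*` is an isomorphism. -/
lemma isIso_extZeroAdj_unit : IsIso (CxOX.extZeroAdj j).unit := by
  let t : Adjunction.Triple (CxOX.extZero j) (restrictFunctor j) (pushforward j) :=
    ⟨CxOX.extZeroAdj j, restrictAdjunction j⟩
  exact t.isIso_unit_iff_isIso_counit.2 inferInstance

/-- morphisms into the restriction of a skyscraper at a point outside the open agree -/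
lemma hom_sky_restrict_eq (x : X) (hx : x ∉ Set.range j) (T : ModuleCat.{u} (X.presheaf.stalk x))
    {B : U.Modules} (a b : B ⟶ (restrictFunctor j).obj ((skyF x).obj T)) : a = b := by
  apply Scheme.Modules.hom_ext
  intro W
  ext s
  funext h
  exfalso
  apply hx
  have h1 : x ∈ j ''ᵁ W := h.down
  obtain ⟨y, -, hy⟩ := h1
  exact ⟨y, hy⟩

/-- the stalk of `j_! B` at a point outside the open is zero -/
theorem isZero_stalk_extZero (x : X) (hx : x ∉ Set.range j) (B : U.Modules) :
    IsZero ((Φ x).obj ((CxOX.extZero j).obj B)) := by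
  rw [IsZero.iff_id_eq_zero]
  apply ((stalkSkyAdj x).homEquiv _ _).injective
  apply ((CxOX.extZeroAdj j).homEquiv _ _).injective
  exact hom_sky_restrict_eq j x hx _ _ _

/-- a morphism of modules which restricts to an isomorphism over `U` is an isomorphism on stalks
at the points of `U` -/
theorem isIso_stalk_of_isIso_restrict {M N : X.Modules} (φ : M ⟶ N)
    [IsIso ((restrictFunctor j).map φ)] (y : U) :
    IsIso ((Φ (j.base y)).map φ) := by
  rw [ConcreteCategory.isIso_iff_bijective]
  have hnat := (restrictStalkNatIso j y).hom.naturality φ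
  have h1 : IsIso ((Scheme.Modules.toPresheaf X ⋙
      TopCat.Presheaf.stalkFunctor Ab.{u} (j.base y)).map φ) := by
    have h2 : IsIso ((restrictStalkNatIso j y).hom.app M ≫
        (Scheme.Modules.toPresheaf X ⋙
          TopCat.Presheaf.stalkFunctor Ab.{u} (j.base y)).map φ) := by
      rw [← hnat]
      haveI : IsIso ((restrictFunctor j ⋙ Scheme.Modules.toPresheaf U ⋙
          TopCat.Presheaf.stalkFunctor Ab.{u} y).map φ) := by
        rw [Functor.comp_map]
        infer_instance
      infer_instance
    exact IsIso.of_isIso_comp_left ((restrictStalkNatIso j y).hom.app M) _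
  have h3 := (ConcreteCategory.isIso_iff_bijective _).1 h1
  exact h3

/-- `φ|_U = 0` iff `φ` composed with `I ⟶ j_* j^* I` vanishes -/
lemma restrict_map_eq_zero_iff {A I : X.Modules} (φ : A ⟶ I) :
    (restrictFunctor j).map φ = 0 ↔ φ ≫ (restrictAdjunction j).unit.app I = 0 := by
  have h : ((restrictAdjunction j).homEquiv A ((restrictFunctor j).obj I))
      ((restrictFunctor j).map φ) = φ ≫ (restrictAdjunction j).unit.app I := by
    rw [Adjunction.homEquiv_unit]
    exact ((restrictAdjunction j).unit.naturality φ).symm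
  have h0 : ((restrictAdjunction j).homEquiv A ((restrictFunctor j).obj I)) 0 = 0 := by
    rw [Adjunction.homEquiv_unit, Functor.map_zero, comp_zero]
  constructor
  · intro h1
    rw [← h, h1, h0]
  · intro h1
    apply ((restrictAdjunction j).homEquiv _ _).injective
    rw [h, h1, h0]

lemma counit_comp_eq_zero {A I : X.Modules} (φ : A ⟶ I)
    (h : (restrictFunctor j).map φ = 0) : (CxOX.extZeroAdj j).counit.app A ≫ φ = 0 := by
  have h1 := (CxOX.extZeroAdj j).counit.naturality φ
  simp only [Functor.comp_map, Functor.id_map] at h1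
  rw [← h1, h, Functor.map_zero, zero_comp]

lemma isIso_restrict_counit (A : X.Modules) :
    IsIso ((restrictFunctor j).map ((CxOX.extZeroAdj j).counit.app A)) := by
  haveI := isIso_extZeroAdj_unit j
  have h1 := (CxOX.extZeroAdj j).right_triangle_components A
  haveI : IsIso ((CxOX.extZeroAdj j).unit.app ((restrictFunctor j).obj A) ≫
      (restrictFunctor j).map ((CxOX.extZeroAdj j).counit.app A)) := by
    rw [h1]; infer_instance
  exact IsIso.of_isIso_comp_left ((CxOX.extZeroAdj j).unit.app ((restrictFunctor j).obj A)) _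

lemma restrict_map_π (A : X.Modules) :
    (restrictFunctor j).map (cokernel.π ((CxOX.extZeroAdj j).counit.app A)) = 0 := by
  haveI := isIso_restrict_counit j A
  rw [← cancel_epi ((restrictFunctor j).map ((CxOX.extZeroAdj j).counit.app A)),
    ← Functor.map_comp, cokernel.condition, Functor.map_zero, comp_zero]

/-- `F ↦ F / j_! j^* F` preserves monomorphisms -/
lemma mono_Q {A B : X.Modules} (f : A ⟶ B) [Mono f]
    (Qf : cokernel ((CxOX.extZeroAdj j).counit.app A) ⟶
      cokernel ((CxOX.extZeroAdj j).counit.app B))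
    (hQf : cokernel.π ((CxOX.extZeroAdj j).counit.app A) ≫ Qf =
      f ≫ cokernel.π ((CxOX.extZeroAdj j).counit.app B)) : Mono Qf := by
  apply Preadditive.mono_of_cancel_zero
  intro T t ht
  apply Groth.Agent.Lib.Helper25.PullFaithful.eq_zero_of_stalk_zero
  intro y
  by_cases hy : y ∈ Set.range j
  · obtain ⟨y', rfl⟩ := hy
    haveI := isIso_restrict_counit j A
    haveI : IsIso ((Φ (j.base y')).map ((CxOX.extZeroAdj j).counit.app A)) :=
      isIso_stalk_of_isIso_restrict j ((CxOX.extZeroAdj j).counit.app A) y'
    have e1 : (Φ (j.base y')).map ((CxOX.extZeroAdj j).counit.app A) ≫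
        (Φ (j.base y')).map (cokernel.π ((CxOX.extZeroAdj j).counit.app A)) = 0 := by
      rw [← Functor.map_comp, cokernel.condition, Functor.map_zero]
    have e2 : (Φ (j.base y')).map (cokernel.π ((CxOX.extZeroAdj j).counit.app A)) = 0 :=
      (cancel_epi ((Φ (j.base y')).map ((CxOX.extZeroAdj j).counit.app A))).1
        (e1.trans comp_zero.symm)
    have hz : IsZero ((Φ (j.base y')).obj (cokernel ((CxOX.extZeroAdj j).counit.app A))) :=
      IsZero.of_epi_eq_zero _ e2
    exact hz.eq_of_tgt _ _
  · have key : ∀ (C : X.Modules),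
        IsIso ((Φ y).map (cokernel.π ((CxOX.extZeroAdj j).counit.app C))) := by
      intro C
      have hzero : IsZero ((Φ y).obj ((CxOX.extZero j).obj ((restrictFunctor j).obj C))) :=
        isZero_stalk_extZero j y hy _
      let S : ShortComplex X.Modules :=
        ShortComplex.mk ((CxOX.extZeroAdj j).counit.app C)
          (cokernel.π ((CxOX.extZeroAdj j).counit.app C)) (cokernel.condition _)
      have hS : S.Exact := ShortComplex.exact_cokernel _
      have hS' : (S.map (Φ y)).Exact := hS.map (Φ y)
      haveI : Mono ((Φ y).map (cokernel.π ((CxOX.extZeroAdj j).counit.app C))) :=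
        hS'.mono_g (hzero.eq_of_src _ _)
      haveI : Epi ((Φ y).map (cokernel.π ((CxOX.extZeroAdj j).counit.app C))) := inferInstance
      exact isIso_of_mono_of_epi _
    haveI := key A
    haveI := key B
    have e3 : (Φ y).map (cokernel.π ((CxOX.extZeroAdj j).counit.app A)) ≫ (Φ y).map Qf =
        (Φ y).map f ≫ (Φ y).map (cokernel.π ((CxOX.extZeroAdj j).counit.app B)) := by
      rw [← Functor.map_comp, ← Functor.map_comp, hQf]
    haveI : Mono ((Φ y).map f) := (ModuleCat.mono_iff_injective _).2 (Φ_map_injective f y)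
    have e4 : (Φ y).map Qf =
        inv ((Φ y).map (cokernel.π ((CxOX.extZeroAdj j).counit.app A))) ≫ (Φ y).map f ≫
          (Φ y).map (cokernel.π ((CxOX.extZeroAdj j).counit.app B)) := by
      rw [IsIso.eq_inv_comp]; exact e3
    haveI : Mono ((Φ y).map Qf) := by
      rw [e4]; infer_instance
    rw [← cancel_mono ((Φ y).map Qf), ← Functor.map_comp, ht, Functor.map_zero, zero_comp]

/-- **`Γ_Z` preserves injective modules.** -/
theorem injective_gammaZ (I : X.Modules) [Injective I] :
    Injective ((DCoh.gammaZ j).obj I) := by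
  set η := (restrictAdjunction j).unit.app I with hη
  show Injective (kernel η)
  constructor
  intro A B g f hf
  let g' : A ⟶ I := g ≫ kernel.ι η
  have hg' : (restrictFunctor j).map g' = 0 :=
    (restrict_map_eq_zero_iff j g').2 (by rw [Category.assoc, kernel.condition, comp_zero])
  set εA := (CxOX.extZeroAdj j).counit.app A with hεA
  set εB := (CxOX.extZeroAdj j).counit.app B with hεB
  let gbar : cokernel εA ⟶ I := cokernel.desc εA g' (counit_comp_eq_zero j g' hg')
  have hw : εA ≫ f = (CxOX.extZero j).map ((restrictFunctor j).map f) ≫ εB :=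
    ((CxOX.extZeroAdj j).counit.naturality f).symm
  let Qf : cokernel εA ⟶ cokernel εB :=
    cokernel.map εA εB ((CxOX.extZero j).map ((restrictFunctor j).map f)) f hw
  have hQf : cokernel.π εA ≫ Qf = f ≫ cokernel.π εB := cokernel.π_desc _ _ _
  haveI : Mono Qf := mono_Q j f Qf hQf
  let k : cokernel εB ⟶ I := Injective.factorThru gbar Qf
  have hk : Qf ≫ k = gbar := Injective.comp_factorThru _ _
  let h' : B ⟶ I := cokernel.π εB ≫ k
  have hfh' : f ≫ h' = g' := by
    show f ≫ cokernel.π εB ≫ k = g'
    rw [← Category.assoc, ← hQf, Category.assoc, hk]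
    exact cokernel.π_desc _ _ _
  have hh' : h' ≫ η = 0 := (restrict_map_eq_zero_iff j h').1 (by
    show (restrictFunctor j).map (cokernel.π εB ≫ k) = 0
    rw [Functor.map_comp, restrict_map_π, zero_comp])
  refine ⟨kernel.lift η h' hh', ?_⟩
  rw [← cancel_mono (kernel.ι η), Category.assoc, kernel.lift_ι]
  exact hfh'

end Groth.Agent.Lib.Lead.GammaZInj
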