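import Mathlib
import Groth.Prelude
import Groth.Agent.Lib.Helper3.QCExact
import Groth.Agent.Lib.Helper3.InvGen
import Groth.Agent.Lib.Helper2.Stk.Lpull
import Groth.Agent.Lib.Lead.GammaZInj

/-!
# `j_! O_U` is a Noetherian object (lead)

For an affine open `j : U ⟶ X` of a locally Noetherian scheme, every ascending chain of
sub-`O_X`-modules (not necessarily quasi-coherent) of `j_! O_U` is stationary.
-/

set_option autoImplicit false
set_option linter.style.haveILetI false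
universe u

open CategoryTheory CategoryTheory.Limits AlgebraicGeometry TopologicalSpace Opposite
open Scheme.Modules

namespace Groth.Agent.Lib.Lead.NoethObj

open Groth.Agent.Lib.Helper3 Groth.Agent.Lib.Helper3.QCSec Groth.Agent.Lib.Helper3.InvGen
open Groth.Agent.Lib.Helper2.Stk

section Topology

variable {Y : Type*} [TopologicalSpace Y] [NoetherianSpace Y] [QuasiSober Y]
  {R : Type*} [CommRing R] [IsNoetherianRing R]

/-- A monotone sequence of "constructible families of ideals" on a Noetherian sober space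
is stationary. -/
theorem stabilize (𝔞 : ℕ → Y → Ideal R)
    (m1 : ∀ n m, n ≤ m → ∀ y, 𝔞 n y ≤ 𝔞 m y)
    (m2 : ∀ n y z, y ⤳ z → 𝔞 n z ≤ 𝔞 n y)
    (m3 : ∀ n y r, r ∈ 𝔞 n y → ∃ U : Opens Y, y ∈ U ∧ ∀ z ∈ U, r ∈ 𝔞 n z) :
    ∃ N, ∀ n, N ≤ n → ∀ y, 𝔞 n y = 𝔞 N y := by
  classical
  have enl : ∀ (Z : Set Y) (N N' : ℕ), N ≤ N' →
      (∀ n, N ≤ n → ∀ y ∈ Z, 𝔞 n y = 𝔞 N y) → (∀ n, N' ≤ n → ∀ y ∈ Z, 𝔞 n y = 𝔞 N' y) := by
    intro Z N N' h hN n hn y hy
    rw [hN n (h.trans hn) y hy, hN N' h y hy]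
  have key : ∀ Z : Closeds Y, ∃ N, ∀ n, N ≤ n → ∀ y ∈ (Z : Set Y), 𝔞 n y = 𝔞 N y := by
    intro Z
    induction Z using WellFoundedLT.induction with
    | ind Z ih =>
    by_cases hne : (Z : Set Y).Nonempty
    swap
    · refine ⟨0, fun n _ y hy => ?_⟩
      exact absurd ⟨y, hy⟩ hne
    by_cases hirr : IsPreirreducible (Z : Set Y)
    · -- irreducible case
      obtain ⟨y, hy⟩ := QuasiSober.sober (S := (Z : Set Y)) ⟨hne, hirr⟩ Z.isClosed
      have hyZ : y ∈ (Z : Set Y) := hy.mem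
      obtain ⟨N0, hN0⟩ := (monotone_stabilizes_iff_noetherian (R := R) (M := R)).2 inferInstance
        ⟨fun n => 𝔞 n y, fun n m h => m1 n m h y⟩
      have hN0' : ∀ m, N0 ≤ m → 𝔞 m y = 𝔞 N0 y := fun m hm => (hN0 m hm).symm
      obtain ⟨T, hT⟩ := (IsNoetherian.noetherian (𝔞 N0 y) : (𝔞 N0 y).FG)
      have hfin : ∀ T' : Finset R, (∀ r ∈ T', r ∈ 𝔞 N0 y) →
          ∃ U : Opens Y, y ∈ U ∧ ∀ z ∈ U, ∀ r ∈ T', r ∈ 𝔞 N0 z := by
        intro T'
        induction T' using Finset.induction_on with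
        | empty => exact fun _ => ⟨⊤, trivial, fun z _ r hr => absurd hr (Finset.notMem_empty r)⟩
        | insert a s _ ihs =>
          intro h
          obtain ⟨U1, hU1, h1⟩ := ihs (fun r hr => h r (Finset.mem_insert_of_mem hr))
          obtain ⟨U2, hU2, h2⟩ := m3 N0 y a (h a (Finset.mem_insert_self a s))
          refine ⟨U1 ⊓ U2, ⟨hU1, hU2⟩, fun z hz r hr => ?_⟩
          rcases Finset.mem_insert.1 hr with rfl | hr
          · exact h2 z hz.2
          · exact h1 z hz.1 r hr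
      obtain ⟨U, hyU, hU⟩ := hfin T (fun r hr => by
        rw [← hT]; exact Submodule.subset_span hr)
      have hUle : ∀ z ∈ U, 𝔞 N0 y ≤ 𝔞 N0 z := by
        intro z hz
        rw [← hT]
        exact Submodule.span_le.2 (fun r hr => hU z hz r hr)
      have hZU : ∀ n, N0 ≤ n → ∀ z ∈ (Z : Set Y), z ∈ U → 𝔞 n z = 𝔞 N0 z := by
        intro n hn z hzZ hzU
        apply le_antisymm
        · calc 𝔞 n z ≤ 𝔞 n y := m2 n y z (hy.specializes hzZ)
            _ = 𝔞 N0 y := hN0' n hn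
            _ ≤ 𝔞 N0 z := hUle z hzU
        · exact m1 N0 n hn z
      let Z' : Closeds Y := Z ⊓ ⟨(U : Set Y)ᶜ, U.isOpen.isClosed_compl⟩
      have hZ' : Z' < Z := by
        refine lt_of_le_of_ne inf_le_left (fun h => ?_)
        have : y ∈ (Z' : Set Y) := by rw [h]; exact hyZ
        exact this.2 hyU
      obtain ⟨N1, hN1⟩ := ih Z' hZ'
      refine ⟨max N0 N1, fun n hn z hz => ?_⟩
      by_cases hzU : z ∈ U
      · rw [hZU n ((le_max_left _ _).trans hn) z hz hzU, hZU _ (le_max_left _ _) z hz hzU]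
      · have hz' : z ∈ (Z' : Set Y) := ⟨hz, hzU⟩
        exact enl _ N1 _ (le_max_right _ _) hN1 n hn z hz'
    · -- reducible case
      rw [isPreirreducible_iff_isClosed_union_isClosed] at hirr
      push Not at hirr
      obtain ⟨z1, z2, hz1, hz2, hsub, hn1, hn2⟩ := hirr
      let Z1 : Closeds Y := Z ⊓ ⟨z1, hz1⟩
      let Z2 : Closeds Y := Z ⊓ ⟨z2, hz2⟩
      have hZ1 : Z1 < Z := by
        refine lt_of_le_of_ne inf_le_left (fun h => hn1 ?_)
        intro a ha
        have : a ∈ (Z1 : Set Y) := by rw [h]; exact ha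
        exact this.2
      have hZ2 : Z2 < Z := by
        refine lt_of_le_of_ne inf_le_left (fun h => hn2 ?_)
        intro a ha
        have : a ∈ (Z2 : Set Y) := by rw [h]; exact ha
        exact this.2
      obtain ⟨N1, hN1⟩ := ih Z1 hZ1
      obtain ⟨N2, hN2⟩ := ih Z2 hZ2
      refine ⟨max N1 N2, fun n hn z hz => ?_⟩
      rcases hsub hz with h | h
      · exact enl _ N1 _ (le_max_left _ _) hN1 n hn z ⟨hz, h⟩
      · exact enl _ N2 _ (le_max_right _ _) hN2 n hn z ⟨hz, h⟩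
  obtain ⟨N, hN⟩ := key ⊤
  exact ⟨N, fun n hn y => hN n hn y trivial⟩

end Topology

section Dict

variable {Y : Scheme.{u}}

theorem rres_add' {A B : Y.Opens} (h : A ≤ B) (a b : Γ(Y, B)) :
    rres Y h (a + b) = rres Y h a + rres Y h b := _root_.map_add _ a b

theorem ofFun_add (V : Y.Opens) (a b : Γ(Y, V)) : ofFun V (a + b) = ofFun V a + ofFun V b := rfl

theorem comp_app_apply {M N P : Y.Modules} (f : M ⟶ N) (g : N ⟶ P) (k : M ⟶ P) (h : f ≫ g = k)
    (V : Y.Opens) (t : Γ(M, V)) : g.app V (f.app V t) = k.app V t := by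
  subst h
  rfl

/-- the ideal of global functions whose germ at `y` lies in the subsheaf `S` of `O_Y`. -/
def stalkIdeal (S : Subobject (Coh.structureModule Y)) (y : Y) : Ideal Γ(Y, ⊤) where
  carrier := {r | ∃ V : Y.Opens, y ∈ V ∧ ∃ t : Γ((S : Y.Modules), V),
    S.arrow.app V t = ofFun V (rres Y le_top r)}
  add_mem' := by
    rintro a b ⟨V, hV, t, ht⟩ ⟨V', hV', t', ht'⟩
    refine ⟨V ⊓ V', ⟨hV, hV'⟩, res _ inf_le_left t + res _ inf_le_right t', ?_⟩
    rw [QCExact.app_add, QCExact.app_res', QCExact.app_res', ht, ht', res_ofFun, res_ofFun,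
      rres_rres, rres_rres, rres_add', ofFun_add]
  zero_mem' := by
    refine ⟨⊤, trivial, 0, ?_⟩
    rw [QCExact.app_zero]
    have : rres Y (le_top : (⊤ : Y.Opens) ≤ ⊤) (0 : Γ(Y, ⊤)) = 0 := _root_.map_zero _
    rw [this]
    rfl
  smul_mem' := by
    rintro c a ⟨V, hV, t, ht⟩
    refine ⟨V, hV, rres Y (le_top : V ≤ ⊤) c • t, ?_⟩
    rw [Scheme.Modules.Hom.app_smul, ht, smul_ofFun, smul_eq_mul, rres_mul]

theorem mem_stalkIdeal (S : Subobject (Coh.structureModule Y)) (y : Y) (r : Γ(Y, ⊤)) :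
    r ∈ stalkIdeal S y ↔ ∃ V : Y.Opens, y ∈ V ∧ ∃ t : Γ((S : Y.Modules), V),
      S.arrow.app V t = ofFun V (rres Y le_top r) := Iff.rfl

theorem stalkIdeal_mono {S S' : Subobject (Coh.structureModule Y)} (h : S ≤ S') (y : Y) :
    stalkIdeal S y ≤ stalkIdeal S' y := by
  rintro r ⟨V, hV, t, ht⟩
  refine ⟨V, hV, (Subobject.ofLE S S' h).app V t, ?_⟩
  rw [comp_app_apply _ _ _ (Subobject.ofLE_arrow h), ht]

theorem stalkIdeal_specializes (S : Subobject (Coh.structureModule Y)) {y z : Y} (h : y ⤳ z) :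
    stalkIdeal S z ≤ stalkIdeal S y := by
  rintro r ⟨V, hV, t, ht⟩
  exact ⟨V, h.mem_open V.isOpen hV, t, ht⟩

theorem stalkIdeal_open (S : Subobject (Coh.structureModule Y)) (y : Y) (r : Γ(Y, ⊤))
    (hr : r ∈ stalkIdeal S y) : ∃ U : Y.Opens, y ∈ U ∧ ∀ z ∈ U, r ∈ stalkIdeal S z := by
  obtain ⟨V, hV, t, ht⟩ := hr
  exact ⟨V, hV, fun z hz => ⟨V, hz, t, ht⟩⟩

theorem eq_of_stalkIdeal_le [IsAffine Y] {S S' : Subobject (Coh.structureModule Y)} (h : S ≤ S')
    (hst : ∀ y, stalkIdeal S' y ≤ stalkIdeal S y) : S = S' := by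
  have hepi : Epi (Subobject.ofLE S S' h) := by
    apply QCExact.epi_of_locally_surjective
    intro W s x hx
    obtain ⟨f, hf1, hf2⟩ := (isAffineOpen_top Y).exists_basicOpen_le (V := W) ⟨x, hx⟩ trivial
    have hloc : IsLocalization.Away f Γ(Y, Y.basicOpen f) :=
      (isAffineOpen_top Y).isLocalization_basicOpen f
    have halg : ∀ r : Γ(Y, ⊤), algebraMap Γ(Y, ⊤) Γ(Y, Y.basicOpen f) r =
        rres Y (Y.basicOpen_le f) r := fun r => rfl
    obtain ⟨⟨r, m⟩, hrm⟩ := IsLocalization.surj (Submonoid.powers f)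
      (toFun (Y.basicOpen f) (S'.arrow.app (Y.basicOpen f) (res _ hf1 s)))
    simp only at hrm
    have hr : r ∈ stalkIdeal S' x := by
      refine ⟨Y.basicOpen f, hf2,
        (algebraMap Γ(Y, ⊤) Γ(Y, Y.basicOpen f) (m : Γ(Y, ⊤))) • res _ hf1 s, ?_⟩
      rw [Scheme.Modules.Hom.app_smul]
      have h1 : S'.arrow.app (Y.basicOpen f) (res _ hf1 s) =
        ofFun _ (toFun (Y.basicOpen f) (S'.arrow.app (Y.basicOpen f) (res _ hf1 s))) := rfl
      rw [h1, smul_ofFun, mul_comm, hrm, halg]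
    obtain ⟨V, hV, t0, ht0⟩ := hst x hr
    have hu : IsUnit (algebraMap Γ(Y, ⊤) Γ(Y, Y.basicOpen f) (m : Γ(Y, ⊤))) :=
      IsLocalization.map_units _ m
    obtain ⟨v, hv⟩ := hu.exists_left_inv
    refine ⟨Y.basicOpen f ⊓ V, inf_le_left.trans hf1, ⟨hf2, hV⟩,
      rres Y (inf_le_left : Y.basicOpen f ⊓ V ≤ Y.basicOpen f) v •
        res (S : Y.Modules) (inf_le_right : Y.basicOpen f ⊓ V ≤ V) t0, ?_⟩
    apply QCExact.injective_sections S'.arrow
    rw [comp_app_apply _ _ _ (Subobject.ofLE_arrow h), Scheme.Modules.Hom.app_smul,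
      QCExact.app_res', ht0, res_ofFun, rres_rres, smul_ofFun]
    have h2 : res (S' : Y.Modules) (inf_le_left.trans hf1 : Y.basicOpen f ⊓ V ≤ W) s =
        res _ (inf_le_left : Y.basicOpen f ⊓ V ≤ Y.basicOpen f) (res _ hf1 s) := by
      rw [res_res]
    rw [h2, QCExact.app_res']
    have h1 : S'.arrow.app (Y.basicOpen f) (res _ hf1 s) =
      ofFun _ (toFun (Y.basicOpen f) (S'.arrow.app (Y.basicOpen f) (res _ hf1 s))) := rfl
    rw [h1, res_ofFun]
    congr 1
    have h3 : rres Y (le_top : Y.basicOpen f ⊓ V ≤ ⊤) r =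
        rres Y (inf_le_left : Y.basicOpen f ⊓ V ≤ Y.basicOpen f)
          (algebraMap Γ(Y, ⊤) Γ(Y, Y.basicOpen f) r) := by
      rw [halg, rres_rres]
    rw [h3, ← hrm, ← rres_mul]
    congr 1
    rw [mul_comm _ (algebraMap _ _ _), ← mul_assoc, hv, one_mul]
  haveI : IsIso (Subobject.ofLE S S' h) := isIso_of_mono_of_epi _
  exact Subobject.eq_of_comm (asIso (Subobject.ofLE S S' h)) (Subobject.ofLE_arrow h)

/-- On a Noetherian affine scheme, `O_Y` is a Noetherian object of `Y.Modules`. -/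
theorem stabilizes_structureModule [IsAffine Y] [IsNoetherian Y]
    (c : ℕ →o Subobject (Coh.structureModule Y)) : ∃ N, ∀ m, N ≤ m → c N = c m := by
  haveI : IsNoetherianRing Γ(Y, ⊤) :=
    IsLocallyNoetherian.component_noetherian ⟨⊤, isAffineOpen_top Y⟩
  obtain ⟨N, hN⟩ := stabilize (Y := Y) (R := Γ(Y, ⊤)) (fun n y => stalkIdeal (c n) y)
    (fun n m h y => stalkIdeal_mono (c.monotone h) y)
    (fun n y z h => stalkIdeal_specializes (c n) h)
    (fun n y r hr => stalkIdeal_open (c n) y r hr)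
  exact ⟨N, fun m hm => eq_of_stalkIdeal_le (c.monotone hm) (fun y => (hN m hm y).le)⟩

end Dict

section Transfer

variable {U X : Scheme.{u}} (j : U ⟶ X) [IsOpenImmersion j]

theorem stabilizes_extZeroUnit [IsLocallyNoetherian X] [IsAffine U]
    (c : ℕ →o Subobject (CxOX.extZeroUnit j)) : ∃ n : ℕ, ∀ m : ℕ, n ≤ m → c n = c m := by
  haveI : IsLocallyNoetherian U := isLocallyNoetherian_of_isOpenImmersion j
  haveI : IsNoetherian U := {}
  haveI : IsIso (CxOX.extZeroAdj j).unit := GammaZInj.isIso_extZeroAdj_unit j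
  haveI : (restrictFunctor j).IsRightAdjoint := (CxOX.extZeroAdj j).isRightAdjoint
  let θ : (restrictFunctor j).obj (CxOX.extZeroUnit j) ≅ Coh.structureModule U :=
    (asIso ((CxOX.extZeroAdj j).unit.app (Coh.structureModule U))).symm
  let c' : ℕ →o Subobject (Coh.structureModule U) :=
    ⟨fun n => Subobject.mk ((restrictFunctor j).map (c n).arrow ≫ θ.hom), fun n m h => by
      refine Subobject.mk_le_mk_of_comm
        ((restrictFunctor j).map (Subobject.ofLE _ _ (c.monotone h))) ?_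
      rw [← Category.assoc, ← Functor.map_comp, Subobject.ofLE_arrow]⟩
  obtain ⟨N, hN⟩ := stabilizes_structureModule c'
  refine ⟨N, fun m hm => ?_⟩
  have hle : c N ≤ c m := c.monotone hm
  have heq : Subobject.mk ((restrictFunctor j).map (c N).arrow ≫ θ.hom) =
      Subobject.mk ((restrictFunctor j).map (c m).arrow ≫ θ.hom) := hN m hm
  have h1 : (Subobject.isoOfMkEqMk _ _ heq).hom =
      (restrictFunctor j).map (Subobject.ofLE _ _ hle) := by
    rw [← cancel_mono ((restrictFunctor j).map (c m).arrow ≫ θ.hom)]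
    rw [← Category.assoc ((restrictFunctor j).map (Subobject.ofLE _ _ hle)), ← Functor.map_comp,
      Subobject.ofLE_arrow]
    exact Subobject.ofMkLEMk_comp heq.le
  haveI : IsIso ((restrictFunctor j).map (Subobject.ofLE _ _ hle)) := by
    rw [← h1]; infer_instance
  haveI : ∀ y : X, IsIso ((Φ y).map (Subobject.ofLE _ _ hle)) := by
    intro y
    by_cases hy : y ∈ Set.range j
    · obtain ⟨u, rfl⟩ := hy
      exact GammaZInj.isIso_stalk_of_isIso_restrict j _ u
    · have hz : ∀ S : Subobject (CxOX.extZeroUnit j), IsZero ((Φ y).obj (S : X.Modules)) := by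
        intro S
        haveI : Mono ((Φ y).map S.arrow) := inferInstance
        exact IsZero.of_mono ((Φ y).map S.arrow)
          (GammaZInj.isZero_stalk_extZero j y hy (Coh.structureModule U))
      exact ⟨⟨0, (hz _).eq_of_src _ _, (hz _).eq_of_src _ _⟩⟩
  haveI : IsIso (Subobject.ofLE _ _ hle) :=
    jointlyReflectIsomorphisms_Φ.isIso (Subobject.ofLE _ _ hle)
  exact Subobject.eq_of_comm (asIso (Subobject.ofLE _ _ hle)) (Subobject.ofLE_arrow hle)

end Transfer

end Groth.Agent.Lib.Lead.NoethObj
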