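import Mathlib
import Groth.Prelude
import Groth.Agent.Lib.Lead.LocInj
import Groth.Agent.Lib.Lead.NoethObj
import Groth.Agent.Lib.Helper18.FamilyBaer
import Groth.Agent.Lib.Helper13.ModGrothendieck
import Groth.Agent.Lib.Helper25.PullFaithful

/-!
# Direct sums of injective `O_X`-modules on a locally Noetherian scheme are injective (lead)
-/

set_option autoImplicit false
set_option linter.style.haveILetI false
universe u

open CategoryTheory CategoryTheory.Limits AlgebraicGeometry TopologicalSpace Opposite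
open Scheme.Modules

namespace Groth.Agent.Lib.Lead.SumInj

open Groth.Agent.Lib.Helper2.Stk

variable {X : Scheme.{u}} {ι : Type u} (I : ι → X.Modules)

open Classical in
/-- the idempotent of `∐ I` killing the components in `J` -/
noncomputable def eJ (J : Finset ι) : ∐ I ⟶ ∐ I :=
  Sigma.desc (fun j => if j ∈ J then 0 else Sigma.ι I j)

lemma ι_eJ_of_mem {J : Finset ι} {j : ι} (h : j ∈ J) : Sigma.ι I j ≫ eJ I J = 0 := by
  simp [eJ, h]

lemma ι_eJ_of_not_mem {J : Finset ι} {j : ι} (h : j ∉ J) :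
    Sigma.ι I j ≫ eJ I J = Sigma.ι I j := by
  simp [eJ, h]

lemma eJ_comp (J J' : Finset ι) (h : J ⊆ J') : eJ I J ≫ eJ I J' = eJ I J' := by
  apply Sigma.hom_ext
  intro j
  by_cases hj : j ∈ J
  · rw [← Category.assoc, ι_eJ_of_mem I hj, zero_comp, ι_eJ_of_mem I (h hj)]
  · rw [← Category.assoc, ι_eJ_of_not_mem I hj]

/-- every element of the stalk of a coproduct is killed by `e_J` for all large finite `J` -/
lemma exists_finset_stalk (x : X) (t : (Φ x).obj (∐ I)) :
    ∃ J : Finset ι, ∀ J' : Finset ι, J ⊆ J' → (Φ x).map (eJ I J') t = 0 := by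
  classical
  let K : Submodule (X.presheaf.stalk x) ((Φ x).obj (∐ I)) :=
    { carrier := {t | ∃ J : Finset ι, ∀ J', J ⊆ J' → (Φ x).map (eJ I J') t = 0}
      add_mem' := by
        rintro a b ⟨Ja, ha⟩ ⟨Jb, hb⟩
        refine ⟨Ja ∪ Jb, fun J' hJ' => ?_⟩
        rw [_root_.map_add, ha J' (Finset.union_subset_left hJ'),
          hb J' (Finset.union_subset_right hJ'), add_zero]
      zero_mem' := ⟨∅, fun J' _ => _root_.map_zero _⟩
      smul_mem' := by
        rintro c a ⟨Ja, ha⟩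
        exact ⟨Ja, fun J' hJ' => by rw [_root_.map_smul, ha J' hJ', smul_zero]⟩ }
  suffices h : K = ⊤ by
    have : t ∈ K := by rw [h]; trivial
    exact this
  let π : (Φ x).obj (∐ I) ⟶ ModuleCat.of _ ((Φ x).obj (∐ I) ⧸ K) := ModuleCat.ofHom K.mkQ
  have hπ : π = 0 := by
    apply ((stalkSkyAdj x).homEquiv _ _).injective
    apply Sigma.hom_ext
    intro j
    have h0 : (Φ x).map (Sigma.ι I j) ≫ π = 0 := by
      ext m
      show K.mkQ ((Φ x).map (Sigma.ι I j) m) = 0
      rw [Submodule.mkQ_apply, Submodule.Quotient.mk_eq_zero]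
      refine ⟨{j}, fun J' hJ' => ?_⟩
      have hj : j ∈ J' := hJ' (Finset.mem_singleton_self j)
      have h1 : (Φ x).map (Sigma.ι I j ≫ eJ I J') m = 0 := by
        rw [ι_eJ_of_mem I hj, Functor.map_zero]; rfl
      rw [Functor.map_comp] at h1
      exact h1
    rw [← Adjunction.homEquiv_naturality_left, ← Adjunction.homEquiv_naturality_left, h0,
      comp_zero]
  have h0 : K.mkQ = 0 := by
    have := congrArg ModuleCat.Hom.hom hπ
    exact this
  rw [← Submodule.ker_mkQ K, h0, LinearMap.ker_zero]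

/-- a map from a submodule of `j_! O_V` (`V` affine, `X` locally Noetherian) to a direct sum
factors through a finite subsum -/
theorem exists_factor [IsLocallyNoetherian X] (V : X.Opens) (hV : IsAffineOpen V) {S : X.Modules}
    (a : S ⟶ CxOX.extZeroUnit V.ι) [Mono a] (φ : S ⟶ ∐ I) :
    ∃ J : Finset ι, φ ≫ eJ I J = 0 := by
  classical
  haveI : IsAffine (V : Scheme.{u}) := hV
  have hwf : WellFoundedGT (Subobject (CxOX.extZeroUnit V.ι)) := by
    rw [wellFoundedGT_iff_monotone_chain_condition]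
    exact fun c => NoethObj.stabilizes_extZeroUnit V.ι c
  let T : Finset ι → Subobject (CxOX.extZeroUnit V.ι) :=
    fun J => Subobject.mk (kernel.ι (φ ≫ eJ I J) ≫ a)
  have hT : ∀ J J', J ⊆ J' → T J ≤ T J' := by
    intro J J' h
    refine Subobject.mk_le_mk_of_comm (kernel.lift _ (kernel.ι (φ ≫ eJ I J)) ?_) ?_
    · rw [← eJ_comp I J J' h, ← Category.assoc φ, ← Category.assoc, kernel.condition, zero_comp]
    · rw [← Category.assoc, kernel.lift_ι]
  obtain ⟨_, ⟨J0, rfl⟩, hJ0⟩ := hwf.wf.has_min (Set.range T) ⟨T ∅, ∅, rfl⟩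
  have hmax : ∀ J', J0 ⊆ J' → T J' = T J0 := fun J' h =>
    (eq_of_le_of_not_lt (hT _ _ h) (hJ0 _ ⟨J', rfl⟩)).symm
  refine ⟨J0, ?_⟩
  apply Groth.Agent.Lib.Helper25.PullFaithful.eq_zero_of_stalk_zero
  intro x
  ext s
  obtain ⟨J1, hJ1⟩ := exists_finset_stalk I x ((Φ x).map φ s)
  have h1 := hJ1 (J0 ∪ J1) Finset.subset_union_right
  have h2 := hmax (J0 ∪ J1) Finset.subset_union_left
  have h3 : kernel.ι (φ ≫ eJ I (J0 ∪ J1)) ≫ φ ≫ eJ I J0 = 0 := by
    have hle : T (J0 ∪ J1) ≤ T J0 := h2.le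
    have h4 : Subobject.ofMkLEMk _ _ hle ≫ (kernel.ι (φ ≫ eJ I J0) ≫ a) =
        kernel.ι (φ ≫ eJ I (J0 ∪ J1)) ≫ a := Subobject.ofMkLEMk_comp hle
    rw [← Category.assoc] at h4
    have h5 := (cancel_mono a).1 h4
    rw [← h5, Category.assoc, kernel.condition, comp_zero]
  have hex : ∃ s', (Φ x).map (kernel.ι (φ ≫ eJ I (J0 ∪ J1))) s' = s := by
    let SC : ShortComplex X.Modules := ShortComplex.mk (kernel.ι (φ ≫ eJ I (J0 ∪ J1)))
      (φ ≫ eJ I (J0 ∪ J1)) (kernel.condition _)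
    have hSC : SC.Exact := ShortComplex.exact_of_f_is_kernel _ (kernelIsKernel _)
    have hSC' : (SC.map (Φ x)).Exact := hSC.map (Φ x)
    rw [ShortComplex.moduleCat_exact_iff] at hSC'
    refine hSC' s ?_
    show (Φ x).map (φ ≫ eJ I (J0 ∪ J1)) s = 0
    rw [Functor.map_comp]
    exact h1
  obtain ⟨s', rfl⟩ := hex
  have h6 : (Φ x).map (kernel.ι (φ ≫ eJ I (J0 ∪ J1)) ≫ φ ≫ eJ I J0) s' = 0 := by
    rw [h3, Functor.map_zero]; rfl
  rw [Functor.map_comp] at h6
  exact h6

/-- extension of maps from submodules of `j_! O_V` into a direct sum of injectives -/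
theorem exists_lift [IsLocallyNoetherian X] (hI : ∀ j, Injective (I j))
    (V : X.Opens) (hV : IsAffineOpen V) {S : X.Modules}
    (a : S ⟶ CxOX.extZeroUnit V.ι) [Mono a] (φ : S ⟶ ∐ I) :
    ∃ ψ : CxOX.extZeroUnit V.ι ⟶ ∐ I, a ≫ ψ = φ := by
  classical
  obtain ⟨J0, hJ0⟩ := exists_factor I V hV a φ
  haveI : ∀ j : (J0 : Set ι), Injective (I j.1) := fun j => hI j.1
  let Bp : X.Modules := ⨁ (fun j : (J0 : Set ι) => I j.1)
  let r : ∐ I ⟶ Bp := Sigma.desc (fun j =>
    if h : j ∈ J0 then biproduct.ι (fun j : (J0 : Set ι) => I j.1) ⟨j, h⟩ else 0)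
  let incl : Bp ⟶ ∐ I := biproduct.desc (fun j : (J0 : Set ι) => Sigma.ι I j.1)
  have hsum : r ≫ incl + eJ I J0 = 𝟙 _ := by
    apply Sigma.hom_ext
    intro j
    rw [Preadditive.comp_add, Category.comp_id, ← Category.assoc]
    by_cases hj : j ∈ J0
    · rw [ι_eJ_of_mem I hj, add_zero]
      simp only [r, incl, colimit.ι_desc, Cofan.mk_ι_app, dif_pos hj, biproduct.ι_desc]
    · rw [ι_eJ_of_not_mem I hj]
      simp only [r, colimit.ι_desc, Cofan.mk_ι_app, dif_neg hj, zero_comp, zero_add]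
  have hφ : φ = (φ ≫ r) ≫ incl := by
    have := congrArg (fun k => φ ≫ k) hsum
    simp only [Preadditive.comp_add, hJ0, add_zero, Category.comp_id] at this
    rw [Category.assoc]
    exact this.symm
  haveI : Injective Bp := inferInstance
  refine ⟨Injective.factorThru (φ ≫ r) a ≫ incl, ?_⟩
  rw [← Category.assoc, Injective.comp_factorThru, ← hφ]

theorem injective_sigma [IsLocallyNoetherian X] (hI : ∀ j, Injective (I j)) :
    Injective (∐ I) := by
  classical
  haveI : IsGrothendieckAbelian.{u} X.Modules :=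
    Groth.Agent.Lib.Helper13.ModGrothendieck.isGrothendieckAbelian X.ringCatSheaf
  let B : Set X.Opens := {V | IsAffineOpen V}
  have hB : ∀ (W : X.Opens) (y : X), y ∈ W → ∃ V ∈ B, y ∈ V ∧ V ≤ W := by
    intro W y hy
    obtain ⟨V, hV, hyV, hVW⟩ := Opens.isBasis_iff_nbhd.mp X.isBasis_affineOpens hy
    exact ⟨V, hV, hyV, hVW⟩
  haveI : Nonempty B := ⟨⟨⊥, isAffineOpen_bot X⟩⟩
  rw [injective_iff_rlp_monomorphisms_zero,
    ← Groth.Agent.Lib.Helper18.FamilyBaer.genMonos_rlp (LocInj.isSeparating B hB)]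
  intro A A' i hi
  obtain ⟨⟨V, S⟩⟩ := hi
  constructor
  intro f g sq
  obtain ⟨ψ, hψ⟩ := exists_lift I hI V.1 V.2 S.arrow f
  exact ⟨⟨{ l := ψ, fac_left := hψ, fac_right := (Limits.isZero_zero _).eq_of_tgt _ _ }⟩⟩

end Groth.Agent.Lib.Lead.SumInj
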