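import Mathlib
import Groth.Prelude
import Groth.Agent.Lib.Helper2.Stk.Sky
import Groth.Agent.Lib.Helper3.QCPush
import Groth.Agent.Lib.Helper3.TwistMul
import Groth.Agent.Lib.Helper3.InvGen
import Groth.Agent.Lib.Helper4.Matlis

/-!
# The injective hull of a residue field as an injective `O_X`-module (lead)

`J(x) = i_*(E~)` for `i : Spec O_{X,x} ⟶ X` and `E` an injective hull of `k(x)`: it is the
skyscraper at `x` with value `E`, hence injective.
-/

set_option autoImplicit false
set_option linter.style.haveILetI false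
universe u

open CategoryTheory CategoryTheory.Limits AlgebraicGeometry TopologicalSpace Opposite
open Scheme.Modules

namespace Groth.Agent.Lib.Lead.SkyHull

open Groth.Agent.Lib.Helper2.Stk Groth.Agent.Lib.Helper3 Groth.Agent.Lib.Helper3.QCSec
  Groth.Agent.Lib.Helper3.InvGen

variable {X : Scheme.{u}} (x : X)

section Recognition

variable (M : X.Modules)

theorem germ_bijective
    (h1 : ∀ (W W' : X.Opens) (h : W' ≤ W), x ∈ W' → Function.Bijective (res M h))
    (W : X.Opens) (hx : x ∈ W) : Function.Bijective (M.presheaf.germ W x hx) := by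
  constructor
  · rw [injective_iff_map_eq_zero]
    intro s hs
    have hs' : M.presheaf.germ W x hx s = M.presheaf.germ W x hx 0 := by
      rw [hs, _root_.map_zero]
    obtain ⟨W', hxW', iU, iV, hres⟩ := TopCat.Presheaf.germ_eq M.presheaf x hx hx s 0 hs'
    apply (h1 W W' iU.le hxW').1
    show M.presheaf.map iU.op s = res M iU.le 0
    rw [hres, res_zero]
    exact _root_.map_zero _
  · intro t
    obtain ⟨U, hxU, s, rfl⟩ := TopCat.Presheaf.exists_germ_eq M.presheaf t
    obtain ⟨s0, hs0⟩ := (h1 W (W ⊓ U) inf_le_left ⟨hx, hxU⟩).2 (res M inf_le_right s)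
    refine ⟨s0, ?_⟩
    have e1 := TopCat.Presheaf.germ_res_apply M.presheaf (homOfLE (inf_le_left : W ⊓ U ≤ W)) x
      ⟨hx, hxU⟩ s0
    have e2 := TopCat.Presheaf.germ_res_apply M.presheaf (homOfLE (inf_le_right : W ⊓ U ≤ U)) x
      ⟨hx, hxU⟩ s
    refine e1.symm.trans (Eq.trans ?_ e2)
    exact congrArg _ hs0

theorem isIso_unitApp
    (h0 : ∀ W : X.Opens, x ∉ W → ∀ s : Γ(M, W), s = 0)
    (h1 : ∀ (W W' : X.Opens) (h : W' ≤ W), x ∈ W' → Function.Bijective (res M h)) :
    IsIso (unitApp x M) := by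
  apply TwistMul.isIso_of_locally_bijective
  intro y
  refine ⟨⊤, trivial, fun V _ => ?_⟩
  by_cases hx : x ∈ V
  · constructor
    · intro s t hst
      have h2 : M.presheaf.germ V x hx s = M.presheaf.germ V x hx t :=
        congrFun hst ⟨hx⟩
      exact (germ_bijective x M h1 V hx).1 h2
    · intro φ
      obtain ⟨s, hs⟩ := (germ_bijective x M h1 V hx).2 ((φ : SkySec x _ V) ⟨hx⟩)
      refine ⟨s, ?_⟩
      funext h
      exact hs
  · constructor
    · intro s t _
      rw [h0 V hx s, h0 V hx t]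
    · intro φ
      refine ⟨0, ?_⟩
      funext h
      exact absurd h.down hx

theorem injective_of_sky
    (h0 : ∀ W : X.Opens, x ∉ W → ∀ s : Γ(M, W), s = 0)
    (h1 : ∀ (W W' : X.Opens) (h : W' ≤ W), x ∈ W' → Function.Bijective (res M h))
    (hinj : Injective ((Φ x).obj M)) : Injective M := by
  haveI := isIso_unitApp x M h0 h1
  haveI : Injective ((skyF x).obj ((Φ x).obj M)) :=
    Injective.injective_of_adjoint (stalkSkyAdj x) _
  exact Injective.of_iso (asIso (unitApp x M)).symm
    (show Injective (sky x ((Φ x).obj M)) from this)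

end Recognition

section Tilde

theorem bijective_map_of_eq_top {Y : Scheme.{u}} (T : Y.Modules) {A B : Y.Opens} (i : A ⟶ B)
    (hA : A = ⊤) (hB : B = ⊤) : Function.Bijective (T.presheaf.map i.op) := by
  subst hB
  subst hA
  have : i = 𝟙 _ := Subsingleton.elim _ _
  rw [this, op_id, T.presheaf.map_id]
  exact Function.bijective_id

theorem sections_eq_zero_of_eq_basicOpen {R : CommRingCat.{u}} (E : ModuleCat.{u} R) (g : R)
    (hg : ∀ e : E, ∃ k : ℕ, g ^ k • e = 0)
    (D : (Spec R).Opens) (hD : D = PrimeSpectrum.basicOpen g) (s : Γ(tilde E, D)) : s = 0 := by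
  haveI : IsLocalizedModule.Away g (tilde.toOpen E D).hom := by subst hD; infer_instance
  let N := (modulesSpecToSheaf.obj (tilde E)).presheaf.obj (op D)
  let s' : N := s
  obtain ⟨⟨e, ⟨_, n, rfl⟩⟩, he⟩ := IsLocalizedModule.surj (Submonoid.powers g)
    (tilde.toOpen E D).hom s'
  obtain ⟨k, hk⟩ := hg e
  have he' : (g ^ n) • s' = (tilde.toOpen E D).hom e := he
  have h2 : (g ^ k) • (tilde.toOpen E D).hom e = 0 := by
    rw [← _root_.map_smul, hk, _root_.map_zero]
  have h3 : (g ^ (k + n)) • s' = 0 := by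
    rw [pow_add, mul_smul, he', h2]
  have hreg : IsSMulRegular Γ(tilde E, D) (g ^ (k + n)) :=
    IsSMulRegular.pow _ (Scheme.Modules.isSMulRegular_of_le_basicOpen hD.le)
  apply hreg
  show (g ^ (k + n)) • s = (g ^ (k + n)) • (0 : Γ(tilde E, D))
  rw [smul_zero]
  exact h3

theorem tilde_sections_eq_zero {R : CommRingCat.{u}} [IsLocalRing R] (E : ModuleCat.{u} R)
    (hpt : LocCoh.IsPowerTorsion (IsLocalRing.maximalIdeal R) E)
    (U : (Spec R).Opens) (hU : IsLocalRing.closedPoint R ∉ U) (s : Γ(tilde E, U)) : s = 0 := by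
  let J : Type u := {g : R // (PrimeSpectrum.basicOpen g : (Spec R).Opens) ≤ U}
  have hcov : U ≤ ⨆ g : J, (PrimeSpectrum.basicOpen g.1 : (Spec R).Opens) := by
    intro y hy
    obtain ⟨_, ⟨g, rfl⟩, hyg, hgU⟩ :=
      Opens.isBasis_iff_nbhd.mp (PrimeSpectrum.isBasis_basic_opens (R := R)) hy
    exact Opens.mem_iSup.mpr ⟨⟨g, hgU⟩, hyg⟩
  refine sec_eq_of_locally_eq (tilde E) (fun g : J => (PrimeSpectrum.basicOpen g.1 : (Spec R).Opens))
    U (fun g => g.2) hcov s 0 (fun g => ?_)
  obtain ⟨g, hgU⟩ := g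
  have hz : res (tilde E) hgU (0 : Γ(tilde E, U)) = 0 := res_zero _ _
  rw [hz]
  have hg : g ∈ IsLocalRing.maximalIdeal R := by
    by_contra h
    exact hU (hgU h)
  refine sections_eq_zero_of_eq_basicOpen E g (fun e => ?_) _ rfl _
  obtain ⟨k, hk⟩ := hpt e
  exact ⟨k, hk _ (Ideal.pow_mem_pow hg k)⟩

end Tilde

section Hull

variable (E : Type u) [AddCommGroup E] [Module (X.presheaf.stalk x) E]

/-- the module `J(x)` -/
noncomputable abbrev hullMod : X.Modules :=
  (Scheme.Modules.pushforward (X.fromSpecStalk x)).obj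
    (tilde (ModuleCat.of (X.presheaf.stalk x) E))

theorem preimage_eq_top (W : X.Opens) (hx : x ∈ W) : (X.fromSpecStalk x) ⁻¹ᵁ W = ⊤ := by
  rw [eq_top_iff]
  intro y _
  have h1 : (X.fromSpecStalk x) y ⤳ x := by
    have h := Scheme.range_fromSpecStalk (x := x)
    have h2 : (X.fromSpecStalk x) y ∈ Set.range (X.fromSpecStalk x) := ⟨y, rfl⟩
    rw [h] at h2
    exact h2
  exact h1.mem_open W.isOpen hx

theorem hull_h0 (hpt : LocCoh.IsPowerTorsion (IsLocalRing.maximalIdeal (X.presheaf.stalk x)) E)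
    (W : X.Opens) (hx : x ∉ W) (s : Γ(hullMod x E, W)) : s = 0 := by
  apply tilde_sections_eq_zero (ModuleCat.of (X.presheaf.stalk x) E) hpt
    ((X.fromSpecStalk x) ⁻¹ᵁ W)
  intro h
  apply hx
  have h2 : (X.fromSpecStalk x) (IsLocalRing.closedPoint (X.presheaf.stalk x)) ∈ W := h
  rwa [Scheme.fromSpecStalk_closedPoint] at h2

theorem hull_h1 (W W' : X.Opens) (h : W' ≤ W) (hx : x ∈ W') :
    Function.Bijective (res (hullMod x E) h) := by
  show Function.Bijective ((tilde (ModuleCat.of (X.presheaf.stalk x) E)).presheaf.map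
    ((Opens.map (X.fromSpecStalk x).base).map (homOfLE h)).op)
  exact bijective_map_of_eq_top _ _ (preimage_eq_top x W' hx) (preimage_eq_top x W (h hx))

end Hull

section Final

variable (E : Type u) [AddCommGroup E] [Module (X.presheaf.stalk x) E]

/-- the comparison map `E → J(x)_x` -/
noncomputable def toSec (e : E) : Γ(hullMod x E, ⊤) :=
  (tilde.toOpen (ModuleCat.of (X.presheaf.stalk x) E) ⊤).hom e

theorem toSec_bijective : Function.Bijective (toSec x E) :=
  (ConcreteCategory.isIso_iff_bijective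
    (tilde.toOpen (ModuleCat.of (X.presheaf.stalk x) E) ⊤)).1 inferInstance

theorem toSec_add (a b : E) : toSec x E (a + b) = toSec x E a + toSec x E b :=
  _root_.map_add (tilde.toOpen (ModuleCat.of (X.presheaf.stalk x) E) ⊤).hom a b

theorem res_toSec_smul (W : X.Opens) (hxW : x ∈ W) (ρ : Γ(X, W)) (e : E) :
    res (hullMod x E) (le_top : W ≤ ⊤) (toSec x E (X.presheaf.germ W x hxW ρ • e)) =
      ρ • res (hullMod x E) (le_top : W ≤ ⊤) (toSec x E e) := by
  let R := X.presheaf.stalk x
  let M : ModuleCat.{u} R := ModuleCat.of R E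
  let T := tilde M
  let r : R := X.presheaf.germ W x hxW ρ
  have h : (X.fromSpecStalk x) ⁻¹ᵁ W ≤ (⊤ : (Spec R).Opens) := le_top
  have s1 : (tilde.toOpen M ⊤).hom (r • e) = r • (tilde.toOpen M ⊤).hom e :=
    _root_.map_smul (tilde.toOpen M ⊤).hom r e
  let t : Γ(T, ⊤) := (tilde.toOpen M ⊤).hom e
  have s2 : (show Γ(T, ⊤) from (tilde.toOpen M ⊤).hom (r • e)) =
      ((Spec R).presheaf.map (⊤ : (Spec R).Opens).leTop.op ((Scheme.ΓSpecIso R).inv r)) • t := s1
  show res T h (show Γ(T, ⊤) from (tilde.toOpen M ⊤).hom (r • e)) =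
    ((X.fromSpecStalk x).app W ρ) • res T h t
  rw [s2, res_smul, Scheme.fromSpecStalk_app hxW]
  congr 1

/-- the comparison map `E → J(x)_x`, linear over the local ring -/
noncomputable def toStalkLin : E →ₗ[X.presheaf.stalk x] ((Φ x).obj (hullMod x E)) where
  toFun e := (hullMod x E).presheaf.germ ⊤ x trivial (toSec x E e)
  map_add' a b := by
    rw [toSec_add]
    exact _root_.map_add _ _ _
  map_smul' r e := by
    obtain ⟨W, hxW, ρ, rfl⟩ := TopCat.Presheaf.exists_germ_eq X.presheaf r
    simp only [RingHom.id_apply]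
    have e1 := TopCat.Presheaf.germ_res_apply (hullMod x E).presheaf (homOfLE (le_top : W ≤ ⊤)) x
      hxW (toSec x E (X.presheaf.germ W x hxW ρ • e))
    have e2 := TopCat.Presheaf.germ_res_apply (hullMod x E).presheaf (homOfLE (le_top : W ≤ ⊤)) x
      hxW (toSec x E e)
    refine e1.symm.trans ?_
    refine Eq.trans ?_ (congrArg (fun z => X.presheaf.germ W x hxW ρ • z) e2)
    show (hullMod x E).presheaf.germ W x hxW
      (res (hullMod x E) (le_top : W ≤ ⊤) (toSec x E (X.presheaf.germ W x hxW ρ • e))) = _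
    rw [res_toSec_smul, germ_smul']
    rfl

theorem toStalkLin_bijective : Function.Bijective (toStalkLin x E) :=
  (germ_bijective x _ (hull_h1 x E) ⊤ trivial).comp (toSec_bijective x E)

theorem injective_hullMod (hinj : Module.Injective (X.presheaf.stalk x) E)
    (hpt : LocCoh.IsPowerTorsion (IsLocalRing.maximalIdeal (X.presheaf.stalk x)) E) :
    Injective (hullMod x E) := by
  apply injective_of_sky x _ (hull_h0 x E hpt) (hull_h1 x E)
  haveI : Injective (ModuleCat.of (X.presheaf.stalk x) E) :=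
    Module.injective_object_of_injective_module _ _
  let eqv : E ≃ₗ[X.presheaf.stalk x] ((Φ x).obj (hullMod x E)) :=
    LinearEquiv.ofBijective (toStalkLin x E) (toStalkLin_bijective x E)
  exact Injective.of_iso eqv.toModuleIso inferInstance

end Final

end Groth.Agent.Lib.Lead.SkyHull
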