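import Mathlib
import Groth.Prelude
import Groth.Agent.Lib.Lead.SkyHull

/-!
# `E~` is an injective `O`-module for `E` an indecomposable injective (lead)

Let `R` be a ring, `x` a prime and `E` an injective `R`-module which is `x`-power torsion and on
which every `s ∉ x` acts bijectively.  Then `E~` is the skyscraper sheaf at `x` with value `E`, and it
is an injective `O_{Spec R}`-module.
-/

set_option autoImplicit false
set_option linter.style.haveILetI false
universe u

open CategoryTheory CategoryTheory.Limits AlgebraicGeometry TopologicalSpace Opposite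
open Scheme.Modules

namespace Groth.Agent.Lib.Lead.TildeInj1

open Groth.Agent.Lib.Helper2.Stk Groth.Agent.Lib.Helper3 Groth.Agent.Lib.Helper3.QCSec
  Groth.Agent.Lib.Helper3.InvGen

variable {R : CommRingCat.{u}} (E : ModuleCat.{u} R) (x : Spec R)

theorem toOpen_res_apply (U V : (Spec R).Opens) (h : V ≤ U) (e : E) :
    res (tilde E) h ((tilde.toOpen E U).hom e) = (tilde.toOpen E V).hom e := rfl

theorem exists_pow_smul_eq_zero
    (hpt : ∀ e : E, ∃ n : ℕ, ∀ a ∈ x.asIdeal ^ n, a • e = 0)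
    (g : R) (hg : g ∈ x.asIdeal) (e : E) : ∃ k : ℕ, g ^ k • e = 0 := by
  obtain ⟨k, hk⟩ := hpt e
  exact ⟨k, hk _ (Ideal.pow_mem_pow hg k)⟩

theorem sections_eq_zero
    (hpt : ∀ e : E, ∃ n : ℕ, ∀ a ∈ x.asIdeal ^ n, a • e = 0)
    (U : (Spec R).Opens) (hU : x ∉ U) (s : Γ(tilde E, U)) : s = 0 := by
  let J : Type u := {g : R // (PrimeSpectrum.basicOpen g : (Spec R).Opens) ≤ U}
  have hcov : U ≤ ⨆ g : J, (PrimeSpectrum.basicOpen g.1 : (Spec R).Opens) := by
    intro y hy
    obtain ⟨_, ⟨g, rfl⟩, hyg, hgU⟩ :=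
      Opens.isBasis_iff_nbhd.mp (PrimeSpectrum.isBasis_basic_opens (R := R)) hy
    exact Opens.mem_iSup.mpr ⟨⟨g, hgU⟩, hyg⟩
  refine sec_eq_of_locally_eq (tilde E) (fun g : J => (PrimeSpectrum.basicOpen g.1 : (Spec R).Opens))
    U (fun g => g.2) hcov s 0 (fun g => ?_)
  obtain ⟨g, hgU⟩ := g
  have hz : res (tilde E) hgU (0 : Γ(tilde E, U)) = 0 := res_zero _ _
  rw [hz]
  have hg : g ∈ x.asIdeal := by
    by_contra h
    exact hU (hgU h)
  exact SkyHull.sections_eq_zero_of_eq_basicOpen E g (exists_pow_smul_eq_zero E x hpt g hg) _ rfl _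

theorem toOpen_basicOpen_bijective
    (hbij : ∀ s : R, s ∉ x.asIdeal → Function.Bijective (fun e : E => s • e))
    (g : R) (hg : g ∉ x.asIdeal) (D : (Spec R).Opens) (hD : D = PrimeSpectrum.basicOpen g) :
    Function.Bijective (tilde.toOpen E D).hom := by
  haveI : IsLocalizedModule.Away g (tilde.toOpen E D).hom := by subst hD; infer_instance
  have hgn : ∀ n : ℕ, Function.Bijective (fun e : E => (g ^ n) • e) := fun n =>
    hbij _ (fun h => hg (x.isPrime.mem_of_pow_mem n h))
  constructor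
  · rw [injective_iff_map_eq_zero]
    intro e he
    obtain ⟨⟨_, n, rfl⟩, hn⟩ :=
      (IsLocalizedModule.eq_zero_iff (Submonoid.powers g) (tilde.toOpen E D).hom).1 he
    have hn' : (g ^ n) • e = 0 := hn
    apply (hgn n).1
    show (g ^ n) • e = (g ^ n) • 0
    rw [hn', smul_zero]
  · intro y
    obtain ⟨⟨e, ⟨_, n, rfl⟩⟩, he⟩ := IsLocalizedModule.surj (Submonoid.powers g)
      (tilde.toOpen E D).hom y
    have he1 : (g ^ n) • y = (tilde.toOpen E D).hom e := he
    obtain ⟨e', he'⟩ := (hgn n).2 e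
    have he2 : (g ^ n) • e' = e := he'
    refine ⟨e', ?_⟩
    have h3 : (g ^ n) • (tilde.toOpen E D).hom e' = (g ^ n) • y := by
      rw [← _root_.map_smul, he2, he1]
    have hreg : IsSMulRegular Γ(tilde E, D) (g ^ n) :=
      IsSMulRegular.pow _ (Scheme.Modules.isSMulRegular_of_le_basicOpen hD.le)
    exact hreg h3

theorem toOpen_injective_of_mem
    (hbij : ∀ s : R, s ∉ x.asIdeal → Function.Bijective (fun e : E => s • e))
    (W : (Spec R).Opens) (hx : x ∈ W) : Function.Injective (tilde.toOpen E W).hom := by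
  obtain ⟨_, ⟨g, rfl⟩, hxg, hgW⟩ :=
    Opens.isBasis_iff_nbhd.mp (PrimeSpectrum.isBasis_basic_opens (R := R)) hx
  intro a b hab
  apply (toOpen_basicOpen_bijective E x hbij g hxg _ rfl).1
  rw [← toOpen_res_apply E W _ hgW a, ← toOpen_res_apply E W _ hgW b, hab]

theorem res_toOpen_eq
    (hpt : ∀ e : E, ∃ n : ℕ, ∀ a ∈ x.asIdeal ^ n, a • e = 0)
    (hbij : ∀ s : R, s ∉ x.asIdeal → Function.Bijective (fun e : E => s • e))
    (W Dg : (Spec R).Opens) (g : R) (hDg : Dg = PrimeSpectrum.basicOpen g) (hg : g ∉ x.asIdeal)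
    (hgW : Dg ≤ W) (σ : Γ(tilde E, W)) (e : E)
    (he : (tilde.toOpen E Dg).hom e = res (tilde E) hgW σ)
    (Dh : (Spec R).Opens) (h : R) (hDh : Dh = PrimeSpectrum.basicOpen h) (hhW : Dh ≤ W) :
    res (tilde E) hhW ((tilde.toOpen E W).hom e) = res (tilde E) hhW σ := by
  by_cases hh : h ∈ x.asIdeal
  · exact (SkyHull.sections_eq_zero_of_eq_basicOpen E h (exists_pow_smul_eq_zero E x hpt h hh) Dh hDh
      (res (tilde E) hhW ((tilde.toOpen E W).hom e))).trans
      (SkyHull.sections_eq_zero_of_eq_basicOpen E h (exists_pow_smul_eq_zero E x hpt h hh) Dh hDh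
        (res (tilde E) hhW σ)).symm
  · obtain ⟨e'', he''⟩ :=
      (toOpen_basicOpen_bijective E x hbij h hh Dh hDh).2 (res (tilde E) hhW σ)
    have hgh : g * h ∉ x.asIdeal := fun hc => (x.isPrime.mem_or_mem hc).elim hg hh
    obtain ⟨Dgh, hDgh⟩ : ∃ D : (Spec R).Opens, D = PrimeSpectrum.basicOpen (g * h) := ⟨_, rfl⟩
    have hle1 : Dgh ≤ Dg := by
      subst hDgh; subst hDg
      exact PrimeSpectrum.basicOpen_mul_le_left g h
    have hle2 : Dgh ≤ Dh := by
      subst hDgh; subst hDh
      exact PrimeSpectrum.basicOpen_mul_le_right g h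
    have a1 : res (tilde E) hle2 ((tilde.toOpen E Dh).hom e'') = (tilde.toOpen E Dgh).hom e'' :=
      toOpen_res_apply E Dh Dgh hle2 e''
    have a2 : res (tilde E) hle2 ((tilde.toOpen E Dh).hom e'') =
        res (tilde E) hle2 (res (tilde E) hhW σ) := congrArg (res (tilde E) hle2) he''
    have a3 : res (tilde E) hle2 (res (tilde E) hhW σ) = res (tilde E) (hle2.trans hhW) σ :=
      res_res (tilde E) hle2 hhW σ
    have a4 : res (tilde E) hle1 (res (tilde E) hgW σ) = res (tilde E) (hle2.trans hhW) σ :=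
      res_res (tilde E) hle1 hgW σ
    have a5 : res (tilde E) hle1 ((tilde.toOpen E Dg).hom e) =
        res (tilde E) hle1 (res (tilde E) hgW σ) := congrArg (res (tilde E) hle1) he
    have a6 : res (tilde E) hle1 ((tilde.toOpen E Dg).hom e) = (tilde.toOpen E Dgh).hom e :=
      toOpen_res_apply E Dg Dgh hle1 e
    have h4 : (tilde.toOpen E Dgh).hom e'' = (tilde.toOpen E Dgh).hom e :=
      a1.symm.trans (a2.trans (a3.trans (a4.symm.trans (a5.symm.trans a6))))
    have hee : e'' = e := (toOpen_basicOpen_bijective E x hbij (g * h) hgh Dgh hDgh).1 h4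
    have b1 : res (tilde E) hhW ((tilde.toOpen E W).hom e) = (tilde.toOpen E Dh).hom e :=
      toOpen_res_apply E W Dh hhW e
    have b2 : (tilde.toOpen E Dh).hom e = (tilde.toOpen E Dh).hom e'' := by rw [hee]
    exact b1.trans (b2.trans he'')

theorem toOpen_surjective_of_mem
    (hpt : ∀ e : E, ∃ n : ℕ, ∀ a ∈ x.asIdeal ^ n, a • e = 0)
    (hbij : ∀ s : R, s ∉ x.asIdeal → Function.Bijective (fun e : E => s • e))
    (W : (Spec R).Opens) (hx : x ∈ W) : Function.Surjective (tilde.toOpen E W).hom := by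
  obtain ⟨_, ⟨g, rfl⟩, hxg, hgW⟩ :=
    Opens.isBasis_iff_nbhd.mp (PrimeSpectrum.isBasis_basic_opens (R := R)) hx
  obtain ⟨Dg, hDg⟩ : ∃ D : (Spec R).Opens, D = PrimeSpectrum.basicOpen g := ⟨_, rfl⟩
  have hgW' : Dg ≤ W := by subst hDg; exact hgW
  intro σ
  obtain ⟨e, he⟩ := (toOpen_basicOpen_bijective E x hbij g hxg Dg hDg).2 (res (tilde E) hgW' σ)
  refine ⟨e, ?_⟩
  let J : Type u := {h : R // (PrimeSpectrum.basicOpen h : (Spec R).Opens) ≤ W}
  have hcov : W ≤ ⨆ h : J, (PrimeSpectrum.basicOpen h.1 : (Spec R).Opens) := by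
    intro y hy
    obtain ⟨_, ⟨h, rfl⟩, hyh, hhW⟩ :=
      Opens.isBasis_iff_nbhd.mp (PrimeSpectrum.isBasis_basic_opens (R := R)) hy
    exact Opens.mem_iSup.mpr ⟨⟨h, hhW⟩, hyh⟩
  refine sec_eq_of_locally_eq (tilde E) (fun h : J => (PrimeSpectrum.basicOpen h.1 : (Spec R).Opens))
    W (fun h => h.2) hcov _ σ (fun h => ?_)
  obtain ⟨h, hhW⟩ := h
  exact res_toOpen_eq E x hpt hbij W Dg g hDg hxg hgW' σ e he _ h rfl hhW

theorem res_bijective
    (hpt : ∀ e : E, ∃ n : ℕ, ∀ a ∈ x.asIdeal ^ n, a • e = 0)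
    (hbij : ∀ s : R, s ∉ x.asIdeal → Function.Bijective (fun e : E => s • e))
    (W W' : (Spec R).Opens) (h : W' ≤ W) (hx : x ∈ W') :
    Function.Bijective (res (tilde E) h) := by
  have b1 : Function.Bijective (tilde.toOpen E W).hom :=
    ⟨toOpen_injective_of_mem E x hbij W (h hx), toOpen_surjective_of_mem E x hpt hbij W (h hx)⟩
  have b2 : Function.Bijective (tilde.toOpen E W').hom :=
    ⟨toOpen_injective_of_mem E x hbij W' hx, toOpen_surjective_of_mem E x hpt hbij W' hx⟩
  have hcomp : (res (tilde E) h) ∘ (tilde.toOpen E W).hom = (tilde.toOpen E W').hom :=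
    funext (toOpen_res_apply E W W' h)
  refine (Function.Bijective.of_comp_iff (res (tilde E) h) b1).1 ?_
  rw [hcomp]
  exact b2

section Stalk

theorem injective_of_baer {B : Type u} [CommRing B] (N : ModuleCat.{u} B) (h : Module.Baer B N) :
    Injective N := by
  haveI : Module.Injective B N := Module.Baer.injective h
  exact (Module.injective_iff_injective_object B N).1 this

/-- the comparison map `E → (E~)_x` -/
noncomputable def toStk (e : E) : ((Φ (X := Spec R) x).obj (tilde E)) :=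
  (tilde E).presheaf.germ ⊤ x trivial ((tilde.toOpen E ⊤).hom e)

theorem toStk_add (a b : E) : toStk E x (a + b) = toStk E x a + toStk E x b := by
  show (tilde E).presheaf.germ ⊤ x trivial ((tilde.toOpen E ⊤).hom (a + b)) = _
  rw [_root_.map_add]
  exact _root_.map_add _ _ _

theorem toStk_smul (r : R) (e : E) :
    toStk E x (r • e) =
      ((Spec R).presheaf.germ ⊤ x trivial ((Scheme.ΓSpecIso R).inv r)) • toStk E x e := by
  obtain ⟨t, ht⟩ : ∃ t : Γ(tilde E, ⊤), t = (tilde.toOpen E ⊤).hom e := ⟨_, rfl⟩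
  obtain ⟨t', ht'⟩ : ∃ t' : Γ(tilde E, ⊤), t' = (tilde.toOpen E ⊤).hom (r • e) := ⟨_, rfl⟩
  have s1 : (tilde.toOpen E ⊤).hom (r • e) = r • (tilde.toOpen E ⊤).hom e :=
    _root_.map_smul (tilde.toOpen E ⊤).hom r e
  have s2 : t' =
      ((Spec R).presheaf.map (⊤ : (Spec R).Opens).leTop.op ((Scheme.ΓSpecIso R).inv r)) • t := by
    rw [ht', ht]
    exact s1
  have e1 : toStk E x (r • e) = (tilde E).presheaf.germ ⊤ x trivial t' := by rw [ht']; rfl
  have e2 : toStk E x e = (tilde E).presheaf.germ ⊤ x trivial t := by rw [ht]; rfl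
  have g1 := germ_smul' (X := Spec R) x (tilde E) ⊤ trivial
    ((Spec R).presheaf.map (⊤ : (Spec R).Opens).leTop.op ((Scheme.ΓSpecIso R).inv r)) t
  have g2 : (Spec R).presheaf.germ ⊤ x trivial
      ((Spec R).presheaf.map (⊤ : (Spec R).Opens).leTop.op ((Scheme.ΓSpecIso R).inv r)) =
      (Spec R).presheaf.germ ⊤ x trivial ((Scheme.ΓSpecIso R).inv r) :=
    TopCat.Presheaf.germ_res_apply (Spec R).presheaf ((⊤ : (Spec R).Opens).leTop) x trivial
      ((Scheme.ΓSpecIso R).inv r)
  exact e1.trans ((congrArg _ s2).trans (g1.trans (congrArg₂ (· • ·) g2 e2.symm)))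

theorem toStk_bijective
    (hpt : ∀ e : E, ∃ n : ℕ, ∀ a ∈ x.asIdeal ^ n, a • e = 0)
    (hbij : ∀ s : R, s ∉ x.asIdeal → Function.Bijective (fun e : E => s • e)) :
    Function.Bijective (toStk E x) :=
  (SkyHull.germ_bijective (X := Spec R) x (tilde E) (res_bijective E x hpt hbij) ⊤ trivial).comp
    ((ConcreteCategory.isIso_iff_bijective (tilde.toOpen E ⊤)).1 inferInstance)

theorem stalk_injective (hinjE : Module.Injective R E)
    (hpt : ∀ e : E, ∃ n : ℕ, ∀ a ∈ x.asIdeal ^ n, a • e = 0)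
    (hbij : ∀ s : R, s ∉ x.asIdeal → Function.Bijective (fun e : E => s • e)) :
    Injective ((Φ (X := Spec R) x).obj (tilde E)) := by
  haveI hxp : x.asIdeal.IsPrime := x.isPrime
  letI : Algebra R ((Spec R).presheaf.stalk x) := StructureSheaf.stalkAlgebra R x
  haveI : IsLocalization.AtPrime ((Spec R).presheaf.stalk x) x.asIdeal :=
    StructureSheaf.IsLocalization.to_stalk R x
  have halg : ∀ r : R, algebraMap R ((Spec R).presheaf.stalk x) r =
      (Spec R).presheaf.germ ⊤ x trivial ((Scheme.ΓSpecIso R).inv r) := fun r => rfl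
  have hψ := toStk_bijective E x hpt hbij
  have hsm : ∀ (r : R) (e : E), toStk E x (r • e) =
      algebraMap R ((Spec R).presheaf.stalk x) r • toStk E x e := by
    intro r e
    rw [halg]
    exact toStk_smul E x r e
  have hBaer : Module.Baer ((Spec R).presheaf.stalk x) ((Φ (X := Spec R) x).obj (tilde E)) := by
    intro J φ
    let 𝔞 : Ideal R := J.comap (algebraMap R ((Spec R).presheaf.stalk x))
    let inv : ((Φ (X := Spec R) x).obj (tilde E)) → E := (Equiv.ofBijective _ hψ).symm
    have hinv : ∀ n, toStk E x (inv n) = n := fun n => (Equiv.ofBijective _ hψ).apply_symm_apply n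
    let φ' : 𝔞 →ₗ[R] E :=
      { toFun := fun a => inv (φ ⟨algebraMap R ((Spec R).presheaf.stalk x) a.1, a.2⟩)
        map_add' := by
          intro a b
          apply hψ.1
          rw [toStk_add, hinv, hinv, hinv, ← _root_.map_add]
          congr 1
          apply Subtype.ext
          exact _root_.map_add _ _ _
        map_smul' := by
          intro r a
          apply hψ.1
          rw [RingHom.id_apply, hsm, hinv, hinv, ← _root_.map_smul]
          congr 1
          apply Subtype.ext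
          show algebraMap R ((Spec R).presheaf.stalk x) ((r • a : 𝔞) : R) =
            algebraMap R ((Spec R).presheaf.stalk x) r * algebraMap R ((Spec R).presheaf.stalk x) (a : R)
          rw [Submodule.coe_smul, smul_eq_mul, _root_.map_mul] }
    obtain ⟨ext, hext⟩ := Module.Baer.of_injective hinjE 𝔞 φ'
    refine ⟨LinearMap.toSpanSingleton _ _ (toStk E x (ext 1)), fun b hb => ?_⟩
    rw [LinearMap.toSpanSingleton_apply]
    obtain ⟨⟨a, s⟩, has⟩ := IsLocalization.surj x.asIdeal.primeCompl b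
    have has' : b * algebraMap R ((Spec R).presheaf.stalk x) (s : R) = algebraMap R ((Spec R).presheaf.stalk x) a := has
    have ha : a ∈ 𝔞 := by
      show algebraMap R ((Spec R).presheaf.stalk x) a ∈ J
      rw [← has']
      exact J.mul_mem_right _ hb
    have hu : IsUnit (algebraMap R ((Spec R).presheaf.stalk x) (s : R)) :=
      IsLocalization.map_units _ s
    have h1 : toStk E x (ext a) = φ ⟨algebraMap R ((Spec R).presheaf.stalk x) a, ha⟩ := by
      rw [hext a ha]
      exact hinv _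
    have h2 : toStk E x (ext a) = algebraMap R ((Spec R).presheaf.stalk x) a • toStk E x (ext 1) := by
      have : ext a = a • ext 1 := by
        rw [← _root_.map_smul, smul_eq_mul, mul_one]
      rw [this, hsm]
    have h3 : (⟨algebraMap R ((Spec R).presheaf.stalk x) a, ha⟩ : J) = algebraMap R ((Spec R).presheaf.stalk x) (s : R) • ⟨b, hb⟩ := by
      apply Subtype.ext
      show algebraMap R ((Spec R).presheaf.stalk x) a = algebraMap R ((Spec R).presheaf.stalk x) (s : R) * b
      rw [← has', mul_comm]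
    have h4 : algebraMap R ((Spec R).presheaf.stalk x) (s : R) • (b • toStk E x (ext 1)) =
        algebraMap R ((Spec R).presheaf.stalk x) (s : R) • φ ⟨b, hb⟩ := by
      rw [← _root_.map_smul, ← h3, ← h1, h2, ← mul_smul, mul_comm, has']
    exact hu.smul_left_cancel.1 h4
  exact injective_of_baer _ hBaer

end Stalk

/-- **`E~` is injective** for `E` injective, `x`-power torsion, with `s ∉ x` acting bijectively. -/
theorem injective_tilde (hinjE : Module.Injective R E)
    (hpt : ∀ e : E, ∃ n : ℕ, ∀ a ∈ x.asIdeal ^ n, a • e = 0)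
    (hbij : ∀ s : R, s ∉ x.asIdeal → Function.Bijective (fun e : E => s • e)) :
    Injective (tilde E) :=
  SkyHull.injective_of_sky (X := Spec R) x (tilde E) (sections_eq_zero E x hpt)
    (res_bijective E x hpt hbij) (stalk_injective E x hinjE hpt hbij)

end Groth.Agent.Lib.Lead.TildeInj1
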