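import Mathlib
import Groth.Prelude
import Groth.Agent.Lib.Lead.TildeInj1
import Groth.Agent.Lib.Lead.SumInj
import Groth.Agent.S0301
import Groth.Agent.S0306
import Groth.Agent.S0307

/-!
# `M~` is an injective `O`-module for `M` injective over a Noetherian ring (lead)
-/

set_option autoImplicit false
set_option linter.style.haveILetI false
universe u

open CategoryTheory CategoryTheory.Limits AlgebraicGeometry TopologicalSpace Opposite

namespace Groth.Agent.Lib.Lead.TildeInj2

section Hull

variable {R : Type u} [CommRing R] (p : Ideal R) [p.IsPrime] (E : Type u) [AddCommGroup E]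
  [Module R E] (g : p.ResidueField →ₗ[R] E) (hg : InjHull.IsInjectiveHull g)

include hg in
theorem smul_injective_of_notMem (s : R) (hs : s ∉ p) :
    Function.Injective (fun e : E => s • e) := by
  have h0 : Function.Injective (LinearMap.lsmul R E s) := by
    rw [← LinearMap.ker_eq_bot]
    by_contra hK
    apply hg.essential _ hK
    rw [eq_bot_iff]
    rintro y ⟨hy1, ⟨c, rfl⟩⟩
    have h1 : s • g c = 0 := hy1
    rw [← map_smul] at h1
    have h2 : s • c = 0 := by
      apply hg.injective
      rw [h1, map_zero]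
    have h3 : c = 0 := by
      rw [Algebra.smul_def] at h2
      rcases mul_eq_zero.1 h2 with h | h
      · exact absurd ((Ideal.algebraMap_residueField_eq_zero).1 h) hs
      · exact h
    rw [h3, map_zero]
    exact Submodule.zero_mem _
  exact h0

include hg in
theorem smul_bijective_of_notMem (s : R) (hs : s ∉ p) :
    Function.Bijective (fun e : E => s • e) := by
  have hinj := smul_injective_of_notMem p E g hg s hs
  refine ⟨hinj, ?_⟩
  obtain ⟨h, hh⟩ := hg.isInjective.out (LinearMap.lsmul R E s) hinj LinearMap.id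
  intro e
  refine ⟨h e, ?_⟩
  have h1 : h (s • e) = e := hh e
  show s • h e = e
  rw [← map_smul, h1]

include hg in
theorem pow_torsion [IsNoetherianRing R] (hind : InjHull.IsIndecomposable R E) (e : E) :
    ∃ n : ℕ, ∀ a ∈ p ^ n, a • e = 0 := by
  let Γ : Submodule R E := ⨆ n : ℕ, Submodule.torsionBySet R E ((p ^ n : Ideal R) : Set R)
  have hΓinj : Module.Injective R ↥Γ := Groth.Agent.S0301.result R E hg.isInjective p
  obtain ⟨ρ, hρ⟩ := hΓinj.out Γ.subtype Γ.subtype_injective LinearMap.id
  have hc : IsCompl Γ (LinearMap.ker ρ) := LinearMap.isCompl_of_proj hρ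
  have hne : Γ ≠ ⊥ := by
    intro h0
    have h1 : g 1 ∈ Γ := by
      apply Submodule.mem_iSup_of_mem 1
      rw [Submodule.mem_torsionBySet_iff]
      rintro ⟨a, ha⟩
      have ha' : a ∈ p := by
        have : a ∈ p ^ 1 := ha
        rwa [pow_one] at this
      show a • g 1 = 0
      rw [← map_smul, Algebra.smul_def, mul_one,
        (Ideal.algebraMap_residueField_eq_zero).2 ha', map_zero]
    rw [h0, Submodule.mem_bot] at h1
    have h2 : (1 : p.ResidueField) = 0 := hg.injective (by rw [h1, map_zero])
    exact one_ne_zero h2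
  have hker : LinearMap.ker ρ = ⊥ := (hind.2 Γ _ hc).resolve_left hne
  have htop : Γ = ⊤ := by
    have := hc.sup_eq_top
    rwa [hker, sup_bot_eq] at this
  have he : e ∈ Γ := by rw [htop]; trivial
  have hdir : Directed (· ≤ ·)
      (fun n : ℕ => Submodule.torsionBySet R E ((p ^ n : Ideal R) : Set R)) := by
    apply Monotone.directed_le
    intro n m hnm y hy
    rw [Submodule.mem_torsionBySet_iff] at hy ⊢
    rintro ⟨a, ha⟩
    exact hy ⟨a, Ideal.pow_le_pow_right hnm ha⟩
  obtain ⟨n, hn⟩ := (Submodule.mem_iSup_of_directed _ hdir).1 he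
  refine ⟨n, fun a ha => ?_⟩
  rw [Submodule.mem_torsionBySet_iff] at hn
  exact hn ⟨a, ha⟩

end Hull

/-- **`M~` is injective** for an injective module over a Noetherian ring. -/
theorem injective_tilde_of_injective (R : CommRingCat.{u}) [IsNoetherianRing R]
    (M : ModuleCat.{u} R) (hM : Module.Injective R M) : Injective (tilde M) := by
  classical
  obtain ⟨ι, Esub, hint, hE⟩ := Groth.Agent.S0307.result R M hM
  let Z : ι → ModuleCat.{u} R := fun i => ModuleCat.of R (Esub i)
  have hZ : ∀ i, Injective (tilde (Z i)) := by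
    intro i
    obtain ⟨p, hp, g, hg⟩ := Groth.Agent.S0306.result R (Esub i) (hE i).1 (hE i).2
    haveI := hp
    exact TildeInj1.injective_tilde (Z i) (⟨p, hp⟩ : PrimeSpectrum R) (hE i).2
      (fun e => pow_torsion p (Esub i) g hg (hE i).1 e)
      (fun s hs => smul_bijective_of_notMem p (Esub i) g hg s hs)
  let e1 : (DirectSum ι fun i => Esub i) ≃ₗ[R] M :=
    LinearEquiv.ofBijective (DirectSum.coeLinearMap Esub) hint
  let iso1 : ∐ Z ≅ M := ModuleCat.coprodIsoDirectSum Z ≪≫ e1.toModuleIso
  let iso2 : (tilde.functor R).obj (∐ Z) ≅ ∐ (fun i => (tilde.functor R).obj (Z i)) :=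
    PreservesCoproduct.iso (tilde.functor R) Z
  have h3 : Injective (∐ (fun i => (tilde.functor R).obj (Z i))) :=
    SumInj.injective_sigma _ (fun i => hZ i)
  have h4 : Injective ((tilde.functor R).obj (∐ Z)) := Injective.of_iso iso2.symm h3
  exact Injective.of_iso ((tilde.functor R).mapIso iso1) h4

end Groth.Agent.Lib.Lead.TildeInj2
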