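import Mathlib
import Groth.Prelude
import Groth.Agent.Lib.Lead.TildeInj2
import Groth.Agent.Lib.Lead.LocInj
import Groth.Agent.Lib.Helper3.QcohStalk
import Groth.Agent.Lib.Helper3.QCTilde

/-!
# A quasi-coherent module with injective stalks is injective (locally Noetherian schemes) (lead)
-/

set_option autoImplicit false
set_option linter.style.haveILetI false
universe u

open CategoryTheory CategoryTheory.Limits AlgebraicGeometry TopologicalSpace Opposite
open Scheme.Modules

namespace Groth.Agent.Lib.Lead.StalkInjQC

open Groth.Agent.Lib.Helper3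

section Alg

set_option backward.defeqAttrib.useBackward true in
attribute [local instance] RingHomInvPair.of_ringEquiv in
theorem injective_localizedModule {R : Type u} [CommRing R] (P : Ideal R) [P.IsPrime]
    (M : Type u) [AddCommGroup M] [Module R M]
    (B : Type u) [CommRing B] [Algebra R B] [IsLocalization.AtPrime B P]
    (N : Type u) [AddCommGroup N] [Module R N] [Module B N] [IsScalarTower R B N]
    (f : M →ₗ[R] N) [IsLocalizedModule P.primeCompl f] (h : Module.Injective B N) :
    Module.Injective (Localization.AtPrime P) (LocalizedModule P.primeCompl M) := by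
  refine Module.Injective.of_ringEquiv (M := N)
    (IsLocalization.algEquiv P.primeCompl B (Localization.AtPrime P)).toRingEquiv
    { __ := IsLocalizedModule.linearEquiv P.primeCompl f
        (LocalizedModule.mkLinearMap P.primeCompl M)
      map_smul' := ?_ }
  intro r m
  obtain ⟨r, s, rfl⟩ := IsLocalization.exists_mk'_eq P.primeCompl r
  apply ((Module.End.isUnit_iff _).mp
    (IsLocalizedModule.map_units (LocalizedModule.mkLinearMap P.primeCompl M) s)).1
  dsimp
  simp only [← _root_.map_smul, ← smul_assoc, IsLocalization.smul_mk'_self, algebraMap_smul,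
    IsLocalization.map_id_mk']

end Alg

variable {X : Scheme.{u}} [IsLocallyNoetherian X]

theorem sections_injective (F : X.Modules) [F.IsQuasicoherent]
    (hst : ∀ x : X, Module.Injective (X.presheaf.stalk x) (F.presheaf.stalk x))
    {U : X.Opens} (hU : IsAffineOpen U) : Module.Injective Γ(X, U) Γ(F, U) := by
  haveI : IsNoetherianRing Γ(X, U) := IsLocallyNoetherian.component_noetherian ⟨U, hU⟩
  apply Module.injective_of_localization_maximal
  intro I hI
  haveI : I.IsPrime := hI.isPrime
  let y : PrimeSpectrum Γ(X, U) := ⟨I, inferInstance⟩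
  let x : X := hU.fromSpec y
  have hx : x ∈ U := by
    have h1 : x ∈ Set.range hU.fromSpec := ⟨y, rfl⟩
    rw [hU.range_fromSpec] at h1
    exact h1
  have hy : hU.primeIdealOf ⟨x, hx⟩ = y := by
    apply hU.fromSpec.isOpenEmbedding.injective
    exact hU.fromSpec_primeIdealOf ⟨x, hx⟩
  letI algA : Algebra Γ(X, U) (X.presheaf.stalk x) :=
    TopCat.Presheaf.algebra_section_stalk X.presheaf (U := U) ⟨x, hx⟩
  letI modAF : Module Γ(X, U) (F.presheaf.stalk x) :=
    Module.compHom _ (algebraMap Γ(X, U) (X.presheaf.stalk x))
  haveI : IsScalarTower Γ(X, U) (X.presheaf.stalk x) (F.presheaf.stalk x) :=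
    IsScalarTower.of_algebraMap_smul (fun r n => rfl)
  let gF : Γ(F, U) →ₗ[Γ(X, U)] F.presheaf.stalk x :=
    { toFun := F.presheaf.germ U x hx
      map_add' := map_add _
      map_smul' := fun r m => QS.germ_smul F x hx r m }
  have hgF0 : IsLocalizedModule (hU.primeIdealOf ⟨x, hx⟩).asIdeal.primeCompl gF :=
    QS.isLocalizedModule_germ hU F x hx (fun r z => rfl) gF (fun m => rfl)
  haveI hgF : IsLocalizedModule I.primeCompl gF := by
    rw [hy] at hgF0
    exact hgF0
  haveI locA : IsLocalization.AtPrime (X.presheaf.stalk x) I := hU.isLocalization_stalk' y hx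
  exact injective_localizedModule I Γ(F, U) (X.presheaf.stalk x) (F.presheaf.stalk x) gF (hst x)

theorem injective_of_stalks (F : X.Modules) (hF : Coh.IsQCoh F)
    (hst : ∀ x : X, Module.Injective (X.presheaf.stalk x) (F.presheaf.stalk x)) :
    Injective F := by
  haveI : F.IsQuasicoherent := hF
  apply LocInj.injective_of_locally_injective
  intro x
  obtain ⟨U, hU, hxU⟩ := QCProps.exists_affine_nbhd x
  refine ⟨U, hxU, ?_⟩
  haveI : (F.restrict hU.fromSpec).IsQuasicoherent := inferInstance
  haveI : IsNoetherianRing Γ(X, U) := IsLocallyNoetherian.component_noetherian ⟨U, hU⟩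
  have hMG : Module.Injective Γ(X, U)
      ((modulesSpecToSheaf.obj (F.restrict hU.fromSpec)).presheaf.obj (op ⊤)) := by
    have h1 := sections_injective F hst hU
    exact Module.Baer.injective (Module.Baer.of_equiv (QCTilde.chartSectionsEquiv hU F).symm
      (Module.Baer.of_injective h1))
  have hG : Injective (F.restrict hU.fromSpec) := by
    haveI : IsIso (F.restrict hU.fromSpec).fromTildeΓ := inferInstance
    exact Injective.of_iso (asIso (F.restrict hU.fromSpec).fromTildeΓ)
      (TildeInj2.injective_tilde_of_injective Γ(X, U) _ hMG)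
  have h2 := LocInj.injective_restrict_iso hU.isoSpec (F.restrict hU.fromSpec) hG
  let e : (restrictFunctor U.ι).obj F ≅
      (restrictFunctor hU.isoSpec.hom).obj (F.restrict hU.fromSpec) :=
    ((restrictFunctorCongr hU.isoSpec_hom_fromSpec.symm) ≪≫
      restrictFunctorComp hU.isoSpec.hom hU.fromSpec).app F
  exact Injective.of_iso e.symm h2

end Groth.Agent.Lib.Lead.StalkInjQC
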