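import Mathlib
import Groth.Prelude
import Groth.Agent.Lib.Lead.StalkInjQC
import Groth.Agent.Lib.Helper2.ExtTilde.Chart
import Groth.Agent.Lib.Helper9.InjDim
import Groth.Agent.Lib.Helper26.FinPush
import Groth.Agent.Lib.Helper26.HomLF

/-!
# Injectivity of a quasi-coherent module from the vanishing of `ℰxt¹(G, F)`, `G` coherent (lead)
-/

set_option autoImplicit false
set_option linter.style.haveILetI false
universe u

open CategoryTheory CategoryTheory.Limits AlgebraicGeometry TopologicalSpace Opposite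
open Scheme.Modules

namespace Groth.Agent.Lib.Lead.ExtInj

open Groth.Agent.Lib.Helper3

variable {X : Scheme.{u}}

theorem ker_app_eq {V : X.Opens} (hV : IsAffineOpen V) (I : Ideal Γ(X, V)) :
    RingHom.ker ((Spec.map (CommRingCat.ofHom (Ideal.Quotient.mk I)) ≫ hV.fromSpec).app V).hom
      = I := by
  obtain ⟨q, hq⟩ : ∃ q : Γ(X, V) ⟶ CommRingCat.of (Γ(X, V) ⧸ I),
      q = CommRingCat.ofHom (Ideal.Quotient.mk I) := ⟨_, rfl⟩
  rw [← hq]
  have hle : (⊤ : (Spec (CommRingCat.of (Γ(X, V) ⧸ I))).Opens) ≤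
      (Spec.map q ≫ hV.fromSpec) ⁻¹ᵁ V := by
    intro z _
    show (Spec.map q ≫ hV.fromSpec).base z ∈ V
    rw [Scheme.Hom.comp_base]
    have := hV.fromSpec_preimage_self
    have h3 : (Spec.map q).base z ∈ hV.fromSpec ⁻¹ᵁ V := by rw [this]; trivial
    exact h3
  have h2 : hV.fromSpec.appLE V ⊤ (by simp) = (Scheme.ΓSpecIso Γ(X, V)).inv := by
    rw [Scheme.Hom.appLE, hV.fromSpec_app_self, Category.assoc, ← Functor.map_comp]
    convert Category.comp_id _
    exact (Spec _).presheaf.map_id _
  have h1 : (Spec.map q ≫ hV.fromSpec).appLE V ⊤ hle = q ≫ (Scheme.ΓSpecIso _).inv := by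
    rw [← Scheme.Hom.appLE_comp_appLE _ _ V ⊤ ⊤ (by simp) (by simp), h2,
      Scheme.ΓSpecIso_inv_naturality]
    rfl
  ext a
  rw [RingHom.mem_ker]
  have h4 : ((Spec.map q ≫ hV.fromSpec).app V).hom a = 0 ↔
      ((Spec.map q ≫ hV.fromSpec).appLE V ⊤ hle).hom a = 0 := by
    rw [Scheme.Hom.appLE]
    have hiso : IsIso ((Spec (CommRingCat.of (Γ(X, V) ⧸ I))).presheaf.map (homOfLE hle).op) := by
      have : (Spec.map q ≫ hV.fromSpec) ⁻¹ᵁ V = ⊤ := le_antisymm le_top hle
      have h5 : (homOfLE hle).op = (eqToHom this.symm).op := Subsingleton.elim _ _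
      rw [h5]
      infer_instance
    have h7 : ((Spec.map q ≫ hV.fromSpec).app V ≫
        (Spec (CommRingCat.of (Γ(X, V) ⧸ I))).presheaf.map (homOfLE hle).op).hom a =
        ((Spec (CommRingCat.of (Γ(X, V) ⧸ I))).presheaf.map (homOfLE hle).op).hom
          (((Spec.map q ≫ hV.fromSpec).app V).hom a) := rfl
    rw [h7]
    exact (map_eq_zero_iff _ (ConcreteCategory.bijective_of_isIso
      ((Spec (CommRingCat.of (Γ(X, V) ⧸ I))).presheaf.map (homOfLE hle).op)).1).symm
  rw [h4, h1]
  have h6 : (q ≫ (Scheme.ΓSpecIso _).inv).hom a = (Scheme.ΓSpecIso _).inv.hom (q.hom a) := rfl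
  rw [h6, map_eq_zero_iff _ (ConcreteCategory.bijective_of_isIso (Scheme.ΓSpecIso _).inv).1, hq]
  exact Ideal.Quotient.eq_zero_iff_mem

/-- sections of `f_* O` over an affine open are finite over the functions, for finite `f`
(copied from `Helper7.DegPull` to keep the import closure small) -/
theorem finite_sections_push {Y Z : Scheme.{u}} (f : Z ⟶ Y) [IsFinite f] (W : Y.Opens)
    (hW : IsAffineOpen W) :
    Module.Finite Γ(Y, W) Γ((pushforward f).obj (Coh.structureModule Z), W) := by
  have h := IsFinite.finite_app f W hW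
  letI := (f.app W).hom.toAlgebra
  haveI : Module.Finite Γ(Y, W) Γ(Z, f ⁻¹ᵁ W) := h
  let e : Γ(Z, f ⁻¹ᵁ W) →ₗ[Γ(Y, W)] Γ((pushforward f).obj (Coh.structureModule Z), W) :=
    { toFun := fun m => m
      map_add' := fun _ _ => rfl
      map_smul' := fun _ _ => rfl }
  exact Module.Finite.of_surjective e (fun m => ⟨m, rfl⟩)

theorem isCoh_push_structure {Y Z : Scheme.{u}} (f : Z ⟶ Y) [IsFinite f] :
    Coh.IsCoh ((pushforward f).obj (Coh.structureModule Z)) := by
  haveI : ((pushforward f).obj (Coh.structureModule Z)).IsQuasicoherent :=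
    QCSec.isQuasicoherent_pushforward f _
  exact ⟨inferInstance, (QCProps.isFiniteType_iff_finite_sections _).2
    (fun V hV => finite_sections_push f V hV)⟩

/-- On a locally Noetherian scheme, every cyclic module `A/I` over the ring `A` of an affine open
`V` is the module of sections over `V` of a coherent module on `X`. -/
theorem exists_coh_quotient [IsLocallyNoetherian X] {V : X.Opens} (hV : IsAffineOpen V)
    (I : Ideal Γ(X, V)) :
    ∃ G : X.Modules, Coh.IsCoh G ∧ Nonempty ((Γ(X, V) ⧸ I) ≃ₗ[Γ(X, V)] Γ(G, V)) := by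
  obtain ⟨g, hg⟩ : ∃ g : Spec (CommRingCat.of (Γ(X, V) ⧸ I)) ⟶ X,
      g = Spec.map (CommRingCat.ofHom (Ideal.Quotient.mk I)) ≫ hV.fromSpec := ⟨_, rfl⟩
  haveI : QuasiCompact g := inferInstance
  obtain ⟨J, hJ⟩ : ∃ J : X.IdealSheafData, J = g.ker := ⟨_, rfl⟩
  have hJI : J.ideal ⟨V, hV⟩ = I := by
    rw [hJ, Scheme.Hom.ker_apply, hg]
    exact ker_app_eq hV I
  let G : X.Modules := (pushforward J.subschemeι).obj (Coh.structureModule J.subscheme)
  refine ⟨G, isCoh_push_structure J.subschemeι, ?_⟩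
  have hsurj := J.subschemeι_app_surjective ⟨V, hV⟩
  have hker := J.ker_subschemeι_app ⟨V, hV⟩
  let L : Γ(X, V) →ₗ[Γ(X, V)] Γ(G, V) :=
    { toFun := fun a => (show Γ(G, V) from (J.subschemeι.app V).hom a)
      map_add' := fun a b => _root_.map_add (J.subschemeι.app V).hom a b
      map_smul' := fun c a => by
        show (J.subschemeι.app V).hom (c * a) = _
        rw [_root_.map_mul]
        rfl }
  have hLs : Function.Surjective L := fun m => hsurj m
  have hLk : LinearMap.ker L = I := by
    ext a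
    rw [LinearMap.mem_ker, ← hJI, ← hker, RingHom.mem_ker]
    rfl
  exact ⟨(Submodule.quotEquivOfEq _ _ hLk.symm).trans (L.quotKerEquivOfSurjective hLs)⟩


set_option backward.defeqAttrib.useBackward true in
attribute [local instance] RingHomInvPair.of_ringEquiv in
/-- a quasi-coherent module whose modules of sections over affine opens are injective is
injective -/
theorem injective_of_sections [IsLocallyNoetherian X] (F : X.Modules) (hF : Coh.IsQCoh F)
    (hsec : ∀ {U : X.Opens} (_ : IsAffineOpen U), Module.Injective Γ(X, U) Γ(F, U)) :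
    Injective F := by
  haveI : F.IsQuasicoherent := hF
  apply LocInj.injective_of_locally_injective
  intro x
  obtain ⟨U, hU, hxU⟩ := QCProps.exists_affine_nbhd x
  refine ⟨U, hxU, ?_⟩
  haveI : (F.restrict hU.fromSpec).IsQuasicoherent := inferInstance
  haveI : IsNoetherianRing Γ(X, U) := IsLocallyNoetherian.component_noetherian ⟨U, hU⟩
  have hMG : Module.Injective Γ(X, U)
      ((modulesSpecToSheaf.obj (F.restrict hU.fromSpec)).presheaf.obj (op ⊤)) := by
    have h1 := hsec hU
    exact Module.Baer.injective (Module.Baer.of_equiv (QCTilde.chartSectionsEquiv hU F).symm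
      (Module.Baer.of_injective h1))
  have hG : Injective (F.restrict hU.fromSpec) := by
    haveI : IsIso (F.restrict hU.fromSpec).fromTildeΓ := inferInstance
    exact Injective.of_iso (asIso (F.restrict hU.fromSpec).fromTildeΓ)
      (TildeInj2.injective_tilde_of_injective Γ(X, U) _ hMG)
  have h2 := LocInj.injective_restrict_iso hU.isoSpec (F.restrict hU.fromSpec) hG
  let e : (restrictFunctor U.ι).obj F ≅
      (restrictFunctor hU.isoSpec.hom).obj (F.restrict hU.fromSpec) :=
    ((restrictFunctorCongr hU.isoSpec_hom_fromSpec.symm) ≪≫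
      restrictFunctorComp hU.isoSpec.hom hU.fromSpec).app F
  exact Injective.of_iso e.symm h2

open Groth.Agent.Lib.Helper2.ExtTilde Groth.Agent.Lib.Helper2.NatDerived in
/-- vanishing of `ℰxt¹(G, F)` for coherent `G` makes the sections of `F` over affine opens
injective modules -/
theorem sections_injective_of_ext [IsLocallyNoetherian X] [HasInjectiveResolutions X.Modules]
    (F : X.Modules) [F.IsQuasicoherent]
    (h : ∀ (G : X.Modules) [DCoh.HasSheafHom G] [(DCoh.sheafHom G).Additive],
      Coh.IsCoh G → IsZero (((DCoh.sheafHom G).rightDerived 1).obj F))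
    {V : X.Opens} (hV : IsAffineOpen V) : Module.Injective Γ(X, V) Γ(F, V) := by
  have hB : Module.Baer Γ(X, V) (ModuleCat.of Γ(X, V) Γ(F, V)) := by
    apply Groth.Agent.Lib.Helper9.baer_of_ext_one
    intro I
    obtain ⟨G, hG, ⟨e⟩⟩ := exists_coh_quotient hV I
    haveI : DCoh.HasSheafHom G := Groth.Agent.Lib.Helper26.FinPush.hasSheafHom_dcoh G
    haveI : (DCoh.sheafHom G).Additive := (DCoh.sheafHomAdj G).right_adjoint_additive
    have hz := h G hG
    haveI : ModSite.HasSheafHom (O := X.sheaf) G :=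
      Groth.Agent.Lib.Helper13.ModSiteTensor.hasSheafHom X.sheaf G
    haveI hadd : Functor.Additive
        (show X.Modules ⥤ X.Modules from ModSite.sheafHom (O := X.sheaf) G) :=
      ModSite.sheafHom_additive X.sheaf G
    have hz' : IsZero ((ModSite.extSh (O := X.sheaf) G 1).obj F) :=
      hz.of_iso ((rightDerivedNatIso
        (Groth.Agent.Lib.Helper26.HomLF.sheafHomCompIso G) 1).app F).symm
    obtain ⟨e2⟩ := nonempty_sections_extSh_linearEquiv hV G F hG 1
    haveI hsub : Subsingleton Γ(((ModSite.extSh (O := X.sheaf) G 1).obj F : X.Modules), V) :=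
      Groth.Agent.Lib.Helper26.FinPush.subsingleton_sections_of_isZero hz' V
    haveI hsub2 : Subsingleton (Abelian.Ext (ModuleCat.of Γ(X, V) Γ(G, V))
        (ModuleCat.of Γ(X, V) Γ(F, V)) 1) := e2.symm.toEquiv.subsingleton
    let ε : ModuleCat.of Γ(X, V) (Γ(X, V) ⧸ I) ≅ ModuleCat.of Γ(X, V) Γ(G, V) := e.toModuleIso
    have key : ∀ z : Abelian.Ext (ModuleCat.of Γ(X, V) (Γ(X, V) ⧸ I))
        (ModuleCat.of Γ(X, V) Γ(F, V)) 1, z = 0 := by
      intro z
      have h1 : (Abelian.Ext.mk₀ ε.hom).comp ((Abelian.Ext.mk₀ ε.inv).comp z (zero_add 1))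
          (zero_add 1) = z := by
        rw [Abelian.Ext.mk₀_comp_mk₀_assoc, ε.hom_inv_id, Abelian.Ext.mk₀_id_comp]
      rw [← h1, Subsingleton.elim ((Abelian.Ext.mk₀ ε.inv).comp z (zero_add 1)) 0,
        Abelian.Ext.comp_zero]
    exact ⟨fun x y => by rw [key x, key y]⟩
  exact Module.Baer.injective hB

/-- **(iv) ⇒ (i)**: a quasi-coherent module `F` on a locally Noetherian scheme with
`ℰxt¹(G, F) = 0` for every coherent `G` is injective. -/
theorem injective_of_ext [IsLocallyNoetherian X] [HasInjectiveResolutions X.Modules]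
    (F : X.Modules) (hF : Coh.IsQCoh F)
    (h : ∀ (G : X.Modules) [DCoh.HasSheafHom G] [(DCoh.sheafHom G).Additive],
      Coh.IsCoh G → IsZero (((DCoh.sheafHom G).rightDerived 1).obj F)) : Injective F := by
  haveI : F.IsQuasicoherent := hF
  exact injective_of_sections F hF (fun hU => sections_injective_of_ext F h hU)

end Groth.Agent.Lib.Lead.ExtInj
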