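import Mathlib
import Groth.Prelude
import Groth.Agent.Lib.Helper2.Stk.Sky
import Groth.Agent.S0299
import Groth.Agent.S0305

/-!
# The indecomposable injective skyscraper modules `J(x, x')` on a locally Noetherian scheme (lead)

For a point `x'` and a prime `𝔭` of `O_{X,x'}`, the module `obj ⟨x', 𝔭⟩` is the skyscraper at `x'`
of an injective hull of `O_{X,x'}/𝔭`.  It is injective, nonzero and indecomposable.
-/

set_option autoImplicit false
set_option linter.style.haveILetI false
universe u

open CategoryTheory CategoryTheory.Limits AlgebraicGeometry TopologicalSpace Opposite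

namespace Groth.Agent.Lib.Lead.IndecSky

open Groth.Agent.Lib.Helper2.Stk

variable {X : Scheme.{u}}

/-- the candidates: a point and a prime of its local ring -/
abbrev Cand (X : Scheme.{u}) : Type u := Σ x : X, PrimeSpectrum (X.presheaf.stalk x)

section Hull

variable (c : Cand X)

instance : c.2.asIdeal.IsPrime := c.2.isPrime

/-- the chosen injective hull of `O_x/𝔭` -/
def hullE : Type u :=
  (Groth.Agent.S0299.result (X.presheaf.stalk c.1)
    ((X.presheaf.stalk c.1) ⧸ c.2.asIdeal)).choose

noncomputable instance : AddCommGroup (hullE c) :=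
  (Groth.Agent.S0299.result (X.presheaf.stalk c.1)
    ((X.presheaf.stalk c.1) ⧸ c.2.asIdeal)).choose_spec.choose

noncomputable instance : Module (X.presheaf.stalk c.1) (hullE c) :=
  (Groth.Agent.S0299.result (X.presheaf.stalk c.1)
    ((X.presheaf.stalk c.1) ⧸ c.2.asIdeal)).choose_spec.choose_spec.choose

/-- the hull map -/
noncomputable def hullMap :
    ((X.presheaf.stalk c.1) ⧸ c.2.asIdeal) →ₗ[X.presheaf.stalk c.1] hullE c :=
  (Groth.Agent.S0299.result (X.presheaf.stalk c.1)
    ((X.presheaf.stalk c.1) ⧸ c.2.asIdeal)).choose_spec.choose_spec.choose_spec.choose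

theorem isHull : InjHull.IsInjectiveHull (hullMap c) :=
  (Groth.Agent.S0299.result (X.presheaf.stalk c.1)
    ((X.presheaf.stalk c.1) ⧸ c.2.asIdeal)).choose_spec.choose_spec.choose_spec.choose_spec

/-- the distinguished element of the hull -/
noncomputable def e₁ : hullE c := hullMap c 1

theorem hullMap_mk (a : X.presheaf.stalk c.1) :
    hullMap c (Ideal.Quotient.mk c.2.asIdeal a) = a • e₁ c := by
  have h : Ideal.Quotient.mk c.2.asIdeal a =
      a • (1 : (X.presheaf.stalk c.1) ⧸ c.2.asIdeal) := by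
    rw [Algebra.smul_def, mul_one]; rfl
  rw [h, _root_.map_smul]; rfl

theorem smul_e₁_eq_zero_iff (a : X.presheaf.stalk c.1) : a • e₁ c = 0 ↔ a ∈ c.2.asIdeal := by
  rw [← hullMap_mk, ← Ideal.Quotient.eq_zero_iff_mem]
  constructor
  · intro h
    exact (isHull c).injective (h.trans (_root_.map_zero _).symm)
  · intro h
    rw [h, _root_.map_zero]

theorem exists_smul_eq (e : hullE c) (he : e ≠ 0) :
    ∃ a d : X.presheaf.stalk c.1, a • e = d • e₁ c ∧ d ∉ c.2.asIdeal := by
  have hne : Submodule.span (X.presheaf.stalk c.1) {e} ≠ ⊥ := by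
    intro h
    apply he
    have : e ∈ Submodule.span (X.presheaf.stalk c.1) {e} := Submodule.mem_span_singleton_self e
    rw [h] at this
    exact (Submodule.mem_bot _).1 this
  have h1 := (isHull c).essential _ hne
  obtain ⟨y, hy, hy0⟩ := (Submodule.ne_bot_iff _).1 h1
  obtain ⟨hy1, hy2⟩ := Submodule.mem_inf.1 hy
  obtain ⟨a, ha⟩ := Submodule.mem_span_singleton.1 hy1
  obtain ⟨q, hq⟩ := LinearMap.mem_range.1 hy2
  obtain ⟨d, rfl⟩ := Ideal.Quotient.mk_surjective q
  refine ⟨a, d, ?_, ?_⟩
  · rw [ha, ← hq, hullMap_mk]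
  · intro hd
    apply hy0
    rw [← hq, hullMap_mk]
    exact (smul_e₁_eq_zero_iff c d).2 hd

/-- the hull as an object -/
noncomputable abbrev hullT : ModuleCat.{u} (X.presheaf.stalk c.1) :=
  ModuleCat.of (X.presheaf.stalk c.1) (hullE c)

/-- the module `J(x, x')` -/
noncomputable abbrev obj : X.Modules := (skyF c.1).obj (hullT c)

theorem injective_obj : Injective (obj c) := by
  haveI : Module.Injective (X.presheaf.stalk c.1) (hullE c) := (isHull c).isInjective
  haveI : Injective (hullT c) := Module.injective_object_of_injective_module _ _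
  exact Injective.injective_of_adjoint (stalkSkyAdj c.1) _

theorem e₁_ne_zero : e₁ c ≠ 0 := by
  intro h
  have h1 : (1 : X.presheaf.stalk c.1) • e₁ c = 0 := by rw [h, smul_zero]
  have h2 := (smul_e₁_eq_zero_iff c 1).1 h1
  exact c.2.isPrime.ne_top ((Ideal.eq_top_iff_one _).2 h2)

instance isIso_counit : IsIso (stalkSkyAdj c.1).counit := by
  haveI : ∀ T, IsIso ((stalkSkyAdj c.1).counit.app T) := fun T => isIso_counitApp c.1 T
  exact NatIso.isIso_of_isIso_app _

theorem not_isZero_obj : ¬ IsZero (obj c) := by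
  intro h
  have h1 : IsZero ((skyF c.1 ⋙ Φ c.1).obj (hullT c)) := (Φ c.1).map_isZero h
  have h2 : IsZero (hullT c) := h1.of_iso ((skyStalkIso c.1).app (hullT c)).symm
  haveI : Subsingleton (hullE c) := ModuleCat.subsingleton_of_isZero h2
  exact e₁_ne_zero c (Subsingleton.elim _ _)

theorem indecomposable_obj (A B : X.Modules) (h : Nonempty (obj c ≅ A ⊞ B)) :
    IsZero A ∨ IsZero B := by
  obtain ⟨e⟩ := h
  let FF : (skyF c.1).FullyFaithful := (stalkSkyAdj c.1).fullyFaithfulROfIsIsoCounit
  let ε : (skyF c.1).obj (hullT c) ⟶ (skyF c.1).obj (hullT c) :=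
    e.hom ≫ biprod.fst ≫ biprod.inl ≫ e.inv
  have hε : ε ≫ ε = ε := by
    simp only [ε, Category.assoc, Iso.inv_hom_id_assoc, biprod.inl_fst_assoc]
  let ε₀ : hullT c ⟶ hullT c := FF.preimage ε
  have hε₀ : ε₀ ≫ ε₀ = ε₀ := by
    apply FF.map_injective
    rw [Functor.map_comp, FF.map_preimage, hε]
  have hidem : IsIdempotentElem ε₀.hom := by
    show ε₀.hom * ε₀.hom = ε₀.hom
    have := congrArg ModuleCat.Hom.hom hε₀
    exact this
  have hind := (Groth.Agent.S0305.result (X.presheaf.stalk c.1) c.2.asIdeal (hullE c)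
    (hullMap c) (isHull c)).1
  have hA : ε = 0 → IsZero A := by
    intro h0
    rw [IsZero.iff_id_eq_zero]
    have h1 : 𝟙 A = biprod.inl ≫ e.inv ≫ ε ≫ e.hom ≫ biprod.fst := by
      simp only [ε, Category.assoc, Iso.inv_hom_id_assoc, biprod.inl_fst_assoc, Iso.inv_hom_id,
        Category.comp_id, biprod.inl_fst]
    rw [h1, h0]
    simp
  have hB : ε = 𝟙 _ → IsZero B := by
    intro h1
    rw [IsZero.iff_id_eq_zero]
    have h2 : 𝟙 B = biprod.inr ≫ e.inv ≫ 𝟙 _ ≫ e.hom ≫ biprod.snd := by
      simp
    rw [h2, ← h1]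
    simp only [ε, Category.assoc, Iso.inv_hom_id_assoc, biprod.inr_fst_assoc, zero_comp, comp_zero]
  rcases hind.2 _ _ (LinearMap.IsIdempotentElem.isCompl hidem) with h | h
  · left
    apply hA
    have h3 : ε₀ = 0 := by
      ext y
      have : ε₀.hom y ∈ LinearMap.range ε₀.hom := LinearMap.mem_range_self _ y
      rw [h] at this
      exact (Submodule.mem_bot _).1 this
    have h4 := FF.map_preimage ε
    rw [← h4]
    show (skyF c.1).map ε₀ = 0
    rw [h3, Functor.map_zero]
  · right
    apply hB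
    have h3 : ε₀ = 𝟙 _ := by
      ext y
      have h5 : ε₀.hom (ε₀.hom y - y) = 0 := by
        rw [_root_.map_sub]
        have := LinearMap.congr_fun hidem y
        rw [Module.End.mul_apply] at this
        rw [this, sub_self]
      have h6 : ε₀.hom y - y ∈ LinearMap.ker ε₀.hom := h5
      rw [h] at h6
      exact sub_eq_zero.1 ((Submodule.mem_bot _).1 h6)
    have h4 := FF.map_preimage ε
    rw [← h4]
    show (skyF c.1).map ε₀ = 𝟙 _
    rw [h3, CategoryTheory.Functor.map_id]

end Hull

end Groth.Agent.Lib.Lead.IndecSky
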