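import Mathlib
import Groth.Prelude
import Groth.Agent.Lib.Lead.IndecSky
import Groth.Agent.Lib.Lead.GammaZInj
import Groth.Agent.Lib.Helper25.ExtZeroFlat
import Groth.Agent.Lib.Helper3.QCProps
import Groth.Agent.Lib.Helper3.QCExact

/-!
# Pure sections and embeddings of indecomposable skyscrapers into injective modules (lead)
-/

set_option autoImplicit false
set_option linter.style.haveILetI false
universe u

open CategoryTheory CategoryTheory.Limits AlgebraicGeometry TopologicalSpace Opposite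
open Scheme.Modules

namespace Groth.Agent.Lib.Lead.PureSec

open Groth.Agent.Lib.Helper2.Stk Groth.Agent.Lib.Helper3 Groth.Agent.Lib.Helper3.QCSec
  Groth.Agent.Lib.Helper3.InvGen Groth.Agent.Lib.Helper25.ExtZeroFlat
  Groth.Agent.Lib.Lead.IndecSky

variable {X : Scheme.{u}}

section Germs

variable (M : X.Modules)

/-- germ of a module section, as an element of the stalk module -/
noncomputable abbrev sgm (W : X.Opens) (y : X) (hy : y ∈ W) (t : Γ(M, W)) : (Φ y).obj M :=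
  M.presheaf.germ W y hy t

theorem sgm_res {W W' : X.Opens} (h : W' ≤ W) (y : X) (hy : y ∈ W') (t : Γ(M, W)) :
    sgm M W' y hy (res M h t) = sgm M W y (h hy) t :=
  TopCat.Presheaf.germ_res_apply M.presheaf (homOfLE h) y hy t

theorem sgm_smul (W : X.Opens) (y : X) (hy : y ∈ W) (a : Γ(X, W)) (t : Γ(M, W)) :
    sgm M W y hy (a • t) = X.presheaf.germ W y hy a • sgm M W y hy t :=
  germ_smul' y M W hy a t

theorem sgm_zero (W : X.Opens) (y : X) (hy : y ∈ W) : sgm M W y hy 0 = 0 :=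
  _root_.map_zero _

theorem gr_res {W W' : X.Opens} (h : W' ≤ W) (y : X) (hy : y ∈ W') (a : Γ(X, W)) :
    X.presheaf.germ W' y hy (rres X h a) = X.presheaf.germ W y (h hy) a :=
  TopCat.Presheaf.germ_res_apply X.presheaf (homOfLE h) y hy a

theorem eq_zero_of_sgm {W : X.Opens} (t : Γ(M, W)) (h : ∀ y (hy : y ∈ W), sgm M W y hy t = 0) :
    t = 0 := by
  apply TopCat.Presheaf.section_ext (⟨M.presheaf, M.isSheaf⟩ : TopCat.Sheaf Ab X.toTopCat) W
  intro y hy
  exact (h y hy).trans (sgm_zero M W y hy).symm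

theorem exists_res_eq_zero {W : X.Opens} (y : X) (hy : y ∈ W) (t : Γ(M, W))
    (h : sgm M W y hy t = 0) : ∃ (V : X.Opens) (hV : V ≤ W), y ∈ V ∧ res M hV t = 0 := by
  have h' : M.presheaf.germ W y hy t = M.presheaf.germ W y hy 0 :=
    h.trans (sgm_zero M W y hy).symm
  obtain ⟨V, hyV, iU, iV, hres⟩ := TopCat.Presheaf.germ_eq M.presheaf y hy hy t 0 h'
  refine ⟨V, iU.le, hyV, ?_⟩
  show M.presheaf.map iU.op t = 0
  rw [hres]
  exact _root_.map_zero _

end Germs

/-- a section `t` over `W ∋ x` is pure at `x`: its germ at `x` is nonzero, it vanishes on opens not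
containing `x`, and multiples killing the germ at `x` kill the section -/
structure IsPure (M : X.Modules) (x : X) (W : X.Opens) (t : Γ(M, W)) : Prop where
  mem : x ∈ W
  germ_ne : sgm M W x mem t ≠ 0
  vanish : ∀ (W' : X.Opens) (h : W' ≤ W), x ∉ W' → res M h t = 0
  torsion : ∀ (W' : X.Opens) (h : W' ≤ W) (hx : x ∈ W') (a : Γ(X, W')),
    X.presheaf.germ W' x hx a • sgm M W x (h hx) t = 0 → a • res M h t = 0

section Rad

variable (M : X.Modules) {U : X.Opens}

/-- the radical ideal of functions on `U` on whose non-vanishing locus `t` vanishes -/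
def rad (W : X.Opens) (hWU : W ≤ U) (t : Γ(M, W)) : Ideal Γ(X, U) where
  carrier := {a | ∀ (y : X) (hy : y ∈ W),
    IsUnit (X.presheaf.germ U y (hWU hy) a) → sgm M W y hy t = 0}
  add_mem' := by
    intro a b ha hb y hy hu
    rw [_root_.map_add] at hu
    rcases IsLocalRing.isUnit_or_isUnit_of_isUnit_add hu with h | h
    · exact ha y hy h
    · exact hb y hy h
  zero_mem' := by
    intro y hy hu
    rw [_root_.map_zero] at hu
    exact absurd hu not_isUnit_zero
  smul_mem' := by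
    intro c a ha y hy hu
    rw [smul_eq_mul, _root_.map_mul] at hu
    exact ha y hy (isUnit_of_mul_isUnit_right hu)

theorem mem_rad {W : X.Opens} (hWU : W ≤ U) (t : Γ(M, W)) (a : Γ(X, U)) :
    a ∈ rad M W hWU t ↔ ∀ (y : X) (hy : y ∈ W),
      IsUnit (X.presheaf.germ U y (hWU hy) a) → sgm M W y hy t = 0 := Iff.rfl

end Rad

theorem exists_pure [IsLocallyNoetherian X] (M : X.Modules) (hM : ¬ IsZero M) :
    ∃ (x : X) (W : X.Opens) (t : Γ(M, W)), IsPure M x W t := by
  classical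
  -- a nonzero germ
  obtain ⟨y₀, W₀, hy₀, t₀, ht₀⟩ : ∃ (y : X) (W : X.Opens) (hy : y ∈ W) (t : Γ(M, W)),
      sgm M W y hy t ≠ 0 := by
    by_contra hcon
    apply hM
    apply isZero_of_forall_isZero_stalk
    intro y
    haveI : Subsingleton ((Φ y).obj M) := by
      refine ⟨fun a b => ?_⟩
      obtain ⟨Wa, hya, sa, rfl⟩ := TopCat.Presheaf.exists_germ_eq M.presheaf a
      obtain ⟨Wb, hyb, sb, rfl⟩ := TopCat.Presheaf.exists_germ_eq M.presheaf b
      have ha : sgm M Wa y hya sa = 0 := by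
        by_contra h
        exact hcon ⟨y, Wa, hya, sa, h⟩
      have hb : sgm M Wb y hyb sb = 0 := by
        by_contra h
        exact hcon ⟨y, Wb, hyb, sb, h⟩
      exact ha.trans hb.symm
    exact ModuleCat.isZero_of_subsingleton _
  obtain ⟨U, hU, hy₀U⟩ := QCProps.exists_affine_nbhd y₀
  haveI : IsNoetherianRing Γ(X, U) := IsLocallyNoetherian.component_noetherian ⟨U, hU⟩
  -- the set of radicals of nonzero sections
  let S : Set (Ideal Γ(X, U)) := {𝔞 | ∃ (W : X.Opens) (hWU : W ≤ U) (t : Γ(M, W)),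
    (∃ (y : X) (hy : y ∈ W), sgm M W y hy t ≠ 0) ∧ 𝔞 = rad M W hWU t}
  have hS : S.Nonempty := by
    have hy' : y₀ ∈ W₀ ⊓ U := ⟨hy₀, hy₀U⟩
    refine ⟨_, W₀ ⊓ U, inf_le_right, res M inf_le_left t₀, ⟨y₀, hy', ?_⟩, rfl⟩
    rw [sgm_res]
    exact ht₀
  obtain ⟨𝔮, ⟨W, hWU, t, ⟨y₁, hy₁, hty₁⟩, h𝔮⟩, hmax⟩ :=
    set_has_maximal_iff_noetherian.mpr (inferInstance : IsNoetherianRing Γ(X, U)) S hS
  have hmax' : ∀ (W₂ : X.Opens) (hW₂ : W₂ ≤ U) (t₂ : Γ(M, W₂)),
      (∃ (y : X) (hy : y ∈ W₂), sgm M W₂ y hy t₂ ≠ 0) → 𝔮 ≤ rad M W₂ hW₂ t₂ →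
      rad M W₂ hW₂ t₂ ≤ 𝔮 := by
    intro W₂ hW₂ t₂ hnz hle
    have h1 := hmax (rad M W₂ hW₂ t₂) ⟨W₂, hW₂, t₂, hnz, rfl⟩
    exact (eq_of_le_of_not_lt hle h1).ge
  -- primality
  have hprime : Ideal.IsPrime 𝔮 := by
    rw [Ideal.isPrime_iff]
    refine ⟨?_, ?_⟩
    · intro htop
      have h1 : (1 : Γ(X, U)) ∈ 𝔮 := by rw [htop]; trivial
      rw [h𝔮] at h1
      apply hty₁
      apply h1 y₁ hy₁
      rw [_root_.map_one]
      exact isUnit_one
    · intro a b hab
      by_contra hcon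
      push Not at hcon
      obtain ⟨ha, hb⟩ := hcon
      rw [h𝔮] at ha
      have ha' : ¬ ∀ (y : X) (hy : y ∈ W),
          IsUnit (X.presheaf.germ U y (hWU hy) a) → sgm M W y hy t = 0 := ha
      push Not at ha'
      obtain ⟨y₂, hy₂, hu₂, hty₂⟩ := ha'
      have hy₂D : y₂ ∈ X.basicOpen a := (X.mem_basicOpen a y₂ (hWU hy₂)).2 hu₂
      have hle : W ⊓ X.basicOpen a ≤ U := inf_le_left.trans hWU
      have h1 : 𝔮 ≤ rad M (W ⊓ X.basicOpen a) hle (res M inf_le_left t) := by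
        intro g hg y hy hu
        rw [sgm_res]
        rw [h𝔮] at hg
        exact hg y ((inf_le_left : W ⊓ X.basicOpen a ≤ W) hy) hu
      have hy₂' : y₂ ∈ W ⊓ X.basicOpen a := ⟨hy₂, hy₂D⟩
      have h2 := hmax' (W ⊓ X.basicOpen a) hle (res M inf_le_left t)
        ⟨y₂, hy₂', by rw [sgm_res]; exact hty₂⟩ h1
      apply hb
      apply h2
      intro y hy hu
      rw [sgm_res]
      have hab' : a * b ∈ rad M W hWU t := by rw [← h𝔮]; exact hab
      have hyW : y ∈ W := (inf_le_left : W ⊓ X.basicOpen a ≤ W) hy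
      have hyD : y ∈ X.basicOpen a := (inf_le_right : W ⊓ X.basicOpen a ≤ X.basicOpen a) hy
      apply hab' y hyW
      rw [_root_.map_mul]
      exact ((X.mem_basicOpen a y (hWU hyW)).1 hyD).mul hu
  -- the point
  let yq : PrimeSpectrum Γ(X, U) := ⟨𝔮, hprime⟩
  let x : X := hU.fromSpec yq
  have hxU : x ∈ U := by
    have h1 : x ∈ Set.range hU.fromSpec := ⟨yq, rfl⟩
    rw [hU.range_fromSpec] at h1
    exact h1
  have hunit : ∀ a : Γ(X, U), IsUnit (X.presheaf.germ U x hxU a) ↔ a ∉ 𝔮 := by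
    intro a
    letI algA : Algebra Γ(X, U) (X.presheaf.stalk x) :=
      TopCat.Presheaf.algebra_section_stalk X.presheaf (U := U) ⟨x, hxU⟩
    haveI locA : IsLocalization.AtPrime (X.presheaf.stalk x) 𝔮 :=
      hU.isLocalization_stalk' yq hxU
    exact IsLocalization.AtPrime.isUnit_to_map_iff (X.presheaf.stalk x) 𝔮 a
  have hbasic : ∀ a : Γ(X, U), x ∈ X.basicOpen a ↔ a ∉ 𝔮 := fun a =>
    (X.mem_basicOpen a x hxU).trans (hunit a)
  -- a vanishing criterion
  have hvan : ∀ (g : Γ(X, U)), g ∈ 𝔮 → ∀ (y : X) (hy : y ∈ W), y ∈ X.basicOpen g →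
      sgm M W y hy t = 0 := by
    intro g hg y hy hyg
    rw [h𝔮] at hg
    exact hg y hy ((X.mem_basicOpen g y (hWU hy)).1 hyg)
  have hxW : x ∈ W := by
    by_contra hcon
    obtain ⟨g, hgW, hyg⟩ := hU.exists_basicOpen_le (V := W) ⟨y₁, hy₁⟩ (hWU hy₁)
    have hg : g ∈ 𝔮 := by
      by_contra hg
      exact hcon (hgW ((hbasic g).2 hg))
    exact hty₁ (hvan g hg y₁ hy₁ hyg)
  -- generic criterion: a section over `W' ≤ U` whose radical contains `𝔮` and which vanishes
  -- near `x` is zero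
  have hkey : ∀ (W' : X.Opens) (hW' : W' ≤ U) (s : Γ(M, W')), 𝔮 ≤ rad M W' hW' s →
      (∃ (V : X.Opens) (hV : V ≤ W'), x ∈ V ∧ res M hV s = 0) → s = 0 := by
    intro W' hW' s hle ⟨V, hV, hxV, hs⟩
    by_contra hne
    have hnz : ∃ (y : X) (hy : y ∈ W'), sgm M W' y hy s ≠ 0 := by
      by_contra hcon
      push Not at hcon
      exact hne (eq_zero_of_sgm M s hcon)
    have h2 := hmax' W' hW' s hnz hle
    obtain ⟨g, hgV, hxg⟩ := hU.exists_basicOpen_le (V := V) ⟨x, hxV⟩ hxU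
    have hg : g ∈ rad M W' hW' s := by
      intro y hy hu
      have hyg : y ∈ X.basicOpen g := (X.mem_basicOpen g y (hW' hy)).2 hu
      have h3 := sgm_res M hV y (hgV hyg) s
      rw [← h3, hs, sgm_zero]
    exact (hbasic g).1 hxg (h2 hg)
  refine ⟨x, W, t, hxW, ?_, ?_, ?_⟩
  · intro h0
    obtain ⟨V, hV, hxV, hs⟩ := exists_res_eq_zero M x hxW t h0
    have h1 := hkey W hWU t (le_of_eq h𝔮) ⟨V, hV, hxV, hs⟩
    apply hty₁
    rw [h1, sgm_zero]
  · intro W' h hxW'
    apply eq_zero_of_sgm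
    intro y hy
    rw [sgm_res]
    obtain ⟨g, hgW', hyg⟩ := hU.exists_basicOpen_le (V := W') ⟨y, hy⟩ (hWU (h hy))
    have hg : g ∈ 𝔮 := by
      by_contra hg
      exact hxW' (hgW' ((hbasic g).2 hg))
    exact hvan g hg y (h hy) hyg
  · intro W' h hxW' a ha
    have hle : 𝔮 ≤ rad M W' (h.trans hWU) (a • res M h t) := by
      intro g hg y hy hu
      rw [sgm_smul, sgm_res]
      rw [h𝔮] at hg
      rw [hg y (h hy) hu, smul_zero]
    have h0 : sgm M W' x hxW' (a • res M h t) = 0 := by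
      rw [sgm_smul, sgm_res]
      exact ha
    exact hkey W' (h.trans hWU) (a • res M h t) hle
      (exists_res_eq_zero M x hxW' (a • res M h t) h0)

end Groth.Agent.Lib.Lead.PureSec
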