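import Mathlib
import Groth.Prelude
import Groth.Agent.Lib.Lead.PureSec

/-!
# Embedding an indecomposable skyscraper into a nonzero injective module (lead)
-/

set_option autoImplicit false
set_option linter.style.haveILetI false
universe u

open CategoryTheory CategoryTheory.Limits AlgebraicGeometry TopologicalSpace Opposite
open Scheme.Modules

namespace Groth.Agent.Lib.Lead.PureEmb

open Groth.Agent.Lib.Helper2.Stk Groth.Agent.Lib.Helper3 Groth.Agent.Lib.Helper3.QCSec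
  Groth.Agent.Lib.Helper3.InvGen Groth.Agent.Lib.Helper25.ExtZeroFlat
  Groth.Agent.Lib.Lead.IndecSky Groth.Agent.Lib.Lead.PureSec

variable {X : Scheme.{u}}

theorem exists_pure_prime [IsLocallyNoetherian X] (M : X.Modules) (hM : ¬ IsZero M) :
    ∃ (x : X) (W : X.Opens) (t : Γ(M, W)) (hp : IsPure M x W t)
      (𝔭 : PrimeSpectrum (X.presheaf.stalk x)),
      ∀ a : X.presheaf.stalk x, a • sgm M W x hp.mem t = 0 ↔ a ∈ 𝔭.asIdeal := by
  obtain ⟨x, W, t, hp⟩ := exists_pure M hM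
  let m : (Φ x).obj M := sgm M W x hp.mem t
  let N : Submodule (X.presheaf.stalk x) ((Φ x).obj M) := Submodule.span _ {m}
  have hmN : m ∈ N := Submodule.mem_span_singleton_self m
  have hn₀ : (⟨m, hmN⟩ : N) ≠ 0 := fun h => hp.germ_ne (congrArg Subtype.val h)
  haveI : IsNoetherianRing (X.presheaf.stalk x) := inferInstance
  obtain ⟨P, hP, -⟩ := exists_le_isAssociatedPrime_of_isNoetherianRing (X.presheaf.stalk x)
    (⟨m, hmN⟩ : N) hn₀
  obtain ⟨hPprime, ⟨y₀, hy₀⟩, hPy⟩ := (isAssociatedPrime_iff).1 hP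
  obtain ⟨b, hb⟩ := Submodule.mem_span_singleton.1 hy₀
  obtain ⟨V, hxV, b', hb'⟩ := TopCat.Presheaf.exists_germ_eq X.presheaf b
  have hxW' : x ∈ W ⊓ V := ⟨hp.mem, hxV⟩
  obtain ⟨t', ht'⟩ : ∃ t' : Γ(M, W ⊓ V), t' = rres X (inf_le_right : W ⊓ V ≤ V) b' •
      res M (inf_le_left : W ⊓ V ≤ W) t :=
    ⟨rres X (inf_le_right : W ⊓ V ≤ V) b' • res M (inf_le_left : W ⊓ V ≤ W) t, rfl⟩
  have hgt : ∀ hx' : x ∈ W ⊓ V, sgm M (W ⊓ V) x hx' t' = b • m := by
    intro hx'
    rw [ht', sgm_smul, sgm_res, gr_res, hb']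
  have hann : ∀ a : X.presheaf.stalk x, a • sgm M (W ⊓ V) x hxW' t' = 0 ↔ a ∈ P := by
    intro a
    rw [hgt, hb, hPy, Submodule.mem_colon_singleton, Submodule.mem_bot]
    constructor
    · intro h; exact Subtype.ext h
    · intro h; exact congrArg Subtype.val h
  refine ⟨x, W ⊓ V, t', ⟨hxW', ?_, ?_, ?_⟩, ⟨P, hPprime⟩, hann⟩
  · intro h0
    have h1 : (1 : X.presheaf.stalk x) ∈ P := (hann 1).1 (by rw [one_smul]; exact h0)
    exact hPprime.ne_top ((Ideal.eq_top_iff_one _).2 h1)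
  · intro W' h hx
    rw [ht', res_smul, res_res, hp.vanish W' (h.trans inf_le_left) hx, smul_zero]
  · intro W' h hx a ha
    rw [ht', res_smul, res_res, smul_smul]
    apply hp.torsion W' (h.trans inf_le_left) hx
    rw [_root_.map_mul, mul_smul, gr_res, gr_res, hb']
    rw [hgt] at ha
    exact ha

section Ext

theorem struct_hom_ext {Y : Scheme.{u}} {L : Y.Modules} (s s' : Coh.structureModule Y ⟶ L)
    (h : sec s ⊤ = sec s' ⊤) : s = s' := by
  apply Scheme.Modules.hom_ext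
  intro U
  ext a
  have e1 := app_eq_smul_sec s U (toFun U a)
  have e2 := app_eq_smul_sec s' U (toFun U a)
  have e3 : sec s U = sec s' U := by
    rw [← res_sec s (le_top : U ≤ ⊤), ← res_sec s' (le_top : U ≤ ⊤), h]
  rw [e3] at e1
  exact e1.trans e2.symm

theorem extZero_hom_ext (W : X.Opens) {N : X.Modules} (g g' : CxOX.extZeroUnit W.ι ⟶ N)
    (h : g.app (W.ι ''ᵁ ⊤) (unitSec W) = g'.app (W.ι ''ᵁ ⊤) (unitSec W)) : g = g' := by
  apply ((CxOX.extZeroAdj W.ι).homEquiv _ _).injective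
  rw [Adjunction.homEquiv_unit, Adjunction.homEquiv_unit]
  apply struct_hom_ext
  exact h

theorem stalk_gen (W : X.Opens) (z : X) (hz : z ∈ W.ι ''ᵁ ⊤)
    (p : (Φ z).obj (CxOX.extZeroUnit W.ι)) :
    ∃ a : X.presheaf.stalk z,
      a • sgm (CxOX.extZeroUnit W.ι) (W.ι ''ᵁ ⊤) z hz (unitSec W) = p := by
  let g₀ : (Φ z).obj (CxOX.extZeroUnit W.ι) :=
    sgm (CxOX.extZeroUnit W.ι) (W.ι ''ᵁ ⊤) z hz (unitSec W)
  let K : Submodule (X.presheaf.stalk z) ((Φ z).obj (CxOX.extZeroUnit W.ι)) :=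
    Submodule.span _ {g₀}
  suffices h : K = ⊤ by
    have h1 : p ∈ K := by rw [h]; trivial
    exact Submodule.mem_span_singleton.1 h1
  let π : (Φ z).obj (CxOX.extZeroUnit W.ι) ⟶
      ModuleCat.of _ ((Φ z).obj (CxOX.extZeroUnit W.ι) ⧸ K) := ModuleCat.ofHom K.mkQ
  have hπ : π = 0 := by
    apply ((stalkSkyAdj z).homEquiv _ _).injective
    apply extZero_hom_ext
    rw [Adjunction.homEquiv_unit, Adjunction.homEquiv_unit]
    funext h
    show K.mkQ g₀ = 0
    rw [Submodule.mkQ_apply, Submodule.Quotient.mk_eq_zero]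
    exact Submodule.mem_span_singleton_self g₀
  have h0 : K.mkQ = 0 := by
    have := congrArg ModuleCat.Hom.hom hπ
    exact this
  rw [← Submodule.ker_mkQ K, h0, LinearMap.ker_zero]

end Ext

theorem exists_mono_of_pure (I : X.Modules) [Injective I] (c : Cand X) (W : X.Opens) (t : Γ(I, W))
    (hp : IsPure I c.1 W t)
    (hann : ∀ a : X.presheaf.stalk c.1, a • sgm I W c.1 hp.mem t = 0 ↔ a ∈ c.2.asIdeal) :
    ∃ δ : obj c ⟶ I, Mono δ := by
  obtain ⟨sJ, hsJ⟩ : ∃ sJ : Γ(obj c, W),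
      sJ = ((fun _ => e₁ c) : SkySec c.1 (hullT c) W) := ⟨_, rfl⟩
  let J : X.Modules := obj c
  let σ : CxOX.extZeroUnit W.ι ⟶ J := homOfSecExt J W sJ
  let τ : CxOX.extZeroUnit W.ι ⟶ I := homOfSecExt I W t
  have hW₀ : W.ι ''ᵁ ⊤ ≤ W := W.ι_image_le ⊤
  have hW₀' : W ≤ W.ι ''ᵁ ⊤ := by rw [Scheme.Opens.ι_image_top]
  have hσu : σ.app (W.ι ''ᵁ ⊤) (unitSec W) = res J hW₀ sJ := homOfSecExt_app_unitSec J W sJ
  have hτu : τ.app (W.ι ''ᵁ ⊤) (unitSec W) = res I hW₀ t := homOfSecExt_app_unitSec I W t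
  have hJval : ∀ (V : X.Opens) (hV : V ≤ W) (hxV : c.1 ∈ V) (a : Γ(X, V)),
      ((a • res J hV sJ : Γ(J, V)) : SkySec c.1 (hullT c) V) ⟨hxV⟩ =
        X.presheaf.germ V c.1 hxV a • e₁ c := by
    intro V hV hxV a
    rw [hsJ]
    rfl
  -- kernel inclusion
  have hker : kernel.ι σ ≫ τ = 0 := by
    apply Groth.Agent.Lib.Helper25.PullFaithful.eq_zero_of_stalk_zero
    intro z
    ext k
    show (Φ z).map (kernel.ι σ ≫ τ) k = 0
    rw [CategoryTheory.Functor.map_comp]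
    show (Φ z).map τ ((Φ z).map (kernel.ι σ) k) = 0
    have hσp : (Φ z).map σ ((Φ z).map (kernel.ι σ) k) = 0 := by
      have h0 : (Φ z).map (kernel.ι σ) ≫ (Φ z).map σ = 0 := by
        rw [← CategoryTheory.Functor.map_comp, kernel.condition, CategoryTheory.Functor.map_zero]
      exact congrArg (fun f => f.hom k) h0
    generalize (Φ z).map (kernel.ι σ) k = p at hσp ⊢
    by_cases hz : z ∈ W
    · have hz₀ : z ∈ W.ι ''ᵁ ⊤ := hW₀' hz
      obtain ⟨a, rfl⟩ := stalk_gen W z hz₀ p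
      rw [_root_.map_smul] at hσp ⊢
      have e1 : (Φ z).map σ (sgm _ (W.ι ''ᵁ ⊤) z hz₀ (unitSec W)) =
          sgm J (W.ι ''ᵁ ⊤) z hz₀ (res J hW₀ sJ) := by
        rw [← hσu]
        exact DerSch.stalkFunctor_map_germ z σ _ hz₀ (unitSec W)
      have e2 : (Φ z).map τ (sgm _ (W.ι ''ᵁ ⊤) z hz₀ (unitSec W)) =
          sgm I (W.ι ''ᵁ ⊤) z hz₀ (res I hW₀ t) := by
        rw [← hτu]
        exact DerSch.stalkFunctor_map_germ z τ _ hz₀ (unitSec W)
      rw [e1, sgm_res] at hσp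
      rw [e2, sgm_res]
      obtain ⟨V, hzV, a', rfl⟩ := TopCat.Presheaf.exists_germ_eq X.presheaf a
      have hzV' : z ∈ V ⊓ W := ⟨hzV, hz⟩
      have h3 : sgm J (V ⊓ W) z hzV' (rres X (inf_le_left : V ⊓ W ≤ V) a' •
          res J (inf_le_right : V ⊓ W ≤ W) sJ) = 0 := by
        rw [sgm_smul, sgm_res, gr_res]
        exact hσp
      obtain ⟨V₂, hV₂, hzV₂, h4⟩ := exists_res_eq_zero J z hzV' _ h3
      rw [res_smul, res_res, rres_rres] at h4
      have goal' : sgm I V₂ z hzV₂ (rres X (hV₂.trans inf_le_left) a' •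
          res I (hV₂.trans inf_le_right) t) = 0 := by
        by_cases hxV₂ : c.1 ∈ V₂
        · have h5 := congrFun h4 ⟨hxV₂⟩
          have h6 : X.presheaf.germ V₂ c.1 hxV₂ (rres X (hV₂.trans inf_le_left) a') •
              e₁ c = 0 :=
            (hJval V₂ (hV₂.trans inf_le_right) hxV₂ _).symm.trans h5
          have h7 := (smul_e₁_eq_zero_iff c _).1 h6
          have h8 := (hann _).2 h7
          have h9 := hp.torsion V₂ (hV₂.trans inf_le_right) hxV₂ _ h8
          rw [h9, sgm_zero]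
        · rw [hp.vanish V₂ (hV₂.trans inf_le_right) hxV₂, smul_zero, sgm_zero]
      rw [sgm_smul, sgm_res, gr_res] at goal'
      exact goal'
    · have hz' : z ∉ Set.range W.ι := by
        rw [Scheme.Opens.range_ι]
        exact hz
      have hZ := Groth.Agent.Lib.Lead.GammaZInj.isZero_stalk_extZero W.ι z hz'
        (Coh.structureModule (W : Scheme.{u}))
      haveI : Subsingleton ((Φ z).obj (CxOX.extZeroUnit W.ι)) :=
        ModuleCat.subsingleton_of_isZero hZ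
      rw [Subsingleton.elim p 0, _root_.map_zero]
  -- the extension
  let τ' : Abelian.coimage σ ⟶ I := cokernel.desc (kernel.ι σ) τ hker
  let δ : J ⟶ I := Injective.factorThru τ' (Abelian.factorThruCoimage σ)
  have hδ : σ ≫ δ = τ := by
    have h1 : Abelian.coimage.π σ ≫ Abelian.factorThruCoimage σ = σ := Abelian.coimage.fac σ
    calc σ ≫ δ = (Abelian.coimage.π σ ≫ Abelian.factorThruCoimage σ) ≫ δ := by rw [h1]
      _ = Abelian.coimage.π σ ≫ τ' := by rw [Category.assoc, Injective.comp_factorThru]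
      _ = τ := cokernel.π_desc _ _ _
  have hδs : δ.app (W.ι ''ᵁ ⊤) (res J hW₀ sJ) = res I hW₀ t := by
    rw [← hσu, ← hτu, ← hδ]
    rfl
  refine ⟨δ, ?_⟩
  rw [QCProps.mono_iff_app_injective]
  intro V
  suffices hsuff : ∀ s : Γ(J, V), δ.app V s = 0 → s = 0 by
    intro s₁ s₂ h
    exact sub_eq_zero.1 (hsuff _ (by rw [_root_.map_sub, h, sub_self]))
  intro s hs
  funext hxV
  by_contra he
  obtain ⟨a, d, had, hd⟩ := exists_smul_eq c
    ((s : SkySec c.1 (hullT c) V) hxV) he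
  obtain ⟨V₁, hx₁, a', rfl⟩ := TopCat.Presheaf.exists_germ_eq X.presheaf a
  obtain ⟨V₂, hx₂, d', rfl⟩ := TopCat.Presheaf.exists_germ_eq X.presheaf d
  obtain ⟨V', hV'⟩ : ∃ V' : X.Opens, V' = (V ⊓ V₁) ⊓ (V₂ ⊓ W.ι ''ᵁ ⊤) := ⟨_, rfl⟩
  have hxV' : c.1 ∈ V' := by
    rw [hV']
    exact ⟨⟨hxV.down, hx₁⟩, ⟨hx₂, hW₀' hp.mem⟩⟩
  have l1 : V' ≤ V := by rw [hV']; exact inf_le_left.trans inf_le_left
  have l2 : V' ≤ V₁ := by rw [hV']; exact inf_le_left.trans inf_le_right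
  have l3 : V' ≤ V₂ := by rw [hV']; exact inf_le_right.trans inf_le_left
  have l4 : V' ≤ W.ι ''ᵁ ⊤ := by rw [hV']; exact inf_le_right.trans inf_le_right
  have hy : rres X l2 a' • res J l1 s = rres X l3 d' • res J l4 (res J hW₀ sJ) := by
    funext h'
    rw [res_res]
    refine Eq.trans ?_ (hJval V' (l4.trans hW₀) h'.down (rres X l3 d')).symm
    show X.presheaf.germ V' c.1 h'.down (rres X l2 a') •
      (s : SkySec c.1 (hullT c) V) ⟨l1 h'.down⟩ = _
    rw [gr_res, gr_res]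
    exact had
  have h1 : δ.app V' (rres X l2 a' • res J l1 s) = 0 := by
    rw [Scheme.Modules.Hom.app_smul, QCExact.app_res', hs, res_zero, smul_zero]
  have h2 : δ.app V' (rres X l3 d' • res J l4 (res J hW₀ sJ)) =
      rres X l3 d' • res I l4 (res I hW₀ t) := by
    rw [Scheme.Modules.Hom.app_smul, QCExact.app_res', hδs]
  rw [hy, h2] at h1
  have h3 := congrArg (sgm I V' c.1 hxV') h1
  rw [sgm_smul, sgm_res, sgm_res, gr_res, sgm_zero] at h3
  exact hd ((hann _).1 h3)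

/-- every nonzero injective module on a locally Noetherian scheme contains an indecomposable
injective skyscraper -/
theorem exists_mono_obj [IsLocallyNoetherian X] (I : X.Modules) [Injective I] (hI : ¬ IsZero I) :
    ∃ (c : Cand X) (δ : obj c ⟶ I), Mono δ := by
  obtain ⟨x, W, t, hp, 𝔭, hann⟩ := exists_pure_prime I hI
  obtain ⟨δ, hδ⟩ := exists_mono_of_pure I (⟨x, 𝔭⟩ : Cand X) W t hp hann
  exact ⟨⟨x, 𝔭⟩, δ, hδ⟩

end Groth.Agent.Lib.Lead.PureEmb
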