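import Mathlib
import Groth.Prelude
import Groth.Agent.Lib.Lead.PureEmb
import Groth.Agent.Lib.Lead.SumInj

/-!
# Injective modules on a locally Noetherian scheme are direct sums of indecomposable injectives (lead)
-/

set_option autoImplicit false
set_option linter.style.haveILetI false
universe u

open CategoryTheory CategoryTheory.Limits AlgebraicGeometry TopologicalSpace Opposite

namespace Groth.Agent.Lib.Lead.InjDecomp

open Groth.Agent.Lib.Helper2.Stk Groth.Agent.Lib.Lead.IndecSky

variable {X : Scheme.{u}}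

theorem mono_of_stalk_injective {M N : X.Modules} (φ : M ⟶ N)
    (h : ∀ y : X, Function.Injective ((Φ y).map φ)) : Mono φ := by
  apply Preadditive.mono_of_cancel_zero
  intro P g hg
  apply Groth.Agent.Lib.Helper25.PullFaithful.eq_zero_of_stalk_zero
  intro y
  haveI : Mono ((Φ y).map φ) := (ModuleCat.mono_iff_injective _).2 (h y)
  rw [← cancel_mono ((Φ y).map φ), ← CategoryTheory.Functor.map_comp, hg,
    CategoryTheory.Functor.map_zero, zero_comp]

theorem finset_subset_of_chain {α : Type*} {c : Set (Set α)} (hne : c.Nonempty)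
    (hchain : IsChain (· ⊆ ·) c) (T : Finset α) (hT : (T : Set α) ⊆ ⋃₀ c) :
    ∃ s ∈ c, (T : Set α) ⊆ s := by
  classical
  induction T using Finset.induction_on with
  | empty =>
    obtain ⟨s, hs⟩ := hne
    exact ⟨s, hs, by simp⟩
  | insert a T ha ih =>
    rw [Finset.coe_insert, Set.insert_subset_iff] at hT
    obtain ⟨s₁, hs₁, has₁⟩ := Set.mem_sUnion.1 hT.1
    obtain ⟨s₂, hs₂, hTs₂⟩ := ih hT.2
    rcases hchain.total hs₁ hs₂ with h | h
    · refine ⟨s₂, hs₂, ?_⟩
      rw [Finset.coe_insert, Set.insert_subset_iff]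
      exact ⟨h has₁, hTs₂⟩
    · refine ⟨s₁, hs₁, ?_⟩
      rw [Finset.coe_insert, Set.insert_subset_iff]
      exact ⟨has₁, hTs₂.trans h⟩

variable (I : X.Modules)

/-- embeddings of indecomposable injective skyscrapers into `I` -/
abbrev Emb : Type u := Σ c : Cand X, {f : obj c ⟶ I // Mono f}

/-- independence of a set of embeddings, tested on stalks -/
def Ind (F : Set (Emb I)) : Prop :=
  ∀ (x : X) (T : Finset (Emb I)) (z : ∀ a : Emb I, (Φ x).obj (obj a.1)),
    (↑T ⊆ F) → (∑ a ∈ T, (Φ x).map a.2.1 (z a)) = 0 → ∀ a ∈ T, z a = 0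

theorem exists_maximal_ind :
    ∃ F : Set (Emb I), Ind I F ∧ ∀ F' : Set (Emb I), Ind I F' → F ⊆ F' → F' ⊆ F := by
  obtain ⟨F, hF⟩ := zorn_subset {F : Set (Emb I) | Ind I F} (by
    intro c hc hchain
    by_cases hne : c.Nonempty
    · refine ⟨⋃₀ c, ?_, fun s hs => Set.subset_sUnion_of_mem hs⟩
      intro x T z hT hsum
      obtain ⟨s, hs, hTs⟩ := finset_subset_of_chain hne hchain T hT
      exact hc hs x T z hTs hsum
    · refine ⟨∅, ?_, ?_⟩
      · intro x T z hT hsum a ha
        exact absurd (hT ha) (Set.notMem_empty _)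
      · intro s hs
        exact absurd ⟨s, hs⟩ hne)
  exact ⟨F, hF.1, fun F' hF' hle => hF.2 hF' hle⟩

/-- the family of skyscrapers indexed by a set of embeddings -/
noncomputable abbrev fam (F : Set (Emb I)) : ↥F → X.Modules := fun a => obj a.1.1

/-- the sum map -/
noncomputable abbrev famMap (F : Set (Emb I)) : ∐ fam I F ⟶ I := Sigma.desc (fun a => a.1.2.1)

theorem mono_famMap (F : Set (Emb I)) (hF : Ind I F) : Mono (famMap I F) := by
  classical
  apply mono_of_stalk_injective
  intro x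
  show Function.Injective ((Φ x).map (famMap I F)).hom
  rw [injective_iff_map_eq_zero]
  intro t ht
  obtain ⟨J₀, hJ₀⟩ := Groth.Agent.Lib.Lead.SumInj.exists_finset_stalk (fam I F) x t
  have h0 := hJ₀ J₀ (Finset.Subset.refl _)
  have hid : 𝟙 (∐ fam I F) = Groth.Agent.Lib.Lead.SumInj.eJ (fam I F) J₀ +
      ∑ a ∈ J₀, Sigma.π (fam I F) a ≫ Sigma.ι (fam I F) a := by
    apply Sigma.hom_ext
    intro b
    rw [Category.comp_id, Preadditive.comp_add, Preadditive.comp_sum]
    by_cases hb : b ∈ J₀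
    · rw [Groth.Agent.Lib.Lead.SumInj.ι_eJ_of_mem _ hb, zero_add, Finset.sum_eq_single b]
      · rw [← Category.assoc, Sigma.ι_π_eq_id, Category.id_comp]
      · intro a _ hab
        rw [← Category.assoc, Sigma.ι_π_of_ne _ hab.symm, zero_comp]
      · intro h
        exact absurd hb h
    · rw [Groth.Agent.Lib.Lead.SumInj.ι_eJ_of_not_mem _ hb, Finset.sum_eq_zero, add_zero]
      intro a ha
      have hab : b ≠ a := fun h => hb (h ▸ ha)
      rw [← Category.assoc, Sigma.ι_π_of_ne _ hab, zero_comp]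
  -- decompose `t`
  have ht' : t = ∑ a ∈ J₀, ((Φ x).map (Sigma.ι (fam I F) a)).hom
      (((Φ x).map (Sigma.π (fam I F) a)).hom t) := by
    have e1 := congrArg (fun g => ((Φ x).map g).hom t) hid
    simp only [CategoryTheory.Functor.map_id, CategoryTheory.Functor.map_add,
      CategoryTheory.Functor.map_sum, CategoryTheory.Functor.map_comp, ModuleCat.hom_id,
      ModuleCat.hom_add, ModuleCat.hom_sum, ModuleCat.hom_comp, LinearMap.id_apply,
      LinearMap.add_apply, LinearMap.sum_apply, LinearMap.comp_apply] at e1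
    rw [show ((Φ x).map (Groth.Agent.Lib.Lead.SumInj.eJ (fam I F) J₀)).hom t = 0 from h0,
      zero_add] at e1
    exact e1
  -- the independence relation
  let z : ∀ a : Emb I, (Φ x).obj (obj a.1) := fun a =>
    if h : a ∈ F then ((Φ x).map (Sigma.π (fam I F) ⟨a, h⟩)).hom t else 0
  have hz : ∀ a : ↥F, z a.1 = ((Φ x).map (Sigma.π (fam I F) a)).hom t := by
    intro a
    exact dif_pos a.2
  let T : Finset (Emb I) := J₀.map ⟨Subtype.val, Subtype.val_injective⟩
  have hT : (↑T : Set (Emb I)) ⊆ F := by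
    intro a ha
    obtain ⟨a', _, rfl⟩ := Finset.mem_map.1 (Finset.mem_coe.1 ha)
    exact a'.2
  have hsum : (∑ a ∈ T, (Φ x).map a.2.1 (z a)) = 0 := by
    show (∑ a ∈ J₀.map ⟨Subtype.val, Subtype.val_injective⟩, (Φ x).map a.2.1 (z a)) = 0
    rw [Finset.sum_map]
    have e2 := congrArg ((Φ x).map (famMap I F)).hom ht'
    rw [ht, _root_.map_sum] at e2
    rw [e2]
    apply Finset.sum_congr rfl
    intro a _
    show (Φ x).map a.1.2.1 (z a.1) = _
    rw [hz a]
    have e3 : Sigma.ι (fam I F) a ≫ famMap I F = a.1.2.1 := colimit.ι_desc _ _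
    rw [← e3, CategoryTheory.Functor.map_comp]
    rfl
  have hall := hF x T z hT hsum
  rw [ht']
  apply Finset.sum_eq_zero
  intro a ha
  have h5 : z a.1 = 0 := hall a.1 (Finset.mem_map.2 ⟨a, ha, rfl⟩)
  rw [hz a] at h5
  rw [h5, _root_.map_zero]

theorem decomposition' [IsLocallyNoetherian X] [Injective I] :
    ∃ F : Set (Emb I), Nonempty (I ≅ ∐ fam I F) := by
  classical
  obtain ⟨F, hF, hmax⟩ := exists_maximal_ind I
  have hJinj : ∀ i, Injective (fam I F i) := fun i => injective_obj _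
  haveI : Injective (∐ fam I F) := Groth.Agent.Lib.Lead.SumInj.injective_sigma (fam I F) hJinj
  haveI : Mono (famMap I F) := mono_famMap I F hF
  obtain ⟨r, hmr⟩ : ∃ r : I ⟶ ∐ fam I F, famMap I F ≫ r = 𝟙 _ :=
    ⟨Injective.factorThru (𝟙 _) (famMap I F), Injective.comp_factorThru _ _⟩
  have hρ0 : (𝟙 I - r ≫ famMap I F) ≫ r = 0 := by
    rw [Preadditive.sub_comp, Category.id_comp, Category.assoc, hmr, Category.comp_id, sub_self]
  obtain ⟨ρ, hρ⟩ : ∃ ρ : I ⟶ kernel r, ρ ≫ kernel.ι r = 𝟙 I - r ≫ famMap I F :=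
    ⟨kernel.lift r _ hρ0, kernel.lift_ι _ _ _⟩
  have hιρ : kernel.ι r ≫ ρ = 𝟙 _ := by
    rw [← cancel_mono (kernel.ι r), Category.assoc, hρ, Preadditive.comp_sub, Category.comp_id,
      ← Category.assoc, kernel.condition, zero_comp, sub_zero, Category.id_comp]
  haveI hI' : Injective (kernel r) :=
    ⟨fun {A B} g f _ => ⟨Injective.factorThru (g ≫ kernel.ι r) f ≫ ρ, by
      rw [← Category.assoc, Injective.comp_factorThru, Category.assoc, hιρ, Category.comp_id]⟩⟩
  have hzero : IsZero (kernel r) := by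
    by_contra hne
    obtain ⟨c, g, hg⟩ := Groth.Agent.Lib.Lead.PureEmb.exists_mono_obj (kernel r) hne
    haveI := hg
    obtain ⟨b, hb1, hb2⟩ : ∃ b : Emb I, b.1 = c ∧ HEq b.2.1 (g ≫ kernel.ι r) :=
      ⟨⟨c, g ≫ kernel.ι r, mono_comp _ _⟩, rfl, HEq.rfl⟩
    subst hb1
    have hb3 : b.2.1 = g ≫ kernel.ι r := eq_of_heq hb2
    have he_F : ∀ a ∈ F, a.2.1 ≫ r ≫ famMap I F = a.2.1 := by
      intro a ha
      have h1 : Sigma.ι (fam I F) ⟨a, ha⟩ ≫ famMap I F = a.2.1 := colimit.ι_desc _ _
      rw [← h1, Category.assoc, ← Category.assoc (famMap I F) r, hmr, Category.id_comp]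
    have he_b : b.2.1 ≫ r ≫ famMap I F = 0 := by
      rw [hb3, Category.assoc, ← Category.assoc (kernel.ι r) r, kernel.condition, zero_comp,
        comp_zero]
    have hbInd : Ind I (insert b F) := by
      intro x T z hT hsum
      have hT' : ∀ a ∈ T.erase b, a ∈ F := by
        intro a ha
        have h1 := Finset.mem_erase.1 ha
        rcases hT (Finset.mem_coe.2 h1.2) with h | h
        · exact absurd h h1.1
        · exact h
      have hsum' : (∑ a ∈ T.erase b, (Φ x).map a.2.1 (z a)) = 0 := by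
        have h1 := congrArg ((Φ x).map (r ≫ famMap I F)).hom hsum
        rw [_root_.map_sum, _root_.map_zero] at h1
        have h2 : ∀ a ∈ T, ((Φ x).map (r ≫ famMap I F)).hom ((Φ x).map a.2.1 (z a)) =
            (Φ x).map (a.2.1 ≫ r ≫ famMap I F) (z a) := by
          intro a _
          have h9 := congrArg (fun k => k.hom (z a)) ((Φ x).map_comp a.2.1 (r ≫ famMap I F))
          exact h9.symm
        rw [Finset.sum_congr rfl h2] at h1
        have h3 : (Φ x).map (b.2.1 ≫ r ≫ famMap I F) (z b) = 0 := by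
          rw [he_b, CategoryTheory.Functor.map_zero]
          rfl
        rw [← Finset.sum_erase T h3] at h1
        rw [← h1]
        apply Finset.sum_congr rfl
        intro a ha
        rw [he_F a (hT' a ha)]
      have hz' := hF x (T.erase b) z (fun a ha => hT' a (Finset.mem_coe.1 ha)) hsum'
      intro a ha
      by_cases hab : a = b
      · have h3 : (Φ x).map a.2.1 (z a) = 0 := by
          rw [← Finset.add_sum_erase T _ ha, hab, hsum', add_zero] at hsum
          rw [hab]
          exact hsum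
        haveI : Mono a.2.1 := a.2.2
        exact Φ_map_injective a.2.1 x (h3.trans (_root_.map_zero _).symm)
      · exact hz' a (Finset.mem_erase.2 ⟨hab, ha⟩)
    have hbF : b ∈ F := hmax _ hbInd (Set.subset_insert _ _) (Set.mem_insert _ _)
    have h1 : Sigma.ι (fam I F) ⟨b, hbF⟩ ≫ famMap I F = b.2.1 := colimit.ι_desc _ _
    have h2 : Sigma.ι (fam I F) ⟨b, hbF⟩ = 0 := by
      have h3 := congrArg (fun k => k ≫ r) h1
      simp only [Category.assoc, hmr, Category.comp_id] at h3
      rw [h3, hb3, Category.assoc, kernel.condition, comp_zero]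
    have h3 : 𝟙 (obj b.1) = 0 := by
      have h4 := Sigma.ι_π_eq_id (fam I F) ⟨b, hbF⟩
      rw [h2, zero_comp] at h4
      exact h4.symm
    exact not_isZero_obj b.1 ((IsZero.iff_id_eq_zero _).2 h3)
  have hι0 : kernel.ι r = 0 := hzero.eq_of_src _ _
  haveI : Mono r := Preadditive.mono_of_kernel_zero hι0
  haveI : IsSplitEpi r := IsSplitEpi.mk' ⟨famMap I F, hmr⟩
  haveI : IsIso r := isIso_of_mono_of_isSplitEpi r
  exact ⟨F, ⟨asIso r⟩⟩

theorem decomposition [IsLocallyNoetherian X] [Injective I] :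
    ∃ (ι : Type u) (J : ι → X.Modules), (∀ i, Injective (J i)) ∧ (∀ i, ¬ IsZero (J i)) ∧
      (∀ i (A B : X.Modules), Nonempty (J i ≅ A ⊞ B) → IsZero A ∨ IsZero B) ∧
      Nonempty (I ≅ ∐ J) := by
  obtain ⟨F, ⟨e⟩⟩ := decomposition' I
  exact ⟨↥F, fam I F, fun i => injective_obj _, fun i => not_isZero_obj _,
    fun i A B h => indecomposable_obj _ A B h, ⟨e⟩⟩

end Groth.Agent.Lib.Lead.InjDecomp
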