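import Mathlib
import Groth.Prelude
import Groth.Agent.Lib.Lead.InjDecomp
import Groth.Agent.Lib.Lead.SkyHull
import Groth.Agent.Lib.Helper3.QCLim
import Groth.Agent.Lib.Helper3.QCPush
import Groth.Agent.Lib.Helper17.ExactStage
import Groth.Agent.Lib.Helper13.ModGrothendieck
import Groth.Agent.S0311
import Groth.Agent.Lib.Lead.TildeInj2

/-!
# Injective objects of `QCoh(X)` are injective `O_X`-modules (`X` locally Noetherian) (lead)
-/

set_option autoImplicit false
set_option linter.style.haveILetI false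
universe u

open CategoryTheory CategoryTheory.Limits AlgebraicGeometry TopologicalSpace Opposite
open Scheme.Modules

namespace Groth.Agent.Lib.Lead.QInj

open Groth.Agent.Lib.Helper2.Stk Groth.Agent.Lib.Helper3 Groth.Agent.Lib.Helper3.QCSec
  Groth.Agent.Lib.Lead.IndecSky Groth.Agent.Lib.Lead.PureSec

variable {X : Scheme.{u}}

section CoprodStalk

theorem stalk_coprod_decomp {ι : Type u} [DecidableEq ι] (M : ι → X.Modules) (x : X) (t : (Φ x).obj (∐ M)) :
    ∃ J₀ : Finset ι, t = ∑ a ∈ J₀, ((Φ x).map (Sigma.ι M a)).hom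
      (((Φ x).map (Sigma.π M a)).hom t) := by
  obtain ⟨J₀, hJ₀⟩ := Groth.Agent.Lib.Lead.SumInj.exists_finset_stalk M x t
  have h0 := hJ₀ J₀ (Finset.Subset.refl _)
  have hid : 𝟙 (∐ M) = Groth.Agent.Lib.Lead.SumInj.eJ M J₀ +
      ∑ a ∈ J₀, Sigma.π M a ≫ Sigma.ι M a := by
    apply Sigma.hom_ext
    intro b
    rw [Category.comp_id, Preadditive.comp_add, Preadditive.comp_sum]
    by_cases hb : b ∈ J₀
    · rw [Groth.Agent.Lib.Lead.SumInj.ι_eJ_of_mem _ hb, zero_add, Finset.sum_eq_single b]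
      · rw [← Category.assoc, Sigma.ι_π_eq_id, Category.id_comp]
      · intro a _ hab
        rw [← Category.assoc, Sigma.ι_π_of_ne _ hab.symm, zero_comp]
      · intro h
        exact absurd hb h
    · rw [Groth.Agent.Lib.Lead.SumInj.ι_eJ_of_not_mem _ hb, Finset.sum_eq_zero, add_zero]
      intro a ha
      have hab : b ≠ a := fun h => hb (h ▸ ha)
      rw [← Category.assoc, Sigma.ι_π_of_ne _ hab, zero_comp]
  refine ⟨J₀, ?_⟩
  have e1 := congrArg (fun g => ((Φ x).map g).hom t) hid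
  simp only [CategoryTheory.Functor.map_id, CategoryTheory.Functor.map_add,
    CategoryTheory.Functor.map_sum, CategoryTheory.Functor.map_comp, ModuleCat.hom_id,
    ModuleCat.hom_add, ModuleCat.hom_sum, ModuleCat.hom_comp, LinearMap.id_apply,
    LinearMap.add_apply, LinearMap.sum_apply, LinearMap.comp_apply] at e1
  rw [show ((Φ x).map (Groth.Agent.Lib.Lead.SumInj.eJ M J₀)).hom t = 0 from h0, zero_add] at e1
  exact e1

theorem stalk_coprod_eq_zero {ι : Type u} [DecidableEq ι] (M : ι → X.Modules) (x : X) (t : (Φ x).obj (∐ M))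
    (h : ∀ a, ((Φ x).map (Sigma.π M a)).hom t = 0) : t = 0 := by
  obtain ⟨J₀, hJ₀⟩ := stalk_coprod_decomp M x t
  rw [hJ₀]
  apply Finset.sum_eq_zero
  intro a _
  rw [h a, _root_.map_zero]

end CoprodStalk

section Split

variable {ι : Type u} (M : ι → X.Modules) (P : ι → Prop) [DecidablePred P]

/-- projection to the part of the coproduct where `P` holds -/
noncomputable def pPos : ∐ M ⟶ ∐ (fun a : {a // P a} => M a.1) :=
  Sigma.desc (fun a => if h : P a then Sigma.ι (fun a : {a // P a} => M a.1) ⟨a, h⟩ else 0)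

/-- projection to the part of the coproduct where `P` fails -/
noncomputable def pNeg : ∐ M ⟶ ∐ (fun a : {a // ¬ P a} => M a.1) :=
  Sigma.desc (fun a => if h : P a then 0 else Sigma.ι (fun a : {a // ¬ P a} => M a.1) ⟨a, h⟩)

/-- inclusion of the part where `P` holds -/
noncomputable def iPos : ∐ (fun a : {a // P a} => M a.1) ⟶ ∐ M :=
  Sigma.desc (fun a => Sigma.ι M a.1)

/-- inclusion of the part where `P` fails -/
noncomputable def iNeg : ∐ (fun a : {a // ¬ P a} => M a.1) ⟶ ∐ M :=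
  Sigma.desc (fun a => Sigma.ι M a.1)

theorem split_id : pPos M P ≫ iPos M P + pNeg M P ≫ iNeg M P = 𝟙 _ := by
  apply Sigma.hom_ext
  intro a
  rw [Preadditive.comp_add, Category.comp_id]
  by_cases h : P a
  · have h1 : Sigma.ι M a ≫ pPos M P = Sigma.ι (fun a : {a // P a} => M a.1) ⟨a, h⟩ := by
      simp [pPos, h]
    have h2 : Sigma.ι M a ≫ pNeg M P = 0 := by simp [pNeg, h]
    rw [← Category.assoc, ← Category.assoc, h1, h2, zero_comp, add_zero]
    simp [iPos]
  · have h1 : Sigma.ι M a ≫ pPos M P = 0 := by simp [pPos, h]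
    have h2 : Sigma.ι M a ≫ pNeg M P = Sigma.ι (fun a : {a // ¬ P a} => M a.1) ⟨a, h⟩ := by
      simp [pNeg, h]
    rw [← Category.assoc, ← Category.assoc, h1, h2, zero_comp, zero_add]
    simp [iNeg]

end Split

section QCohObj

theorem isQuasicoherent_obj [IsLocallyNoetherian X] (c : Cand X)
    (hc : c.2.asIdeal = IsLocalRing.maximalIdeal (X.presheaf.stalk c.1)) :
    (obj c).IsQuasicoherent := by
  have hpt : LocCoh.IsPowerTorsion (IsLocalRing.maximalIdeal (X.presheaf.stalk c.1)) (hullE c) := by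
    intro e
    obtain ⟨hind, g, hg⟩ := Groth.Agent.S0305.result (X.presheaf.stalk c.1) c.2.asIdeal (hullE c)
      (hullMap c) (isHull c)
    obtain ⟨n, hn⟩ := Groth.Agent.Lib.Lead.TildeInj2.pow_torsion c.2.asIdeal (hullE c) g hg hind e
    exact ⟨n, by rw [← hc]; exact hn⟩
  haveI : IsIso (unitApp c.1 (Groth.Agent.Lib.Lead.SkyHull.hullMod c.1 (hullE c))) :=
    Groth.Agent.Lib.Lead.SkyHull.isIso_unitApp c.1 _
      (Groth.Agent.Lib.Lead.SkyHull.hull_h0 c.1 _ hpt) (Groth.Agent.Lib.Lead.SkyHull.hull_h1 c.1 _)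
  let e1 := asIso (unitApp c.1 (Groth.Agent.Lib.Lead.SkyHull.hullMod c.1 (hullE c)))
  let eqv : hullE c ≃ₗ[X.presheaf.stalk c.1]
      ((Φ c.1).obj (Groth.Agent.Lib.Lead.SkyHull.hullMod c.1 (hullE c))) :=
    LinearEquiv.ofBijective (Groth.Agent.Lib.Lead.SkyHull.toStalkLin c.1 _)
      (Groth.Agent.Lib.Lead.SkyHull.toStalkLin_bijective c.1 _)
  let e2 : (skyF c.1).obj ((Φ c.1).obj (Groth.Agent.Lib.Lead.SkyHull.hullMod c.1 (hullE c))) ≅
      (skyF c.1).obj (hullT c) := (skyF c.1).mapIso eqv.toModuleIso.symm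
  haveI : (Groth.Agent.Lib.Lead.SkyHull.hullMod c.1 (hullE c)).IsQuasicoherent :=
    QCSec.isQuasicoherent_pushforward (X.fromSpecStalk c.1) _
  exact Groth.Agent.Lib.Helper17.ExactStage.isQuasicoherent_of_iso (e1 ≪≫ e2)

end QCohObj

section NonQ

theorem smul_germ_eq_zero_of_mem_maximalIdeal (K : X.Modules) [K.IsQuasicoherent]
    (x : X) (W : X.Opens) (t : Γ(K, W)) (hp : IsPure K x W t) (𝔭 : Ideal (X.presheaf.stalk x))
    (h𝔭 : 𝔭.IsPrime) (hann : ∀ a : X.presheaf.stalk x, a • sgm K W x hp.mem t = 0 ↔ a ∈ 𝔭)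
    (r : X.presheaf.stalk x) (hr : r ∈ IsLocalRing.maximalIdeal (X.presheaf.stalk x)) :
    r • sgm K W x hp.mem t = 0 := by
  obtain ⟨V, hxV, a', rfl⟩ := TopCat.Presheaf.exists_germ_eq X.presheaf r
  have hxWV : x ∈ W ⊓ V := ⟨hp.mem, hxV⟩
  obtain ⟨U, hU, hxU, hUle⟩ := Opens.isBasis_iff_nbhd.mp X.isBasis_affineOpens hxWV
  have hUW : U ≤ W := hUle.trans inf_le_left
  have hUV : U ≤ V := hUle.trans inf_le_right
  obtain ⟨a, ha⟩ : ∃ a : Γ(X, U), a = rres X hUV a' := ⟨_, rfl⟩
  have hga : X.presheaf.germ U x hxU a = X.presheaf.germ V x hxV a' := by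
    rw [ha, gr_res]
  have hxa : x ∉ X.basicOpen a := by
    intro h
    have hu := (X.mem_basicOpen a x hxU).1 h
    rw [hga] at hu
    exact (IsLocalRing.mem_maximalIdeal _).1 hr hu
  have hle : X.basicOpen a ≤ U := X.basicOpen_le a
  have h1 : res K (hle.trans hUW) t = 0 := hp.vanish _ _ hxa
  have hloc := isLocSec_of_isQuasicoherent K hU a (X.basicOpen a) rfl hle
  obtain ⟨n, hn⟩ := hloc.inj (res K hUW t) (by rw [res_res]; exact h1)
  have h2 := congrArg (sgm K U x hxU) hn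
  rw [sgm_smul, sgm_res, sgm_zero, _root_.map_pow, hga] at h2
  have h3 : (X.presheaf.germ V x hxV a') ^ n ∈ 𝔭 := (hann _).1 h2
  exact (hann _).2 (h𝔭.mem_of_pow_mem n h3)

theorem isZero_of_mono_nonQ [IsLocallyNoetherian X] (K : X.Modules) [K.IsQuasicoherent]
    {G : Type u} (c : G → Cand X)
    (hc : ∀ a, (c a).2.asIdeal ≠ IsLocalRing.maximalIdeal (X.presheaf.stalk (c a).1))
    (v : K ⟶ ∐ fun a => obj (c a)) [Mono v] : IsZero K := by
  classical
  by_contra hK
  obtain ⟨x, W, t, hp, 𝔭, hann⟩ := Groth.Agent.Lib.Lead.PureEmb.exists_pure_prime K hK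
  have hm : ∀ r ∈ IsLocalRing.maximalIdeal (X.presheaf.stalk x), r • sgm K W x hp.mem t = 0 :=
    fun r hr => smul_germ_eq_zero_of_mem_maximalIdeal K x W t hp 𝔭.asIdeal 𝔭.isPrime hann r hr
  have h1 : ((Φ x).map v).hom (sgm K W x hp.mem t) ≠ 0 := by
    intro h
    exact hp.germ_ne (Φ_map_injective v x (h.trans (_root_.map_zero _).symm))
  obtain ⟨a, ha⟩ : ∃ a, ((Φ x).map (Sigma.π (fun a => obj (c a)) a)).hom
      (((Φ x).map v).hom (sgm K W x hp.mem t)) ≠ 0 := by
    by_contra hcon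
    push Not at hcon
    exact h1 (stalk_coprod_eq_zero _ x _ hcon)
  obtain ⟨ψ, hψ⟩ : ∃ ψ : K ⟶ obj (c a), ψ = v ≫ Sigma.π (fun a => obj (c a)) a := ⟨_, rfl⟩
  have hψt : sgm (obj (c a)) W x hp.mem (ψ.app W t) =
      ((Φ x).map ψ).hom (sgm K W x hp.mem t) :=
    (DerSch.stalkFunctor_map_germ x ψ W hp.mem t).symm
  have ha' : sgm (obj (c a)) W x hp.mem (ψ.app W t) ≠ 0 := by
    rw [hψt, hψ, CategoryTheory.Functor.map_comp]
    exact ha
  obtain ⟨s, hs⟩ : ∃ s : SkySec (c a).1 (hullT (c a)) W, s = ψ.app W t := ⟨_, rfl⟩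
  have hA : (c a).1 ∈ W := by
    by_contra h
    apply ha'
    have hs0 : ψ.app W t = 0 := by
      funext h'
      exact absurd h'.down h
    rw [hs0, sgm_zero]
  have he : s ⟨hA⟩ ≠ 0 := by
    intro he
    apply ha'
    have hs0 : ψ.app W t = 0 := by
      rw [← hs]
      funext h'
      cases h'
      exact he
    rw [hs0, sgm_zero]
  have hx : (c a).1 = x := by
    by_contra hne
    obtain ⟨O, hO, hxor⟩ := exists_isOpen_xor_mem hne
    rcases hxor with ⟨h1', h2'⟩ | ⟨h1', h2'⟩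
    · -- `(c a).1 ∈ O`, `x ∉ O`
      obtain ⟨W', hW'⟩ : ∃ W' : X.Opens, W' = W ⊓ ⟨O, hO⟩ := ⟨_, rfl⟩
      have hW'W : W' ≤ W := by rw [hW']; exact inf_le_left
      have hxW' : x ∉ W' := by
        rw [hW']
        exact fun h => h2' h.2
      have hcW' : (c a).1 ∈ W' := by
        rw [hW']
        exact ⟨hA, h1'⟩
      have hv := hp.vanish W' hW'W hxW'
      have e1 := QCExact.app_res' ψ hW'W t
      rw [hv, _root_.map_zero] at e1
      have e2 := congrFun e1.symm ⟨hcW'⟩
      apply he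
      rw [hs]
      exact e2
    · -- `x ∈ O`, `(c a).1 ∉ O`
      obtain ⟨V, hV⟩ : ∃ V : X.Opens, V = W ⊓ ⟨O, hO⟩ := ⟨_, rfl⟩
      have hVW : V ≤ W := by rw [hV]; exact inf_le_left
      have hxV : x ∈ V := by
        rw [hV]
        exact ⟨hp.mem, h1'⟩
      have hcV : (c a).1 ∉ V := by
        rw [hV]
        exact fun h => h2' h.2
      apply ha'
      rw [← sgm_res (obj (c a)) hVW x hxV]
      have hs0 : res (obj (c a)) hVW (ψ.app W t) = 0 := by
        funext h'
        exact absurd h'.down hcV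
      rw [hs0, sgm_zero]
  subst hx
  -- now `x = (c a).1`
  have hme : ∀ r ∈ IsLocalRing.maximalIdeal (X.presheaf.stalk (c a).1), r • s ⟨hA⟩ = 0 := by
    intro r hr
    have e2 := counitApp_germ (c a).1 (hullT (c a)) W hA (ψ.app W t)
    obtain ⟨g₀, hg₀⟩ : ∃ g₀ : (Φ (c a).1).obj (sky (c a).1 (hullT (c a))),
        g₀ = (sky (c a).1 (hullT (c a))).presheaf.germ W (c a).1 hA (ψ.app W t) := ⟨_, rfl⟩
    have e3 : (counitApp (c a).1 (hullT (c a))).hom (r • g₀) = r • s ⟨hA⟩ := by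
      have h8 := (counitApp (c a).1 (hullT (c a))).hom.map_smul r g₀
      refine h8.trans ?_
      rw [hs, hg₀]
      exact congrArg (fun y => r • y) e2
    have h7 : g₀ = ((Φ (c a).1).map ψ).hom (sgm K W (c a).1 hp.mem t) := hg₀.trans hψt
    have e4 : r • g₀ = 0 := by
      rw [h7]
      have h9 := ((Φ (c a).1).map ψ).hom.map_smul r (sgm K W (c a).1 hp.mem t)
      refine h9.symm.trans ?_
      rw [hm r hr]
      exact LinearMap.map_zero _
    rw [← e3, e4]
    exact LinearMap.map_zero _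
  obtain ⟨α, d, had, hd⟩ := exists_smul_eq (c a) (s ⟨hA⟩) he
  apply hc a
  apply le_antisymm
  · exact IsLocalRing.le_maximalIdeal (c a).2.isPrime.ne_top
  · intro r hr
    have h5 : r • (α • s ⟨hA⟩) = 0 := by
      rw [smul_comm, hme r hr, smul_zero]
    rw [had, smul_smul] at h5
    have h6 := (smul_e₁_eq_zero_iff (c a) _).1 h5
    rcases (c a).2.isPrime.mem_or_mem h6 with h | h
    · exact h
    · exact absurd h hd

end NonQ

section Main

/-- on a locally Noetherian scheme every quasi-coherent module embeds into a quasi-coherent module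
which is injective in the category of all modules -/
theorem exists_mono_qcoh_injective [IsLocallyNoetherian X] (J₀ : X.Modules)
    [hJq : J₀.IsQuasicoherent] :
    ∃ (Q : X.Modules) (u : J₀ ⟶ Q), Q.IsQuasicoherent ∧ Injective Q ∧ Mono u := by
  classical
  haveI : EnoughInjectives X.Modules :=
    Groth.Agent.Lib.Helper13.ModGrothendieck.enoughInjectives X.ringCatSheaf
  obtain ⟨I, hIinj, j, hj⟩ : ∃ (I : X.Modules) (_ : Injective I) (j : J₀ ⟶ I), Mono j :=
    ⟨Injective.under J₀, inferInstance, Injective.ι J₀, inferInstance⟩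
  haveI := hIinj
  haveI := hj
  obtain ⟨F, ⟨e⟩⟩ := Groth.Agent.Lib.Lead.InjDecomp.decomposition' I
  obtain ⟨M, hM⟩ : ∃ M : ↥F → X.Modules, M = Groth.Agent.Lib.Lead.InjDecomp.fam I F := ⟨_, rfl⟩
  rw [← hM] at e
  obtain ⟨P, hP⟩ : ∃ P : ↥F → Prop, P = fun a =>
      a.1.1.2.asIdeal = IsLocalRing.maximalIdeal (X.presheaf.stalk a.1.1.1) := ⟨_, rfl⟩
  have hP' : ∀ b : ↥F, P b ↔
      b.1.1.2.asIdeal = IsLocalRing.maximalIdeal (X.presheaf.stalk b.1.1.1) := by
    intro b
    rw [hP]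
  have hMq : ∀ a : {a // P a}, (M a.1).IsQuasicoherent := by
    intro a
    rw [hM]
    exact isQuasicoherent_obj a.1.1.1 ((hP' a.1).1 a.2)
  haveI := hMq
  haveI hIq : (∐ (fun a : {a // P a} => M a.1) : X.Modules).IsQuasicoherent :=
    QCLim.isQuasicoherent_sigma _
  have hMqinj : ∀ a : {a // P a}, Injective (M a.1) := by
    intro a
    rw [hM]
    exact injective_obj _
  haveI hIqinj : Injective (∐ (fun a : {a // P a} => M a.1)) :=
    Groth.Agent.Lib.Lead.SumInj.injective_sigma _ hMqinj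
  obtain ⟨u, hu⟩ : ∃ u : J₀ ⟶ ∐ (fun a : {a // P a} => M a.1), u = j ≫ e.hom ≫ pPos M P :=
    ⟨_, rfl⟩
  haveI hKq : (kernel u : X.Modules).IsQuasicoherent := QCProps.isQuasicoherent_kernel u
  obtain ⟨q, hq⟩ : ∃ q : kernel u ⟶ ∐ M, q = kernel.ι u ≫ j ≫ e.hom := ⟨_, rfl⟩
  haveI hqmono : Mono q := by
    rw [hq]
    infer_instance
  have hqp : q ≫ pPos M P = 0 := by
    rw [hq, Category.assoc, Category.assoc, ← hu]
    exact kernel.condition u
  obtain ⟨v, hv⟩ : ∃ v : kernel u ⟶ ∐ (fun a : {a // ¬ P a} => M a.1),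
      v = q ≫ pNeg M P := ⟨_, rfl⟩
  haveI hvmono : Mono v := by
    apply Preadditive.mono_of_cancel_zero
    intro Z w hw
    have h1 : w ≫ q = 0 := by
      have h2 : w ≫ q = (w ≫ q) ≫ (pPos M P ≫ iPos M P + pNeg M P ≫ iNeg M P) := by
        rw [split_id, Category.comp_id]
      rw [h2, Preadditive.comp_add]
      have h3 : (w ≫ q) ≫ pPos M P ≫ iPos M P = 0 := by
        rw [Category.assoc, ← Category.assoc q, hqp, zero_comp, comp_zero]
      have h5 : (w ≫ q) ≫ pNeg M P ≫ iNeg M P = 0 := by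
        rw [Category.assoc, ← Category.assoc q, ← hv, ← Category.assoc, hw, zero_comp]
      rw [h3, h5, add_zero]
    rw [← cancel_mono q, h1, zero_comp]
  have hKzero : IsZero (kernel u) := by
    have hM' : (fun a : {a // ¬ P a} => M a.1) =
        fun a : {a // ¬ P a} => obj ((fun a : {a // ¬ P a} => a.1.1.1) a) := by
      rw [hM]
    have hc : ∀ a : {a // ¬ P a}, ((fun a : {a // ¬ P a} => a.1.1.1) a).2.asIdeal ≠
        IsLocalRing.maximalIdeal (X.presheaf.stalk ((fun a : {a // ¬ P a} => a.1.1.1) a).1) := by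
      intro a
      exact fun h => a.2 ((hP' a.1).2 h)
    obtain ⟨v', hv'⟩ : ∃ v' : kernel u ⟶
        ∐ fun a : {a // ¬ P a} => obj ((fun a : {a // ¬ P a} => a.1.1.1) a), HEq v' v := by
      rw [← hM']
      exact ⟨v, HEq.rfl⟩
    haveI : Mono v' := by
      revert v' hv'
      rw [← hM']
      intro v' hv'
      rw [eq_of_heq hv']
      exact hvmono
    exact isZero_of_mono_nonQ (kernel u) (fun a : {a // ¬ P a} => a.1.1.1) hc v'
  haveI humono : Mono u := Preadditive.mono_of_kernel_zero (hKzero.eq_of_src _ _)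
  exact ⟨_, u, hIq, hIqinj, humono⟩

theorem injective_of_injective_qcoh [IsLocallyNoetherian X]
    (J : ObjectProperty.FullSubcategory (fun M : X.Modules => Coh.IsQCoh M)) (hJ : Injective J) :
    Injective J.obj := by
  haveI := hJ
  haveI hJq : J.obj.IsQuasicoherent := J.property
  obtain ⟨Q, u, hIq, hIqinj, humono⟩ := exists_mono_qcoh_injective J.obj
  -- split in `QCoh`
  let Iq' : ObjectProperty.FullSubcategory (fun M : X.Modules => Coh.IsQCoh M) :=
    ⟨Q, hIq⟩
  let u' : J ⟶ Iq' := ObjectProperty.homMk u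
  haveI : Mono u' := by
    apply Functor.mono_of_mono_map (ObjectProperty.ι (fun M : X.Modules => Coh.IsQCoh M))
    exact humono
  have huw' := Injective.comp_factorThru (𝟙 J) u'
  have huw : u ≫ (Injective.factorThru (𝟙 J) u').hom = 𝟙 J.obj :=
    congrArg (fun f => f.hom) huw'
  exact ⟨fun {A B} g f _ => ⟨Injective.factorThru (g ≫ u) f ≫ (Injective.factorThru (𝟙 J) u').hom, by
    rw [← Category.assoc, Injective.comp_factorThru, Category.assoc, huw, Category.comp_id]⟩⟩

end Main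

end Groth.Agent.Lib.Lead.QInj
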