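import Mathlib
import Groth.Prelude.Def_ModSite2
import Groth.Prelude.Def_DCoh2
import Groth.Agent.Lib.Helper13.SectOnRestr
import Groth.Agent.Lib.Helper13.LocCohQC
import Groth.Agent.Lib.Helper13.LocCohPlus
import Groth.Agent.Lib.Helper2.SuppAdj
import Groth.Agent.Lib.Helper2.RDBridge
import Groth.Agent.Lib.Helper2.ExtTilde.QC
import Groth.Agent.Lib.Helper2.ExtShCoh.Coh
import Groth.Agent.Lib.Lead.GammaZInj
import Groth.Agent.Lib.Lead.QInj

/-!
# Quasi-coherence of the local Ext sheaves with supports (lead)

* `P_rightDerived_of_ses`: abstract dimension shifting.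
* `kernelUnitIso`: comparison of the kernels of the units of two adjunctions whose left adjoints
  kill the same morphisms.
* `isQuasicoherent_sectOn`: `Γ_Z(N)` (site version) is quasi-coherent for `N` quasi-coherent.
* `isQuasicoherent_sheafHom`: `ℋom(F, G)` quasi-coherent for `F` coherent, `G` quasi-coherent.
-/

set_option autoImplicit false
set_option linter.style.haveILetI false
universe u
open CategoryTheory CategoryTheory.Limits AlgebraicGeometry TopologicalSpace Opposite

namespace Groth.Agent.Lib.Lead.ExtZQC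

section Abstract

variable {C : Type*} [Category C] [Abelian C] [EnoughInjectives C]
  {D : Type*} [Category D] [Abelian D]

open Groth.Agent.Lib.Helper13 in
/-- Dimension shifting: if a class `Q` of objects has enough injectives of `C` (with cokernels again in
`Q`) and `T` sends `Q` into a class `P` closed under kernels, cokernels, extensions, then all the right
derived functors of `T` send `Q` into `P`. -/
theorem P_rightDerived_of_ses (T : C ⥤ D) [T.Additive] [PreservesFiniteLimits T]
    (Q : C → Prop) (P : ObjectProperty D) (hP : WayOut.Closed P)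
    (hses : ∀ M, Q M → ∃ (I M' : C) (f : M ⟶ I) (g : I ⟶ M') (w : f ≫ g = 0),
      (ShortComplex.mk f g w).ShortExact ∧ Injective I ∧ Q I ∧ Q M')
    (hT : ∀ M, Q M → P (T.obj M)) :
    ∀ (q : ℕ) (M : C), Q M → P ((T.rightDerived q).obj M) := by
  intro q
  induction q with
  | zero =>
    intro M hM
    exact hP.of_iso (T.rightDerivedZeroIsoSelf.app M).symm (hT M hM)
  | succ k ih =>
    intro M hM
    obtain ⟨I, M', f, g, w, hS, hI, hQI, hQM'⟩ := hses M hM
    obtain ⟨δ, h1, h2, h3, -, e2, e3⟩ :=
      Groth.Agent.Lib.Helper2.RDBridge.rightDerived_les' T (ShortComplex.mk f g w) hS k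
    dsimp at δ h1 h2 h3 e2 e3
    have hz : IsZero ((T.rightDerived (k + 1)).obj I) :=
      Functor.isZero_rightDerived_obj_injective_succ T k I
    have hPI : P ((T.rightDerived k).obj I) := ih I hQI
    exact hP.five ((T.rightDerived k).map g) δ ((T.rightDerived (k + 1)).map f)
      (𝟙 ((T.rightDerived (k + 1)).obj I)) h2 h3 (hz.eq_of_tgt _ _) e2 e3
      (ShortComplex.exact_of_isZero_X₂ _ hz) hPI (ih M' hQM') (hP.zero _ hz) (hP.zero _ hz)

end Abstract

section KernelCompare

variable {A : Type*} [Category A] [Abelian A]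

/-- Two morphisms out of `N` killing the same test maps have isomorphic kernels. -/
noncomputable def kernelUnitIso {N P₁ P₂ : A} (η₁ : N ⟶ P₁) (η₂ : N ⟶ P₂)
    (h : ∀ {T : A} (t : T ⟶ N), t ≫ η₁ = 0 ↔ t ≫ η₂ = 0) :
    kernel η₁ ≅ kernel η₂ where
  hom := kernel.lift _ (kernel.ι _) ((h _).1 (kernel.condition _))
  inv := kernel.lift _ (kernel.ι _) ((h _).2 (kernel.condition _))
  hom_inv_id := by
    apply equalizer.hom_ext
    simp
  inv_hom_id := by
    apply equalizer.hom_ext
    simp

end KernelCompare

section Scheme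

open Scheme.Modules

variable {X : Scheme.{u}} (U : X.Opens)

/-- restriction to the localised site `X/U` and restriction to the open subscheme `U` kill the same
morphisms -/
lemma restr_map_eq_zero_iff {T N : X.Modules} (t : T ⟶ N) :
    (ModSite.restr X.sheaf U).map t = 0 ↔ (restrictFunctor U.ι).map t = 0 := by
  have e := overFunctorEquiv U
  constructor
  · intro h
    have h1 : (SheafOfModules.overFunctor X.ringCatSheaf U).map t = 0 := h
    have h1' : (SheafOfModules.overFunctor X.ringCatSheaf U ⋙ (overEquiv U).functor).map t = 0 :=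
      (congrArg (fun f => (overEquiv U).functor.map f) h1).trans (Functor.map_zero _ _ _)
    rw [← NatIso.naturality_1 e t, h1', zero_comp, comp_zero]
  · intro h
    have h2 : (SheafOfModules.overFunctor X.ringCatSheaf U ⋙ (overEquiv U).functor).map t = 0 := by
      rw [← NatIso.naturality_2 e t, h, zero_comp, comp_zero]
    have h2' : (overEquiv U).functor.map ((SheafOfModules.overFunctor X.ringCatSheaf U).map t) =
        (overEquiv U).functor.map 0 := h2.trans (Functor.map_zero _ _ _).symm
    have h3 : (SheafOfModules.overFunctor X.ringCatSheaf U).map t = 0 :=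
      (overEquiv U).functor.map_injective h2'
    exact h3

/-- `Γ_Z` on the site agrees (objectwise) with `Γ_Z` on the scheme -/
noncomputable def sectOnIsoGammaZ (N : X.Modules) :
    (ModSite.sectOn X.sheaf U).obj N ≅ (DCoh.gammaZ U.ι).obj N :=
  kernelUnitIso ((ModSite.restrPushOverAdj X.sheaf U).unit.app N)
    ((restrictAdjunction U.ι).unit.app N) (fun t =>
      (Groth.Agent.Lib.Helper13.SectOnRestr.comp_unit_eq_zero_iff
        (ModSite.restrPushOverAdj X.sheaf U) t).trans
      ((restr_map_eq_zero_iff U t).trans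
        (Groth.Agent.Lib.Lead.GammaZInj.restrict_map_eq_zero_iff U.ι t)))

open Groth.Agent.Lib.Helper13 Groth.Agent.Lib.Helper3 in
/-- `Γ_Z(N)` is quasi-coherent for `N` quasi-coherent on a locally Noetherian scheme -/
theorem isQuasicoherent_sectOn [IsLocallyNoetherian X] (N : X.Modules)
    (hN : SheafOfModules.IsQuasicoherent (R := X.ringCatSheaf) N) :
    SheafOfModules.IsQuasicoherent (R := X.ringCatSheaf) ((ModSite.sectOn X.sheaf U).obj N) := by
  haveI : N.IsQuasicoherent := hN
  haveI h1 : ((restrictFunctor U.ι).obj N).IsQuasicoherent :=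
    Scheme.Modules.isQuasicoherent_restrictFunctor U.ι N
  haveI h2 : ((pushforward U.ι).obj ((restrictFunctor U.ι).obj N)).IsQuasicoherent :=
    QCSec.isQuasicoherent_pushforward U.ι _
  haveI h3 : ((restrictFunctor U.ι ⋙ pushforward U.ι).obj N).IsQuasicoherent := h2
  haveI h0 : ((𝟭 X.Modules).obj N).IsQuasicoherent := hN
  have h4 := QCProps.isQuasicoherent_kernel ((restrictAdjunction U.ι).unit.app N)
  exact (SheafOfModules.isQuasicoherent X.ringCatSheaf).prop_of_iso (sectOnIsoGammaZ U N).symm h4

end Scheme

section SheafHom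

open Groth.Agent.Lib.Helper2.ExtShCoh Groth.Agent.Lib.Helper2.ExtTilde Groth.Agent.Lib.Helper2.RHom
  Groth.Agent.Lib.Helper3 Groth.Agent.Lib.Helper13 Scheme.Modules

attribute [local instance] Abelian.hasFiniteBiproducts

variable {Y : Scheme.{u}}

/-- `ℋom(F, G)` is quasi-coherent when `F` is a coherent quotient of a finite free module and `G` is
quasi-coherent -/
theorem isQuasicoherent_sheafHom_of_generators [IsLocallyNoetherian Y] (F G : Y.Modules)
    (hF : Coh.IsCoh F) (hG : SheafOfModules.IsQuasicoherent (R := Y.ringCatSheaf) G)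
    {E₀ : Y.Modules} (h₀ : IsFinFree E₀) (p : E₀ ⟶ F) (hp : Epi p) :
    SheafOfModules.IsQuasicoherent (R := Y.ringCatSheaf)
      ((ModSite.sheafHom (O := Y.sheaf) F).obj G) := by
  apply QCOpen.isQuasicoherent_of_open_cover
  intro y
  have hK : Coh.IsCoh (kernel p) :=
    Groth.Agent.Lib.Helper1.FFCoh.isCoh_kernel p (isCoh_of_isFinFree h₀) hF
  obtain ⟨U, hU, hyU, σ, hσ⟩ := @QCLocal.exists_affine_generatingSections Y (kernel p) hK.2 y
  refine ⟨U, hyU, ?_⟩
  haveI : Finite σ.I := hσ.finite
  obtain ⟨w, hex⟩ := exact_restrict_generators U p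
    (E₁ := (SheafOfModules.free (R := (U : Scheme.{u}).ringCatSheaf) σ.I :
      (U : Scheme.{u}).Modules)) σ.π σ.epi
  have hp' : Epi ((jst U).map p) := inferInstance
  haveI : G.IsQuasicoherent := hG
  have hGU : SheafOfModules.IsQuasicoherent (R := (U : Scheme.{u}).ringCatSheaf)
      ((jst U).obj G) := Scheme.Modules.isQuasicoherent_restrictFunctor U.ι G
  have h := isQuasicoherent_sheafHom_of_presentation ((jst U).obj F) ((jst U).obj G) hGU
    (isFinFree_restrict U h₀) (isFinFree_free σ.I) _ _ hp' w hex
  exact isQuasicoherent_of_iso ((restrSheafHomIso U F).app G).symm h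

/-- `ℋom(F, G)` is quasi-coherent for `F` coherent, `G` quasi-coherent on a locally Noetherian
scheme -/
theorem isQuasicoherent_sheafHom [IsLocallyNoetherian Y] (F G : Y.Modules)
    (hF : Coh.IsCoh F) (hG : SheafOfModules.IsQuasicoherent (R := Y.ringCatSheaf) G) :
    SheafOfModules.IsQuasicoherent (R := Y.ringCatSheaf)
      ((ModSite.sheafHom (O := Y.sheaf) F).obj G) := by
  apply QCOpen.isQuasicoherent_of_open_cover
  intro y
  haveI : SheafOfModules.IsFiniteType (R := Y.ringCatSheaf) F := hF.2
  obtain ⟨U, hU, hyU, σ, hσ⟩ := QCLocal.exists_affine_generatingSections F y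
  refine ⟨U, hyU, ?_⟩
  haveI : Finite σ.I := hσ.finite
  haveI : G.IsQuasicoherent := hG
  have hGU : SheafOfModules.IsQuasicoherent (R := (U : Scheme.{u}).ringCatSheaf)
      ((jst U).obj G) := Scheme.Modules.isQuasicoherent_restrictFunctor U.ι G
  have h := isQuasicoherent_sheafHom_of_generators ((jst U).obj F) ((jst U).obj G)
    (isCoh_jst U F hF) hGU (isFinFree_free σ.I) σ.π σ.epi
  exact isQuasicoherent_of_iso ((restrSheafHomIso U F).app G).symm h

end SheafHom

end Groth.Agent.Lib.Lead.ExtZQC
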