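import Mathlib
import Groth.Agent.Lib.Helper26.TensorFieldLen

/-!
# Lead library: dimension of a finite algebra over a field as a sum of local contributions

`finrank_K B = ∑_p length(B_p) · [κ(p) : K]` for a finite-dimensional commutative `K`-algebra `B`,
phrased for an arbitrary family of localizations indexed by a type in bijection with `Spec B`.
-/

set_option autoImplicit false
set_option linter.style.haveILetI false

universe u v

namespace Groth.Agent.Lib.Lead.FinFlatAlg

open Module

/-- length of `R/I` over `R` equals the length of `S` over itself for a surjection `R → S` with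
kernel `I`. -/
theorem length_quot_eq_of_surjective {R S : Type*} [CommRing R] [CommRing S] (ψ : R →+* S)
    (hψ : Function.Surjective ψ) (I : Ideal R) (hI : RingHom.ker ψ = I) :
    Module.length R (R ⧸ I) = Module.length S S := by
  subst hI
  letI : Algebra R S := ψ.toAlgebra
  have h1 : Module.length R S = Module.length S S :=
    Module.length_eq_of_surjective (S := R) (R := S) (M := S) hψ
  let a : R →ₐ[R] S := Algebra.ofId R S
  have ha : Function.Surjective a := hψ
  let e : (R ⧸ RingHom.ker a) ≃ₐ[R] S := Ideal.quotientKerAlgEquivOfSurjective ha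
  have h2 : Module.length R (R ⧸ RingHom.ker a) = Module.length R S := e.toLinearEquiv.length_eq
  exact h2.trans h1

theorem finrank_eq_sum_local (K B : Type u) [Field K] [CommRing B] [Algebra K B]
    [Module.Finite K B] {ι : Type v} (P : ι → PrimeSpectrum B) (hP : Function.Bijective P)
    (W : ι → Type u) [∀ i, CommRing (W i)] [∀ i, Algebra B (W i)] [∀ i, Algebra K (W i)]
    [∀ i, IsScalarTower K B (W i)] [∀ i, IsLocalRing (W i)]
    (hW : ∀ i, IsLocalization.AtPrime (W i) (P i).asIdeal) :
    Finite ι ∧ Module.finrank K B = ∑ᶠ i, (Module.length (W i) (W i)).toNat *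
      Module.finrank K (IsLocalRing.ResidueField (W i)) := by
  classical
  haveI : IsArtinianRing B := IsArtinianRing.of_finite K B
  let E : ι ≃ PrimeSpectrum B := Equiv.ofBijective P hP
  haveI : Finite ι := Finite.of_equiv _ E.symm
  refine ⟨inferInstance, ?_⟩
  letI : Fintype ι := Fintype.ofFinite ι
  letI : Fintype (PrimeSpectrum B) := Fintype.ofFinite _
  have hsurj : ∀ i, Function.Surjective (algebraMap B (W i)) := fun i =>
    haveI := hW i
    IsArtinianRing.localization_surjective (P i).asIdeal.primeCompl (W i)
  haveI hfinW : ∀ i, Module.Finite K (W i) := fun i =>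
    Module.Finite.of_surjective (IsScalarTower.toAlgHom K B (W i)).toLinearMap (hsurj i)
  haveI hfinL : ∀ p : PrimeSpectrum B, Module.Finite K (Localization.AtPrime p.asIdeal) := fun p =>
    Module.Finite.of_surjective
      (IsScalarTower.toAlgHom K B (Localization.AtPrime p.asIdeal)).toLinearMap
      (IsArtinianRing.localization_surjective p.asIdeal.primeCompl _)
  -- decomposition of `B`
  have h1 : Module.finrank K B =
      ∑ p : PrimeSpectrum B, Module.finrank K (Localization.AtPrime p.asIdeal) := by
    rw [← Module.finrank_pi_fintype K]
    exact ((PrimeSpectrum.toPiLocalizationEquiv B).restrictScalars K).toLinearEquiv.finrank_eq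
  have h2 : ∀ i, Module.finrank K (Localization.AtPrime (P i).asIdeal) =
      Module.finrank K (W i) := fun i =>
    haveI := hW i
    ((IsLocalization.algEquiv (P i).asIdeal.primeCompl (Localization.AtPrime (P i).asIdeal)
      (W i)).restrictScalars K).toLinearEquiv.finrank_eq
  have h3 : ∀ i, Module.finrank K (W i) = (Module.length (W i) (W i)).toNat *
      Module.finrank K (IsLocalRing.ResidueField (W i)) := by
    intro i
    obtain ⟨m, hm1, hm2⟩ :=
      Groth.Agent.Lib.Helper26.TensorFieldLen.length_mul_finrank_residue K (W i) (W i)
    rw [hm1, ENat.toNat_natCast]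
    exact hm2
  rw [h1, finsum_eq_sum_of_fintype, ← Equiv.sum_comp E]
  refine Finset.sum_congr rfl fun i _ => ?_
  show Module.finrank K (Localization.AtPrime (P i).asIdeal) = _
  rw [h2 i, h3 i]

end Groth.Agent.Lib.Lead.FinFlatAlg
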