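import Mathlib
import Groth.Prelude.Def_Cyc
import Groth.Agent.Lib.Lead.FinFlatAlg
import Groth.Agent.Lib.Helper22.FibReg
import Groth.Agent.Lib.Helper3.CycPush
import Groth.Agent.Lib.Helper11.BddLib2

/-!
# Lead library: the degree of a finite flat morphism as a sum over the points of a fibre

`f.finrank y = ∑_{x ↦ y} length(𝒪_{X,x}/𝔪_y 𝒪_{X,x}) · [κ(x) : κ(y)]`.
-/

set_option autoImplicit false
set_option linter.style.haveILetI false

universe u

open AlgebraicGeometry CategoryTheory Limits Opposite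

namespace Groth.Agent.Lib.Lead.FinFlatDeg

/-- the length of the local ring at a point -/
noncomputable def stalkLen (Z : Scheme.{u}) (z : Z) : ℕ :=
  (Module.length (Z.presheaf.stalk z) (Z.presheaf.stalk z)).toNat

theorem residueDegree_eq_one_of_surjective {X Y : Scheme.{u}} (f : Y ⟶ X) (y : Y)
    (h : Function.Surjective (f.residueFieldMap y).hom) : f.residueDegree y = 1 := by
  letI := (f.residueFieldMap y).hom.toAlgebra
  show Module.finrank (X.residueField (f y)) (Y.residueField y) = 1
  rw [finrank_eq_one_iff_of_nonzero' (1 : Y.residueField y) one_ne_zero]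
  intro w
  obtain ⟨c, hc⟩ := h w
  refine ⟨c, ?_⟩
  rw [Algebra.smul_def, mul_one]
  exact hc

theorem residueDegree_eq_one_of_isPreimmersion {U X : Scheme.{u}} (j : U ⟶ X)
    [IsPreimmersion j] (z : U) : j.residueDegree z = 1 :=
  residueDegree_eq_one_of_surjective j z
    (Ideal.Quotient.lift_surjective_of_surjective _ _
      (Ideal.Quotient.mk_surjective.comp (j.stalkMap_surjective z)))

section AffineOverField

variable (K : Type u) [Field K] (Z : Scheme.{u}) [IsAffine Z]
  (p : Z ⟶ Spec (CommRingCat.of K))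

/-- the structure map on global sections -/
noncomputable def phi : CommRingCat.of K ⟶ Γ(Z, ⊤) :=
  (Scheme.ΓSpecIso (CommRingCat.of K)).inv ≫ p.appTop

theorem isoSpec_hom_comp_SpecMap_phi : Z.isoSpec.hom ≫ Spec.map (phi K Z p) = p := by
  unfold phi
  rw [Spec.map_comp, ← Category.assoc, Scheme.isoSpec_hom_naturality p, Category.assoc,
    Scheme.isoSpec_Spec_hom, ← Spec.map_comp, Iso.inv_hom_id, Spec.map_id, Category.comp_id]

/-- the prime of global sections corresponding to a point of an affine scheme -/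
noncomputable def ptPrime (z : Z) : PrimeSpectrum Γ(Z, ⊤) :=
  (isAffineOpen_top Z).primeIdealOf ⟨z, trivial⟩

theorem ptPrime_bijective : Function.Bijective (ptPrime Z) := by
  constructor
  · intro z z' h
    have h1 := (isAffineOpen_top Z).fromSpec_primeIdealOf ⟨z, trivial⟩
    have h2 := (isAffineOpen_top Z).fromSpec_primeIdealOf ⟨z', trivial⟩
    unfold ptPrime at h
    rw [h] at h1
    exact h1.symm.trans h2
  · intro q
    let x : (⊤ : Z.Opens) := (isAffineOpen_top Z).isoSpec.inv q
    refine ⟨x.1, ?_⟩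
    show (isAffineOpen_top Z).isoSpec.hom ⟨x.1, trivial⟩ = q
    have hx : (⟨x.1, trivial⟩ : (⊤ : Z.Opens)) = x := Subtype.ext rfl
    rw [hx]
    show ((isAffineOpen_top Z).isoSpec.inv ≫ (isAffineOpen_top Z).isoSpec.hom) q = q
    rw [Iso.inv_hom_id]
    rfl

variable [IsFinite p]

theorem sum_formula :
    letI : Algebra K Γ(Z, ⊤) := (phi K Z p).hom.toAlgebra
    Finite Z ∧ (∀ z : Z, 0 < p.residueDegree z) ∧
      ∑ᶠ z : Z, stalkLen Z z * p.residueDegree z = Module.finrank K Γ(Z, ⊤) := by
  letI algKB : Algebra K Γ(Z, ⊤) := (phi K Z p).hom.toAlgebra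
  have hf1 : p.appTop.hom.Finite := p.finite_appTop
  have hf2 : (Scheme.ΓSpecIso (CommRingCat.of K)).inv.hom.Finite :=
    RingHom.Finite.of_surjective _
      (ConcreteCategory.bijective_of_isIso (Scheme.ΓSpecIso (CommRingCat.of K)).inv).surjective
  have hf3 : (phi K Z p).hom.Finite := by
    unfold phi
    rw [CommRingCat.hom_comp]
    exact hf1.comp hf2
  haveI : Module.Finite K Γ(Z, ⊤) := hf3
  letI algB : ∀ z : Z, Algebra Γ(Z, ⊤) (Z.presheaf.stalk z) := fun z =>
    TopCat.Presheaf.algebra_section_stalk Z.presheaf (⟨z, trivial⟩ : (⊤ : Z.Opens))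
  letI algK : ∀ z : Z, Algebra K (Z.presheaf.stalk z) := fun z =>
    ((algebraMap Γ(Z, ⊤) (Z.presheaf.stalk z)).comp (algebraMap K Γ(Z, ⊤))).toAlgebra
  haveI tower : ∀ z : Z, IsScalarTower K Γ(Z, ⊤) (Z.presheaf.stalk z) := fun z =>
    IsScalarTower.of_algebraMap_eq (fun _ => rfl)
  have hW : ∀ z : Z, IsLocalization.AtPrime (Z.presheaf.stalk z) (ptPrime Z z).asIdeal :=
    fun z => (isAffineOpen_top Z).isLocalization_stalk ⟨z, trivial⟩
  obtain ⟨hfin, hsum⟩ := FinFlatAlg.finrank_eq_sum_local K Γ(Z, ⊤) (ptPrime Z)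
    (ptPrime_bijective Z) (fun z => Z.presheaf.stalk z) hW
  haveI : IsArtinianRing Γ(Z, ⊤) := IsArtinianRing.of_finite K Γ(Z, ⊤)
  have hsurj : ∀ z : Z, Function.Surjective (algebraMap Γ(Z, ⊤) (Z.presheaf.stalk z)) := fun z =>
    haveI := hW z
    IsArtinianRing.localization_surjective (ptPrime Z z).asIdeal.primeCompl _
  haveI hfinW : ∀ z : Z, Module.Finite K (Z.presheaf.stalk z) := fun z =>
    Module.Finite.of_surjective (IsScalarTower.toAlgHom K Γ(Z, ⊤) (Z.presheaf.stalk z)).toLinearMap
      (hsurj z)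
  have hdeg : ∀ z : Z, p.residueDegree z =
      Module.finrank K (IsLocalRing.ResidueField (Z.presheaf.stalk z)) := by
    intro z
    letI a1 : Algebra ((Spec (CommRingCat.of K)).residueField (p z)) (Z.residueField z) :=
      (p.residueFieldMap z).hom.toAlgebra
    let evK : K →+* (Spec (CommRingCat.of K)).residueField (p z) :=
      ((Scheme.ΓSpecIso (CommRingCat.of K)).inv ≫
        (Spec (CommRingCat.of K)).Γevaluation (p z)).hom
    have hevK : Function.Bijective evK :=
      ⟨evK.injective, Groth.Agent.Lib.Helper11.BddLib.ev_surjective K (p z)⟩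
    let i : K ≃+* (Spec (CommRingCat.of K)).residueField (p z) := RingEquiv.ofBijective evK hevK
    have h3 : ((Scheme.ΓSpecIso (CommRingCat.of K)).inv ≫
        (Spec (CommRingCat.of K)).Γevaluation (p z)) ≫ p.residueFieldMap z =
        phi K Z p ≫ Z.Γevaluation z := by
      rw [Category.assoc, Scheme.Γevaluation_naturality, ← Category.assoc]
      rfl
    have := Algebra.finrank_eq_of_equiv_equiv (R₀ := K)
      (S₀ := IsLocalRing.ResidueField (Z.presheaf.stalk z))
      (R₁ := (Spec (CommRingCat.of K)).residueField (p z)) (S₁ := Z.residueField z)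
      i (RingEquiv.refl _) (RingHom.ext fun r => congr(($h3).hom r))
    exact this.symm
  refine ⟨hfin, fun z => ?_, ?_⟩
  · rw [hdeg z]
    exact Module.finrank_pos
  · rw [hsum]
    refine finsum_congr fun z => ?_
    rw [hdeg z]
    rfl

theorem sum_eq_finrank [Flat p] (pt : Spec (CommRingCat.of K)) :
    ∑ᶠ z : Z, stalkLen Z z * p.residueDegree z = p.finrank pt := by
  obtain ⟨-, -, hs⟩ := sum_formula K Z p
  rw [hs]
  have e := isoSpec_hom_comp_SpecMap_phi K Z p
  have hq : Spec.map (phi K Z p) = Z.isoSpec.inv ≫ p := ((Iso.inv_comp_eq _).mpr e.symm).symm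
  haveI : IsFinite (Spec.map (phi K Z p)) := hq ▸ inferInstance
  haveI : Flat (Spec.map (phi K Z p)) := hq ▸ inferInstance
  have h1 : p.finrank = (Spec.map (phi K Z p)).finrank := by
    have h0 := Scheme.Hom.finrank_comp_left_of_isIso Z.isoSpec.hom (Spec.map (phi K Z p))
    rw [e] at h0
    exact h0
  rw [h1, Scheme.Hom.finrank_SpecMap_eq_finrank ((IsFinite.SpecMap_iff _).mp inferInstance)
    (Flat.SpecMap_iff.mp inferInstance)]
  letI : Algebra K Γ(Z, ⊤) := (phi K Z p).hom.toAlgebra
  have h2 := congrFun (Module.rankAtStalk_eq_finrank_of_free (R := K) (M := Γ(Z, ⊤))) pt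
  show Module.finrank K Γ(Z, ⊤) = Module.rankAtStalk (R := K) Γ(Z, ⊤) pt
  rw [h2]
  rfl

end AffineOverField

section Fibre

variable {X Y : Scheme.{u}} (f : X ⟶ Y)

theorem fibre_sum [IsFinite f] [Flat f] (y : Y) :
    ∑ᶠ z : f.fiber y, stalkLen (f.fiber y) z * (f.fiberToSpecResidueField y).residueDegree z =
      f.finrank y := by
  haveI : Flat (f.fiberToSpecResidueField y) :=
    inferInstanceAs (Flat (pullback.snd f (Y.fromSpecResidueField y)))
  have h := sum_eq_finrank (Y.residueField y) (f.fiber y) (f.fiberToSpecResidueField y)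
    (IsLocalRing.closedPoint (Y.residueField y))
  rw [h]
  have := Scheme.Hom.finrank_pullback_snd f (Y.fromSpecResidueField y)
    (IsLocalRing.closedPoint (Y.residueField y))
  have hy : (Y.fromSpecResidueField y) (IsLocalRing.closedPoint (Y.residueField y)) = y :=
    Y.fromSpecResidueField_apply y _
  rw [hy] at this
  exact this

theorem pull_len_eq (y : Y) (z : f.fiber y) :
    (Module.length (X.presheaf.stalk (f.fiberι y z))
      (X.presheaf.stalk (f.fiberι y z) ⧸ Ideal.map (f.stalkMap (f.fiberι y z)).hom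
        (IsLocalRing.maximalIdeal (Y.presheaf.stalk (f (f.fiberι y z)))))).toNat =
      stalkLen (f.fiber y) z := by
  obtain ⟨hs, hk⟩ := Groth.Agent.Lib.Helper22.FibReg.fiberι_stalkMap_surjective_ker f y z
  unfold stalkLen
  rw [FinFlatAlg.length_quot_eq_of_surjective _ hs _ hk]

theorem residueDegree_fiber (y : Y) (z : f.fiber y) :
    f.residueDegree (f.fiberι y z) = (f.fiberToSpecResidueField y).residueDegree z := by
  have h1 := Groth.Agent.Lib.Helper3.residueDegree_comp (f.fiberι y) f z
  have h2 := Groth.Agent.Lib.Helper3.residueDegree_comp (f.fiberToSpecResidueField y)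
    (Y.fromSpecResidueField y) z
  have h3 : (f.fiberι y ≫ f).residueDegree z =
      (f.fiberToSpecResidueField y ≫ Y.fromSpecResidueField y).residueDegree z :=
    congrArg (fun m : f.fiber y ⟶ Y => m.residueDegree z) (f.fiber_fac y)
  rw [h1, h2, residueDegree_eq_one_of_isPreimmersion (f.fiberι y) z,
    residueDegree_eq_one_of_isPreimmersion (Y.fromSpecResidueField y) _, mul_one, one_mul] at h3
  exact h3

theorem residueDegree_pos [IsFinite f] (x : X) : 0 < f.residueDegree x := by
  have key : ∀ (y : Y) (z : f.fiber y), 0 < f.residueDegree (f.fiberι y z) := by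
    intro y z
    rw [residueDegree_fiber]
    exact (sum_formula (Y.residueField y) (f.fiber y) (f.fiberToSpecResidueField y)).2.1 z
  have hx := f.fiberι_fiberHomeo_symm (f x) ⟨x, rfl⟩
  have := key (f x) ((f.fiberHomeo (f x)).symm ⟨x, rfl⟩)
  rwa [hx] at this

end Fibre

end Groth.Agent.Lib.Lead.FinFlatDeg
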