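import Mathlib
import Groth.Agent.Lib.Helper24.FlatFP

/-!
# Flat finite type algebras which are locally finitely presented (Stacks 053H-type)

If `R` embeds into finitely many of its local rings, `S` is a flat finite type `R`-algebra and every
`S_p` is a finitely presented `R_p`-algebra, then `S` is finitely presented.  Deduced from the module
version `Groth.Agent.Lib.Helper24.FlatFP.finitePresentation_of_flat`.
-/

set_option autoImplicit false
set_option linter.style.haveILetI false
set_option maxHeartbeats 400000

universe u

namespace Groth.Agent.Lib.Lead.FlatFPAlg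

open MvPolynomial

variable {R S : Type u} [CommRing R] [CommRing S] [Algebra R S]

/-- A surjective ring hom with finitely generated kernel from `A` makes the target a finitely
presented `A`-module. -/
theorem finitePresentation_of_ringHom_surjective {A B : Type*} [CommRing A] [CommRing B]
    [Algebra A B] (hs : Function.Surjective (algebraMap A B))
    (hk : (RingHom.ker (algebraMap A B)).FG) : Module.FinitePresentation A B := by
  refine Module.finitePresentation_of_surjective (Algebra.linearMap A B) hs ?_
  have : LinearMap.ker (Algebra.linearMap A B) = RingHom.ker (algebraMap A B) := by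
    ext x; simp [RingHom.mem_ker]
  rw [this]
  exact hk

/-- The local step: `S_p` is a finitely presented module over `R[x]_p`. -/
theorem finitePresentation_localizedModule {n : ℕ} (π : MvPolynomial (Fin n) R →ₐ[R] S)
    (hπ : Function.Surjective π) (p : Ideal R) [p.IsPrime]
    [Algebra.FinitePresentation (Localization.AtPrime p)
      (Localization (Algebra.algebraMapSubmonoid S p.primeCompl))] :
    letI := π.toRingHom.toAlgebra
    Module.FinitePresentation
      (Localization (Algebra.algebraMapSubmonoid (MvPolynomial (Fin n) R) p.primeCompl))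
      (LocalizedModule (Algebra.algebraMapSubmonoid (MvPolynomial (Fin n) R) p.primeCompl) S) := by
  letI algPS : Algebra (MvPolynomial (Fin n) R) S := π.toRingHom.toAlgebra
  haveI : IsScalarTower R (MvPolynomial (Fin n) R) S :=
    .of_algebraMap_eq fun r => (π.commutes r).symm
  let P := MvPolynomial (Fin n) R
  let T : Submonoid P := Algebra.algebraMapSubmonoid P p.primeCompl
  let PT := Localization T
  let Sp := Localization (Algebra.algebraMapSubmonoid S p.primeCompl)
  let Rp := Localization.AtPrime p
  -- the image of `T` in `S`
  have hTS : Algebra.algebraMapSubmonoid S T = Algebra.algebraMapSubmonoid S p.primeCompl :=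
    Algebra.algebraMapSubmonoid_map_map p.primeCompl
  -- `Sp` as a `P`-algebra
  haveI : IsScalarTower P S Sp := inferInstance
  haveI locS : IsLocalization (Algebra.algebraMapSubmonoid S T) Sp := by
    rw [hTS]; infer_instance
  -- the ring map `ψ : PT → Sp`
  have hTle : T ≤ (Algebra.algebraMapSubmonoid S T).comap (algebraMap P S) := by
    intro t ht
    exact ⟨t, ht, rfl⟩
  let ψ : PT →+* Sp := IsLocalization.map Sp (algebraMap P S) hTle
  letI algPTSp : Algebra PT Sp := ψ.toAlgebra
  haveI : IsScalarTower P PT Sp := .of_algebraMap_eq fun x => by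
    change algebraMap S Sp (algebraMap P S x) = ψ (algebraMap P PT x)
    exact (IsLocalization.map_eq hTle x).symm
  -- `Sp` is the localized module of `S`
  haveI : IsLocalizedModule T (IsScalarTower.toAlgHom P S Sp).toLinearMap :=
    isLocalizedModule_iff_isLocalization.mpr locS
  let e : LocalizedModule T S ≃ₗ[PT] Sp :=
    (IsLocalizedModule.iso T (IsScalarTower.toAlgHom P S Sp).toLinearMap).extendScalarsOfIsLocalization
      T PT
  suffices h : Module.FinitePresentation PT Sp from Module.FinitePresentation.of_equiv e.symm
  have hψsurj : Function.Surjective ψ := by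
    haveI : IsLocalization (Submonoid.map (algebraMap P S) T) Sp := locS
    exact IsLocalization.map_surjective_of_surjective (g := algebraMap P S) T PT Sp hπ
  have hψeq : ∀ x : P, ψ (algebraMap P PT x) = algebraMap S Sp (algebraMap P S x) :=
    fun x => IsLocalization.map_eq hTle x
  -- the `Rp`-algebra map `θ : Rp[x] → Sp`
  let θ : MvPolynomial (Fin n) Rp →ₐ[Rp] Sp := aeval (fun i => algebraMap S Sp (π (X i)))
  -- the ring map `ρ : Rp[x] → PT`
  have hple : p.primeCompl ≤ T.comap (algebraMap R P) := Submonoid.le_comap_map _
  let ρ₀ : Rp →+* PT := IsLocalization.map PT (algebraMap R P) hple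
  have hρ₀ : ∀ r : R, ρ₀ (algebraMap R Rp r) = algebraMap P PT (algebraMap R P r) :=
    fun r => IsLocalization.map_eq hple r
  let ρ : MvPolynomial (Fin n) Rp →+* PT := eval₂Hom ρ₀ (fun i => algebraMap P PT (X i))
  have hρC : ∀ a : Rp, ρ (C a) = ρ₀ a := fun a => eval₂Hom_C _ _ a
  have hρX : ∀ i, ρ (X i) = algebraMap P PT (X i) := fun i => eval₂Hom_X' _ _ i
  -- `ψ ∘ ρ = θ`
  have hA : ψ.comp ρ = θ.toRingHom := by
    refine MvPolynomial.ringHom_ext (fun a => ?_) (fun i => ?_)
    · rw [RingHom.comp_apply, hρC]
      have hθC : θ.toRingHom (C a) = algebraMap Rp Sp a := by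
        change θ (C a) = _
        rw [← MvPolynomial.algebraMap_eq, AlgHom.commutes]
      rw [hθC]
      change (ψ.comp ρ₀) a = (algebraMap Rp Sp) a
      congr 1
      refine IsLocalization.ringHom_ext p.primeCompl ?_
      ext r
      rw [RingHom.comp_apply, RingHom.comp_apply, RingHom.comp_apply, hρ₀, hψeq,
        ← IsScalarTower.algebraMap_apply R P S, ← IsScalarTower.algebraMap_apply R S Sp,
        ← IsScalarTower.algebraMap_apply R Rp Sp]
    · rw [RingHom.comp_apply, hρX, hψeq]
      change _ = θ (X i)
      rw [aeval_X]
      rfl
  -- `ρ ∘ map = algebraMap`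
  have hB : ρ.comp (MvPolynomial.map (algebraMap R Rp)) = algebraMap P PT := by
    refine MvPolynomial.ringHom_ext (fun r => ?_) (fun i => ?_)
    · rw [RingHom.comp_apply, map_C, hρC, hρ₀]
      rfl
    · rw [RingHom.comp_apply, map_X, hρX]
  have hρsurj : Function.Surjective ρ := by
    intro y
    obtain ⟨q, ⟨t, ht⟩, rfl⟩ := IsLocalization.exists_mk'_eq T y
    obtain ⟨r, hr, rfl⟩ := ht
    refine ⟨C (IsLocalization.mk' Rp (1 : R) (⟨r, hr⟩ : p.primeCompl)) *
      MvPolynomial.map (algebraMap R Rp) q, ?_⟩
    rw [map_mul, hρC, ← RingHom.comp_apply, hB, IsLocalization.eq_mk'_iff_mul_eq]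
    change ρ₀ _ * algebraMap P PT q * algebraMap P PT (algebraMap R P r) = _
    rw [← hρ₀, mul_right_comm, ← map_mul, IsLocalization.mk'_spec, map_one, map_one, one_mul]
  have hker : (RingHom.ker ψ).FG := by
    have h1 : (RingHom.ker θ.toRingHom).FG :=
      Algebra.FinitePresentation.ker_fG_of_surjective θ (by
        intro y
        obtain ⟨z, rfl⟩ := hψsurj y
        obtain ⟨w, rfl⟩ := hρsurj z
        exact ⟨w, (DFunLike.congr_fun hA w).symm⟩)
    have h2 : RingHom.ker ψ = (RingHom.ker θ.toRingHom).map ρ := by
      rw [← hA, ← RingHom.comap_ker, Ideal.map_comap_of_surjective ρ hρsurj]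
    rw [h2]
    exact h1.map ρ
  exact finitePresentation_of_ringHom_surjective hψsurj hker

/-- **Stacks 053H-type**: a flat finite type algebra over a ring embedding into finitely many of its
local rings, all of whose localizations over `Spec R` are finitely presented, is finitely presented. -/
theorem finitePresentation_of_flat [Algebra.FiniteType R S] [Module.Flat R S]
    (s : Finset (PrimeSpectrum R))
    (hs : Function.Injective fun r : R => fun p : s =>
      algebraMap R (Localization.AtPrime p.1.asIdeal) r)
    (hloc : ∀ (p : Ideal R) [p.IsPrime],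
      Algebra.FinitePresentation (Localization.AtPrime p)
        (Localization (Algebra.algebraMapSubmonoid S p.primeCompl))) :
    Algebra.FinitePresentation R S := by
  obtain ⟨n, π, hπ⟩ := Algebra.FiniteType.iff_quotient_mvPolynomial''.mp ‹Algebra.FiniteType R S›
  letI algPS : Algebra (MvPolynomial (Fin n) R) S := π.toRingHom.toAlgebra
  haveI : IsScalarTower R (MvPolynomial (Fin n) R) S :=
    .of_algebraMap_eq fun r => (π.commutes r).symm
  haveI : Module.Finite (MvPolynomial (Fin n) R) S :=
    Module.Finite.of_surjective (Algebra.linearMap (MvPolynomial (Fin n) R) S) hπ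
  have hfp : Module.FinitePresentation (MvPolynomial (Fin n) R) S :=
    Groth.Agent.Lib.Helper24.FlatFP.finitePresentation_of_flat (R := R) s hs
      (fun p _ => by
        haveI := hloc p
        exact finitePresentation_localizedModule π hπ p)
  have hk : (LinearMap.ker (Algebra.linearMap (MvPolynomial (Fin n) R) S)).FG :=
    Module.FinitePresentation.fg_ker _ hπ
  refine Algebra.FinitePresentation.of_surjective hπ ?_
  have : RingHom.ker π.toRingHom =
      LinearMap.ker (Algebra.linearMap (MvPolynomial (Fin n) R) S) := by
    ext x
    rw [RingHom.mem_ker, LinearMap.mem_ker]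
    rfl
  rw [this]
  exact hk

end Groth.Agent.Lib.Lead.FlatFPAlg
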