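import Mathlib
import Groth.Prelude.Def_Cyc
import Groth.Agent.Lib.Lead.FinFlatDeg
import Groth.Agent.S6479

/-!
# Lead library: the local identity behind "flat pullback commutes with proper pushforward"

For a cartesian square `P = Y ×_X X'` with `p : X' ⟶ X` flat, a point `y : Y` with finite residue
field extension over `f y`, and a point `x' : X'` over `f y`:
`[κ(y):κ(f y)] · length(𝒪_{X',x'}/𝔪 𝒪_{X',x'}) = ∑_{y' ↦ (y, x')} length(𝒪_{P,y'}/𝔪_y 𝒪_{P,y'}) · [κ(y'):κ(x')]`.
-/

set_option autoImplicit false
set_option linter.style.haveILetI false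

universe u

open AlgebraicGeometry CategoryTheory Limits Opposite

namespace Groth.Agent.Lib.Lead.FlatProperBC

open Groth.Agent.Lib.Lead.FinFlatDeg

/-- the multiplicity used by flat pullback of cycles -/
noncomputable def pullLen {X Y : Scheme.{u}} (g : X ⟶ Y) (z : X) : ℕ :=
  (Module.length (X.presheaf.stalk z) (X.presheaf.stalk z ⧸ Ideal.map (g.stalkMap z).hom
    (IsLocalRing.maximalIdeal (Y.presheaf.stalk (g z))))).toNat

theorem pullLen_fiberι {X Y : Scheme.{u}} (g : X ⟶ Y) (y : Y) (z : g.fiber y) :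
    pullLen g (g.fiberι y z) = stalkLen (g.fiber y) z :=
  pull_len_eq g y z

/-- the sum formula for a finite flat morphism, over the points of a set-theoretic fibre -/
theorem fibre_sum_points {W V : Scheme.{u}} (H : W ⟶ V) [IsFinite H] [Flat H] (v : V) :
    ∑ᶠ w ∈ H ⁻¹' {v}, pullLen H w * H.residueDegree w = H.finrank v := by
  rw [← fibre_sum H v, ← finsum_set_coe_eq_finsum_mem]
  rw [← finsum_comp_equiv (H.fiberHomeo v).toEquiv]
  refine finsum_congr fun z => ?_
  show pullLen H (H.fiberι v z) * H.residueDegree (H.fiberι v z) = _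
  rw [pullLen_fiberι, residueDegree_fiber]

/-- multiplicativity of lengths along a flat morphism -/
theorem stalkLen_eq_mul {W V : Scheme.{u}} (H : W ⟶ V) [Flat H] (w : W) :
    stalkLen W w = stalkLen V (H w) * pullLen H w := by
  have h := Groth.Agent.S6479.length_formula (H.stalkMap w).hom (Flat.stalkMap H w) ⊥
  rw [Ideal.map_bot] at h
  have e1 : Module.length (W.presheaf.stalk w) (W.presheaf.stalk w ⧸ (⊥ : Ideal (W.presheaf.stalk w))) =
      Module.length (W.presheaf.stalk w) (W.presheaf.stalk w) :=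
    (Submodule.quotEquivOfEqBot (⊥ : Ideal (W.presheaf.stalk w)) rfl).length_eq
  have e2 : Module.length (V.presheaf.stalk (H w))
      (V.presheaf.stalk (H w) ⧸ (⊥ : Ideal (V.presheaf.stalk (H w)))) =
      Module.length (V.presheaf.stalk (H w)) (V.presheaf.stalk (H w)) :=
    (Submodule.quotEquivOfEqBot (⊥ : Ideal (V.presheaf.stalk (H w))) rfl).length_eq
  rw [e1, e2] at h
  unfold stalkLen pullLen
  rw [h, ENat.toNat_mul]

theorem residueDegree_of_square {W V P X' : Scheme.{u}} (a : W ⟶ P) (H : W ⟶ V) (snd : P ⟶ X')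
    (b : V ⟶ X') [IsPreimmersion a] [IsPreimmersion b] (hsq : a ≫ snd = H ≫ b) (w : W) :
    snd.residueDegree (a w) = H.residueDegree w := by
  have h1 := Groth.Agent.Lib.Helper3.residueDegree_comp a snd w
  have h2 := Groth.Agent.Lib.Helper3.residueDegree_comp H b w
  have h3 : (a ≫ snd).residueDegree w = (H ≫ b).residueDegree w :=
    congrArg (fun m : W ⟶ X' => m.residueDegree w) hsq
  rw [h1, h2, residueDegree_eq_one_of_isPreimmersion a w,
    residueDegree_eq_one_of_isPreimmersion b _, mul_one, one_mul] at h3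
  exact h3

section Core

variable {P Y X' X : Scheme.{u}} (fst : P ⟶ Y) (snd : P ⟶ X') (f : Y ⟶ X) (p : X' ⟶ X)

theorem core (h : IsPullback fst snd f p) [Flat p] (y : Y) (x' : X') (hx : p x' = f y)
    (hfin : 0 < f.residueDegree y) :
    {y' : P | fst y' = y ∧ snd y' = x'}.Finite ∧
      (∀ y' ∈ {y' : P | fst y' = y ∧ snd y' = x'}, 0 < snd.residueDegree y') ∧
      ∑ᶠ y' ∈ {y' : P | fst y' = y ∧ snd y' = x'}, pullLen fst y' * snd.residueDegree y' =
        f.residueDegree y * pullLen p x' := by
  classical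
  -- the residue field extension is finite
  letI algκ : Algebra (X.residueField (f y)) (Y.residueField y) :=
    (f.residueFieldMap y).hom.toAlgebra
  haveI hmf : Module.Finite (X.residueField (f y)) (Y.residueField y) :=
    Module.finite_of_finrank_pos hfin
  let ψ : Spec (Y.residueField y) ⟶ Spec (X.residueField (f y)) := Spec.map (f.residueFieldMap y)
  have hψfin : (f.residueFieldMap y).hom.Finite := hmf
  have hψflat : (f.residueFieldMap y).hom.Flat := by
    show Module.Flat (X.residueField (f y)) (Y.residueField y)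
    infer_instance
  haveI : IsFinite ψ := (IsFinite.SpecMap_iff _).mpr hψfin
  haveI : Flat ψ := Flat.SpecMap_iff.mpr hψflat
  -- the map of fibres
  have hP := isPullback_fiberToSpecResidueField_of_isPullback h.flip y
  set H : fst.fiber y ⟶ p.fiber (f y) :=
    pullback.map _ _ _ _ snd (Spec.map (f.residueFieldMap y)) f h.flip.w.symm (by simp) with hH
  have hsq : fst.fiberι y ≫ snd = H ≫ p.fiberι (f y) := by
    rw [hH]
    exact (pullback.lift_fst _ _ _).symm
  have hPf : IsPullback (fst.fiberToSpecResidueField y) H ψ (p.fiberToSpecResidueField (f y)) :=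
    hP.flip
  haveI : IsFinite H := MorphismProperty.of_isPullback (P := @IsFinite) hPf inferInstance
  haveI : Flat H := MorphismProperty.of_isPullback (P := @Flat) hPf inferInstance
  -- the point of the fibre of `p` over `x'`
  let v : p.fiber (f y) := (p.fiberHomeo (f y)).symm ⟨x', hx⟩
  have hv : p.fiberι (f y) v = x' := p.fiberι_fiberHomeo_symm (f y) ⟨x', hx⟩
  -- the degree of `H`
  have hdeg : H.finrank v = f.residueDegree y := by
    rw [Scheme.Hom.finrank_of_isPullback _ H ψ _ hPf v,
      Scheme.Hom.finrank_SpecMap_eq_finrank hψfin hψflat]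
    have h2 := congrFun (Module.rankAtStalk_eq_finrank_of_free (R := X.residueField (f y))
      (M := Y.residueField y)) ((p.fiberToSpecResidueField (f y)) v)
    show Module.rankAtStalk (R := X.residueField (f y)) (Y.residueField y) _ = _
    rw [h2]
    rfl
  -- the bijection of index sets
  have hbij : Set.BijOn (fst.fiberι y) (H ⁻¹' {v}) {y' : P | fst y' = y ∧ snd y' = x'} := by
    refine ⟨?_, ?_, ?_⟩
    · intro w hw
      refine ⟨(fst.fiberHomeo y w).2, ?_⟩
      have h1 : snd (fst.fiberι y w) = p.fiberι (f y) (H w) :=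
        congrArg (fun m : fst.fiber y ⟶ X' => m w) hsq
      rw [h1, hw, hv]
    · exact (fst.fiberι y).isEmbedding.injective.injOn
    · intro y' hy'
      refine ⟨(fst.fiberHomeo y).symm ⟨y', hy'.1⟩, ?_, fst.fiberι_fiberHomeo_symm y ⟨y', hy'.1⟩⟩
      apply (p.fiberι (f y)).isEmbedding.injective
      have h1 : snd (fst.fiberι y ((fst.fiberHomeo y).symm ⟨y', hy'.1⟩)) =
          p.fiberι (f y) (H ((fst.fiberHomeo y).symm ⟨y', hy'.1⟩)) :=
        congrArg (fun m : fst.fiber y ⟶ X' => m ((fst.fiberHomeo y).symm ⟨y', hy'.1⟩)) hsq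
      rw [← h1, fst.fiberι_fiberHomeo_symm y ⟨y', hy'.1⟩, hv]
      exact hy'.2
  have hfinH : (H ⁻¹' {v}).Finite := by
    rw [← H.range_fiberι v]
    exact Set.finite_range _
  refine ⟨by rw [← hbij.image_eq]; exact hfinH.image _, ?_, ?_⟩
  · intro y' hy'
    obtain ⟨w, -, rfl⟩ := hbij.surjOn hy'
    rw [residueDegree_of_square (fst.fiberι y) H snd (p.fiberι (f y)) hsq w]
    exact residueDegree_pos H w
  have hsum := finsum_mem_eq_of_bijOn (s := H ⁻¹' {v}) (t := {y' : P | fst y' = y ∧ snd y' = x'})
    (f := fun w => stalkLen (p.fiber (f y)) v * (pullLen H w * H.residueDegree w))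
    (g := fun y' => pullLen fst y' * snd.residueDegree y') (fst.fiberι y) hbij (by
      intro w hw
      have hw' : H w = v := hw
      show _ = pullLen fst (fst.fiberι y w) * snd.residueDegree (fst.fiberι y w)
      rw [pullLen_fiberι, stalkLen_eq_mul H w, hw',
        residueDegree_of_square (fst.fiberι y) H snd (p.fiberι (f y)) hsq w]
      ring)
  rw [← hsum, ← mul_finsum_mem' _ _ hfinH, fibre_sum_points H v, hdeg, ← pullLen_fiberι p (f y) v, hv, mul_comm]

end Core

end Groth.Agent.Lib.Lead.FlatProperBC
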