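import Mathlib
import Groth.Agent.Lib.Helper22.RankFactor

/-!
# General position lemma (Eisenbud–Evans style) for families of vectors in `R^N`

For a prime `p` of `R` and a family `m : Fin k → (Fin N → R)` of vectors, `rho p m` is the
dimension of the span of the reductions of the `m i` in `κ(p)^N`.  The main results are `gp_step`
and `gp_iter`: over a Noetherian ring, a family which is `min(k, coheight p + 1)`-fold basic at all
primes of a generization-closed set `X` can be reduced, by elementary operations, to a single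
vector `m 0 + y` (with `y` in the span of the other vectors) which is basic at all primes of `X`.
-/

set_option autoImplicit false
universe u

namespace Groth.Agent.Lib.Lead.GenPos

open Module

/-! ### Field-level lemmas -/
section field
variable {κ V : Type*} [Field κ] [AddCommGroup V] [Module κ V] [Module.Finite κ V]

theorem field_drop {u : ℕ} (vv : Fin (u + 1) → V) (a : Fin u → κ) :
    finrank κ (Submodule.span κ (Set.range vv)) ≤
      finrank κ (Submodule.span κ
        (Set.range fun i : Fin u => vv i.castSucc + a i • vv (Fin.last u))) + 1 := by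
  set z := vv (Fin.last u) with hz
  set W' := Submodule.span κ (Set.range fun i : Fin u => vv i.castSucc + a i • z) with hW'
  have hle : Submodule.span κ (Set.range vv) ≤ W' ⊔ Submodule.span κ {z} := by
    rw [Submodule.span_le]
    rintro _ ⟨i, rfl⟩
    induction i using Fin.lastCases with
    | last => exact Submodule.mem_sup_right (Submodule.subset_span rfl)
    | cast j =>
      have h1 : vv j.castSucc + a j • z ∈ W' := Submodule.subset_span ⟨j, rfl⟩
      have h2 : a j • z ∈ Submodule.span κ {z} :=
        Submodule.smul_mem _ _ (Submodule.subset_span rfl)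
      have h3 : vv j.castSucc = (vv j.castSucc + a j • z) - a j • z := by abel
      rw [SetLike.mem_coe, h3]
      exact Submodule.sub_mem _ (Submodule.mem_sup_left h1) (Submodule.mem_sup_right h2)
  calc finrank κ (Submodule.span κ (Set.range vv))
      ≤ finrank κ ↥(W' ⊔ Submodule.span κ {z}) := Submodule.finrank_mono hle
    _ ≤ finrank κ W' + finrank κ (Submodule.span κ {z}) :=
        Submodule.finrank_add_le_finrank_add_finrank W' _
    _ ≤ finrank κ W' + 1 := by
        gcongr
        exact (finrank_span_le_card ({z} : Set V)).trans (by simp)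

theorem field_step {u : ℕ} (vv : Fin (u + 1) → V) (a : Fin u → κ)
    (hu : finrank κ (Submodule.span κ (Set.range vv)) ≤ u)
    (hlt : finrank κ (Submodule.span κ
        (Set.range fun i : Fin u => vv i.castSucc + a i • vv (Fin.last u)))
      < finrank κ (Submodule.span κ (Set.range vv))) :
    ∃ j : Fin u, ∀ r : κ, r ≠ 0 →
      finrank κ (Submodule.span κ (Set.range vv)) ≤
        finrank κ (Submodule.span κ (Set.range fun i : Fin u =>
          vv i.castSucc + (a i + if i = j then r else 0) • vv (Fin.last u))) := by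
  classical
  set z := vv (Fin.last u) with hz
  set w : Fin u → V := fun i => vv i.castSucc + a i • z with hw
  have hnli : ¬ LinearIndependent κ w := by
    intro hli
    have h1 := finrank_span_eq_card hli
    rw [Fintype.card_fin] at h1
    omega
  obtain ⟨g, hg, j, hj⟩ := Fintype.not_linearIndependent_iff.1 hnli
  refine ⟨j, fun r hr => ?_⟩
  set w' : Fin u → V := fun i => vv i.castSucc + (a i + if i = j then r else 0) • z with hw'
  apply Submodule.finrank_mono
  have hsum : ∑ i, g i • w' i = (g j * r) • z := by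
    have h1 : ∀ i, g i • w' i = g i • w i + (if i = j then (g j * r) • z else 0) := by
      intro i
      by_cases hij : i = j
      · rw [hij]
        simp only [hw', hw, if_true]
        module
      · simp only [hw', hw, if_neg hij, add_zero]
    rw [Finset.sum_congr rfl (fun i _ => h1 i), Finset.sum_add_distrib, hg, zero_add,
      Finset.sum_ite_eq' Finset.univ j (fun _ => (g j * r) • z)]
    simp
  have hzmem : z ∈ Submodule.span κ (Set.range w') := by
    have h2 : (g j * r) • z ∈ Submodule.span κ (Set.range w') := by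
      rw [← hsum]
      exact Submodule.sum_mem _
        (fun i _ => Submodule.smul_mem _ _ (Submodule.subset_span ⟨i, rfl⟩))
    have h3 : g j * r ≠ 0 := mul_ne_zero hj hr
    have h4 := Submodule.smul_mem _ (g j * r)⁻¹ h2
    rwa [smul_smul, inv_mul_cancel₀ h3, one_smul] at h4
  rw [Submodule.span_le]
  rintro _ ⟨i, rfl⟩
  induction i using Fin.lastCases with
  | last => exact hzmem
  | cast l =>
    have h1 : w' l ∈ Submodule.span κ (Set.range w') := Submodule.subset_span ⟨l, rfl⟩
    have h2 : vv l.castSucc = w' l - (a l + if l = j then r else 0) • z := by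
      simp only [hw']; abel
    rw [SetLike.mem_coe, h2]
    exact Submodule.sub_mem _ h1 (Submodule.smul_mem _ _ hzmem)

end field

/-! ### Reduction modulo a prime and the fibre rank -/

variable {R : Type u} [CommRing R]

/-- Reduction of vectors modulo a prime, with values in the residue field. -/
noncomputable def red (p : PrimeSpectrum R) (N : ℕ) :
    (Fin N → R) →ₗ[R] (Fin N → p.asIdeal.ResidueField) :=
  (Algebra.linearMap R p.asIdeal.ResidueField).compLeft (Fin N)

theorem red_apply (p : PrimeSpectrum R) (N : ℕ) (x : Fin N → R) (j : Fin N) :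
    red p N x j = algebraMap R p.asIdeal.ResidueField (x j) := rfl

theorem red_eq_of_sub_mem (p : PrimeSpectrum R) {N : ℕ} {x y : Fin N → R}
    (h : ∀ j, x j - y j ∈ p.asIdeal) : red p N x = red p N y := by
  funext j
  rw [red_apply, red_apply, ← sub_eq_zero, ← map_sub, Ideal.algebraMap_residueField_eq_zero]
  exact h j

theorem red_smul (p : PrimeSpectrum R) {N : ℕ} (a : R) (x : Fin N → R) :
    red p N (a • x) = algebraMap R p.asIdeal.ResidueField a • red p N x := by
  rw [map_smul, algebraMap_smul]

/-- The fibre rank at `p` of a family of vectors of `R^N`. -/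
noncomputable def rho (p : PrimeSpectrum R) {k N : ℕ} (m : Fin k → (Fin N → R)) : ℕ :=
  finrank p.asIdeal.ResidueField
    (Submodule.span p.asIdeal.ResidueField (Set.range fun i => red p N (m i)))

theorem rho_congr (p : PrimeSpectrum R) {k N : ℕ} {m₁ m₂ : Fin k → Fin N → R}
    (h : ∀ i j, m₁ i j - m₂ i j ∈ p.asIdeal) : rho p m₁ = rho p m₂ := by
  have h1 : (fun i => red p N (m₁ i)) = fun i => red p N (m₂ i) :=
    funext fun i => red_eq_of_sub_mem p (h i)
  rw [rho, rho, h1]

theorem rho_mono (p : PrimeSpectrum R) {k k' N : ℕ} {m₁ : Fin k → Fin N → R}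
    {m₂ : Fin k' → Fin N → R}
    (h : ∀ i, red p N (m₁ i) ∈
      Submodule.span p.asIdeal.ResidueField (Set.range fun i => red p N (m₂ i))) :
    rho p m₁ ≤ rho p m₂ := by
  rw [rho, rho]
  apply Submodule.finrank_mono
  rw [Submodule.span_le]
  rintro _ ⟨i, rfl⟩
  exact h i

theorem rho_eq_rank (p : PrimeSpectrum R) {k N : ℕ} (m : Fin k → Fin N → R) :
    rho p m = ((Matrix.of m).map (algebraMap R p.asIdeal.ResidueField)).rank := by
  rw [Matrix.rank_eq_finrank_span_row]
  rfl

/-- The ideal generated by the `t`-minors of the matrix with rows `m i`. -/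
def minorIdeal {k N : ℕ} (m : Fin k → Fin N → R) (t : ℕ) : Ideal R :=
  Ideal.span {x | ∃ (I : Fin t → Fin k) (J : Fin t → Fin N),
    x = ((Matrix.of m).submatrix I J).det}

theorem rho_le_iff (p : PrimeSpectrum R) {k N : ℕ} (m : Fin k → Fin N → R) (t : ℕ) :
    rho p m ≤ t ↔ minorIdeal m (t + 1) ≤ p.asIdeal := by
  rw [rho_eq_rank]
  have hdet : ∀ (s : ℕ) (I : Fin s → Fin k) (J : Fin s → Fin N),
      (((Matrix.of m).map (algebraMap R p.asIdeal.ResidueField)).submatrix I J).det =
        algebraMap R p.asIdeal.ResidueField ((Matrix.of m).submatrix I J).det := by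
    intro s I J
    rw [RingHom.map_det]
    rfl
  constructor
  · intro h
    rw [minorIdeal, Ideal.span_le]
    rintro _ ⟨I, J, rfl⟩
    by_contra hx
    have hne : (((Matrix.of m).map (algebraMap R p.asIdeal.ResidueField)).submatrix I J).det
        ≠ 0 := by
      rw [hdet]
      intro h0
      exact hx (Ideal.algebraMap_residueField_eq_zero.1 h0)
    have h1 := Matrix.rank_of_det_ne_zero hne
    have h2 := Matrix.rank_submatrix_le
      ((Matrix.of m).map (algebraMap R p.asIdeal.ResidueField)) I J
    rw [h1, Fintype.card_fin] at h2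
    omega
  · intro h
    apply Groth.Agent.Lib.Helper22.RankFactor.rank_le_of_minors
    intro f g
    rw [hdet, Ideal.algebraMap_residueField_eq_zero]
    exact h (Ideal.subset_span ⟨f, g, rfl⟩)

theorem exists_notMem_of_rho_pos (p : PrimeSpectrum R) {N : ℕ} (m : Fin 1 → Fin N → R)
    (h : 1 ≤ rho p m) : ∃ j, m 0 j ∉ p.asIdeal := by
  by_contra hcon
  push Not at hcon
  have hz : red p N (m 0) = 0 := by
    funext j
    rw [red_apply, Pi.zero_apply, Ideal.algebraMap_residueField_eq_zero]
    exact hcon j
  have h0 : rho p m = 0 := by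
    rw [rho]
    have hr : (Set.range fun i => red p N (m i)) = {0} := by
      ext x
      constructor
      · rintro ⟨i, rfl⟩
        have hi : i = 0 := Subsingleton.elim i 0
        subst hi
        show red p N (m 0) ∈ ({0} : Set _)
        rw [hz]
        rfl
      · rintro rfl
        exact ⟨0, hz⟩
    rw [hr, Submodule.span_zero_singleton]
    simp
  omega

/-! ### The avoidance lemma -/

theorem avoid {k : ℕ} (G : PrimeSpectrum R → Set (Fin k → R)) :
    ∀ (E : Finset (PrimeSpectrum R)),
    (∀ p ∈ E, ∀ a b : Fin k → R, (∀ i, a i - b i ∈ p.asIdeal) → a ∈ G p → b ∈ G p) →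
    (∀ p ∈ E, ∀ a, a ∉ G p → ∃ j, ∀ r, r ∉ p.asIdeal → a + Pi.single j r ∈ G p) →
    ∃ a, ∀ p ∈ E, a ∈ G p := by
  classical
  intro E
  induction E using Finset.strongInduction with
  | H E ih =>
    intro h1 h2
    rcases E.eq_empty_or_nonempty with rfl | hne
    · exact ⟨0, by simp⟩
    obtain ⟨p, hpE, hpmin⟩ := E.exists_minimal hne
    obtain ⟨a, ha⟩ := ih (E.erase p) (Finset.erase_ssubset hpE)
      (fun q hq => h1 q (Finset.mem_of_mem_erase hq))
      (fun q hq => h2 q (Finset.mem_of_mem_erase hq))
    by_cases hap : a ∈ G p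
    · refine ⟨a, fun q hq => ?_⟩
      by_cases hqp : q = p
      · rw [hqp]; exact hap
      · exact ha q (Finset.mem_erase.2 ⟨hqp, hq⟩)
    obtain ⟨j, hj⟩ := h2 p hpE a hap
    have hnot : ¬ ((E.erase p).inf (fun q => q.asIdeal) ≤ p.asIdeal) := by
      intro hle
      obtain ⟨q, hq, hqp⟩ := (Ideal.IsPrime.inf_le' p.isPrime).1 hle
      have hq' := Finset.mem_erase.1 hq
      have hqlep : q ≤ p := hqp
      have hpq : p ≤ q := hpmin hq'.2 hqlep
      exact hq'.1 (le_antisymm hqlep hpq)
    obtain ⟨r, hrE, hrp⟩ := SetLike.not_le_iff_exists.1 hnot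
    refine ⟨a + Pi.single j r, fun q hq => ?_⟩
    by_cases hqp : q = p
    · rw [hqp]; exact hj r hrp
    · have hqE' : q ∈ E.erase p := Finset.mem_erase.2 ⟨hqp, hq⟩
      refine h1 q hq a _ (fun i => ?_) (ha q hqE')
      have hrq : r ∈ q.asIdeal :=
        (Finset.inf_le hqE' : (E.erase p).inf (fun q => q.asIdeal) ≤ q.asIdeal) hrE
      by_cases hij : i = j
      · subst hij
        simpa using hrq
      · simp [Pi.single_eq_of_ne hij]

/-! ### The general position lemma -/

theorem enat_key (u : ℕ) (c : ℕ∞) (r r' : ℕ)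
    (h1 : min ((u + 1 : ℕ) : ℕ∞) (c + 1) ≤ (r : ℕ∞)) (h2 : r ≤ r' + 1)
    (h3 : ¬ ((r : ℕ∞) = c + 1 ∧ r ≤ u)) : min (u : ℕ∞) (c + 1) ≤ (r' : ℕ∞) := by
  rcases min_le_iff.1 h1 with h | h
  · have h4 : u + 1 ≤ r := by exact_mod_cast h
    have h5 : u ≤ r' := by omega
    exact min_le_iff.2 (Or.inl (by exact_mod_cast h5))
  · by_cases hru : r ≤ u
    · have hne : (r : ℕ∞) ≠ c + 1 := fun he => h3 ⟨he, hru⟩
      have hlt : c + 1 < (r : ℕ∞) := lt_of_le_of_ne h (Ne.symm hne)
      refine min_le_iff.2 (Or.inr ?_)
      have h4 : c + 1 < (r' : ℕ∞) + 1 := lt_of_lt_of_le hlt (by exact_mod_cast h2)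
      exact (ENat.lt_add_one_iff (ENat.coe_ne_top r')).1 h4
    · have h5 : u ≤ r' := by omega
      exact min_le_iff.2 (Or.inl (by exact_mod_cast h5))

theorem gp_step [IsNoetherianRing R] (X : Set (PrimeSpectrum R))
    (hX : ∀ p ∈ X, ∀ q : PrimeSpectrum R, q ≤ p → q ∈ X) {u N : ℕ}
    (m : Fin (u + 1) → (Fin N → R))
    (h : ∀ p ∈ X, min ((u + 1 : ℕ) : ℕ∞) (Order.coheight p + 1) ≤ (rho p m : ℕ∞)) :
    ∃ a : Fin u → R, ∀ p ∈ X, min (u : ℕ∞) (Order.coheight p + 1) ≤
      (rho p (fun i : Fin u => m i.castSucc + a i • m (Fin.last u)) : ℕ∞) := by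
  classical
  have hrho' : ∀ (p : PrimeSpectrum R) (a : Fin u → R),
      rho p (fun i : Fin u => m i.castSucc + a i • m (Fin.last u)) =
        finrank p.asIdeal.ResidueField (Submodule.span p.asIdeal.ResidueField
          (Set.range fun i : Fin u => (fun i => red p N (m i)) i.castSucc +
            algebraMap R p.asIdeal.ResidueField (a i) • (fun i => red p N (m i)) (Fin.last u))) := by
    intro p a
    have h1 : (fun i : Fin u => red p N (m i.castSucc + a i • m (Fin.last u))) =
        fun i : Fin u => (fun i => red p N (m i)) i.castSucc +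
            algebraMap R p.asIdeal.ResidueField (a i) • (fun i => red p N (m i)) (Fin.last u) :=
      funext fun i => by rw [map_add, red_smul]
    rw [rho, h1]
  have hdrop : ∀ (p : PrimeSpectrum R) (a : Fin u → R),
      rho p m ≤ rho p (fun i : Fin u => m i.castSucc + a i • m (Fin.last u)) + 1 := by
    intro p a
    rw [hrho' p a]
    exact field_drop (fun i => red p N (m i)) (fun i => algebraMap R _ (a i))
  -- the bad set
  let E : Set (PrimeSpectrum R) :=
    {p | p ∈ X ∧ (rho p m : ℕ∞) = Order.coheight p + 1 ∧ rho p m ≤ u}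
  have hEsub : E ⊆ ⋃ t ∈ Set.Iio (u + 1),
      {p : PrimeSpectrum R | p.asIdeal ∈ (minorIdeal m (t + 1)).minimalPrimes} := by
    rintro p ⟨hpX, hpc, hpu⟩
    refine Set.mem_iUnion₂.2 ⟨rho p m, Nat.lt_succ_of_le hpu, ?_⟩
    change Minimal (fun q : Ideal R => q.IsPrime ∧ minorIdeal m (rho p m + 1) ≤ q) p.asIdeal
    refine And.intro ⟨p.isPrime, (rho_le_iff p m _).1 le_rfl⟩ ?_
    rintro q ⟨hqprime, hq⟩ hqp
    by_contra hnle
    have hlt : (⟨q, hqprime⟩ : PrimeSpectrum R) < p := lt_of_le_not_ge hqp hnle
    have hqX := hX p hpX ⟨q, hqprime⟩ hqp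
    have h3 : rho ⟨q, hqprime⟩ m ≤ rho p m := (rho_le_iff _ m _).2 hq
    have h1 : ((rho p m + 1 : ℕ) : ℕ∞) ≤
        min ((u + 1 : ℕ) : ℕ∞) (Order.coheight (⟨q, hqprime⟩ : PrimeSpectrum R) + 1) := by
      refine le_min (by exact_mod_cast Nat.succ_le_succ hpu) ?_
      push_cast
      rw [hpc]
      gcongr
      exact Order.coheight_add_one_le hlt
    have h2 := h1.trans (h _ hqX)
    have h4 : rho p m + 1 ≤ rho ⟨q, hqprime⟩ m := by exact_mod_cast h2
    omega
  have hEfin : E.Finite := by
    refine Set.Finite.subset (Set.Finite.biUnion (Set.finite_Iio (u + 1)) (fun t _ => ?_)) hEsub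
    exact Set.Finite.preimage (fun a _ b _ hab => PrimeSpectrum.ext hab)
      (Ideal.finite_minimalPrimes_of_isNoetherianRing R _)
  obtain ⟨a, ha⟩ := avoid (k := u)
    (fun p => {a | rho p m ≤ rho p (fun i : Fin u => m i.castSucc + a i • m (Fin.last u))})
    hEfin.toFinset
    (by
      intro p _ a b hab hmem
      have hcongr : rho p (fun i : Fin u => m i.castSucc + a i • m (Fin.last u)) =
          rho p (fun i : Fin u => m i.castSucc + b i • m (Fin.last u)) := by
        apply rho_congr
        intro i j
        have h5 : (m i.castSucc + a i • m (Fin.last u)) j -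
            (m i.castSucc + b i • m (Fin.last u)) j = (a i - b i) * m (Fin.last u) j := by
          simp only [Pi.add_apply, Pi.smul_apply, smul_eq_mul]
          ring
        rw [h5]
        exact Ideal.mul_mem_right _ _ (hab i)
      show rho p m ≤ _
      rw [← hcongr]
      exact hmem)
    (by
      intro p hp a hmem
      have hpE : p ∈ E := hEfin.mem_toFinset.1 hp
      have hlt : rho p (fun i : Fin u => m i.castSucc + a i • m (Fin.last u)) < rho p m :=
        not_le.1 hmem
      rw [hrho' p a] at hlt
      obtain ⟨j, hj⟩ := field_step (fun i => red p N (m i))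
        (fun i => algebraMap R p.asIdeal.ResidueField (a i)) hpE.2.2 hlt
      refine ⟨j, fun r hr => ?_⟩
      have hr0 : algebraMap R p.asIdeal.ResidueField r ≠ 0 := fun h0 =>
        hr (Ideal.algebraMap_residueField_eq_zero.1 h0)
      have h6 := hj _ hr0
      show rho p m ≤ _
      rw [hrho' p (a + (Pi.single j r : Fin u → R))]
      have h7 : (fun i : Fin u => (fun i => red p N (m i)) i.castSucc +
          algebraMap R p.asIdeal.ResidueField ((a + (Pi.single j r : Fin u → R)) i) •
            (fun i => red p N (m i)) (Fin.last u)) =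
          fun i : Fin u => (fun i => red p N (m i)) i.castSucc +
            (algebraMap R p.asIdeal.ResidueField (a i) +
              if i = j then algebraMap R p.asIdeal.ResidueField r else 0) •
            (fun i => red p N (m i)) (Fin.last u) := by
        funext i
        congr 2
        rw [Pi.add_apply, map_add, Pi.single_apply]
        congr 1
        split_ifs <;> simp
      rw [h7]
      exact h6)
  refine ⟨a, fun p hp => ?_⟩
  by_cases hpE : p ∈ E
  · calc min (u : ℕ∞) (Order.coheight p + 1) ≤ Order.coheight p + 1 := min_le_right _ _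
      _ = (rho p m : ℕ∞) := hpE.2.1.symm
      _ ≤ _ := by exact_mod_cast ha p (hEfin.mem_toFinset.2 hpE)
  · exact enat_key u (Order.coheight p) (rho p m) _ (h p hp) (hdrop p a)
      (fun hc => hpE ⟨hp, hc.1, hc.2⟩)

theorem gp_iter [IsNoetherianRing R] (X : Set (PrimeSpectrum R))
    (hX : ∀ p ∈ X, ∀ q : PrimeSpectrum R, q ≤ p → q ∈ X) {N : ℕ} :
    ∀ (k : ℕ) (m : Fin (k + 1) → (Fin N → R)),
      (∀ p ∈ X, min ((k + 1 : ℕ) : ℕ∞) (Order.coheight p + 1) ≤ (rho p m : ℕ∞)) →
      ∃ y ∈ Submodule.span R (Set.range fun i : Fin k => m i.succ),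
        ∀ p ∈ X, ∃ j, (m 0 + y) j ∉ p.asIdeal := by
  intro k
  induction k with
  | zero =>
    intro m h
    refine ⟨0, Submodule.zero_mem _, fun p hp => ?_⟩
    have h1 : (1 : ℕ∞) ≤ rho p m := by
      have h2 := h p hp
      have h3 : min (((0 + 1 : ℕ) : ℕ∞)) (Order.coheight p + 1) = 1 := by
        rw [min_eq_left]
        · simp
        · simp
      rwa [h3] at h2
    have h3 : 1 ≤ rho p m := by exact_mod_cast h1
    rw [add_zero]
    exact exists_notMem_of_rho_pos p m h3
  | succ k ih =>
    intro m h
    obtain ⟨a, ha⟩ := gp_step X hX m h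
    obtain ⟨y', hy', hy'X⟩ :=
      ih (fun i => m i.castSucc + a i • m (Fin.last (k + 1))) ha
    have hlast : m (Fin.last (k + 1)) ∈
        Submodule.span R (Set.range fun i : Fin (k + 1) => m i.succ) :=
      Submodule.subset_span ⟨Fin.last k, by
        show m (Fin.last k).succ = m (Fin.last (k + 1))
        rw [Fin.succ_last]⟩
    refine ⟨a 0 • m (Fin.last (k + 1)) + y', ?_, ?_⟩
    · refine Submodule.add_mem _ (Submodule.smul_mem _ _ hlast) ?_
      refine Submodule.span_le.2 ?_ hy'
      rintro _ ⟨i, rfl⟩
      refine Submodule.add_mem _ (Submodule.subset_span ⟨i.castSucc, ?_⟩)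
        (Submodule.smul_mem _ _ hlast)
      show m i.castSucc.succ = m i.succ.castSucc
      rw [Fin.succ_castSucc]
    · intro p hp
      obtain ⟨j, hj⟩ := hy'X p hp
      refine ⟨j, ?_⟩
      have h5 : m 0 + (a 0 • m (Fin.last (k + 1)) + y') =
          (m (0 : Fin (k + 1)).castSucc + a 0 • m (Fin.last (k + 1))) + y' := by
        rw [Fin.castSucc_zero]; abel
      rw [h5]
      exact hj

end Groth.Agent.Lib.Lead.GenPos
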