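import Mathlib

/-!
# General position over the maximal spectrum (Serre's splitting proposition, abstract form)

`R` is a commutative ring whose maximal spectrum is a Noetherian space.  For every closed point `x`
we are given a vector space `V x` over `R ⧸ x` and a semilinear map `ι x : M → V x`; `rk x mm` is the
dimension of the span of the images of a finite family `mm` of elements of `M`.  Assuming that the
loci `F ∪ {x | rk x mm ≤ t}` are closed, the Eisenbud–Evans style reduction `gp_step`/`gp_iter`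
produces from a family which is `min (k+1) (g Z)`-fold basic on every irreducible closed set `Z ⊄ F`
a single element `m 0 + y`, `y ∈ 𝔞 M`, which is basic at some point of `Z \ F` for every `Z` with
`1 ≤ g Z`.  Here `g` is any weight function which strictly increases along strict inclusions.
-/

set_option autoImplicit false
universe u v w

namespace Groth.Agent.Lib.Lead.GenPosMax

open Module TopologicalSpace

/-! ### Field-level lemmas -/
section field
variable {κ V : Type*} [Field κ] [AddCommGroup V] [Module κ V]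

theorem finite_span_range {ι : Type*} [Finite ι] (vv : ι → V) :
    Module.Finite κ (Submodule.span κ (Set.range vv)) :=
  Module.Finite.span_of_finite κ (Set.finite_range vv)

theorem field_drop {u : ℕ} (vv : Fin (u + 1) → V) (a : Fin u → κ) :
    finrank κ (Submodule.span κ (Set.range vv)) ≤
      finrank κ (Submodule.span κ
        (Set.range fun i : Fin u => vv i.castSucc + a i • vv (Fin.last u))) + 1 := by
  set z := vv (Fin.last u) with hz
  set W' := Submodule.span κ (Set.range fun i : Fin u => vv i.castSucc + a i • z) with hW'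
  haveI : Module.Finite κ W' := finite_span_range _
  have hle : Submodule.span κ (Set.range vv) ≤ W' ⊔ Submodule.span κ {z} := by
    rw [Submodule.span_le]
    rintro _ ⟨i, rfl⟩
    induction i using Fin.lastCases with
    | last => exact Submodule.mem_sup_right (Submodule.subset_span rfl)
    | cast j =>
      have h1 : vv j.castSucc + a j • z ∈ W' := Submodule.subset_span ⟨j, rfl⟩
      have h2 : a j • z ∈ Submodule.span κ {z} :=
        Submodule.smul_mem _ _ (Submodule.subset_span rfl)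
      have h3 : vv j.castSucc = (vv j.castSucc + a j • z) - a j • z := by abel
      rw [SetLike.mem_coe, h3]
      exact Submodule.sub_mem _ (Submodule.mem_sup_left h1) (Submodule.mem_sup_right h2)
  calc finrank κ (Submodule.span κ (Set.range vv))
      ≤ finrank κ ↥(W' ⊔ Submodule.span κ {z}) := Submodule.finrank_mono hle
    _ ≤ finrank κ W' + finrank κ (Submodule.span κ {z}) :=
        Submodule.finrank_add_le_finrank_add_finrank W' _
    _ ≤ finrank κ W' + 1 := by
        gcongr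
        exact (finrank_span_le_card ({z} : Set V)).trans (by simp)

theorem field_step {u : ℕ} (vv : Fin (u + 1) → V) (a : Fin u → κ)
    (hu : finrank κ (Submodule.span κ (Set.range vv)) ≤ u)
    (hlt : finrank κ (Submodule.span κ
        (Set.range fun i : Fin u => vv i.castSucc + a i • vv (Fin.last u)))
      < finrank κ (Submodule.span κ (Set.range vv))) :
    ∃ j : Fin u, ∀ r : κ, r ≠ 0 →
      finrank κ (Submodule.span κ (Set.range vv)) ≤
        finrank κ (Submodule.span κ (Set.range fun i : Fin u =>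
          vv i.castSucc + (a i + if i = j then r else 0) • vv (Fin.last u))) := by
  classical
  set z := vv (Fin.last u) with hz
  set w : Fin u → V := fun i => vv i.castSucc + a i • z with hw
  have hnli : ¬ LinearIndependent κ w := by
    intro hli
    have h1 := finrank_span_eq_card hli
    rw [Fintype.card_fin] at h1
    omega
  obtain ⟨g, hg, j, hj⟩ := Fintype.not_linearIndependent_iff.1 hnli
  refine ⟨j, fun r hr => ?_⟩
  set w' : Fin u → V := fun i => vv i.castSucc + (a i + if i = j then r else 0) • z with hw'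
  haveI : Module.Finite κ (Submodule.span κ (Set.range w')) := finite_span_range _
  apply Submodule.finrank_mono
  have hsum : ∑ i, g i • w' i = (g j * r) • z := by
    have h1 : ∀ i, g i • w' i = g i • w i + (if i = j then (g j * r) • z else 0) := by
      intro i
      by_cases hij : i = j
      · rw [hij]
        simp only [hw', hw, if_true]
        module
      · simp only [hw', hw, if_neg hij, add_zero]
    rw [Finset.sum_congr rfl (fun i _ => h1 i), Finset.sum_add_distrib, hg, zero_add,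
      Finset.sum_ite_eq' Finset.univ j (fun _ => (g j * r) • z)]
    simp
  have hzmem : z ∈ Submodule.span κ (Set.range w') := by
    have h2 : (g j * r) • z ∈ Submodule.span κ (Set.range w') := by
      rw [← hsum]
      exact Submodule.sum_mem _
        (fun i _ => Submodule.smul_mem _ _ (Submodule.subset_span ⟨i, rfl⟩))
    have h3 : g j * r ≠ 0 := mul_ne_zero hj hr
    have h4 := Submodule.smul_mem _ (g j * r)⁻¹ h2
    rwa [smul_smul, inv_mul_cancel₀ h3, one_smul] at h4
  rw [Submodule.span_le]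
  rintro _ ⟨i, rfl⟩
  induction i using Fin.lastCases with
  | last => exact hzmem
  | cast l =>
    have h1 : w' l ∈ Submodule.span κ (Set.range w') := Submodule.subset_span ⟨l, rfl⟩
    have h2 : vv l.castSucc = w' l - (a l + if l = j then r else 0) • z := by
      simp only [hw']; abel
    rw [SetLike.mem_coe, h2]
    exact Submodule.sub_mem _ h1 (Submodule.smul_mem _ _ hzmem)

end field

/-! ### Numerical lemma -/

theorem enat_key (u : ℕ) (g : ℕ∞) (r r' : ℕ)
    (h1 : min ((u + 1 : ℕ) : ℕ∞) g ≤ (r : ℕ∞)) (h2 : r ≤ r' + 1)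
    (h3 : ¬ ((r : ℕ∞) = g ∧ r ≤ u)) : min (u : ℕ∞) g ≤ (r' : ℕ∞) := by
  rcases min_le_iff.1 h1 with h | h
  · have h4 : u + 1 ≤ r := by exact_mod_cast h
    have h5 : u ≤ r' := by omega
    exact min_le_iff.2 (Or.inl (by exact_mod_cast h5))
  · by_cases hru : r ≤ u
    · have hne : (r : ℕ∞) ≠ g := fun he => h3 ⟨he, hru⟩
      have hlt : g < (r : ℕ∞) := lt_of_le_of_ne h (Ne.symm hne)
      refine min_le_iff.2 (Or.inr ?_)
      have h4 : g < (r' : ℕ∞) + 1 := lt_of_lt_of_le hlt (by exact_mod_cast h2)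
      exact (ENat.lt_add_one_iff (ENat.coe_ne_top r')).1 h4
    · have h5 : u ≤ r' := by omega
      exact min_le_iff.2 (Or.inl (by exact_mod_cast h5))

/-! ### The avoidance lemma for maximal ideals, with coefficients in an ideal -/

variable {R : Type u} [CommRing R]

theorem avoidM {k : ℕ} (𝔞 : Ideal R) (G : MaximalSpectrum R → Set (Fin k → R)) :
    ∀ (E : Finset (MaximalSpectrum R)),
    (∀ p ∈ E, ¬ 𝔞 ≤ p.asIdeal) →
    (∀ p ∈ E, ∀ a b : Fin k → R, (∀ i, a i - b i ∈ p.asIdeal) → a ∈ G p → b ∈ G p) →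
    (∀ p ∈ E, ∀ a, a ∉ G p → ∃ j, ∀ r, r ∉ p.asIdeal → a + Pi.single j r ∈ G p) →
    ∃ a, (∀ i, a i ∈ 𝔞) ∧ ∀ p ∈ E, a ∈ G p := by
  classical
  intro E
  refine Finset.induction_on E ?_ ?_
  · intro _ _ _
    exact ⟨0, fun i => 𝔞.zero_mem, by simp⟩
  · intro p E' hpE' ih h0 h1 h2
    obtain ⟨a, ha𝔞, ha⟩ := ih
      (fun q hq => h0 q (Finset.mem_insert_of_mem hq))
      (fun q hq => h1 q (Finset.mem_insert_of_mem hq))
      (fun q hq => h2 q (Finset.mem_insert_of_mem hq))
    by_cases hap : a ∈ G p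
    · refine ⟨a, ha𝔞, fun q hq => ?_⟩
      rcases Finset.mem_insert.1 hq with hqp | hq'
      · rw [hqp]; exact hap
      · exact ha q hq'
    obtain ⟨j, hj⟩ := h2 p (Finset.mem_insert_self p E') a hap
    have hnot : ¬ (𝔞 ⊓ E'.inf (fun q => q.asIdeal) ≤ p.asIdeal) := by
      intro hle
      rcases (Ideal.IsPrime.inf_le p.isMaximal.isPrime).1 hle with h𝔞 | hinf
      · exact h0 p (Finset.mem_insert_self p E') h𝔞
      · obtain ⟨q, hq, hqp⟩ := (Ideal.IsPrime.inf_le' p.isMaximal.isPrime).1 hinf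
        have hqp' : q = p :=
          MaximalSpectrum.ext (q.isMaximal.eq_of_le p.isMaximal.ne_top hqp)
        exact hpE' (hqp' ▸ hq)
    obtain ⟨r, hrE, hrp⟩ := SetLike.not_le_iff_exists.1 hnot
    have hr𝔞 : r ∈ 𝔞 := (Submodule.mem_inf.1 hrE).1
    have hrinf : r ∈ E'.inf (fun q => q.asIdeal) := (Submodule.mem_inf.1 hrE).2
    refine ⟨a + Pi.single j r, fun i => ?_, fun q hq => ?_⟩
    · by_cases hij : i = j
      · subst hij
        simpa using 𝔞.add_mem (ha𝔞 i) hr𝔞
      · simpa [Pi.single_eq_of_ne hij] using ha𝔞 i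
    · rcases Finset.mem_insert.1 hq with hqp | hq'
      · rw [hqp]; exact hj r hrp
      · refine h1 q hq a _ (fun i => ?_) (ha q hq')
        have hrq : r ∈ q.asIdeal :=
          (Finset.inf_le hq' : E'.inf (fun q => q.asIdeal) ≤ q.asIdeal) hrinf
        by_cases hij : i = j
        · subst hij
          simpa using hrq
        · simp [Pi.single_eq_of_ne hij]

/-! ### Ranks at closed points -/

section gp

variable {M : Type v} [AddCommGroup M] [Module R M]
  (V : MaximalSpectrum R → Type w) [∀ x, AddCommGroup (V x)]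
  [∀ x, Module (R ⧸ x.asIdeal) (V x)] (ι : ∀ x, M → V x)

/-- The rank at the closed point `x` of a finite family of elements of `M`. -/
noncomputable def rk (x : MaximalSpectrum R) {n : ℕ} (mm : Fin n → M) : ℕ :=
  finrank (R ⧸ x.asIdeal) (Submodule.span (R ⧸ x.asIdeal) (Set.range fun i => ι x (mm i)))

theorem rk_le_card (x : MaximalSpectrum R) {n : ℕ} (mm : Fin n → M) : rk V ι x mm ≤ n := by
  haveI := x.isMaximal
  letI : Field (R ⧸ x.asIdeal) := Ideal.Quotient.field x.asIdeal
  exact (finrank_range_le_card (R := R ⧸ x.asIdeal) (fun i => ι x (mm i))).trans_eq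
    (Fintype.card_fin n)

variable (hadd : ∀ x (m m' : M), ι x (m + m') = ι x m + ι x m')
  (hsmul : ∀ x (r : R) (m : M), ι x (r • m) = Ideal.Quotient.mk x.asIdeal r • ι x m)

include hadd hsmul in
theorem gp_step [NoetherianSpace (MaximalSpectrum R)]
    (F : Set (MaximalSpectrum R)) (𝔞 : Ideal R) (h𝔞 : ∀ x, x ∉ F → ¬ 𝔞 ≤ x.asIdeal)
    (hcl : ∀ (n : ℕ) (mm : Fin n → M) (t : ℕ), IsClosed (F ∪ {x | rk V ι x mm ≤ t}))
    (g : IrreducibleCloseds (MaximalSpectrum R) → ℕ∞)
    (hg : ∀ Z Z' : IrreducibleCloseds (MaximalSpectrum R), Z < Z' → 1 ≤ g Z → g Z + 1 ≤ g Z')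
    {u : ℕ} (m : Fin (u + 1) → M)
    (h : ∀ Z : IrreducibleCloseds (MaximalSpectrum R), ¬ (Z : Set (MaximalSpectrum R)) ⊆ F →
      ∃ x ∈ (Z : Set (MaximalSpectrum R)), x ∉ F ∧
        min ((u + 1 : ℕ) : ℕ∞) (g Z) ≤ (rk V ι x m : ℕ∞)) :
    ∃ a : Fin u → R, (∀ i, a i ∈ 𝔞) ∧
      ∀ Z : IrreducibleCloseds (MaximalSpectrum R), ¬ (Z : Set (MaximalSpectrum R)) ⊆ F →
        ∃ x ∈ (Z : Set (MaximalSpectrum R)), x ∉ F ∧ min (u : ℕ∞) (g Z) ≤
          (rk V ι x (fun i : Fin u => m i.castSucc + a i • m (Fin.last u)) : ℕ∞) := by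
  classical
  have hrk' : ∀ (x : MaximalSpectrum R) (a : Fin u → R),
      rk V ι x (fun i : Fin u => m i.castSucc + a i • m (Fin.last u)) =
        finrank (R ⧸ x.asIdeal) (Submodule.span (R ⧸ x.asIdeal)
          (Set.range fun i : Fin u => (fun i => ι x (m i)) i.castSucc +
            Ideal.Quotient.mk x.asIdeal (a i) • (fun i => ι x (m i)) (Fin.last u))) := by
    intro x a
    have h1 : (fun i : Fin u => ι x (m i.castSucc + a i • m (Fin.last u))) =
        fun i : Fin u => (fun i => ι x (m i)) i.castSucc +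
            Ideal.Quotient.mk x.asIdeal (a i) • (fun i => ι x (m i)) (Fin.last u) :=
      funext fun i => by rw [hadd, hsmul]
    show finrank (R ⧸ x.asIdeal) (Submodule.span (R ⧸ x.asIdeal)
      (Set.range fun i : Fin u => ι x (m i.castSucc + a i • m (Fin.last u)))) = _
    rw [h1]
  have hdrop : ∀ (x : MaximalSpectrum R) (a : Fin u → R),
      rk V ι x m ≤ rk V ι x (fun i : Fin u => m i.castSucc + a i • m (Fin.last u)) + 1 := by
    intro x a
    rw [hrk' x a]
    haveI := x.isMaximal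
    letI : Field (R ⧸ x.asIdeal) := Ideal.Quotient.field x.asIdeal
    exact field_drop (fun i => ι x (m i)) (fun i => Ideal.Quotient.mk x.asIdeal (a i))
  have hcongr : ∀ (x : MaximalSpectrum R) (a b : Fin u → R), (∀ i, a i - b i ∈ x.asIdeal) →
      rk V ι x (fun i : Fin u => m i.castSucc + a i • m (Fin.last u)) =
        rk V ι x (fun i : Fin u => m i.castSucc + b i • m (Fin.last u)) := by
    intro x a b hab
    rw [hrk' x a, hrk' x b]
    have h1 : ∀ i, Ideal.Quotient.mk x.asIdeal (a i) = Ideal.Quotient.mk x.asIdeal (b i) :=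
      fun i => Ideal.Quotient.eq.2 (hab i)
    have h2 : (fun i : Fin u => (fun i => ι x (m i)) i.castSucc +
        Ideal.Quotient.mk x.asIdeal (a i) • (fun i => ι x (m i)) (Fin.last u)) =
        fun i : Fin u => (fun i => ι x (m i)) i.castSucc +
          Ideal.Quotient.mk x.asIdeal (b i) • (fun i => ι x (m i)) (Fin.last u) :=
      funext fun i => by rw [h1 i]
    rw [h2]
  have hstep : ∀ (x : MaximalSpectrum R) (a : Fin u → R), rk V ι x m ≤ u →
      rk V ι x (fun i : Fin u => m i.castSucc + a i • m (Fin.last u)) < rk V ι x m →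
      ∃ j, ∀ r, r ∉ x.asIdeal → rk V ι x m ≤
        rk V ι x (fun i : Fin u =>
          m i.castSucc + (a + (Pi.single j r : Fin u → R)) i • m (Fin.last u)) := by
    intro x a hpu hlt
    rw [hrk' x a] at hlt
    haveI := x.isMaximal
    letI : Field (R ⧸ x.asIdeal) := Ideal.Quotient.field x.asIdeal
    obtain ⟨j, hj⟩ := field_step (fun i => ι x (m i))
      (fun i => Ideal.Quotient.mk x.asIdeal (a i)) hpu hlt
    refine ⟨j, fun r hr => ?_⟩
    have hr0 : Ideal.Quotient.mk x.asIdeal r ≠ 0 := fun h0 =>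
      hr (Ideal.Quotient.eq_zero_iff_mem.1 h0)
    have h6 := hj _ hr0
    rw [hrk' x (a + (Pi.single j r : Fin u → R))]
    have h7 : (fun i : Fin u => (fun i => ι x (m i)) i.castSucc +
        Ideal.Quotient.mk x.asIdeal ((a + (Pi.single j r : Fin u → R)) i) •
          (fun i => ι x (m i)) (Fin.last u)) =
        fun i : Fin u => (fun i => ι x (m i)) i.castSucc +
          (Ideal.Quotient.mk x.asIdeal (a i) +
            if i = j then Ideal.Quotient.mk x.asIdeal r else 0) •
          (fun i => ι x (m i)) (Fin.last u) := by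
      funext i
      congr 2
      rw [Pi.add_apply, map_add, Pi.single_apply]
      congr 1
      split_ifs <;> simp
    rw [h7]
    exact h6
  -- the closed loci and the generic rank `r Z`
  let C : ℕ → Set (MaximalSpectrum R) := fun t => F ∪ {x | rk V ι x m ≤ t}
  have hC : ∀ t, IsClosed (C t) := fun t => hcl _ m t
  have hex : ∀ Z : IrreducibleCloseds (MaximalSpectrum R),
      ∃ t, (Z : Set (MaximalSpectrum R)) ⊆ C t :=
    fun Z => ⟨u + 1, fun x _ => Or.inr (rk_le_card V ι x m)⟩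
  let r : IrreducibleCloseds (MaximalSpectrum R) → ℕ := fun Z => Nat.find (hex Z)
  have hr1 : ∀ Z : IrreducibleCloseds (MaximalSpectrum R),
      (Z : Set (MaximalSpectrum R)) ⊆ C (r Z) := fun Z => Nat.find_spec (hex Z)
  have hr_le : ∀ (Z : IrreducibleCloseds (MaximalSpectrum R)) (t : ℕ),
      (Z : Set (MaximalSpectrum R)) ⊆ C t → r Z ≤ t := fun Z t ht => Nat.find_min' (hex Z) ht
  have hr3 : ∀ (Z : IrreducibleCloseds (MaximalSpectrum R)) (x : MaximalSpectrum R),
      x ∈ (Z : Set (MaximalSpectrum R)) → x ∉ F → rk V ι x m ≤ r Z := by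
    intro Z x hx hxF
    rcases hr1 Z hx with h1 | h1
    · exact absurd h1 hxF
    · exact h1
  have hr2 : ∀ Z : IrreducibleCloseds (MaximalSpectrum R),
      ¬ (Z : Set (MaximalSpectrum R)) ⊆ F →
      ∃ x ∈ (Z : Set (MaximalSpectrum R)), x ∉ F ∧ rk V ι x m = r Z := by
    intro Z hZF
    rcases Nat.eq_zero_or_pos (r Z) with h0 | hpos
    · obtain ⟨x, hxZ, hxF⟩ := Set.not_subset.1 hZF
      have := hr3 Z x hxZ hxF
      exact ⟨x, hxZ, hxF, by omega⟩
    · have hnot : ¬ (Z : Set (MaximalSpectrum R)) ⊆ C (r Z - 1) := fun hsub => by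
        have := hr_le Z _ hsub
        omega
      obtain ⟨x, hxZ, hxC⟩ := Set.not_subset.1 hnot
      have hxF : x ∉ F := fun hF' => hxC (Or.inl hF')
      have h2 : ¬ rk V ι x m ≤ r Z - 1 := fun h' => hxC (Or.inr h')
      have := hr3 Z x hxZ hxF
      exact ⟨x, hxZ, hxF, by omega⟩
  have hr4 : ∀ Z : IrreducibleCloseds (MaximalSpectrum R),
      ¬ (Z : Set (MaximalSpectrum R)) ⊆ F →
      min ((u + 1 : ℕ) : ℕ∞) (g Z) ≤ (r Z : ℕ∞) := by
    intro Z hZF
    obtain ⟨x, hxZ, hxF, hx⟩ := h Z hZF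
    exact hx.trans (by exact_mod_cast hr3 Z x hxZ hxF)
  -- the bad set
  let E : Set (IrreducibleCloseds (MaximalSpectrum R)) :=
    {Z | ¬ (Z : Set (MaximalSpectrum R)) ⊆ F ∧ (r Z : ℕ∞) = g Z ∧ r Z ≤ u ∧ 1 ≤ g Z}
  have hmaxfin : ∀ (Cc : Set (MaximalSpectrum R)), IsClosed Cc →
      {Z : IrreducibleCloseds (MaximalSpectrum R) | (Z : Set (MaximalSpectrum R)) ⊆ Cc ∧
        ∀ Z' : IrreducibleCloseds (MaximalSpectrum R),
          (Z' : Set (MaximalSpectrum R)) ⊆ Cc → Z ≤ Z' → Z' ≤ Z}.Finite := by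
    intro Cc hCc
    obtain ⟨S, hSf, hSc, hSi, hSU⟩ :=
      NoetherianSpace.exists_finite_set_isClosed_irreducible hCc
    refine Set.Finite.subset (Set.Finite.preimage
      (f := fun Z : IrreducibleCloseds (MaximalSpectrum R) => (Z : Set (MaximalSpectrum R)))
      (fun a _ b _ hab => SetLike.coe_injective hab) hSf) ?_
    rintro Z ⟨hZC, hZmax⟩
    lift S to Finset (Set (MaximalSpectrum R)) using hSf
    obtain ⟨t, htS, hZt⟩ :=
      isIrreducible_iff_sUnion_isClosed.1 Z.isIrreducible S hSc (hSU ▸ hZC)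
    let Zt : IrreducibleCloseds (MaximalSpectrum R) := ⟨t, hSi t htS, hSc t htS⟩
    have h1 : Zt ≤ Z := hZmax Zt (by rw [hSU]; exact Set.subset_sUnion_of_mem htS)
      (SetLike.coe_subset_coe.1 hZt)
    have h2 : (Z : Set (MaximalSpectrum R)) = t :=
      Set.Subset.antisymm hZt (SetLike.coe_subset_coe.2 h1)
    show (Z : Set (MaximalSpectrum R)) ∈ (S : Set (Set (MaximalSpectrum R)))
    rw [h2]
    exact htS
  have hEsub : E ⊆ ⋃ t ∈ Set.Iio (u + 1),
      {Z : IrreducibleCloseds (MaximalSpectrum R) | (Z : Set (MaximalSpectrum R)) ⊆ C t ∧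
        ∀ Z' : IrreducibleCloseds (MaximalSpectrum R),
          (Z' : Set (MaximalSpectrum R)) ⊆ C t → Z ≤ Z' → Z' ≤ Z} := by
    rintro Z ⟨hZF, hZg, hZu, hZ1⟩
    refine Set.mem_iUnion₂.2 ⟨r Z, Nat.lt_succ_of_le hZu, hr1 Z, fun Z' hZ'C hZZ' => ?_⟩
    by_contra hnle
    have hlt : Z < Z' := lt_of_le_not_ge hZZ' hnle
    have hZ'F : ¬ (Z' : Set (MaximalSpectrum R)) ⊆ F :=
      fun hsub => hZF ((SetLike.coe_subset_coe.2 hZZ').trans hsub)
    have h1 : g Z + 1 ≤ g Z' := hg Z Z' hlt hZ1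
    have h2 := hr4 Z' hZ'F
    have h3 : r Z' ≤ r Z := hr_le Z' _ hZ'C
    have h4 : ((r Z + 1 : ℕ) : ℕ∞) ≤ min ((u + 1 : ℕ) : ℕ∞) (g Z') := by
      refine le_min (by exact_mod_cast Nat.succ_le_succ hZu) ?_
      push_cast
      rw [hZg]
      exact h1
    have h5 : ((r Z + 1 : ℕ) : ℕ∞) ≤ (r Z : ℕ∞) :=
      h4.trans (h2.trans (by exact_mod_cast h3))
    have h6 : r Z + 1 ≤ r Z := by exact_mod_cast h5
    omega
  have hEfin : E.Finite :=
    Set.Finite.subset (Set.Finite.biUnion (Set.finite_Iio (u + 1))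
      (fun t _ => hmaxfin (C t) (hC t))) hEsub
  choose pt hpt using hr2
  let P : Finset (MaximalSpectrum R) :=
    hEfin.toFinset.attach.image (fun Z => pt Z.1 (hEfin.mem_toFinset.1 Z.2).1)
  have hPmem : ∀ (Z : IrreducibleCloseds (MaximalSpectrum R)) (hZ : Z ∈ E), pt Z hZ.1 ∈ P :=
    fun Z hZ => Finset.mem_image.2 ⟨⟨Z, hEfin.mem_toFinset.2 hZ⟩, Finset.mem_attach _ _, rfl⟩
  have hPex : ∀ p ∈ P, ∃ (Z : IrreducibleCloseds (MaximalSpectrum R)) (hZ : Z ∈ E),
      p = pt Z hZ.1 := by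
    intro p hp
    obtain ⟨Z, -, rfl⟩ := Finset.mem_image.1 hp
    exact ⟨Z.1, hEfin.mem_toFinset.1 Z.2, rfl⟩
  obtain ⟨a, ha𝔞, ha⟩ := avoidM (k := u) 𝔞
    (fun p => {a | rk V ι p m ≤
      rk V ι p (fun i : Fin u => m i.castSucc + a i • m (Fin.last u))}) P
    (by
      intro p hp
      obtain ⟨Z, hZ, rfl⟩ := hPex p hp
      exact h𝔞 _ (hpt Z hZ.1).2.1)
    (by
      intro p _ a b hab hmem
      show rk V ι p m ≤ rk V ι p (fun i : Fin u => m i.castSucc + b i • m (Fin.last u))
      rw [← hcongr p a b hab]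
      exact hmem)
    (by
      intro p hp a hmem
      obtain ⟨Z, hZ, rfl⟩ := hPex p hp
      have hpu : rk V ι (pt Z hZ.1) m ≤ u := by
        rw [(hpt Z hZ.1).2.2]
        exact hZ.2.2.1
      have hlt : rk V ι (pt Z hZ.1) (fun i : Fin u => m i.castSucc + a i • m (Fin.last u)) <
          rk V ι (pt Z hZ.1) m := not_le.1 hmem
      exact hstep (pt Z hZ.1) a hpu hlt)
  refine ⟨a, ha𝔞, fun Z hZF => ?_⟩
  obtain ⟨hptZ, hptF, hptr⟩ := hpt Z hZF
  refine ⟨pt Z hZF, hptZ, hptF, ?_⟩
  by_cases hZE : Z ∈ E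
  · have h1 : rk V ι (pt Z hZF) m ≤
        rk V ι (pt Z hZF) (fun i : Fin u => m i.castSucc + a i • m (Fin.last u)) :=
      ha _ (hPmem Z hZE)
    calc min (u : ℕ∞) (g Z) ≤ g Z := min_le_right _ _
      _ = (r Z : ℕ∞) := hZE.2.1.symm
      _ = (rk V ι (pt Z hZF) m : ℕ∞) := by rw [hptr]
      _ ≤ _ := by exact_mod_cast h1
  · by_cases hg1 : 1 ≤ g Z
    · refine enat_key u (g Z) (rk V ι (pt Z hZF) m) _ ?_ (hdrop _ a) ?_
      · rw [hptr]
        exact hr4 Z hZF
      · rintro ⟨hc1, hc2⟩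
        exact hZE ⟨hZF, by rw [← hptr]; exact hc1, by rw [← hptr]; exact hc2, hg1⟩
    · have h0 : g Z = 0 := ENat.lt_one_iff_eq_zero.1 (not_le.1 hg1)
      rw [h0]
      simp

include hadd hsmul in
theorem gp_iter [NoetherianSpace (MaximalSpectrum R)]
    (F : Set (MaximalSpectrum R)) (𝔞 : Ideal R) (h𝔞 : ∀ x, x ∉ F → ¬ 𝔞 ≤ x.asIdeal)
    (hcl : ∀ (n : ℕ) (mm : Fin n → M) (t : ℕ), IsClosed (F ∪ {x | rk V ι x mm ≤ t}))
    (g : IrreducibleCloseds (MaximalSpectrum R) → ℕ∞)
    (hg : ∀ Z Z' : IrreducibleCloseds (MaximalSpectrum R), Z < Z' → 1 ≤ g Z → g Z + 1 ≤ g Z') :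
    ∀ (k : ℕ) (m : Fin (k + 1) → M),
      (∀ Z : IrreducibleCloseds (MaximalSpectrum R), ¬ (Z : Set (MaximalSpectrum R)) ⊆ F →
        ∃ x ∈ (Z : Set (MaximalSpectrum R)), x ∉ F ∧
          min ((k + 1 : ℕ) : ℕ∞) (g Z) ≤ (rk V ι x m : ℕ∞)) →
      ∃ y ∈ (𝔞 • ⊤ : Submodule R M),
        ∀ Z : IrreducibleCloseds (MaximalSpectrum R), ¬ (Z : Set (MaximalSpectrum R)) ⊆ F →
          1 ≤ g Z → ∃ x ∈ (Z : Set (MaximalSpectrum R)), x ∉ F ∧
            1 ≤ rk V ι x (fun _ : Fin 1 => m 0 + y) := by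
  intro k
  induction k with
  | zero =>
    intro m h
    refine ⟨0, Submodule.zero_mem _, fun Z hZF hg1 => ?_⟩
    obtain ⟨x, hxZ, hxF, hx⟩ := h Z hZF
    refine ⟨x, hxZ, hxF, ?_⟩
    have h3 : min (((0 + 1 : ℕ) : ℕ∞)) (g Z) = 1 := by
      rw [min_eq_left]
      · simp
      · simpa using hg1
    rw [h3] at hx
    have hm : (fun _ : Fin 1 => m 0 + 0) = m := by
      funext i
      rw [add_zero]
      exact congrArg m (Fin.fin_one_eq_zero i).symm
    rw [hm]
    exact_mod_cast hx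
  | succ k ih =>
    intro m h
    obtain ⟨a, ha𝔞, ha⟩ := gp_step V ι hadd hsmul F 𝔞 h𝔞 hcl g hg m h
    obtain ⟨y', hy', hy'X⟩ :=
      ih (fun i => m i.castSucc + a i • m (Fin.last (k + 1))) ha
    refine ⟨a 0 • m (Fin.last (k + 1)) + y', ?_, ?_⟩
    · exact Submodule.add_mem _ (Submodule.smul_mem_smul (ha𝔞 0) Submodule.mem_top) hy'
    · intro Z hZF hg1
      obtain ⟨x, hxZ, hxF, hx⟩ := hy'X Z hZF hg1
      refine ⟨x, hxZ, hxF, ?_⟩
      have h5 : (fun _ : Fin 1 => m 0 + (a 0 • m (Fin.last (k + 1)) + y')) =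
          fun _ : Fin 1 => (m (0 : Fin (k + 1)).castSucc + a 0 • m (Fin.last (k + 1))) + y' := by
        funext _
        rw [Fin.castSucc_zero]
        abel
      rw [h5]
      exact hx

end gp

end Groth.Agent.Lib.Lead.GenPosMax
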