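import Groth.Agent.Lib.Lead.C1Flat
import Groth.Agent.Lib.Lead.CycClosed
import Groth.Agent.Lib.Lead.GysinFlat
import Groth.Agent.Lib.Helper22.FibReg

/-!
# Gysin maps and flat pullback (toolkit for S1933)

* `pullFun_c1Cap_pointwise`: the pointwise identity behind S1946: the flat pullback of
  `c_1(L) ∩ α` is `c_1(p^*L) ∩ p^*α` computed with the pulled back rational sections;
* `length_fibre_pullback`: for the base change `D' = X' ×_X D` of a closed immersion, the
  multiplicity of the fibre of `D' → D` at `z` equals that of `X' → X` at the image of `z`;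
* `exists_unit_mul_of_span_eq`: in a local ring, generators of the same principal ideal differ by
  a unit;
* `ker_stalkMap_eq_span_of_isZeroSchemeOf`, `map_germ_ker_eq_span`: the ideal of a zero scheme in
  local coordinates;
* `secOrdAt_gysin_eq`: at a point outside `D'`, the order of `s'` along a specialization into `D'`
  agrees with the order of the pulled back section `f^* s`.
-/

set_option autoImplicit false
set_option linter.style.haveILetI false
universe u
open CategoryTheory CategoryTheory.Limits AlgebraicGeometry TopologicalSpace Opposite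
open Scheme.Modules

namespace Groth.Agent.Lib.Lead.GysinPull

open Groth.Agent.Lib.Helper3 Groth.Agent.Lib.Helper3.QCSec Groth.Agent.Lib.Helper3.InvGen
  Groth.Agent.Lib.Helper3.PbBasic Groth.Agent.Lib.Lead.C1Cap Groth.Agent.Lib.Lead.C1Pull
  Groth.Agent.Lib.Lead.C1Flat Groth.Agent.Lib.Lead.CycPull Groth.Agent.Lib.Helper23.CycLib
  Groth.Agent.S1940 Groth.Agent.Lib.Lead.GysinFlat Groth.Agent.Lib.Helper22

/-- The pointwise form of S1946. -/
theorem pullFun_c1Cap_pointwise (X X' : Scheme.{u}) (δ : X → ℤ) (δ' : X' → ℤ)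
    [IsLocallyNoetherian X] [IsLocallyNoetherian X']
    (hdimX : Cyc.IsDimFun X δ) (hdimX' : Cyc.IsDimFun X' δ') (p : X' ⟶ X) [Flat p] (c : ℤ)
    (hc : ∀ x' : X', (∀ y, p y = p x' → y ⤳ x' → y = x') → δ' x' = δ (p x') + c)
    (L : X.Modules) (hL : PicF.IsInvertible L) (k : ℤ) (α : AlgebraicCycle X ℤ)
    (hα : α ∈ Cyc.Zk X δ k) (v : (ξ : X) → Cyc.secFibre L ξ) (hv : ∀ ξ, v ξ ≠ 0)
    (α' : AlgebraicCycle X' ℤ) (hα'fun : ⇑α' = Cyc.pullFun p δ' δ c ⇑α)
    (u' : (ξ' : X') → Cyc.secFibre ((Scheme.Modules.pullback p).obj L) ξ')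
    (hord : ∀ (ξ' x' : X') (h : ξ' ⤳ x') (V' : X.Opens) (e' : Γ(L, V')), IsGen L V' e' →
        p x' ∈ V' → ∀ (hξV' : p ξ' ∈ V') (φ : X.presheaf.stalk (p ξ')),
        v (p ξ') = Submodule.Quotient.mk (φ • L.presheaf.germ V' (p ξ') hξV' e') →
        Cyc.secOrdAt ((Scheme.Modules.pullback p).obj L) ξ' x' h (u' ξ') =
          Cyc.ordAt x' ξ' h ((p.residueFieldMap ξ').hom (X.residue (p ξ') φ)))
    (x' : X') :
    Cyc.pullFun p δ' δ c (Cyc.c1CapFun δ L ⇑α v) x' =
      ∑ᶠ ξ' : X', α' ξ' * Cyc.secDivFun δ' ((Scheme.Modules.pullback p).obj L) ξ' (u' ξ') x' := by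
  classical
  obtain ⟨U, e, hxU, hg⟩ := exists_isGen hL (p x')
  have hcoord : ∀ ξ : X, ∃ φ : X.presheaf.stalk ξ, IsUnit φ ∧ ∀ hξU : ξ ∈ U,
      v ξ = Submodule.Quotient.mk (φ • L.presheaf.germ U ξ hξU e) := by
    intro ξ
    by_cases hξU : ξ ∈ U
    · obtain ⟨φ, hφ, hvφ⟩ := exists_coord_unit hg ξ hξU (v ξ) (hv ξ)
      exact ⟨φ, hφ, fun _ => hvφ⟩
    · exact ⟨1, isUnit_one, fun h => absurd h hξU⟩
  choose φ hφu hφv using hcoord
  have hcongr : ∀ (y y' : X) (e : y = y'),
      (X.residueFieldCongr e).hom (X.residue y (φ y)) = X.residue y' (φ y') := by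
    intro y y' e
    subst e
    rw [Scheme.residueFieldCongr_refl]
    rfl
  obtain ⟨ff, hffdef⟩ : ∃ ff : (i : {ξ : X // α ξ ≠ 0}) → X.residueField i.1,
      ∀ i, ff i = (X.residue i.1 (φ i.1)) ^ (α i.1) := ⟨_, fun _ => rfl⟩
  have hδξ : ∀ i : {ξ : X // α ξ ≠ 0}, δ i.1 = k - 1 + 1 := by
    intro i
    rw [sub_add_cancel]
    by_contra hne
    exact i.2 (hα i.1 hne)
  have hff0 : ∀ i : {ξ : X // α ξ ≠ 0}, ff i ≠ 0 := by
    intro i
    rw [hffdef i]
    exact zpow_ne_zero _ ((hφu i.1).map (X.residue i.1).hom).ne_zero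
  have hterm : ∀ ξ : X, α ξ * Cyc.secDivFun δ L ξ (v ξ) (p x') =
      Cyc.divFun δ ξ ((X.residue ξ (φ ξ)) ^ (α ξ)) (p x') := by
    intro ξ
    rw [divFun_zpow]
    congr 1
    unfold Cyc.secDivFun Cyc.divFun
    split_ifs with hcnd
    · have hξU : ξ ∈ U := hcnd.1.mem_open U.2 hxU
      rw [hφv ξ hξU]
      exact secOrdAt_eq hg hcnd.1 hxU (φ ξ) (hφu ξ)
    · rfl
  have ha : Cyc.c1CapFun δ L ⇑α v (p x') = ∑ᶠ i : {ξ : X // α ξ ≠ 0}, Cyc.divFun δ i.1 (ff i) (p x') := by
    show (∑ᶠ ξ : X, α ξ * Cyc.secDivFun δ L ξ (v ξ) (p x')) = _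
    have h1 : ∀ i : {ξ : X // α ξ ≠ 0}, Cyc.divFun δ i.1 (ff i) (p x') =
        (fun ξ : X => α ξ * Cyc.secDivFun δ L ξ (v ξ) (p x')) i.1 := by
      intro i
      rw [hffdef i]
      exact (hterm i.1).symm
    rw [finsum_congr h1,
      finsum_subtype_eq_finsum_cond (f := fun ξ : X => α ξ * Cyc.secDivFun δ L ξ (v ξ) (p x'))
        (fun ξ => α ξ ≠ 0)]
    refine finsum_congr (fun ξ => ?_)
    rw [finsum_eq_if]
    split_ifs with h0
    · rfl
    · have h0' : α ξ = 0 := not_not.mp h0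
      rw [h0', zero_mul]
  have ha0 : δ (p x') ≠ k - 1 → Cyc.c1CapFun δ L ⇑α v (p x') = 0 := by
    intro hk
    show (∑ᶠ ξ : X, α ξ * Cyc.secDivFun δ L ξ (v ξ) (p x')) = 0
    apply finsum_eq_zero_of_forall_eq_zero
    intro ξ
    by_cases h0 : α ξ = 0
    · rw [h0, zero_mul]
    · have hδ : δ ξ = k := by
        by_contra hne
        exact h0 (hα ξ hne)
      have h2 : Cyc.secDivFun δ L ξ (v ξ) (p x') = 0 := by
        unfold Cyc.secDivFun
        rw [dif_neg]
        rintro ⟨-, h3⟩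
        apply hk
        omega
      rw [h2, mul_zero]
  have hpt := pull_point_formula δ δ' hdimX hdimX' p c hc (k - 1) (Subtype.val : {ξ : X // α ξ ≠ 0} → X) ff hδξ hff0 x'
    (Cyc.c1CapFun δ L ⇑α v (p x')) (fun _ => ha) ha0
  have hLHS : Cyc.pullFun p δ' δ c (Cyc.c1CapFun δ L ⇑α v) x' =
      (if δ' x' = δ (p x') + c then Cyc.c1CapFun δ L ⇑α v (p x') * mult p x' else 0) := rfl
  have he : Function.Injective (fun j : (Σ i : {ξ : X // α ξ ≠ 0}, SIdx p (Subtype.val : {ξ : X // α ξ ≠ 0} → X) i) => j.2.1) := by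
    rintro ⟨i, a⟩ ⟨i', a'⟩ h
    have h' : a.1 = a'.1 := h
    have h1 : p a.1 = i.1 := a.2.1
    have h2 : p a'.1 = i'.1 := a'.2.1
    have hi : i = i' := Subtype.ext (by rw [← h1, ← h2, h'])
    subst hi
    have haa : a = a' := Subtype.ext h'
    rw [haa]
  have claimA : ∀ j : (Σ i : {ξ : X // α ξ ≠ 0}, SIdx p (Subtype.val : {ξ : X // α ξ ≠ 0} → X) i),
      α' j.2.1 * Cyc.secDivFun δ' ((Scheme.Modules.pullback p).obj L) j.2.1 (u' j.2.1) x' =
        Cyc.divFun δ' j.2.1 (pfn p (Subtype.val : {ξ : X // α ξ ≠ 0} → X) ff j) x' := by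
    rintro ⟨i, s⟩
    have hps : p s.1 = i.1 := s.2.1
    have hgen_s : ∀ y, p y = p s.1 → y ⤳ s.1 → y = s.1 := s.2.2
    have hδs : δ' s.1 = δ (p s.1) + c := hc s.1 hgen_s
    have hαs : α' s.1 = α (p s.1) * mult p s.1 := by
      rw [congrFun hα'fun s.1]
      exact if_pos hδs
    show α' s.1 * Cyc.secDivFun δ' ((Scheme.Modules.pullback p).obj L) s.1 (u' s.1) x' =
      Cyc.divFun δ' s.1 (pfn p (Subtype.val : {ξ : X // α ξ ≠ 0} → X) ff ⟨i, s⟩) x'
    by_cases hcnd : s.1 ⤳ x' ∧ δ' x' + 1 = δ' s.1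
    · have hpos := divFun_pfn_pos p (Subtype.val : {ξ : X // α ξ ≠ 0} → X) ff δ' ⟨i, s⟩ x' hcnd.1 hcnd.2
      have hsec : Cyc.secDivFun δ' ((Scheme.Modules.pullback p).obj L) s.1 (u' s.1) x' =
          Cyc.secOrdAt ((Scheme.Modules.pullback p).obj L) s.1 x' hcnd.1 (u' s.1) := dif_pos hcnd
      have hξU : p s.1 ∈ U := (p.base.hom.map_specializes hcnd.1).mem_open U.2 hxU
      have hpb : pbase p (Subtype.val : {ξ : X // α ξ ≠ 0} → X) ff ⟨i, s⟩ =
          ((p.residueFieldMap s.1).hom (X.residue (p s.1) (φ (p s.1)))) ^ (α i.1) := by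
        show (p.residueFieldMap s.1).hom ((X.residueFieldCongr hps.symm).hom (ff i)) = _
        rw [hffdef i, map_zpow₀, map_zpow₀, hcongr i.1 (p s.1) hps.symm]
      have hαeq : α (p s.1) = α i.1 := congrArg (fun y => α y) hps
      have hm : mult p s.1 = (multN p s.1 : ℤ) := rfl
      refine Eq.trans ?_ hpos.symm
      rw [hsec, hord s.1 x' hcnd.1 U e hg hxU hξU (φ (p s.1)) (hφv (p s.1) hξU), hαs, hpb,
        ordAt_zpow, hαeq, hm]
      ring
    · have hneg := divFun_pfn_neg p (Subtype.val : {ξ : X // α ξ ≠ 0} → X) ff δ' ⟨i, s⟩ x' hcnd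
      have hsec : Cyc.secDivFun δ' ((Scheme.Modules.pullback p).obj L) s.1 (u' s.1) x' = 0 := dif_neg hcnd
      rw [hsec, mul_zero]
      exact hneg.symm
  have h2 : ∀ ξ' : X', ξ' ∉ Set.range (fun j : (Σ i : {ξ : X // α ξ ≠ 0}, SIdx p (Subtype.val : {ξ : X // α ξ ≠ 0} → X) i) => j.2.1) →
      α' ξ' * Cyc.secDivFun δ' ((Scheme.Modules.pullback p).obj L) ξ' (u' ξ') x' = 0 := by
    intro ξ' hξ'
    by_contra hne
    apply hξ'
    have h0 : α' ξ' ≠ 0 := fun h0 => hne (by rw [h0, zero_mul])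
    rw [congrFun hα'fun ξ'] at h0
    obtain ⟨h1, hgen'⟩ := pullFun_ne_zero p δ δ' hdimX' c hc ⇑α ξ' h0
    exact ⟨⟨⟨p ξ', h1⟩, ⟨ξ', rfl, hgen'⟩⟩, rfl⟩
  have hTfin : (Function.support (fun j : (Σ i : {ξ : X // α ξ ≠ 0}, SIdx p (Subtype.val : {ξ : X // α ξ ≠ 0} → X) i) =>
      Cyc.divFun δ' j.2.1 (pfn p (Subtype.val : {ξ : X // α ξ ≠ 0} → X) ff j) x')).Finite := by
    refine ((c1_support_finite δ' ((Scheme.Modules.pullback p).obj L) α' u' x').preimage he.injOn).subset ?_
    intro j hj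
    show α' j.2.1 * Cyc.secDivFun δ' ((Scheme.Modules.pullback p).obj L) j.2.1 (u' j.2.1) x' ≠ 0
    rw [claimA j]
    exact hj
  have e1 : (∑ᶠ i : {ξ : X // α ξ ≠ 0}, ∑ᶠ s : SIdx p (Subtype.val : {ξ : X // α ξ ≠ 0} → X) i, Cyc.divFun δ' s.1 (pfn p (Subtype.val : {ξ : X // α ξ ≠ 0} → X) ff ⟨i, s⟩) x') =
      ∑ᶠ j : (Σ i : {ξ : X // α ξ ≠ 0}, SIdx p (Subtype.val : {ξ : X // α ξ ≠ 0} → X) i), Cyc.divFun δ' j.2.1 (pfn p (Subtype.val : {ξ : X // α ξ ≠ 0} → X) ff j) x' :=
    (finsum_sigma' (fun j : (Σ i : {ξ : X // α ξ ≠ 0}, SIdx p (Subtype.val : {ξ : X // α ξ ≠ 0} → X) i) =>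
      Cyc.divFun δ' j.2.1 (pfn p (Subtype.val : {ξ : X // α ξ ≠ 0} → X) ff j) x') hTfin).symm
  have e2 : (∑ᶠ ξ' : X', α' ξ' * Cyc.secDivFun δ' ((Scheme.Modules.pullback p).obj L) ξ' (u' ξ') x') =
      ∑ᶠ j : (Σ i : {ξ : X // α ξ ≠ 0}, SIdx p (Subtype.val : {ξ : X // α ξ ≠ 0} → X) i), Cyc.divFun δ' j.2.1 (pfn p (Subtype.val : {ξ : X // α ξ ≠ 0} → X) ff j) x' :=
    finsum_eq_of_injective_of_support (fun j : (Σ i : {ξ : X // α ξ ≠ 0}, SIdx p (Subtype.val : {ξ : X // α ξ ≠ 0} → X) i) => j.2.1) he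
      (fun ξ' : X' => α' ξ' * Cyc.secDivFun δ' ((Scheme.Modules.pullback p).obj L) ξ' (u' ξ') x') _ claimA h2
  exact hLHS.trans (hpt.trans (e1.trans e2.symm))

/-- In a local ring, two generators of the same principal ideal differ by a unit. -/
theorem exists_unit_mul_of_span_eq {R : Type*} [CommRing R] [IsLocalRing R] (a b : R)
    (h : Ideal.span {a} = Ideal.span {b}) : ∃ u : R, IsUnit u ∧ a = u * b := by
  have ha : a ∈ Ideal.span {b} := by
    rw [← h]
    exact Ideal.subset_span rfl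
  have hb : b ∈ Ideal.span {a} := by
    rw [h]
    exact Ideal.subset_span rfl
  obtain ⟨u₁, hu₁⟩ := Ideal.mem_span_singleton'.mp ha
  obtain ⟨u₂, hu₂⟩ := Ideal.mem_span_singleton'.mp hb
  by_cases hu : IsUnit u₁
  · exact ⟨u₁, hu, hu₁.symm⟩
  · have h1 : IsUnit (1 - u₁ * u₂) :=
      IsLocalRing.isUnit_one_sub_self_of_mem_nonunits _
        (fun hc => hu (isUnit_of_mul_isUnit_left hc))
    have h2 : (1 - u₁ * u₂) * a = 0 := by
      have h3 : u₁ * u₂ * a = a := by rw [mul_assoc, hu₂, hu₁]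
      rw [sub_mul, one_mul, h3, sub_self]
    have ha0 : a = 0 := h1.mul_right_eq_zero.mp h2
    have hb0 : b = 0 := by rw [← hu₂, ha0, mul_zero]
    exact ⟨1, isUnit_one, by rw [ha0, hb0, mul_zero]⟩

variable {X X' D : Scheme.{u}}

theorem pullback_cond_apply (f : X' ⟶ X) (i : D ⟶ X) (z : ↥(pullback f i)) :
    i (pullback.snd f i z) = f (pullback.fst f i z) := by
  rw [← Scheme.Hom.comp_apply, ← Scheme.Hom.comp_apply, pullback.condition]

theorem map_comp_maximalIdeal_eq {W : Scheme.{u}} (f : X' ⟶ X) (i : D ⟶ X) (p1 : W ⟶ X')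
    (p2 : W ⟶ D) (e : p1 ≫ f = p2 ≫ i) (z : W) :
    Ideal.map ((p1.stalkMap z).hom.comp (f.stalkMap (p1 z)).hom)
        (IsLocalRing.maximalIdeal (X.presheaf.stalk (f (p1 z)))) =
      Ideal.map ((p2.stalkMap z).hom.comp (i.stalkMap (p2 z)).hom)
        (IsLocalRing.maximalIdeal (X.presheaf.stalk (i (p2 z)))) := by
  have key : ∀ (h h' : W ⟶ X) (_ : h = h'),
      Ideal.map (h.stalkMap z).hom (IsLocalRing.maximalIdeal (X.presheaf.stalk (h z))) =
        Ideal.map (h'.stalkMap z).hom (IsLocalRing.maximalIdeal (X.presheaf.stalk (h' z))) := by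
    intro h h' e
    subst e
    rfl
  have h0 := key _ _ e
  rw [Scheme.Hom.stalkMap_comp, Scheme.Hom.stalkMap_comp] at h0
  exact h0

/-- The fibre multiplicity of the base change of a closed immersion. -/
theorem length_fibre_pullback (f : X' ⟶ X) (i : D ⟶ X) [IsClosedImmersion i]
    (z : ↥(pullback f i)) :
    Module.length ((pullback f i).presheaf.stalk z)
        ((pullback f i).presheaf.stalk z ⧸ Ideal.map ((pullback.snd f i).stalkMap z).hom
          (IsLocalRing.maximalIdeal (D.presheaf.stalk (pullback.snd f i z)))) =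
      Module.length (X'.presheaf.stalk (pullback.fst f i z))
        (X'.presheaf.stalk (pullback.fst f i z) ⧸
          Ideal.map (f.stalkMap (pullback.fst f i z)).hom
            (IsLocalRing.maximalIdeal (X.presheaf.stalk (f (pullback.fst f i z))))) := by
  have hψ : Function.Surjective ((pullback.fst f i).stalkMap z).hom :=
    (pullback.fst f i).stalkMap_surjective z
  have h1 := length_quot_map_of_surjective ((pullback.fst f i).stalkMap z).hom hψ
    (Ideal.map (f.stalkMap (pullback.fst f i z)).hom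
      (IsLocalRing.maximalIdeal (X.presheaf.stalk (f (pullback.fst f i z)))))
  have h2 : (Ideal.map (f.stalkMap (pullback.fst f i z)).hom
      (IsLocalRing.maximalIdeal (X.presheaf.stalk (f (pullback.fst f i z))))).map
        ((pullback.fst f i).stalkMap z).hom =
      Ideal.map ((pullback.snd f i).stalkMap z).hom
        (IsLocalRing.maximalIdeal (D.presheaf.stalk (pullback.snd f i z))) := by
    rw [Ideal.map_map, map_comp_maximalIdeal_eq f i _ _ pullback.condition z, ← Ideal.map_map,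
      IsLocalRing.map_maximalIdeal_of_surjective _ (i.stalkMap_surjective _)]
  have h3 : RingHom.ker ((pullback.fst f i).stalkMap z).hom ≤
      Ideal.map (f.stalkMap (pullback.fst f i z)).hom
        (IsLocalRing.maximalIdeal (X.presheaf.stalk (f (pullback.fst f i z)))) := by
    obtain ⟨U₁, hU₁, hxU₁, -⟩ := exists_isAffineOpen_mem_and_subset
      (x := f (pullback.fst f i z)) (U := ⊤) (TopologicalSpace.Opens.mem_top _)
    have hk := FibReg.ker_stalkMap_of_isPullback (IsPullback.of_hasPullback f i).flip hU₁ z hxU₁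
    rw [hk]
    apply Ideal.map_mono
    apply IsLocalRing.le_maximalIdeal
    intro htop
    rw [htop, Ideal.map_top] at hk
    have h4 : (1 : X'.presheaf.stalk (pullback.fst f i z)) ∈
        RingHom.ker ((pullback.fst f i).stalkMap z).hom := by
      rw [hk]
      trivial
    rw [RingHom.mem_ker, map_one] at h4
    exact one_ne_zero h4
  rw [← h2, h1, sup_eq_left.mpr h3]

/-- The ideal of a zero scheme in local coordinates. -/
theorem ker_stalkMap_eq_span_of_isZeroSchemeOf (i : D ⟶ X) {L : X.Modules}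
    {s : L.presheaf.obj (Opposite.op ⊤)} (hD : Cyc.IsZeroSchemeOf i L s) (d : D)
    {U : X.Opens} {e : Γ(L, U)} (hg : IsGen L U e) (hxU : i d ∈ U) (c : X.presheaf.stalk (i d))
    (hc : L.presheaf.germ ⊤ (i d) trivial s = c • L.presheaf.germ U (i d) hxU e) :
    RingHom.ker (i.stalkMap d).hom = Ideal.span {c} := by
  obtain ⟨t₀, f₀, ht₀, hs₀, hker⟩ := hD.2 d
  obtain ⟨u₀, hu₀, rfl⟩ := exists_unit_of_span hg (i d) hxU t₀ ht₀
  have hcf : c = f₀ * u₀ := by
    have h0 : (c - f₀ * u₀) • L.presheaf.germ U (i d) hxU e = 0 := by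
      rw [sub_smul, mul_smul, ← hs₀, ← hc, sub_self]
    exact sub_eq_zero.mp (stalk_inj hg (i d) hxU _ h0)
  rw [hker, hcf, Ideal.span_singleton_mul_right_unit hu₀]

theorem map_germ_ker_eq_span (i : D ⟶ X) [IsClosedImmersion i] {L : X.Modules}
    {s : L.presheaf.obj (Opposite.op ⊤)} (hD : Cyc.IsZeroSchemeOf i L s) (d : D) (x : X)
    (hx : i d = x) {U₁ : X.Opens} (hU₁ : IsAffineOpen U₁) (hxU₁ : x ∈ U₁)
    {U : X.Opens} {e : Γ(L, U)} (hg : IsGen L U e) (hxU : x ∈ U) (c : X.presheaf.stalk x)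
    (hc : L.presheaf.germ ⊤ x trivial s = c • L.presheaf.germ U x hxU e) :
    (RingHom.ker (i.app U₁).hom).map (X.presheaf.germ U₁ x hxU₁).hom = Ideal.span {c} := by
  subst hx
  haveI : IsClosedImmersion (i ∣_ U₁) := inferInstance
  have hV := RegStalk.isAffineOpen_preimage_of_isClosedImmersion_restrict i hU₁
  have hsurj := RegStalk.app_surjective_of_isClosedImmersion_restrict i hU₁
  rw [← RegStalk.ker_stalkMap_eq_map_ker' i hU₁ hV hsurj d hxU₁]
  exact ker_stalkMap_eq_span_of_isZeroSchemeOf i hD d hg hxU c hc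

/-- At a point `ξ'` outside `D' = X' ×_X D`, the order of `s'` along a specialization into `D'`
agrees with the order of any rational section of `f^*L` whose orders are computed by `s`
downstairs. -/
theorem secOrdAt_gysin_eq (f : X' ⟶ X) {L : X.Modules} (hL : PicF.IsInvertible L)
    (s : L.presheaf.obj (Opposite.op ⊤)) (i : D ⟶ X) [IsClosedImmersion i]
    (hD : Cyc.IsZeroSchemeOf i L s)
    (s' : ((Scheme.Modules.pullback f).obj L).presheaf.obj (Opposite.op ⊤))
    (hD' : Cyc.IsZeroSchemeOf (pullback.fst f i) ((Scheme.Modules.pullback f).obj L) s')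
    (z : ↥(pullback f i)) (ξ' : X') (h : ξ' ⤳ pullback.fst f i z)
    (hne' : (Submodule.Quotient.mk
      (((Scheme.Modules.pullback f).obj L).presheaf.germ ⊤ ξ' trivial s') :
        Cyc.secFibre ((Scheme.Modules.pullback f).obj L) ξ') ≠ 0)
    (t' : Cyc.secFibre ((Scheme.Modules.pullback f).obj L) ξ')
    (hord : ∀ (V' : X.Opens) (e' : Γ(L, V')), IsGen L V' e' → f (pullback.fst f i z) ∈ V' →
        ∀ (hξV' : f ξ' ∈ V') (φ : X.presheaf.stalk (f ξ')),
        (Submodule.Quotient.mk (L.presheaf.germ ⊤ (f ξ') trivial s) : Cyc.secFibre L (f ξ')) =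
          Submodule.Quotient.mk (φ • L.presheaf.germ V' (f ξ') hξV' e') →
        Cyc.secOrdAt ((Scheme.Modules.pullback f).obj L) ξ' (pullback.fst f i z) h t' =
          Cyc.ordAt (pullback.fst f i z) ξ' h
            ((f.residueFieldMap ξ').hom (X.residue (f ξ') φ))) :
    Cyc.secOrdAt ((Scheme.Modules.pullback f).obj L) ξ' (pullback.fst f i z) h
        (Submodule.Quotient.mk
          (((Scheme.Modules.pullback f).obj L).presheaf.germ ⊤ ξ' trivial s')) =
      Cyc.secOrdAt ((Scheme.Modules.pullback f).obj L) ξ' (pullback.fst f i z) h t' := by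
  obtain ⟨U, e, hxU, hg⟩ := exists_isGen hL (f (pullback.fst f i z))
  have hg' := isGen_pull f hg
  have hf : f ξ' ⤳ f (pullback.fst f i z) := f.base.hom.map_specializes h
  have hξU : f ξ' ∈ U := hf.mem_open U.2 hxU
  have hxU' : pullback.fst f i z ∈ f ⁻¹ᵁ U := hxU
  have hξU' : ξ' ∈ f ⁻¹ᵁ U := hξU
  obtain ⟨c, hc⟩ := stalk_surj hg (f (pullback.fst f i z)) hxU
    (L.presheaf.germ ⊤ (f (pullback.fst f i z)) trivial s)
  obtain ⟨c', hc'⟩ := stalk_surj hg' (pullback.fst f i z) hxU'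
    (((Scheme.Modules.pullback f).obj L).presheaf.germ ⊤ (pullback.fst f i z) trivial s')
  obtain ⟨U₁, hU₁, hxU₁, -⟩ := exists_isAffineOpen_mem_and_subset
    (x := f (pullback.fst f i z)) (U := ⊤) (TopologicalSpace.Opens.mem_top _)
  have hk1 : RingHom.ker ((pullback.fst f i).stalkMap z).hom = Ideal.span {c'} :=
    ker_stalkMap_eq_span_of_isZeroSchemeOf (pullback.fst f i) hD' z hg' hxU' c' hc'
  have hk2 := FibReg.ker_stalkMap_of_isPullback (IsPullback.of_hasPullback f i).flip hU₁ z hxU₁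
  have hk3 := map_germ_ker_eq_span i hD (pullback.snd f i z) (f (pullback.fst f i z))
    (pullback_cond_apply f i z) hU₁ hxU₁ hg hxU c hc
  have hspan : Ideal.span {c'} = Ideal.span {(f.stalkMap (pullback.fst f i z)).hom c} := by
    rw [← hk1, hk2, hk3, Ideal.map_span, Set.image_singleton]
  obtain ⟨u, hu, hcu⟩ := exists_unit_mul_of_span_eq c' _ hspan
  have hsξ : L.presheaf.germ ⊤ (f ξ') trivial s =
      X.presheaf.stalkSpecializes hf c • L.presheaf.germ U (f ξ') hξU e := by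
    rw [← spec_germ L hf ⊤ trivial s, hc, spec_smul, spec_germ]
  have hsξ' : ((Scheme.Modules.pullback f).obj L).presheaf.germ ⊤ ξ' trivial s' =
      X'.presheaf.stalkSpecializes h c' •
        ((Scheme.Modules.pullback f).obj L).presheaf.germ (f ⁻¹ᵁ U) ξ' hξU' (pull f L U e) := by
    rw [← spec_germ ((Scheme.Modules.pullback f).obj L) h ⊤ trivial s', hc', spec_smul, spec_germ]
  have hcu' : IsUnit (X'.presheaf.stalkSpecializes h c') := by
    apply isUnit_of_mk_ne_zero ((Scheme.Modules.pullback f).obj L) ξ' _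
      (((Scheme.Modules.pullback f).obj L).presheaf.germ (f ⁻¹ᵁ U) ξ' hξU' (pull f L U e))
    rw [← hsξ']
    exact hne'
  have hnat : (f.stalkMap ξ').hom ((X.presheaf.stalkSpecializes hf).hom c) =
      (X'.presheaf.stalkSpecializes h).hom ((f.stalkMap (pullback.fst f i z)).hom c) :=
    Scheme.Hom.stalkSpecializes_stalkMap_apply f ξ' (pullback.fst f i z) h c
  have hmul : X'.presheaf.stalkSpecializes h c' =
      X'.presheaf.stalkSpecializes h u *
        (f.stalkMap ξ').hom (X.presheaf.stalkSpecializes hf c) := by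
    rw [hcu, map_mul]
    congr 1
    exact hnat.symm
  have hspu : IsUnit (X'.presheaf.stalkSpecializes h u) := hu.map _
  have hw_unit : IsUnit ((f.stalkMap ξ').hom (X.presheaf.stalkSpecializes hf c)) := by
    rw [hmul] at hcu'
    exact isUnit_of_mul_isUnit_right hcu'
  have hresw : X'.residue ξ' ((f.stalkMap ξ').hom (X.presheaf.stalkSpecializes hf c)) =
      (f.residueFieldMap ξ').hom (X.residue (f ξ') (X.presheaf.stalkSpecializes hf c)) := by
    change (f.stalkMap ξ' ≫ X'.residue ξ').hom (X.presheaf.stalkSpecializes hf c) =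
      (X.residue (f ξ') ≫ f.residueFieldMap ξ').hom (X.presheaf.stalkSpecializes hf c)
    rw [Scheme.residue_residueFieldMap]
  have hres : X'.residue ξ' (X'.presheaf.stalkSpecializes h c') =
      X'.residue ξ' (X'.presheaf.stalkSpecializes h u) *
        (f.residueFieldMap ξ').hom (X.residue (f ξ') (X.presheaf.stalkSpecializes hf c)) := by
    rw [hmul, map_mul, hresw]
  have hne1 : X'.residue ξ' (X'.presheaf.stalkSpecializes h u) ≠ 0 :=
    (hspu.map (X'.residue ξ').hom).ne_zero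
  have hne2 : (f.residueFieldMap ξ').hom
      (X.residue (f ξ') (X.presheaf.stalkSpecializes hf c)) ≠ 0 := by
    rw [← hresw]
    exact (hw_unit.map (X'.residue ξ').hom).ne_zero
  have h1 : Cyc.secOrdAt ((Scheme.Modules.pullback f).obj L) ξ' (pullback.fst f i z) h
      (Submodule.Quotient.mk
        (((Scheme.Modules.pullback f).obj L).presheaf.germ ⊤ ξ' trivial s')) =
      Cyc.ordAt (pullback.fst f i z) ξ' h
        (X'.residue ξ' (X'.presheaf.stalkSpecializes h c')) := by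
    rw [hsξ']
    exact secOrdAt_eq hg' h hxU' _ hcu'
  have h2 : Cyc.secOrdAt ((Scheme.Modules.pullback f).obj L) ξ' (pullback.fst f i z) h t' =
      Cyc.ordAt (pullback.fst f i z) ξ' h ((f.residueFieldMap ξ').hom
        (X.residue (f ξ') (X.presheaf.stalkSpecializes hf c))) :=
    hord U e hg hxU hξU (X.presheaf.stalkSpecializes hf c) (by rw [hsξ])
  rw [h1, h2, hres, ordAt_mul _ _ h _ _ hne1 hne2, ordAt_spec_unit _ _ h u hu, zero_add]

end Groth.Agent.Lib.Lead.GysinPull
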