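import Groth.Agent.Lib.Lead.HZDepthT
import Groth.Agent.Lib.Helper2.LocCohZ.LeftExact
import Groth.Agent.Lib.Helper2.GSS.DimShiftIff

/-!
# Single-degree basis criterion for the vanishing of `ℋ^i_Z(F)` (lead)

`ℋ^i_Z(F) = 0` as soon as `H^i_{Z ∩ V}(V, F) = 0` for all `V` in a basis of opens (same `i`).
-/

set_option autoImplicit false
set_option linter.style.haveILetI false
universe u

namespace Groth.Agent.Lib.Lead.HZBasis1

open CategoryTheory CategoryTheory.Limits Opposite TopologicalSpace Abelian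
open Groth.Agent.Lib.Helper2.LocCohZLib Groth.Agent.Lib.Helper2 Groth.Agent.Lib.Helper2.RDBridge

variable {X : TopCat.{u}} (U : Opens X)

/-- a morphism of abelian sheaves that is surjective on the sections over a basis is an epi. -/
lemma epi_of_basis_surjective {F G : CohTop.Ab X} (φ : F ⟶ G) (B : Set (Opens X))
    (hB : Opens.IsBasis B)
    (h : ∀ V ∈ B, Function.Surjective (φ.hom.app (op V)).hom) : Epi φ := by
  rw [← Sheaf.isLocallySurjective_iff_epi']
  constructor
  intro V s x hx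
  obtain ⟨W, hWB, hxW, hWV⟩ := (Opens.isBasis_iff_nbhd.1 hB) hx
  obtain ⟨t, ht⟩ := h W hWB ((G.obj.map (homOfLE hWV).op).hom s)
  exact ⟨W, homOfLE hWV, ⟨t, ht⟩, hxW⟩

/-- lifting maps out of `ℤ_V/ℤ_W` along an epimorphism with `Ext^1`-acyclic kernel. -/
lemma exists_lift_zq_of_subsingleton {W V : Opens X} (h : W ≤ V) (S : ShortComplex (CohTop.Ab X))
    (hS : S.ShortExact) (h1 : Subsingleton (LocCohZ.HZ S.X₁ 1 h)) (φ : LocCohZ.zq h ⟶ S.X₃) :
    ∃ ψ : LocCohZ.zq h ⟶ S.X₂, ψ ≫ S.g = φ := by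
  have hz : (Ext.mk₀ φ).comp hS.extClass (zero_add 1) = 0 := Subsingleton.elim _ _
  obtain ⟨x₂, hx₂⟩ := Ext.covariant_sequence_exact₃ (LocCohZ.zq h) hS (Ext.mk₀ φ) (zero_add 1) hz
  obtain ⟨ψ, rfl⟩ := (Ext.mk₀_bijective _ _).2 x₂
  refine ⟨ψ, ?_⟩
  apply (Ext.mk₀_bijective _ _).1
  rw [← hx₂, Ext.mk₀_comp_mk₀]

/-- surjectivity of `Γ_Z` on sections over `V` when `H^1_{Z ∩ V}(V, -)` of the kernel vanishes. -/
lemma sectSuppMap_app_surjective (S : ShortComplex (CohTop.Ab X)) (hS : S.ShortExact) (V : Opens X)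
    (h1 : Subsingleton (LocCohZ.HZ S.X₁ 1 (inf_le_left : V ⊓ U ≤ V))) :
    Function.Surjective ((sectSuppMap U S.g).hom.app (op V)).hom := by
  intro r
  have hs := sectSuppι_app_mem U S.X₃ V r
  obtain ⟨ψ, hψ⟩ := exists_lift_zq_of_subsingleton (inf_le_left : V ⊓ U ≤ V) S hS h1
    ((homZqEquiv (inf_le_left : V ⊓ U ≤ V) S.X₃).symm ⟨_, hs⟩)
  have ht := (homZqEquiv (inf_le_left : V ⊓ U ≤ V) S.X₂ ψ).2
  rw [AddMonoidHom.mem_ker] at ht
  obtain ⟨r', hr'⟩ := exists_sectSupp_of_mem U S.X₂ V _ ht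
  refine ⟨r', ?_⟩
  apply sectSuppι_app_injective U S.X₃ V
  rw [sectSuppMap_app_ι, hr', ← homZqEquiv_naturality, hψ, AddEquiv.apply_symm_apply]

/-- the canonical short exact sequence `0 → F → I → I/F → 0` with `I` injective. -/
noncomputable def injSeq (F : CohTop.Ab X) : ShortComplex (CohTop.Ab X) :=
  ShortComplex.mk (Injective.ι F) (cokernel.π (Injective.ι F)) (cokernel.condition _)

lemma injSeq_shortExact (F : CohTop.Ab X) : (injSeq F).ShortExact where
  exact := ShortComplex.exact_of_g_is_cokernel _ (cokernelIsCokernel _)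
  mono_f := inferInstanceAs (Mono (Injective.ι F))
  epi_g := inferInstanceAs (Epi (cokernel.π (Injective.ι F)))

instance (F : CohTop.Ab X) : TopCat.Sheaf.IsFlasque (injSeq F).X₂ :=
  Groth.Agent.Lib.Helper1.FlasqueAcyclic.isFlasque_of_injective (Injective.under F)

/-- degree one. -/
theorem isZero_HZsh_one_of_basis (B : Set (Opens X)) (hB : Opens.IsBasis B) (F : CohTop.Ab X)
    (h : ∀ V ∈ B, Subsingleton (LocCohZ.HZ F 1 (inf_le_left : V ⊓ U ≤ V))) :
    IsZero ((LocCohZ.HZsh U 1).obj F) := by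
  have hS := injSeq_shortExact F
  obtain ⟨δ, z1, z2, z3, -, e2, e3⟩ := rightDerived_les' (LocCohZ.sectSuppF U) (injSeq F) hS 0
  have h1 : IsZero (((LocCohZ.sectSuppF U).rightDerived (0 + 1)).obj (injSeq F).X₂) :=
    isZero_HZsh_of_isFlasque U (injSeq F).X₂ 0
  have he : Epi δ := e3.epi_f (h1.eq_of_tgt _ _)
  have hepi0 : Epi ((LocCohZ.sectSuppF U).map (injSeq F).g) :=
    epi_of_basis_surjective (sectSuppMap U (injSeq F).g) B hB
      (fun V hV => sectSuppMap_app_surjective U (injSeq F) hS V (h V hV))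
  have hepi : Epi (((LocCohZ.sectSuppF U).rightDerived 0).map (injSeq F).g) := by
    have hn := (LocCohZ.sectSuppF U).rightDerivedZeroIsoSelf.hom.naturality (injSeq F).g
    have : ((LocCohZ.sectSuppF U).rightDerived 0).map (injSeq F).g =
        (LocCohZ.sectSuppF U).rightDerivedZeroIsoSelf.hom.app _ ≫
          (LocCohZ.sectSuppF U).map (injSeq F).g ≫
            (LocCohZ.sectSuppF U).rightDerivedZeroIsoSelf.inv.app _ := by
      rw [← Category.assoc, ← hn, Category.assoc, Iso.hom_inv_id_app, Category.comp_id]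
    rw [this]
    infer_instance
  have hδ0 : δ = 0 := by
    rw [← cancel_epi (((LocCohZ.sectSuppF U).rightDerived 0).map (injSeq F).g), z2, comp_zero]
  haveI := he
  have hz : IsZero (((LocCohZ.sectSuppF U).rightDerived (0 + 1)).obj (injSeq F).X₁) :=
    IsZero.of_epi_eq_zero δ hδ0
  exact hz

/-- **Single-degree basis criterion.** -/
theorem isZero_HZsh_of_basis_single (B : Set (Opens X)) (hB : Opens.IsBasis B) :
    ∀ (i : ℕ) (F : CohTop.Ab X),
      (∀ V ∈ B, Subsingleton (LocCohZ.HZ F i (inf_le_left : V ⊓ U ≤ V))) →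
        IsZero ((LocCohZ.HZsh U i).obj F)
  | 0, F, h => (isZero_HZsh_zero_iff U F).2 (HZDepthT.isZero_sectSupp_of_basis U B hB F h)
  | 1, F, h => isZero_HZsh_one_of_basis U B hB F h
  | (k + 2), F, h => by
    have hS := injSeq_shortExact F
    have hQ : IsZero ((LocCohZ.HZsh U (k + 1)).obj (injSeq F).X₃) := by
      apply isZero_HZsh_of_basis_single B hB (k + 1) (injSeq F).X₃
      intro V hV
      exact (DimShiftIff.ext_subsingleton_iff (LocCohZ.zq (inf_le_left : V ⊓ U ≤ V)) (injSeq F) hS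
        (k + 1) (flasque_HZ_subsingleton _ k (injSeq F).X₂)
        (flasque_HZ_subsingleton _ (k + 1) (injSeq F).X₂)).2 (h V hV)
    exact (DimShiftIff.isZero_iff_of_isZero (LocCohZ.sectSuppF U) (injSeq F) hS (k + 1)
      (isZero_HZsh_of_isFlasque U (injSeq F).X₂ k)
      (isZero_HZsh_of_isFlasque U (injSeq F).X₂ (k + 1))).1 hQ

end Groth.Agent.Lib.Lead.HZBasis1
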