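import Groth.Agent.Lib.Helper2.LocCohZ.Vanish

/-!
# Basis version of helper2's `isZero_HZsh_iff` (lead)

`ℋ^i_Z(F) = 0` for `i < n` as soon as `H^i_{Z ∩ V}(V, F) = 0` for all `V` in a basis of opens.
-/

set_option autoImplicit false
set_option linter.style.haveILetI false
universe u

namespace Groth.Agent.Lib.Lead.HZDepthT

open CategoryTheory CategoryTheory.Limits Opposite TopologicalSpace Abelian
open Groth.Agent.Lib.Helper2.LocCohZLib

variable {X : TopCat.{u}} (U : Opens X)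

/-- `Γ_Z F = 0` as soon as `Γ_{Z ∩ V}(V, F) = 0` for all `V` in a basis. -/
theorem isZero_sectSupp_of_basis (B : Set (Opens X)) (hB : Opens.IsBasis B) (F : CohTop.Ab X)
    (h : ∀ V ∈ B, Subsingleton (LocCohZ.HZ F 0 (inf_le_left : V ⊓ U ≤ V))) :
    IsZero (CohCx.sectSupp U F) := by
  apply isZero_of_sections
  intro V t
  apply sectSuppι_app_injective U F V
  rw [map_zero]
  have hmem := sectSuppι_app_mem U F V t
  generalize ((sectSuppι U F).hom.app (op V)).hom t = s at hmem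
  refine TopCat.Sheaf.eq_of_locally_eq' (F := F) (fun j : {W : Opens X // W ∈ B ∧ W ≤ V} => j.1) V
    (fun j => homOfLE j.2.2) ?_ s 0 ?_
  · intro x hx
    obtain ⟨W, hWB, hxW, hWV⟩ := (Opens.isBasis_iff_nbhd.1 hB) hx
    exact Opens.mem_iSup.2 ⟨⟨W, hWB, hWV⟩, hxW⟩
  · intro j
    rw [map_zero]
    haveI := h j.1 j.2.1
    have hz : (F.obj.map (homOfLE (inf_le_left : j.1 ⊓ U ≤ j.1)).op).hom
        ((F.obj.map (homOfLE j.2.2).op).hom s) = 0 := by
      have e1 : (F.obj.map (homOfLE (inf_le_left : j.1 ⊓ U ≤ j.1)).op).hom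
          ((F.obj.map (homOfLE j.2.2).op).hom s) =
          (F.obj.map (homOfLE (inf_le_inf_right U j.2.2 : j.1 ⊓ U ≤ V ⊓ U)).op).hom
            ((F.obj.map (homOfLE (inf_le_left : V ⊓ U ≤ V)).op).hom s) := by
        rw [← ConcreteCategory.comp_apply, ← ConcreteCategory.comp_apply, ← F.obj.map_comp,
          ← F.obj.map_comp]
        rfl
      rw [e1, hmem, map_zero]
    have e : (⟨_, hz⟩ : LocCohZ.sectZ F (inf_le_left : j.1 ⊓ U ≤ j.1)) = 0 := by
      apply (LocCohZ.sect0Equiv F (inf_le_left : j.1 ⊓ U ≤ j.1)).symm.injective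
      exact Subsingleton.elim _ _
    exact congrArg Subtype.val e

/-- **Basis version**: `ℋ^i_Z(F) = 0` for `i < n` as soon as `H^i_{Z ∩ V}(V, F) = 0` for all `V` in
a basis and all `i < n`. -/
theorem isZero_HZsh_of_basis (B : Set (Opens X)) (hB : Opens.IsBasis B) (n : ℕ) (F : CohTop.Ab X)
    (h : ∀ V ∈ B, ∀ i : ℕ, i < n → Subsingleton (LocCohZ.HZ F i (inf_le_left : V ⊓ U ≤ V))) :
    ∀ i : ℕ, i < n → IsZero ((LocCohZ.HZsh U i).obj F) := by
  induction n generalizing F with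
  | zero => intro i hi; exact absurd hi (Nat.not_lt_zero i)
  | succ n ih =>
    have hΓ := isZero_sectSupp_of_basis U B hB F (fun V hV => h V hV 0 (Nat.succ_pos n))
    obtain ⟨C, hC1, hC2⟩ := exists_shift U F hΓ
    have hPC := ih C (fun V hV i hi => (hC2 V i).2 (h V hV (i + 1) (Nat.succ_lt_succ hi)))
    intro i hi
    cases i with
    | zero => exact (isZero_HZsh_zero_iff U F).2 hΓ
    | succ i => exact (hC1 i).1 (hPC i (Nat.lt_of_succ_lt_succ hi))

end Groth.Agent.Lib.Lead.HZDepthT
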