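import Mathlib
import Groth.Prelude
import Groth.Agent.S2442
import Groth.Agent.S2439
import Groth.Agent.S6031
import Groth.Agent.S6026
import Groth.Agent.Lib.Helper13.AffineVanish
import Groth.Agent.Lib.Helper3.QcohStalk
import Groth.Agent.Lib.Helper3.QCProps
import Groth.Agent.Lib.Helper3.AffinePoints
import Groth.Agent.Lib.Lead.HZDepthA
import Groth.Agent.Lib.Lead.HZDepthT

/-!
# Local cohomology sheaves and depth: the affine comparison (lead)
-/

set_option autoImplicit false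
set_option linter.style.haveILetI false
set_option linter.unusedSectionVars false
universe u

open CategoryTheory CategoryTheory.Limits Opposite TopologicalSpace AlgebraicGeometry

namespace Groth.Agent.Lib.Lead.HZDepthS

open Groth.Agent.Lib.Helper3

section top

variable {Y : TopCat.{u}} (F : CohTop.Ab Y) (W : Opens Y)

/-- If `H^1(Y, F) = 0`, then `H^1_Z(Y, F) = 0` iff `Γ(Y, F) → Γ(W, F)` is surjective. -/
theorem hz1_subsingleton_iff_surjective
    (hvan : Subsingleton (CohTop.HU F 1 (⊤ : Opens Y))) :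
    Subsingleton (LocCohZ.HZc F 1 W) ↔
      Function.Surjective (F.obj.map (homOfLE (le_top : W ≤ ⊤)).op).hom := by
  have hS := LocCohZ.zqSeq_shortExact (X := Y) (le_top : W ≤ ⊤)
  constructor
  · intro hsub s
    have hδ : hS.extClass.comp
        (Abelian.Ext.mk₀ (CohFree.ofSect (Opens.grothendieckTopology Y) W F s))
        (by omega : 1 + 0 = 1) = 0 :=
      Subsingleton.elim (α := LocCohZ.HZc F 1 W) _ _
    obtain ⟨x₂0, hx₂0⟩ := Abelian.Ext.contravariant_sequence_exact₁ hS F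
      (Abelian.Ext.mk₀ (CohFree.ofSect (Opens.grothendieckTopology Y) W F s))
      (by omega : 1 + 0 = 1) hδ
    have key : ∃ x₂ : Abelian.Ext (CohCx.freeSheaf (Opens.grothendieckTopology Y) (⊤ : Opens Y)) F 0,
        (Abelian.Ext.mk₀ (CohCx.freeSheafMap (Opens.grothendieckTopology Y)
          (homOfLE (le_top : W ≤ ⊤)))).comp x₂ (zero_add 0) =
          Abelian.Ext.mk₀ (CohFree.ofSect (Opens.grothendieckTopology Y) W F s) := ⟨x₂0, hx₂0⟩
    obtain ⟨x₂, hx₂⟩ := key
    have h1 : CohCx.freeSheafMap (Opens.grothendieckTopology Y) (homOfLE (le_top : W ≤ ⊤)) ≫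
        Abelian.Ext.addEquiv₀ x₂ = CohFree.ofSect (Opens.grothendieckTopology Y) W F s := by
      apply (Abelian.Ext.mk₀_bijective _ _).1
      rw [← Abelian.Ext.mk₀_comp_mk₀, Abelian.Ext.mk₀_addEquiv₀_apply]
      exact hx₂
    refine ⟨CohFree.evalGen (Opens.grothendieckTopology Y) ⊤ F (Abelian.Ext.addEquiv₀ x₂), ?_⟩
    rw [← CohFree.evalGen_freeSheafMap_comp, h1, CohFree.evalGen_ofSect]
  · intro hsurj
    suffices h : ∀ x : LocCohZ.HZc F 1 W, x = 0 from ⟨fun a b => by rw [h a, h b]⟩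
    intro x
    have hx : (Abelian.Ext.mk₀ (LocCohZ.zqSeq (le_top : W ≤ ⊤)).g).comp x (zero_add 1) = 0 :=
      Subsingleton.elim (α := CohTop.HU F 1 (⊤ : Opens Y)) _ _
    obtain ⟨x₁0, hx₁0⟩ := Abelian.Ext.contravariant_sequence_exact₃ hS F x hx
      (by omega : 1 + 0 = 1)
    have key : ∃ x₁ : Abelian.Ext (CohCx.freeSheaf (Opens.grothendieckTopology Y) W) F 0,
        hS.extClass.comp x₁ (by omega : 1 + 0 = 1) = x := ⟨x₁0, hx₁0⟩
    obtain ⟨x₁, hx₁⟩ := key
    obtain ⟨t, ht⟩ := hsurj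
      (CohFree.evalGen (Opens.grothendieckTopology Y) W F (Abelian.Ext.addEquiv₀ x₁))
    have h1 : CohCx.freeSheafMap (Opens.grothendieckTopology Y) (homOfLE (le_top : W ≤ ⊤)) ≫
        CohFree.ofSect (Opens.grothendieckTopology Y) ⊤ F t = Abelian.Ext.addEquiv₀ x₁ := by
      rw [← CohFree.ofSect_evalGen (Opens.grothendieckTopology Y) W F
        (CohCx.freeSheafMap (Opens.grothendieckTopology Y) (homOfLE (le_top : W ≤ ⊤)) ≫
          CohFree.ofSect (Opens.grothendieckTopology Y) ⊤ F t),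
        CohFree.evalGen_freeSheafMap_comp, CohFree.evalGen_ofSect, ht, CohFree.ofSect_evalGen]
    have h2 : x₁ = (Abelian.Ext.mk₀ (CohCx.freeSheafMap (Opens.grothendieckTopology Y)
        (homOfLE (le_top : W ≤ ⊤)))).comp
        (Abelian.Ext.mk₀ (CohFree.ofSect (Opens.grothendieckTopology Y) ⊤ F t)) (zero_add 0) := by
      rw [Abelian.Ext.mk₀_comp_mk₀, h1, Abelian.Ext.mk₀_addEquiv₀_apply]
    rw [← hx₁, h2]
    exact hS.extClass_comp_assoc _

end top

theorem quot_subsingleton_iff {G H : Type*} [AddCommGroup G] [AddCommGroup H] (f : G →+ H) :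
    Subsingleton (H ⧸ f.range) ↔ Function.Surjective f := by
  constructor
  · intro h y
    have h0 : (QuotientAddGroup.mk y : H ⧸ f.range) = 0 := Subsingleton.elim _ _
    rw [QuotientAddGroup.eq_zero_iff] at h0
    exact h0
  · intro h
    refine ⟨fun a b => ?_⟩
    induction a using QuotientAddGroup.induction_on with | _ a => ?_
    induction b using QuotientAddGroup.induction_on with | _ b => ?_
    rw [QuotientAddGroup.eq]
    exact AddMonoidHom.mem_range.2 (h _)

section affine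

variable (Z : Scheme.{u}) [IsAffine Z] (N : Z.Modules) [N.IsQuasicoherent] (fs : List Γ(Z, ⊤))

/-- the union of the basic opens of a list. -/
abbrev Wf : Z.Opens := ⨆ i : Fin fs.length, Z.basicOpen (fs.get i)

theorem hz0_iff : Subsingleton (LocCohZ.HZc (X := Z.carrier) (Coh.toAb N) 0 (Wf Z fs)) ↔
    Subsingleton (CohIII.koszulHLim fs (ModuleCat.of Γ(Z, ⊤) (N.val.obj (op ⊤))) 0) := by
  obtain ⟨e⟩ := (Groth.Agent.S2442.result Z fs N).1
  exact ((LocCohZ.sect0Equiv (X := Z.carrier) (Coh.toAb N)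
    (le_top : Wf Z fs ≤ ⊤)).trans e).toEquiv.subsingleton_congr

theorem hz1_iff : Subsingleton (LocCohZ.HZc (X := Z.carrier) (Coh.toAb N) 1 (Wf Z fs)) ↔
    Subsingleton (CohIII.koszulHLim fs (ModuleCat.of Γ(Z, ⊤) (N.val.obj (op ⊤))) 1) := by
  have hvan : Subsingleton (CohTop.HU (Coh.toAb N) 1 (⊤ : Z.Opens)) :=
    Groth.Agent.Lib.Helper13.AffineVanish.subsingleton_HU_of_isAffineOpen N (isAffineOpen_top Z) 0
  rw [hz1_subsingleton_iff_surjective (Y := Z.carrier) (Coh.toAb N) (Wf Z fs) hvan]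
  obtain ⟨e⟩ := (Groth.Agent.S2442.result Z fs N).2
  rw [← e.toEquiv.subsingleton_congr]
  exact (quot_subsingleton_iff _).symm

theorem hz_succ_succ_iff (q : ℕ) :
    Subsingleton (LocCohZ.HZc (X := Z.carrier) (Coh.toAb N) (q + 2) (Wf Z fs)) ↔
      Subsingleton (CohIII.koszulHLim fs (ModuleCat.of Γ(Z, ⊤) (N.val.obj (op ⊤))) (q + 2)) := by
  have hδ := (Groth.Agent.S6031.result Z N (inferInstanceAs N.IsQuasicoherent) (Wf Z fs)).2 (q + 1)
    (by omega)
  obtain ⟨e⟩ := Groth.Agent.S2439.result Z fs (fun i => (isAffineOpen_top Z).basicOpen _) N (q + 1)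
    (by omega)
  have e1 := Groth.Agent.Lib.Helper13.AffineVanish.HUEquivHHon N (Wf Z fs) (q + 1)
  exact ((AddEquiv.ofBijective _ hδ).symm.trans (e1.trans e)).toEquiv.subsingleton_congr

theorem hz_iff : ∀ i : ℕ,
    Subsingleton (LocCohZ.HZc (X := Z.carrier) (Coh.toAb N) i (Wf Z fs)) ↔
      Subsingleton (CohIII.koszulHLim fs (ModuleCat.of Γ(Z, ⊤) (N.val.obj (op ⊤))) i)
  | 0 => hz0_iff Z N fs
  | 1 => hz1_iff Z N fs
  | (q + 2) => hz_succ_succ_iff Z N fs q

theorem hz_iff' (W : Z.Opens) (hW : W = Wf Z fs) (i : ℕ) :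
    Subsingleton (LocCohZ.HZc (X := Z.carrier) (Coh.toAb N) i W) ↔
      Subsingleton (CohIII.koszulHLim fs (ModuleCat.of Γ(Z, ⊤) (N.val.obj (op ⊤))) i) := by
  subst hW
  exact hz_iff Z N fs i

omit N in
/-- a compact open of an affine scheme is a finite union of basic opens. -/
theorem exists_list_basicOpen (W : Z.Opens) (hW : IsCompact (W : Set Z)) :
    ∃ fs : List Γ(Z, ⊤), W = Wf Z fs := by
  classical
  obtain ⟨s, hs, hWs⟩ := (Opens.IsBasis.isCompact_open_iff_eq_finite_iUnion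
    (fun f : Γ(Z, ⊤) => Z.basicOpen f) (isBasis_basicOpen Z)
    (fun f => ((isAffineOpen_top Z).basicOpen f).isCompact) (W : Set Z)).1 ⟨hW, W.2⟩
  refine ⟨hs.toFinset.toList, ?_⟩
  ext x
  rw [hWs]
  simp only [Set.mem_iUnion, SetLike.mem_coe, Opens.coe_iSup]
  constructor
  · rintro ⟨f, hf, hxf⟩
    have hmem : f ∈ hs.toFinset.toList := by simpa using hf
    obtain ⟨i, hi⟩ := List.get_of_mem hmem
    exact ⟨i, by rw [hi]; exact hxf⟩
  · rintro ⟨i, hxi⟩
    refine ⟨(hs.toFinset.toList).get i, ?_, hxi⟩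
    have h0 := List.get_mem (hs.toFinset.toList) i
    rw [Finset.mem_toList, Set.Finite.mem_toFinset] at h0
    exact h0

end affine

end Groth.Agent.Lib.Lead.HZDepthS
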