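import Groth.Agent.Lib.Helper4.KosComp
import Groth.Agent.Lib.Helper4.LC4
import Groth.Agent.Lib.Helper4.LCModel
import Groth.Agent.Lib.Helper20.LCStalk2
import Groth.Agent.S11682

/-!
# Vanishing of Koszul limit cohomology above the dimensions of the local rings along `V(f)` (lead)
-/

set_option autoImplicit false
set_option linter.style.haveILetI false
universe u

namespace Groth.Agent.Lib.Lead.HZDimA

open CategoryTheory

theorem koszulHLim_subsingleton_of_dim (A : Type u) [CommRing A] [IsNoetherianRing A]
    (fs : List A) (M : Type u) [AddCommGroup M] [Module A M] (i : ℕ)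
    (h : ∀ p : PrimeSpectrum A, Ideal.span {a | a ∈ fs} ≤ p.asIdeal →
      ringKrullDim (Localization.AtPrime p.asIdeal) < (i : WithBot ℕ∞)) :
    Subsingleton (CohIII.koszulHLim fs (ModuleCat.of A M) i) := by
  obtain ⟨e⟩ := Groth.Agent.Lib.Helper4.KosComp.nonempty_localCohomology_equiv fs M i
  have h82 : Groth.Agent.Lib.Helper20.LCStalk.Hfull A := fun a b N _ _ i =>
    Groth.Agent.S11682.result A a b N i
  have hsub : Subsingleton (LocCoh.H (Ideal.span {a | a ∈ fs}) i M) := by
    apply Groth.Agent.Lib.Helper20.LCStalk.subsingleton_of_stalks h82.hex i M _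
    intro p hp
    haveI := Groth.Agent.Lib.Helper4.LC.HH.subsingleton_of_ringKrullDim_lt
      (IsLocalRing.maximalIdeal (Localization.AtPrime p.asIdeal))
      (ModuleCat.of (Localization.AtPrime p.asIdeal) (LocalizedModule p.asIdeal.primeCompl M)) i
      (h p hp)
    exact (Groth.Agent.Lib.Helper4.LC.lcEquiv
      (IsLocalRing.maximalIdeal (Localization.AtPrime p.asIdeal))
      (ModuleCat.of (Localization.AtPrime p.asIdeal) (LocalizedModule p.asIdeal.primeCompl M))
      i).toEquiv.subsingleton
  exact e.symm.toEquiv.subsingleton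

end Groth.Agent.Lib.Lead.HZDimA
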