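import Groth.Agent.Lib.Lead.HZDepthK
import Groth.Agent.Lib.Lead.HZDimA

/-!
# Vanishing of `H^i_{Z ∩ V}(V, M)` over an affine open above the dimensions of the local rings (lead)
-/

set_option autoImplicit false
set_option linter.style.haveILetI false
set_option linter.unusedSectionVars false
universe u

open CategoryTheory CategoryTheory.Limits Opposite TopologicalSpace AlgebraicGeometry

namespace Groth.Agent.Lib.Lead.HZDimK

open Groth.Agent.Lib.Helper3

variable {X : Scheme.{u}} (M : X.Modules)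

/-- dimension of the localization of the ring of an affine scheme at a prime, as the dimension of
the stalk. -/
theorem ringKrullDim_localization_eq (Z : Scheme.{u}) [IsAffine Z] (p : PrimeSpectrum Γ(Z, ⊤)) :
    ringKrullDim (Localization.AtPrime p.asIdeal) =
      ringKrullDim (Z.presheaf.stalk ((isAffineOpen_top Z).fromSpec p)) := by
  have hZ := isAffineOpen_top Z
  have hx' : hZ.fromSpec p ∈ (⊤ : Z.Opens) := trivial
  have hpx : hZ.primeIdealOf ⟨hZ.fromSpec p, hx'⟩ = p := by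
    apply hZ.fromSpec.isOpenEmbedding.injective
    exact hZ.fromSpec_primeIdealOf ⟨hZ.fromSpec p, hx'⟩
  letI algA : Algebra Γ(Z, ⊤) (Z.presheaf.stalk (hZ.fromSpec p)) :=
    TopCat.Presheaf.algebra_section_stalk Z.presheaf (U := (⊤ : Z.Opens)) ⟨hZ.fromSpec p, hx'⟩
  haveI h1 := hZ.isLocalization_stalk ⟨hZ.fromSpec p, hx'⟩
  rw [hpx] at h1
  haveI : IsLocalization.AtPrime (Z.presheaf.stalk (hZ.fromSpec p)) p.asIdeal := h1
  exact ringKrullDim_eq_of_ringEquiv
    (IsLocalization.algEquiv p.asIdeal.primeCompl (Localization.AtPrime p.asIdeal)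
      (Z.presheaf.stalk (hZ.fromSpec p))).toRingEquiv

theorem affine_dim_key [IsLocallyNoetherian X] (U : X.Opens) [M.IsQuasicoherent]
    (i : ℕ) (V : X.Opens) (hV : IsAffineOpen V)
    (hdim : ∀ x : X, x ∈ V → x ∉ U →
      ringKrullDim (X.presheaf.stalk x) < (i : WithBot ℕ∞)) :
    Subsingleton (LocCohZ.HZ (X := X.carrier) (Coh.toAb M) i (inf_le_left : V ⊓ U ≤ V)) := by
  haveI hZaff : IsAffine (V : Scheme.{u}) := hV
  haveI : IsNoetherian (V : Scheme.{u}) := {}
  haveI hnoeth : IsNoetherianRing Γ((V : Scheme.{u}), ⊤) :=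
    IsLocallyNoetherian.component_noetherian ⟨⊤, isAffineOpen_top (V : Scheme.{u})⟩
  obtain ⟨fs, hfs⟩ := HZDepthS.exists_list_basicOpen (V : Scheme.{u})
    ((Opens.map (CohCx.incl V)).obj (V ⊓ U)) (NoetherianSpace.isCompact _)
  obtain ⟨e, -⟩ := Groth.Agent.S6026.result (X := X.carrier) (inf_le_left : V ⊓ U ≤ V) i
  rw [(e (Coh.toAb M)).toEquiv.subsingleton_congr]
  refine (HZDepthS.hz_iff' (V : Scheme.{u}) (M.restrict V.ι) fs _ hfs i).2 ?_
  apply HZDimA.koszulHLim_subsingleton_of_dim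
  intro p hp
  have hZ := isAffineOpen_top (V : Scheme.{u})
  rw [ringKrullDim_localization_eq (V : Scheme.{u}) p]
  set z : (V : Scheme.{u}) := hZ.fromSpec p with hz
  have hiso : ringKrullDim ((V : Scheme.{u}).presheaf.stalk z) =
      ringKrullDim (X.presheaf.stalk (V.ι z)) := by
    haveI : IsIso (V.ι.stalkMap z) := inferInstance
    exact (ringKrullDim_eq_of_ringEquiv (asIso (V.ι.stalkMap z)).commRingCatIsoToRingEquiv).symm
  rw [hiso]
  have hzV : (V.ι z : X) ∈ V := z.2
  refine hdim _ hzV ?_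
  intro hzU
  have h1 : z ∈ (Opens.map (CohCx.incl V)).obj (V ⊓ U) := ⟨hzV, hzU⟩
  rw [hfs] at h1
  change z ∈ (⨆ j : Fin fs.length, (V : Scheme.{u}).basicOpen (fs.get j)) at h1
  rw [Opens.mem_iSup] at h1
  obtain ⟨j, hj⟩ := h1
  have hpx : hZ.primeIdealOf ⟨z, trivial⟩ = p := by
    apply hZ.fromSpec.isOpenEmbedding.injective
    exact hZ.fromSpec_primeIdealOf ⟨z, trivial⟩
  have h2 := (mem_basicOpen_iff_notMem_primeIdealOf hZ z trivial (fs.get j)).1 hj
  rw [hpx] at h2
  exact h2 (hp (Ideal.subset_span (List.get_mem _ _)))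

end Groth.Agent.Lib.Lead.HZDimK
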