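import Groth.Agent.Lib.Helper2.LocCohZ.Vanish
import Groth.Agent.Lib.Helper2.LocCohZ.Global

/-!
# The edge isomorphism `Γ(X, ℋ^d_Z(F)) ≃ H^d_Z(X, F)` when `ℋ^i_Z(F) = 0` for `i < d` (lead)
-/

set_option autoImplicit false
set_option linter.style.haveILetI false
universe u

namespace Groth.Agent.Lib.Lead.HZEdge

open CategoryTheory CategoryTheory.Limits Opposite TopologicalSpace Abelian
open Groth.Agent.Lib.Helper2.LocCohZLib Groth.Agent.Lib.Helper2

variable {X : TopCat.{u}} (U : Opens X)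

/-- global sections of isomorphic sheaves. -/
noncomputable def secEquiv {G G' : CohTop.Ab X} (e : G ≅ G') :
    G.obj.obj (op (⊤ : Opens X)) ≃+ G'.obj.obj (op (⊤ : Opens X)) where
  toFun := (e.hom.hom.app (op ⊤)).hom
  invFun := (e.inv.hom.app (op ⊤)).hom
  left_inv s := by
    have h := congrArg (fun φ : G ⟶ G => (φ.hom.app (op (⊤ : Opens X))).hom s) e.hom_inv_id
    exact h
  right_inv s := by
    have h := congrArg (fun φ : G' ⟶ G' => (φ.hom.app (op (⊤ : Opens X))).hom s) e.inv_hom_id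
    exact h
  map_add' := map_add _

section ExtShift

variable {C : Type (u + 1)} [Category.{u} C] [Abelian C] [HasExt.{u} C]

theorem ext_nonempty_equiv (A : C) (S : ShortComplex C) (hS : S.ShortExact) (k : ℕ)
    (h0 : Subsingleton (Ext A S.X₂ k)) (h1 : Subsingleton (Ext A S.X₂ (k + 1))) :
    Nonempty (Ext A S.X₃ k ≃+ Ext A S.X₁ (k + 1)) := by
  refine ⟨AddEquiv.ofBijective (hS.extClass.postcomp A (rfl : k + 1 = k + 1)) ⟨?_, ?_⟩⟩
  · rw [injective_iff_map_eq_zero]
    intro x₃ hx₃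
    obtain ⟨x₂, hx₂⟩ := Ext.covariant_sequence_exact₃ A hS x₃ rfl hx₃
    rw [← hx₂, Subsingleton.elim x₂ 0, Ext.zero_comp]
  · intro x₁
    obtain ⟨x₃, hx₃⟩ := Ext.covariant_sequence_exact₁ A hS x₁ (Subsingleton.elim _ _) rfl
    exact ⟨x₃, hx₃⟩

end ExtShift

/-- `H^0_Z(X, F) = 0` if `Γ_Z F = 0`. -/
theorem subsingleton_HZc_zero (F : CohTop.Ab X) (hF : IsZero (CohCx.sectSupp U F)) :
    Subsingleton (LocCohZ.HZc F 0 U) := by
  have e := (LocCohZ.sect0Equiv F (le_top : U ≤ ⊤)).trans (homSectSuppEquiv U F).symm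
  haveI : Subsingleton (CohCx.freeSheaf (Opens.grothendieckTopology X) (⊤ : Opens X) ⟶
      CohCx.sectSupp U F) := ⟨fun a b => hF.eq_of_tgt a b⟩
  exact e.toEquiv.subsingleton

/-- **Edge isomorphism.** -/
theorem nonempty_sections_equiv (d : ℕ) : ∀ F : CohTop.Ab X,
    (∀ i : ℕ, i < d → IsZero ((LocCohZ.HZsh U i).obj F)) →
      Nonempty (((LocCohZ.HZsh U d).obj F).obj.obj (op (⊤ : Opens X)) ≃+ LocCohZ.HZc F d U) := by
  induction d with
  | zero =>
    intro F _
    have e0 : (LocCohZ.HZsh U 0).obj F ≅ CohCx.sectSupp U F :=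
      (LocCohZ.sectSuppF U).rightDerivedZeroIsoSelf.app F
    exact ⟨(secEquiv e0).trans
      ((CohFree.homEquivSect (Opens.grothendieckTopology X) ⊤ (CohCx.sectSupp U F)).symm.trans
        ((homZqSectSuppEquiv U F).symm.trans Abelian.Ext.addEquiv₀.symm))⟩
  | succ d ih =>
    intro F hF
    have hΓ : IsZero (CohCx.sectSupp U F) :=
      (isZero_HZsh_zero_iff U F).1 (hF 0 (Nat.succ_pos d))
    let I := Injective.under F
    haveI : TopCat.Sheaf.IsFlasque I :=
      Groth.Agent.Lib.Helper1.FlasqueAcyclic.isFlasque_of_injective I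
    let I' := cokernel (sectSuppι U I)
    let m : F ⟶ I' := Injective.ι F ≫ cokernel.π (sectSuppι U I)
    haveI : Mono m := mono_comp_quot U (Injective.ι F) hΓ
    let S : ShortComplex (CohTop.Ab X) := ShortComplex.mk m (cokernel.π m) (cokernel.condition m)
    have hS : S.ShortExact :=
      { exact := ShortComplex.exact_of_g_is_cokernel _ (cokernelIsCokernel _)
        mono_f := ‹Mono m›
        epi_g := inferInstanceAs (Epi (cokernel.π m)) }
    have hI'0 : IsZero (CohCx.sectSupp U I') := isZero_sectSupp_quot U I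
    haveI : TopCat.Sheaf.IsFlasque I' := isFlasque_quot U I
    have h1 : ∀ k : ℕ, IsZero ((LocCohZ.HZsh U k).obj S.X₂) := by
      intro k
      cases k with
      | zero => exact (isZero_HZsh_zero_iff U I').2 hI'0
      | succ k => exact isZero_HZsh_of_isFlasque U I' k
    have h2 : ∀ k : ℕ, Subsingleton (Ext (LocCohZ.zq (le_top : U ≤ ⊤)) S.X₂ k) := by
      intro k
      cases k with
      | zero => exact subsingleton_HZc_zero U I' hI'0
      | succ k => exact flasque_HZ_subsingleton (le_top : U ≤ ⊤) k I'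
    -- shift
    obtain ⟨e1⟩ := DimShiftIff.nonempty_iso_of_isZero (LocCohZ.sectSuppF U) S hS d (h1 d) (h1 (d + 1))
    have hC : ∀ i : ℕ, i < d → IsZero ((LocCohZ.HZsh U i).obj S.X₃) := by
      intro i hi
      exact (DimShiftIff.isZero_iff_of_isZero (LocCohZ.sectSuppF U) S hS i (h1 i) (h1 (i + 1))).2
        (hF (i + 1) (Nat.succ_lt_succ hi))
    obtain ⟨e2⟩ := ih S.X₃ hC
    obtain ⟨e3⟩ := ext_nonempty_equiv (LocCohZ.zq (le_top : U ≤ ⊤)) S hS d (h2 d) (h2 (d + 1))
    exact ⟨(secEquiv e1).symm.trans (e2.trans e3)⟩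

end Groth.Agent.Lib.Lead.HZEdge
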