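import Mathlib
import Groth.Agent.Lib.Helper12.DimFT

/-!
# Lower bounds for Hilbert functions of prime quotients of polynomial rings

* `exists_algebraicIndependent_vars`: if `dim S/P = N` then some `N` of the variables are
  algebraically independent modulo `P`.
* `card_add_finrank_le`: monomials in variables which are algebraically independent modulo `P ⊇ I`
  are linearly independent modulo `I`, giving a lower bound for the codimension of `I_D` in `S_D`.
-/

namespace Groth.Agent.Lib.Lead.HilbLower

open MvPolynomial Module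

universe u

theorem exists_algebraicIndependent_vars {k : Type u} [Field k] {n : ℕ}
    (P : Ideal (MvPolynomial (Fin n) k)) [P.IsPrime] (N : ℕ)
    (hdim : ringKrullDim (MvPolynomial (Fin n) k ⧸ P) = N) :
    ∃ J : Fin N → Fin n, AlgebraicIndependent k (fun l => Ideal.Quotient.mk P (X (J l))) := by
  classical
  obtain ⟨s, hs1, hs2, -⟩ :=
    Groth.Agent.Lib.Helper12.DimFT.exists_dim_eq_trdeg k (MvPolynomial (Fin n) k ⧸ P)
  have hsN : s = N := by
    rw [hs1] at hdim
    exact_mod_cast hdim
  subst hsN
  obtain ⟨x, hx⟩ : ∃ x : Fin n → (MvPolynomial (Fin n) k ⧸ P),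
      x = fun i => Ideal.Quotient.mk P (X i) := ⟨_, rfl⟩
  have hadj : Algebra.adjoin k (Set.range x) = ⊤ := by
    have h3 : Set.range x
        = (Ideal.Quotient.mkₐ k P) '' Set.range (X : Fin n → MvPolynomial (Fin n) k) := by
      rw [← Set.range_comp, hx]
      rfl
    rw [h3, ← AlgHom.map_adjoin, MvPolynomial.adjoin_range_X, Algebra.map_top,
      AlgHom.range_eq_top]
    exact Ideal.Quotient.mkₐ_surjective k P
  haveI : Algebra.IsAlgebraic (Algebra.adjoin k (Set.range x)) (MvPolynomial (Fin n) k ⧸ P) := by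
    refine ⟨fun a => ?_⟩
    have ha : a ∈ Algebra.adjoin k (Set.range x) := by
      rw [hadj]
      exact Algebra.mem_top
    exact isAlgebraic_algebraMap (⟨a, ha⟩ : Algebra.adjoin k (Set.range x))
  obtain ⟨t, hts, htb⟩ := exists_isTranscendenceBasis_subset (R := k) (Set.range x)
  have hcard : Cardinal.mk t = (s : Cardinal) := by
    rw [htb.cardinalMk_eq_trdeg, hs2]
  obtain ⟨e⟩ := Cardinal.mk_eq_nat_iff.mp hcard
  have hy : AlgebraicIndependent k
      (fun l : Fin s => ((e.symm l : t) : MvPolynomial (Fin n) k ⧸ P)) :=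
    htb.1.comp e.symm e.symm.injective
  choose J hJ using fun l : Fin s => hts (e.symm l).2
  refine ⟨J, ?_⟩
  have : (fun l => Ideal.Quotient.mk P (X (J l)))
      = fun l : Fin s => ((e.symm l : t) : MvPolynomial (Fin n) k ⧸ P) := by
    funext l
    have := hJ l
    rw [hx] at this
    exact this
  rw [this]
  exact hy

theorem card_add_finrank_le {k : Type u} [Field k] {n N : ℕ}
    (P I : Ideal (MvPolynomial (Fin n) k)) (hIP : I ≤ P) (J : Fin N → Fin n)
    (hJ : AlgebraicIndependent k (fun l => Ideal.Quotient.mk P (X (J l))))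
    {ι : Type*} [Fintype ι] (α : ι → (Fin N →₀ ℕ)) (hα : Function.Injective α) (D : ℕ)
    (hdeg : ∀ i, (α i).degree = D) :
    Fintype.card ι + finrank k ↥(homogeneousSubmodule (Fin n) k D ⊓ I.restrictScalars k)
      ≤ finrank k ↥(homogeneousSubmodule (Fin n) k D) := by
  classical
  haveI : Module.Finite k ↥(homogeneousSubmodule (Fin n) k D) :=
    Module.Finite.iff_fg.2 (homogeneousSubmodule_fg (Fin n) k D)
  obtain ⟨f, hf⟩ : ∃ f : ↥(homogeneousSubmodule (Fin n) k D) →ₗ[k] (MvPolynomial (Fin n) k ⧸ P),
      ∀ p, f p = Ideal.Quotient.mk P p.1 :=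
    ⟨(Ideal.Quotient.mkₐ k P).toLinearMap.comp (homogeneousSubmodule (Fin n) k D).subtype,
      fun p => rfl⟩
  obtain ⟨y, hy⟩ : ∃ y : Fin N → (MvPolynomial (Fin n) k ⧸ P),
      y = fun l => Ideal.Quotient.mk P (X (J l)) := ⟨_, rfl⟩
  have hcomp : ∀ p : MvPolynomial (Fin N) k, Ideal.Quotient.mk P (rename J p) = aeval y p := by
    intro p
    have h1 : (Ideal.Quotient.mkₐ k P).comp (rename J) = aeval y := by
      apply MvPolynomial.algHom_ext
      intro l
      rw [AlgHom.comp_apply, rename_X, aeval_X, hy]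
      rfl
    exact AlgHom.congr_fun h1 p
  have hwmem : ∀ i, rename J (monomial (α i) (1 : k)) ∈ homogeneousSubmodule (Fin n) k D :=
    fun i => (isHomogeneous_monomial (1 : k) (hdeg i)).rename_isHomogeneous
  have hmono : LinearIndependent k
      (fun i => (monomial (α i) (1 : k) : MvPolynomial (Fin N) k)) := by
    have := (basisMonomials (Fin N) k).linearIndependent.comp α hα
    rw [coe_basisMonomials] at this
    exact this
  have hinj : LinearMap.ker (aeval y : MvPolynomial (Fin N) k →ₐ[k] _).toLinearMap = ⊥ := by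
    rw [LinearMap.ker_eq_bot]
    rw [hy]
    exact hJ
  have hfw : LinearIndependent k
      (fun i => f ⟨rename J (monomial (α i) (1 : k)), hwmem i⟩) := by
    have h := hmono.map' (aeval y : MvPolynomial (Fin N) k →ₐ[k] _).toLinearMap hinj
    have e : (fun i => f ⟨rename J (monomial (α i) (1 : k)), hwmem i⟩)
        = (aeval y : MvPolynomial (Fin N) k →ₐ[k] _).toLinearMap ∘
          (fun i => (monomial (α i) (1 : k) : MvPolynomial (Fin N) k)) := by
      funext i
      rw [hf, hcomp]
      rfl
    rw [e]
    exact h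
  have hrange : LinearIndependent k
      (fun i => f.rangeRestrict ⟨rename J (monomial (α i) (1 : k)), hwmem i⟩) := by
    apply LinearIndependent.of_comp (LinearMap.range f).subtype
    exact hfw
  have h1 : Fintype.card ι ≤ finrank k ↥(LinearMap.range f) := hrange.fintype_card_le_finrank
  have h2 := LinearMap.finrank_range_add_finrank_ker f
  have hUle : homogeneousSubmodule (Fin n) k D ⊓ I.restrictScalars k
      ≤ (LinearMap.ker f).map (homogeneousSubmodule (Fin n) k D).subtype := by
    intro p hp
    refine ⟨⟨p, hp.1⟩, ?_, rfl⟩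
    show f ⟨p, hp.1⟩ = 0
    rw [hf]
    exact Ideal.Quotient.eq_zero_iff_mem.mpr (hIP hp.2)
  have h3 := Submodule.finrank_mono hUle
  rw [Submodule.finrank_map_subtype_eq] at h3
  omega

/-- an explicit family of `d + 2 + e'` exponent vectors of degree `d + 1` in `e' + 2` variables. -/
noncomputable def expo (d e' : ℕ) : (Fin (d + 2)) ⊕ (Fin e') → (Fin (e' + 2) →₀ ℕ)
  | Sum.inl j => Finsupp.single 0 (d + 1 - (j : ℕ)) + Finsupp.single 1 (j : ℕ)
  | Sum.inr i => Finsupp.single 0 d + Finsupp.single i.succ.succ 1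

theorem expo_degree (d e' : ℕ) (i : (Fin (d + 2)) ⊕ (Fin e')) : (expo d e' i).degree = d + 1 := by
  rcases i with j | i
  · show (Finsupp.single 0 (d + 1 - (j : ℕ)) + Finsupp.single 1 (j : ℕ) : Fin (e' + 2) →₀ ℕ).degree = d + 1
    rw [map_add, Finsupp.degree_single, Finsupp.degree_single]
    have := j.2
    omega
  · show (Finsupp.single 0 d + Finsupp.single i.succ.succ 1 : Fin (e' + 2) →₀ ℕ).degree = d + 1
    rw [map_add, Finsupp.degree_single, Finsupp.degree_single]

theorem expo_injective (d e' : ℕ) : Function.Injective (expo d e') := by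
  have h01 : (0 : Fin (e' + 2)) ≠ 1 := by
    intro h
    have := congrArg Fin.val h
    simp at this
  have h0s : ∀ i : Fin e', (0 : Fin (e' + 2)) ≠ i.succ.succ := fun i => (Fin.succ_ne_zero _).symm
  have h1s : ∀ i : Fin e', (1 : Fin (e' + 2)) ≠ i.succ.succ := by
    intro i h
    have := congrArg Fin.val h
    simp only [Fin.val_one, Fin.val_succ] at this
    omega
  have evl : ∀ (j : Fin (d + 2)) (t : Fin (e' + 2)), expo d e' (Sum.inl j) t
      = (if (0 : Fin (e' + 2)) = t then d + 1 - (j : ℕ) else 0) + (if (1 : Fin (e' + 2)) = t then (j : ℕ) else 0) := by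
    intro j t
    show (Finsupp.single 0 (d + 1 - (j : ℕ)) + Finsupp.single 1 (j : ℕ) : Fin (e' + 2) →₀ ℕ) t = _
    rw [Finsupp.add_apply, Finsupp.single_apply, Finsupp.single_apply]
  have evr : ∀ (i : Fin e') (t : Fin (e' + 2)), expo d e' (Sum.inr i) t
      = (if (0 : Fin (e' + 2)) = t then d else 0) + (if i.succ.succ = t then 1 else 0) := by
    intro i t
    show (Finsupp.single 0 d + Finsupp.single i.succ.succ 1 : Fin (e' + 2) →₀ ℕ) t = _
    rw [Finsupp.add_apply, Finsupp.single_apply, Finsupp.single_apply]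
  intro a b hab
  rcases a with j | i <;> rcases b with j' | i'
  · have := DFunLike.congr_fun hab 1
    rw [evl, evl, if_neg h01, if_pos rfl, if_neg h01, if_pos rfl] at this
    congr 1
    apply Fin.ext
    omega
  · exfalso
    have := DFunLike.congr_fun hab i'.succ.succ
    rw [evl, evr, if_neg (h0s i'), if_neg (h1s i'), if_neg (h0s i'), if_pos rfl] at this
    omega
  · exfalso
    have := DFunLike.congr_fun hab i.succ.succ
    rw [evl, evr, if_neg (h0s i), if_neg (h1s i), if_neg (h0s i), if_pos rfl] at this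
    omega
  · have := DFunLike.congr_fun hab i.succ.succ
    rw [evr, evr, if_neg (h0s i), if_pos rfl] at this
    by_cases hii : i'.succ.succ = i.succ.succ
    · congr 1
      exact (Fin.succ_injective _ (Fin.succ_injective _ hii)).symm
    · rw [if_neg hii] at this
      omega

end Groth.Agent.Lib.Lead.HilbLower
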