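import Groth.Agent.Lib.Helper3.FreeBasis
import Groth.Agent.Lib.Helper3.HomMk
import Groth.Agent.Lib.Helper3.QCExact

/-!
# Sectionwise local morphisms of modules, bases and gluing

`LocHom F G U` is a morphism `F|_U ⟶ G|_U` given sectionwise on the opens `V ≤ U` of `X`.
We build such local morphisms from a basis of `F` over `U`, show they are determined by their
values on a basis, and glue compatible families to an honest morphism `F ⟶ G`.
-/

set_option autoImplicit false
set_option linter.style.haveILetI false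
universe u
open CategoryTheory CategoryTheory.Limits AlgebraicGeometry TopologicalSpace Opposite
open Scheme.Modules

namespace Groth.Agent.Lib.Lead.HomExt

open Groth.Agent.Lib.Helper3 Groth.Agent.Lib.Helper3.QCSec Groth.Agent.Lib.Helper3.InvGen
  Groth.Agent.Lib.Helper3.FreeBasis Groth.Agent.Lib.Helper3.HomMk

variable {X : Scheme.{u}}

/-- restriction of a global function to an open -/
noncomputable abbrev rT (f : Γ(X, ⊤)) (V : X.Opens) : Γ(X, V) := rres X (le_top : V ≤ ⊤) f

theorem rres_rT (f : Γ(X, ⊤)) {A B : X.Opens} (h : A ≤ B) : rres X h (rT f B) = rT f A :=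
  rres_rres h le_top f

theorem res_sum (M : X.Modules) {A B : X.Opens} (h : A ≤ B) {ι : Type*} (s : Finset ι)
    (t : ι → Γ(M, B)) : res M h (∑ i ∈ s, t i) = ∑ i ∈ s, res M h (t i) :=
  _root_.map_sum _ t s

/-- A morphism `F|_U ⟶ G|_U`, given sectionwise on the opens of `X` contained in `U`. -/
structure LocHom (F G : X.Modules) (U : X.Opens) where
  /-- the maps on sections -/
  toFun : ∀ V : X.Opens, V ≤ U → Γ(F, V) → Γ(G, V)
  map_add : ∀ (V : X.Opens) (h : V ≤ U) (s s' : Γ(F, V)),
    toFun V h (s + s') = toFun V h s + toFun V h s'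
  map_smul : ∀ (V : X.Opens) (h : V ≤ U) (a : Γ(X, V)) (s : Γ(F, V)),
    toFun V h (a • s) = a • toFun V h s
  map_res : ∀ (V V' : X.Opens) (h : V ≤ U) (h' : V' ≤ V) (s : Γ(F, V)),
    res G h' (toFun V h s) = toFun V' (h'.trans h) (res F h' s)

namespace LocHom

variable {F G : X.Modules} {U : X.Opens}

theorem map_zero (φ : LocHom F G U) (V : X.Opens) (h : V ≤ U) : φ.toFun V h 0 = 0 := by
  have := φ.map_add V h 0 0
  rw [add_zero] at this
  exact left_eq_add.mp this

theorem map_sum (φ : LocHom F G U) (V : X.Opens) (h : V ≤ U) {ι : Type*} (s : Finset ι)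
    (t : ι → Γ(F, V)) : φ.toFun V h (∑ i ∈ s, t i) = ∑ i ∈ s, φ.toFun V h (t i) := by
  classical
  induction s using Finset.induction_on with
  | empty => simp only [Finset.sum_empty]; exact φ.map_zero V h
  | insert a s ha ih => rw [Finset.sum_insert ha, Finset.sum_insert ha, φ.map_add, ih]

/-- restriction to a smaller open -/
def restrict (φ : LocHom F G U) {U' : X.Opens} (hU : U' ≤ U) : LocHom F G U' where
  toFun V h := φ.toFun V (h.trans hU)
  map_add V h := φ.map_add V (h.trans hU)
  map_smul V h := φ.map_smul V (h.trans hU)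
  map_res V V' h h' := φ.map_res V V' (h.trans hU) h'

/-- the local morphism underlying a morphism -/
noncomputable def ofHom (b : F ⟶ G) (U : X.Opens) : LocHom F G U where
  toFun V _ s := b.app V s
  map_add _ _ s s' := _root_.map_add (b.app _).hom s s'
  map_smul _ _ a s := Scheme.Modules.Hom.app_smul b a s
  map_res _ _ _ h' s := (QCExact.app_res' b h' s).symm

/-- multiplication by a global function -/
noncomputable def smulTop (f : Γ(X, ⊤)) (φ : LocHom F G U) : LocHom F G U where
  toFun V h s := rT f V • φ.toFun V h s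
  map_add V h s s' := by rw [φ.map_add, smul_add]
  map_smul V h a s := by rw [φ.map_smul, smul_comm]
  map_res V V' h h' s := by rw [res_smul, rres_rT, φ.map_res]

/-- difference -/
noncomputable def sub (φ ψ : LocHom F G U) : LocHom F G U where
  toFun V h s := φ.toFun V h s - ψ.toFun V h s
  map_add V h s s' := by rw [φ.map_add, ψ.map_add]; abel
  map_smul V h a s := by rw [φ.map_smul, ψ.map_smul, smul_sub]
  map_res V V' h h' s := by rw [res_sub, φ.map_res, ψ.map_res]

/-- two local morphisms agreeing on a basis agree -/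
theorem ext_of_basis {n : ℕ} {e : Fin n → Γ(F, U)} (hb : IsBasis F U e) (φ ψ : LocHom F G U)
    (h : ∀ i, φ.toFun U le_rfl (e i) = ψ.toFun U le_rfl (e i)) (V : X.Opens) (hV : V ≤ U)
    (s : Γ(F, V)) : φ.toFun V hV s = ψ.toFun V hV s := by
  obtain ⟨a, rfl⟩ := (hb V hV).2 s
  change φ.toFun V hV (∑ i, a i • res F hV (e i)) = ψ.toFun V hV (∑ i, a i • res F hV (e i))
  rw [φ.map_sum, ψ.map_sum]
  refine Finset.sum_congr rfl fun i _ => ?_
  rw [φ.map_smul, ψ.map_smul, ← φ.map_res U V le_rfl hV, ← ψ.map_res U V le_rfl hV, h i]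

/-- a local morphism vanishing on a basis vanishes -/
theorem eq_zero_of_basis {n : ℕ} {e : Fin n → Γ(F, U)} (hb : IsBasis F U e) (φ : LocHom F G U)
    (h : ∀ i, φ.toFun U le_rfl (e i) = 0) (V : X.Opens) (hV : V ≤ U)
    (s : Γ(F, V)) : φ.toFun V hV s = 0 := by
  obtain ⟨a, rfl⟩ := (hb V hV).2 s
  change φ.toFun V hV (∑ i, a i • res F hV (e i)) = 0
  rw [φ.map_sum]
  refine Finset.sum_eq_zero fun i _ => ?_
  rw [φ.map_smul, ← φ.map_res U V le_rfl hV, h i, res_zero, smul_zero]

/-- coordinates with respect to a basis -/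
noncomputable def coord {n : ℕ} {e : Fin n → Γ(F, U)} (hb : IsBasis F U e) (V : X.Opens)
    (hV : V ≤ U) (s : Γ(F, V)) : Fin n → Γ(X, V) :=
  (Equiv.ofBijective _ (hb V hV)).symm s

theorem sum_coord {n : ℕ} {e : Fin n → Γ(F, U)} (hb : IsBasis F U e) (V : X.Opens)
    (hV : V ≤ U) (s : Γ(F, V)) : ∑ i, coord hb V hV s i • res F hV (e i) = s :=
  (Equiv.ofBijective _ (hb V hV)).apply_symm_apply s

theorem coord_unique {n : ℕ} {e : Fin n → Γ(F, U)} (hb : IsBasis F U e) (V : X.Opens)
    (hV : V ≤ U) (s : Γ(F, V)) (a : Fin n → Γ(X, V)) (h : ∑ i, a i • res F hV (e i) = s) :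
    coord hb V hV s = a := by
  apply (hb V hV).1
  change ∑ i, coord hb V hV s i • res F hV (e i) = ∑ i, a i • res F hV (e i)
  rw [sum_coord, h]

/-- the local morphism sending a basis to prescribed sections -/
noncomputable def ofBasis {n : ℕ} {e : Fin n → Γ(F, U)} (hb : IsBasis F U e)
    (γ : Fin n → Γ(G, U)) : LocHom F G U where
  toFun V hV s := ∑ i, coord hb V hV s i • res G hV (γ i)
  map_add V hV s s' := by
    have : coord hb V hV (s + s') = fun i => coord hb V hV s i + coord hb V hV s' i := by
      apply coord_unique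
      simp only [add_smul, Finset.sum_add_distrib, sum_coord]
    rw [this]
    simp only [add_smul, Finset.sum_add_distrib]
  map_smul V hV a s := by
    have : coord hb V hV (a • s) = fun i => a * coord hb V hV s i := by
      apply coord_unique
      simp only [mul_smul, ← Finset.smul_sum, sum_coord]
    rw [this]
    simp only [mul_smul, ← Finset.smul_sum]
  map_res V V' hV h' s := by
    have : coord hb V' (h'.trans hV) (res F h' s) = fun i => rres X h' (coord hb V hV s i) := by
      apply coord_unique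
      have h1 := congrArg (res F h') (sum_coord hb V hV s)
      rw [res_sum] at h1
      simp only [res_smul, res_res] at h1
      exact h1
    rw [this, res_sum]
    simp only [res_smul, res_res]

theorem ofBasis_basis {n : ℕ} {e : Fin n → Γ(F, U)} (hb : IsBasis F U e)
    (γ : Fin n → Γ(G, U)) (i : Fin n) : (ofBasis hb γ).toFun U le_rfl (e i) = γ i := by
  classical
  have : coord hb U le_rfl (e i) = fun j => if j = i then 1 else 0 := by
    apply coord_unique
    simp only [ite_smul, one_smul, zero_smul, Finset.sum_ite_eq', Finset.mem_univ, if_true,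
      res_self]
  change ∑ j, coord hb U le_rfl (e i) j • res G le_rfl (γ j) = γ i
  rw [this]
  simp only [ite_smul, one_smul, zero_smul, Finset.sum_ite_eq', Finset.mem_univ, if_true,
    res_self]

end LocHom

/-- Gluing compatible local morphisms over a cover to a morphism. -/
theorem exists_hom_of_locHom {F G : X.Modules} {K : Type u} (W : K → X.Opens)
    (hcov : ∀ V : X.Opens, V ≤ ⨆ k, W k) (φ : ∀ k, LocHom F G (W k))
    (hcompat : ∀ (k l : K) (V : X.Opens) (hk : V ≤ W k) (hl : V ≤ W l) (s : Γ(F, V)),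
      (φ k).toFun V hk s = (φ l).toFun V hl s) :
    ∃ b : F ⟶ G, ∀ (k : K) (V : X.Opens) (hk : V ≤ W k) (s : Γ(F, V)),
      b.app V s = (φ k).toFun V hk s := by
  have hc : ∀ V : X.Opens, V ≤ ⨆ k, V ⊓ W k := fun V => by
    calc V = V ⊓ ⨆ k, W k := (inf_eq_left.mpr (hcov V)).symm
      _ = ⨆ k, V ⊓ W k := inf_iSup_eq V W
      _ ≤ _ := le_rfl
  have key : ∀ (V : X.Opens) (s : Γ(F, V)), ∃ t : Γ(G, V), ∀ k,
      res G (inf_le_left : V ⊓ W k ≤ V) t =
        (φ k).toFun (V ⊓ W k) inf_le_right (res F inf_le_left s) := by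
    intro V s
    apply sec_glue G (fun k => V ⊓ W k) V (fun k => inf_le_left) (hc V)
    intro k l
    rw [(φ k).map_res, (φ l).map_res, res_res, res_res]
    exact hcompat k l _ _ _ _
  choose β hβ using key
  have hβ' : ∀ (k : K) (V : X.Opens) (hk : V ≤ W k) (s : Γ(F, V)),
      β V s = (φ k).toFun V hk s := by
    intro k V hk s
    apply sec_eq_of_locally_eq G (fun l => V ⊓ W l) V (fun l => inf_le_left) (hc V)
    intro l
    rw [hβ V s l, (φ k).map_res]
    exact hcompat l k _ _ _ _
  have huniq : ∀ (V : X.Opens) (s : Γ(F, V)) (t : Γ(G, V)), (∀ k,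
      res G (inf_le_left : V ⊓ W k ≤ V) t =
        (φ k).toFun (V ⊓ W k) inf_le_right (res F inf_le_left s)) → β V s = t := by
    intro V s t ht
    apply sec_eq_of_locally_eq G (fun l => V ⊓ W l) V (fun l => inf_le_left) (hc V)
    intro l
    rw [hβ V s l, ht l]
  refine ⟨homMk β ?_ ?_ ?_, fun k V hk s => hβ' k V hk s⟩
  · intro V s s'
    apply huniq
    intro k
    rw [QCExact.res_add, hβ, hβ, QCExact.res_add, (φ k).map_add]
  · intro V a s
    apply huniq
    intro k
    rw [res_smul, hβ, res_smul, (φ k).map_smul]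
  · intro V V' h s
    symm
    apply huniq
    intro k
    rw [res_res]
    have h1 : res G ((inf_le_left : V' ⊓ W k ≤ V').trans h) (β V s) =
        res G (inf_le_inf_right (W k) h : V' ⊓ W k ≤ V ⊓ W k) (res G inf_le_left (β V s)) := by
      rw [res_res]
    rw [h1, hβ V s k, (φ k).map_res, res_res, res_res]

end Groth.Agent.Lib.Lead.HomExt
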