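import Groth.Agent.Lib.Lead.HomExt1

/-!
# Local morphisms on a chart: killing by powers and extension from a basic open
-/

set_option autoImplicit false
set_option linter.style.haveILetI false
universe u
open CategoryTheory CategoryTheory.Limits AlgebraicGeometry TopologicalSpace Opposite
open Scheme.Modules

namespace Groth.Agent.Lib.Lead.HomExt

open Groth.Agent.Lib.Helper3 Groth.Agent.Lib.Helper3.QCSec Groth.Agent.Lib.Helper3.InvGen
  Groth.Agent.Lib.Helper3.FreeBasis Groth.Agent.Lib.Helper3.HomMk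

variable {X : Scheme.{u}}

theorem rT_pow (f : Γ(X, ⊤)) (V : X.Opens) (n : ℕ) : rT (f ^ n) V = (rT f V) ^ n :=
  rres_pow le_top f n

theorem inf_basicOpen_eq (f : Γ(X, ⊤)) (U : X.Opens) :
    U ⊓ X.basicOpen f = X.basicOpen (rT f U) :=
  (Scheme.basicOpen_res X f (homOfLE (le_top : U ≤ ⊤)).op).symm

namespace LocHom

variable {F G : X.Modules} {U : X.Opens}

/-- A local morphism out of a module with a basis over a quasi-compact open `U`, vanishing on
`U ∩ X_f`, is killed by a power of `f`. -/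
theorem exists_pow_kill [G.IsQuasicoherent] (hU : IsCompact (U : Set X)) {n : ℕ}
    {e : Fin n → Γ(F, U)} (hb : IsBasis F U e) (f : Γ(X, ⊤)) (φ : LocHom F G U)
    (hφ : ∀ (V : X.Opens) (hV : V ≤ U), V ≤ X.basicOpen f → ∀ s, φ.toFun V hV s = 0) :
    ∃ M : ℕ, ∀ (V : X.Opens) (hV : V ≤ U) (s : Γ(F, V)), (rT f V) ^ M • φ.toFun V hV s = 0 := by
  have key : ∀ i, ∃ m : ℕ, (rT f U) ^ m • φ.toFun U le_rfl (e i) = 0 := by
    intro i
    apply inj_of_isCompact G hU (rT f U) (inf_basicOpen_eq f U) inf_le_left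
    rw [φ.map_res]
    exact hφ _ _ inf_le_right _
  choose m hm using key
  refine ⟨Finset.univ.sup m, fun V hV s => ?_⟩
  have h0 := eq_zero_of_basis hb (smulTop (f ^ (Finset.univ.sup m)) φ) (fun i => ?_) V hV s
  · change rT (f ^ _) V • φ.toFun V hV s = 0 at h0
    rwa [rT_pow] at h0
  · change rT (f ^ _) U • φ.toFun U le_rfl (e i) = 0
    have hle : m i ≤ Finset.univ.sup m := Finset.le_sup (Finset.mem_univ i)
    rw [rT_pow, ← Nat.sub_add_cancel hle, pow_add, mul_smul, hm i, smul_zero]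

/-- A local morphism on `U ∩ X_f` out of a module with a basis over an affine open `U` extends to
`U` after multiplication by a power of `f`. -/
theorem exists_extend_chart [G.IsQuasicoherent] (hU : IsAffineOpen U) {n : ℕ}
    {e : Fin n → Γ(F, U)} (hb : IsBasis F U e) (f : Γ(X, ⊤))
    (ψ : LocHom F G (U ⊓ X.basicOpen f)) :
    ∃ (N : ℕ) (φ : LocHom F G U), ∀ (V : X.Opens) (hV : V ≤ U ⊓ X.basicOpen f) (s : Γ(F, V)),
      φ.toFun V (hV.trans inf_le_left) s = (rT f V) ^ N • ψ.toFun V hV s := by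
  have hloc := isLocSec_of_isQuasicoherent G hU (rT f U) (U ⊓ X.basicOpen f)
    (inf_basicOpen_eq f U) inf_le_left
  have key : ∀ i, ∃ (m : ℕ) (γ : Γ(G, U)), res G (inf_le_left : U ⊓ X.basicOpen f ≤ U) γ =
      (rT f (U ⊓ X.basicOpen f)) ^ m • ψ.toFun _ le_rfl (res F inf_le_left (e i)) := by
    intro i
    obtain ⟨m, γ, h⟩ := hloc.surj (ψ.toFun _ le_rfl (res F inf_le_left (e i)))
    exact ⟨m, γ, by rw [h, rres_rT]⟩
  choose m γ hγ using key
  let N := Finset.univ.sup m
  have hN : ∀ i, m i ≤ N := fun i => Finset.le_sup (Finset.mem_univ i)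
  let γ' : Fin n → Γ(G, U) := fun i => (rT f U) ^ (N - m i) • γ i
  have hγ' : ∀ i, res G (inf_le_left : U ⊓ X.basicOpen f ≤ U) (γ' i) =
      (rT f (U ⊓ X.basicOpen f)) ^ N • ψ.toFun _ le_rfl (res F inf_le_left (e i)) := by
    intro i
    change res G _ ((rT f U) ^ (N - m i) • γ i) = _
    rw [res_pow_smul, rres_rT, hγ i, ← mul_smul, ← pow_add, Nat.sub_add_cancel (hN i)]
  refine ⟨N, ofBasis hb γ', fun V hV s => ?_⟩
  have h1 := ext_of_basis (hb.mono (inf_le_left : U ⊓ X.basicOpen f ≤ U))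
    ((ofBasis hb γ').restrict inf_le_left) (smulTop (f ^ N) ψ) (fun i => ?_) V hV s
  · change (ofBasis hb γ').toFun V _ s = rT (f ^ N) V • ψ.toFun V hV s at h1
    rw [h1, rT_pow]
  · change (ofBasis hb γ').toFun (U ⊓ X.basicOpen f) _ (res F inf_le_left (e i)) =
      rT (f ^ N) _ • ψ.toFun _ le_rfl (res F inf_le_left (e i))
    rw [← (ofBasis hb γ').map_res U _ le_rfl inf_le_left, ofBasis_basis, hγ' i, rT_pow]

end LocHom

end Groth.Agent.Lib.Lead.HomExt
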