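import Groth.Agent.Lib.Lead.HomExt2

/-!
# Extending morphisms out of a finite locally free module from a basic open

`X` a scheme with a finite cover by affine opens `W k` with quasi-compact pairwise intersections over
which `F` has bases, `G` quasi-coherent, `f` a global function.  A morphism `F|_{X_f} → G|_{X_f}`
extends to `X` after multiplication by a power of `f`; a morphism `F → G` vanishing on `X_f` is
killed by a power of `f`.
-/

set_option autoImplicit false
set_option linter.style.haveILetI false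
universe u
open CategoryTheory CategoryTheory.Limits AlgebraicGeometry TopologicalSpace Opposite
open Scheme.Modules

namespace Groth.Agent.Lib.Lead.HomExt

open Groth.Agent.Lib.Helper3 Groth.Agent.Lib.Helper3.QCSec Groth.Agent.Lib.Helper3.InvGen
  Groth.Agent.Lib.Helper3.FreeBasis Groth.Agent.Lib.Helper3.HomMk

variable {X : Scheme.{u}}

/-- A finite trivialising affine atlas for `F`. -/
structure Charts (F : X.Modules) (K : Type u) where
  /-- the charts -/
  W : K → X.Opens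
  aff : ∀ k, IsAffineOpen (W k)
  inter : ∀ k l, IsCompact ((W k ⊓ W l : X.Opens) : Set X)
  cov : ∀ V : X.Opens, V ≤ ⨆ k, W k
  /-- the ranks -/
  n : K → ℕ
  /-- the bases -/
  e : ∀ k, Fin (n k) → Γ(F, W k)
  basis : ∀ k, IsBasis F (W k) (e k)

theorem Charts.cov' {F : X.Modules} {K : Type u} (c : Charts F K) (V : X.Opens) :
    V ≤ ⨆ k, V ⊓ c.W k := by
  calc V = V ⊓ ⨆ k, c.W k := (inf_eq_left.mpr (c.cov V)).symm
    _ = ⨆ k, V ⊓ c.W k := inf_iSup_eq V c.W
    _ ≤ _ := le_rfl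

/-- A morphism out of `F` vanishing on `X_f` is killed by a power of `f`. -/
theorem exists_pow_smul_app_eq_zero {F G : X.Modules} [G.IsQuasicoherent] {K : Type u} [Finite K]
    (c : Charts F K) (f : Γ(X, ⊤)) (b : F ⟶ G)
    (hb0 : ∀ V : X.Opens, V ≤ X.basicOpen f → ∀ s : Γ(F, V), b.app V s = 0) :
    ∃ M : ℕ, ∀ (V : X.Opens) (s : Γ(F, V)), (rT f V) ^ M • b.app V s = 0 := by
  have := Fintype.ofFinite K
  have key : ∀ k, ∃ M : ℕ, ∀ (V : X.Opens) (_ : V ≤ c.W k) (s : Γ(F, V)),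
      (rT f V) ^ M • b.app V s = 0 := fun k =>
    LocHom.exists_pow_kill (c.aff k).isCompact (c.basis k) f (LocHom.ofHom b (c.W k))
      (fun V _ hVf s => hb0 V hVf s)
  choose m hm using key
  refine ⟨Finset.univ.sup m, fun V s => ?_⟩
  apply sec_eq_of_locally_eq G (fun k => V ⊓ c.W k) V (fun k => inf_le_left) (c.cov' V)
  intro k
  have hle : m k ≤ Finset.univ.sup m := Finset.le_sup (Finset.mem_univ k)
  rw [res_pow_smul, rres_rT, ← QCExact.app_res', res_zero, ← Nat.sub_add_cancel hle, pow_add,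
    mul_smul, hm k _ inf_le_right, smul_zero]

/-- A morphism `F|_{X_f} → G|_{X_f}` extends to `X` after multiplication by a power of `f`. -/
theorem exists_extend {F G : X.Modules} [G.IsQuasicoherent] {K : Type u} [Finite K]
    (c : Charts F K) (f : Γ(X, ⊤)) (ψ : LocHom F G (X.basicOpen f)) :
    ∃ (N : ℕ) (b : F ⟶ G), ∀ (V : X.Opens) (hV : V ≤ X.basicOpen f) (s : Γ(F, V)),
      b.app V s = (rT f V) ^ N • ψ.toFun V hV s := by
  have := Fintype.ofFinite K
  -- step 1: extend on each chart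
  have key1 : ∀ k, ∃ (N : ℕ) (φ : LocHom F G (c.W k)),
      ∀ (V : X.Opens) (hV : V ≤ c.W k) (hVf : V ≤ X.basicOpen f) (s : Γ(F, V)),
        φ.toFun V hV s = (rT f V) ^ N • ψ.toFun V hVf s := by
    intro k
    obtain ⟨N, φ, hφ⟩ := LocHom.exists_extend_chart (c.aff k) (c.basis k) f
      (ψ.restrict (inf_le_right : c.W k ⊓ X.basicOpen f ≤ X.basicOpen f))
    exact ⟨N, φ, fun V hV hVf s => hφ V (le_inf hV hVf) s⟩
  choose N₀ φ₀ hφ₀ using key1
  let N := Finset.univ.sup N₀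
  have hN : ∀ k, N₀ k ≤ N := fun k => Finset.le_sup (Finset.mem_univ k)
  let φ₁ : ∀ k, LocHom F G (c.W k) := fun k => LocHom.smulTop (f ^ (N - N₀ k)) (φ₀ k)
  have hφ₁ : ∀ k (V : X.Opens) (hV : V ≤ c.W k) (hVf : V ≤ X.basicOpen f) (s : Γ(F, V)),
      (φ₁ k).toFun V hV s = (rT f V) ^ N • ψ.toFun V hVf s := by
    intro k V hV hVf s
    change rT (f ^ (N - N₀ k)) V • (φ₀ k).toFun V hV s = _
    rw [hφ₀ k V hV hVf s, rT_pow, ← mul_smul, ← pow_add, Nat.sub_add_cancel (hN k)]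
  -- step 2: compatibility after a further power
  have key2 : ∀ p : K × K, ∃ M : ℕ, ∀ (V : X.Opens) (hk : V ≤ c.W p.1) (hl : V ≤ c.W p.2)
      (s : Γ(F, V)), (rT f V) ^ M • ((φ₁ p.1).toFun V hk s - (φ₁ p.2).toFun V hl s) = 0 := by
    intro p
    obtain ⟨M, hM⟩ := LocHom.exists_pow_kill (c.inter p.1 p.2)
      ((c.basis p.1).mono (inf_le_left : c.W p.1 ⊓ c.W p.2 ≤ c.W p.1)) f
      (((φ₁ p.1).restrict inf_le_left).sub ((φ₁ p.2).restrict inf_le_right))
      (fun V hV hVf s => by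
        change (φ₁ p.1).toFun V _ s - (φ₁ p.2).toFun V _ s = 0
        rw [hφ₁ p.1 V _ hVf s, hφ₁ p.2 V _ hVf s, sub_self])
    exact ⟨M, fun V hk hl s => hM V (le_inf hk hl) s⟩
  choose M₀ hM₀ using key2
  let M := Finset.univ.sup M₀
  have hM : ∀ p, M₀ p ≤ M := fun p => Finset.le_sup (Finset.mem_univ p)
  let φ₂ : ∀ k, LocHom F G (c.W k) := fun k => LocHom.smulTop (f ^ M) (φ₁ k)
  have hcompat : ∀ (k l : K) (V : X.Opens) (hk : V ≤ c.W k) (hl : V ≤ c.W l) (s : Γ(F, V)),
      (φ₂ k).toFun V hk s = (φ₂ l).toFun V hl s := by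
    intro k l V hk hl s
    change rT (f ^ M) V • (φ₁ k).toFun V hk s = rT (f ^ M) V • (φ₁ l).toFun V hl s
    rw [← sub_eq_zero, ← smul_sub, rT_pow, ← Nat.sub_add_cancel (hM (k, l)), pow_add, mul_smul,
      hM₀ (k, l) V hk hl s, smul_zero]
  obtain ⟨b, hb⟩ := exists_hom_of_locHom c.W c.cov φ₂ hcompat
  refine ⟨M + N, b, fun V hV s => ?_⟩
  apply sec_eq_of_locally_eq G (fun k => V ⊓ c.W k) V (fun k => inf_le_left) (c.cov' V)
  intro k
  rw [← QCExact.app_res', hb k _ inf_le_right, res_pow_smul, rres_rT, ψ.map_res]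
  change rT (f ^ M) _ • (φ₁ k).toFun _ _ _ = _
  rw [hφ₁ k _ inf_le_right (inf_le_left.trans hV), rT_pow, ← mul_smul, ← pow_add]

end Groth.Agent.Lib.Lead.HomExt
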