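import Groth.Agent.Lib.Lead.HomExt3
import Groth.Agent.Lib.Helper3.QCOpen

/-!
# A power of `f` factors through a free module when `F` is free over `X_f`
-/

set_option autoImplicit false
set_option linter.style.haveILetI false
universe u
open CategoryTheory CategoryTheory.Limits AlgebraicGeometry TopologicalSpace Opposite
open Scheme.Modules

namespace Groth.Agent.Lib.Lead.HomExt

open Groth.Agent.Lib.Helper3 Groth.Agent.Lib.Helper3.QCSec Groth.Agent.Lib.Helper3.InvGen
  Groth.Agent.Lib.Helper3.FreeBasis Groth.Agent.Lib.Helper3.HomMk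

variable {X : Scheme.{u}}

/-- multiplication by a global function, as a morphism of modules -/
noncomputable def mulHom (f : Γ(X, ⊤)) (G : X.Modules) : G ⟶ G :=
  homMk (fun V s => rT f V • s) (fun _ _ _ => smul_add _ _ _) (fun _ _ _ => smul_comm _ _ _)
    (fun h s => by rw [res_smul, rres_rT])

theorem mulHom_app (f : Γ(X, ⊤)) (G : X.Modules) (V : X.Opens) (s : Γ(G, V)) :
    (mulHom f G).app V s = rT f V • s := rfl

theorem isBasis_one (U : X.Opens) :
    IsBasis (Coh.structureModule X) U (fun _ : Fin 1 => ofFun U 1) := by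
  intro V hV
  unfold IsBasisAt
  have h : (fun a : Fin 1 → Γ(X, V) => ∑ i, a i • res (Coh.structureModule X) hV (ofFun U 1)) =
      fun a => ofFun V (a 0) := by
    funext a
    rw [Fin.sum_univ_one, res_ofFun, rres_one, smul_ofFun, mul_one]
  rw [h]
  constructor
  · intro a a' haa
    funext i
    have := ofFun_injective V haa
    rwa [Fin.fin_one_eq_zero i]
  · intro t
    exact ⟨fun _ => toFun V t, rfl⟩

/-- the trivial atlas for the structure module over the same cover -/
noncomputable def Charts.one {F : X.Modules} {K : Type u} (c : Charts F K) :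
    Charts (Coh.structureModule X) K where
  W := c.W
  aff := c.aff
  inter := c.inter
  cov := c.cov
  n := fun _ => 1
  e := fun k _ => ofFun (c.W k) 1
  basis := fun k => isBasis_one (c.W k)

/-- If `F` is free over `X_f`, some power of `f` (as an endomorphism of `F`) is a sum of
composites `F ⟶ O ⟶ F`. -/
theorem exists_trace {F : X.Modules} [F.IsQuasicoherent] {K : Type u} [Finite K]
    (c : Charts F K) (f : Γ(X, ⊤)) {r : ℕ} (e₀ : Fin r → Γ(F, X.basicOpen f))
    (hb₀ : IsBasis F (X.basicOpen f) e₀) :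
    ∃ (L : ℕ) (bb : Fin r → (F ⟶ Coh.structureModule X))
      (aa : Fin r → (Coh.structureModule X ⟶ F)), ∑ j, bb j ≫ aa j = mulHom (f ^ L) F := by
  classical
  -- the coordinate morphisms
  have key1 : ∀ j : Fin r, ∃ (N : ℕ) (b : F ⟶ Coh.structureModule X),
      ∀ (V : X.Opens) (hV : V ≤ X.basicOpen f) (s : Γ(F, V)),
        b.app V s = (rT f V) ^ N • ofFun V (LocHom.coord hb₀ V hV s j) := by
    intro j
    obtain ⟨N, b, hb⟩ := exists_extend c f
      (LocHom.ofBasis hb₀ (fun i => if i = j then ofFun (X.basicOpen f) 1 else 0))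
    refine ⟨N, b, fun V hV s => ?_⟩
    rw [hb V hV s]
    congr 1
    change ∑ i, LocHom.coord hb₀ V hV s i •
      res (Coh.structureModule X) hV (if i = j then ofFun (X.basicOpen f) 1 else 0) = _
    have : ∀ i, LocHom.coord hb₀ V hV s i •
        res (Coh.structureModule X) hV (if i = j then ofFun (X.basicOpen f) 1 else 0) =
        if i = j then ofFun V (LocHom.coord hb₀ V hV s i) else 0 := by
      intro i
      split_ifs
      · rw [res_ofFun, rres_one, smul_ofFun, mul_one]
      · rw [res_zero, smul_zero]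
    simp only [this, Finset.sum_ite_eq', Finset.mem_univ, if_true]
  choose N₁ b hb using key1
  -- the basis morphisms
  have key2 : ∀ j : Fin r, ∃ (N : ℕ) (a : Coh.structureModule X ⟶ F),
      ∀ (V : X.Opens) (hV : V ≤ X.basicOpen f) (t : Γ(X, V)),
        a.app V (ofFun V t) = (rT f V) ^ N • t • res F hV (e₀ j) := by
    intro j
    obtain ⟨N, a, ha⟩ := exists_extend c.one f
      (LocHom.ofBasis (isBasis_one (X.basicOpen f)) (fun _ => e₀ j))
    refine ⟨N, a, fun V hV t => ?_⟩
    rw [ha V hV]
    congr 1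
    have h1 : LocHom.coord (isBasis_one (X.basicOpen f)) V hV (ofFun V t) = fun _ => t := by
      apply LocHom.coord_unique
      rw [Fin.sum_univ_one, res_ofFun, rres_one, smul_ofFun, mul_one]
    change ∑ i, LocHom.coord (isBasis_one (X.basicOpen f)) V hV (ofFun V t) i •
      res F hV (e₀ j) = _
    rw [h1, Fin.sum_univ_one]
  choose N₂ a ha using key2
  -- uniform exponents
  let N := Finset.univ.sup (fun j => N₁ j + N₂ j)
  have hN : ∀ j, N₁ j + N₂ j ≤ N := fun j =>
    Finset.le_sup (f := fun j => N₁ j + N₂ j) (Finset.mem_univ j)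
  let b' : Fin r → (F ⟶ Coh.structureModule X) := fun j =>
    b j ≫ mulHom (f ^ (N - (N₁ j + N₂ j))) _
  -- the difference vanishes on `X_f`
  have hzero : ∀ V : X.Opens, V ≤ X.basicOpen f → ∀ s : Γ(F, V),
      (∑ j, b' j ≫ a j - mulHom (f ^ N) F).app V s = 0 := by
    intro V hV s
    have h1 : (∑ j, b' j ≫ a j - mulHom (f ^ N) F).app V s =
        (∑ j, b' j ≫ a j).app V s - (mulHom (f ^ N) F).app V s := rfl
    rw [h1, sum_app, mulHom_app, sub_eq_zero, rT_pow]
    have h2 : ∀ j, (b' j ≫ a j).app V s =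
        (rT f V) ^ N • (LocHom.coord hb₀ V hV s j • res F hV (e₀ j)) := by
      intro j
      change (a j).app V ((mulHom (f ^ (N - (N₁ j + N₂ j))) _).app V ((b j).app V s)) = _
      rw [mulHom_app, hb j V hV s, rT_pow, smul_ofFun, smul_ofFun, ha j V hV, smul_smul,
        smul_smul]
      congr 1
      have : (rT f V) ^ N = (rT f V) ^ (N - (N₁ j + N₂ j)) * ((rT f V) ^ N₁ j * (rT f V) ^ N₂ j) := by
        rw [← pow_add, ← pow_add, Nat.sub_add_cancel (hN j)]
      rw [this]
      ring
    simp only [h2]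
    rw [← Finset.smul_sum, LocHom.sum_coord]
  obtain ⟨M, hM⟩ := exists_pow_smul_app_eq_zero c f _ hzero
  refine ⟨M + N, fun j => b' j ≫ mulHom (f ^ M) _, a, ?_⟩
  apply Scheme.Modules.hom_ext
  intro V
  ext s
  have h3 := hM V s
  have h1 : (∑ j, b' j ≫ a j - mulHom (f ^ N) F).app V s =
      (∑ j, b' j ≫ a j).app V s - (mulHom (f ^ N) F).app V s := rfl
  rw [h1, smul_sub, sub_eq_zero, sum_app, mulHom_app] at h3
  rw [sum_app]
  change ∑ j, (a j).app V ((mulHom (f ^ M) _).app V ((b' j).app V s)) = (mulHom (f ^ (M + N)) F).app V s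
  simp only [mulHom_app, Scheme.Modules.Hom.app_smul]
  rw [← Finset.smul_sum, rT_pow, rT_pow, pow_add, mul_smul, ← rT_pow f V N, ← h3]
  rfl

end Groth.Agent.Lib.Lead.HomExt
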