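import Mathlib
import Groth.Prelude.Def_Dual3
import Groth.Agent.Lib.Lead.ExtZQC
import Groth.Agent.Lib.Helper2.ShriekExt.Shriek
import Groth.Agent.Lib.Helper13.WayOut
import Groth.Agent.Lib.Helper13.ClImmPush
import Groth.Agent.Lib.Helper25.LocGenClosed
import Groth.Agent.Lib.Helper1.PushCoh
import Groth.Agent.Lib.Helper17.DevBasic
import Groth.Agent.Lib.Helper17.DevKey
import Groth.Agent.S0019

/-!
# `R Hom(O_Z, -)` preserves quasi-coherent / coherent cohomology (lead)

For a closed immersion `i : Z ⟶ X` into a locally Noetherian scheme, the right derived functors of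
`Hom(O_Z, -)` (the right adjoint of `i_*`) send quasi-coherent modules to quasi-coherent modules and
coherent modules to coherent modules; by the way-out lemma the same holds for `R Hom(O_Z, -)` on `D⁺`.
-/

set_option autoImplicit false
set_option linter.style.haveILetI false
universe u
open CategoryTheory CategoryTheory.Limits AlgebraicGeometry TopologicalSpace Opposite

attribute [local instance] HasDerivedCategory.standard

namespace Groth.Agent.Lib.Lead.RHomOQC

open Groth.Agent.Lib.Helper13 Groth.Agent.Lib.Helper3 Scheme.Modules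

section Closed

/-- coherent modules on a locally Noetherian scheme are closed under kernels, cokernels and
extensions -/
lemma closed_coh (X : Scheme.{u}) [IsLocallyNoetherian X] :
    WayOut.Closed (D := X.Modules) (fun M : X.Modules => Coh.IsCoh M) where
  zero M hM := Groth.Agent.Lib.Helper17.DevBasic.isCoh_of_isZero hM
  five {X₁ X₂ X₃ X₄ X₅} a b c d w₁ w₂ w₃ e₁ e₂ e₃ h₁ h₂ h₄ h₅ := by
    have hq3 : X₃.IsQuasicoherent :=
      (LocCohPlus.closed_qcoh X).five a b c d w₁ w₂ w₃ e₁ e₂ e₃ h₁.1 h₂.1 h₄.1 h₅.1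
    haveI := hq3
    haveI := h₄.1
    haveI := h₂.1
    have hKq : (kernel c : X.Modules).IsQuasicoherent := QCProps.isQuasicoherent_kernel c
    -- kernel of `c` is a quotient of `X₂`
    have hepi : Epi (kernel.lift c b w₂) := by
      have h := e₂
      rw [ShortComplex.exact_iff_epi_kernel_lift] at h
      exact h
    have hK : Coh.IsCoh (kernel c) :=
      Groth.Agent.Lib.Helper17.DevBasic.isCoh_of_epi (kernel.lift c b w₂) h₂ hKq
    -- the coimage of `c` is a submodule of `X₄`
    haveI : Mono (Abelian.factorThruCoimage c) := inferInstance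
    have hCq : (cokernel (kernel.ι c) : X.Modules).IsQuasicoherent :=
      QCProps.isQuasicoherent_cokernel _
    have hC : Coh.IsCoh (cokernel (kernel.ι c)) :=
      Groth.Agent.Lib.Helper17.DevBasic.isCoh_of_mono (Abelian.factorThruCoimage c) hCq h₄
    exact Groth.Agent.Lib.Helper1.PushCoh.isCoh_of_shortExact _
      (Groth.Agent.Lib.Helper17.DevKey.shortExact_of_mono (kernel.ι c)) hK hC

end Closed

section Ext

variable {X : Scheme.{u}} [IsLocallyNoetherian X]

/-- `ℰxt^q(F, M)` is quasi-coherent for `F` coherent and `M` quasi-coherent. -/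
theorem isQuasicoherent_extSh (F M : X.Modules) (hF : Coh.IsCoh F) (hM : M.IsQuasicoherent)
    [ModSite.HasSheafHom (O := X.sheaf) F] [HasInjectiveResolutions (ModSite.Mod X.sheaf)] (q : ℕ) :
    SheafOfModules.IsQuasicoherent (R := X.ringCatSheaf)
      (((ModSite.sheafHom (O := X.sheaf) F).rightDerived q).obj M) := by
  haveI : EnoughInjectives (ModSite.Mod X.sheaf) :=
    ModGrothendieck.enoughInjectives X.ringCatSheaf
  haveI h1 : PreservesFiniteLimits (ModSite.sheafHom (O := X.sheaf) F) :=
    SheafHomExact.pfl_sheafHom (O := X.sheaf) F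
  haveI h5 : (ModSite.sheafHom (O := X.sheaf) F).Additive := inferInstance
  refine @Groth.Agent.Lib.Lead.ExtZQC.P_rightDerived_of_ses
    (ModSite.Mod X.sheaf) _ _ _ (ModSite.Mod X.sheaf) _ _
    (ModSite.sheafHom (O := X.sheaf) F) h5 h1
    (fun M : ModSite.Mod X.sheaf => SheafOfModules.IsQuasicoherent (R := X.ringCatSheaf) M)
    (fun M : X.Modules => M.IsQuasicoherent)
    (LocCohPlus.closed_qcoh X) ?_ ?_ q M hM
  · intro M hM
    haveI : SheafOfModules.IsQuasicoherent (R := X.ringCatSheaf) M := hM
    obtain ⟨Q, u, hQ, hQinj, hu⟩ :=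
      Groth.Agent.Lib.Lead.QInj.exists_mono_qcoh_injective (X := X) M
    haveI := hQ
    haveI := hu
    refine ⟨Q, cokernel u, u, cokernel.π u, cokernel.condition u, ?_, hQinj, hQ, ?_⟩
    · exact ShortComplex.ShortExact.mk' (ShortComplex.exact_cokernel u) hu
        (inferInstanceAs (Epi (cokernel.π u)))
    · exact QCProps.isQuasicoherent_cokernel u
  · intro M hM
    exact Groth.Agent.Lib.Lead.ExtZQC.isQuasicoherent_sheafHom F M hF hM

variable {Z : Scheme.{u}} (i : Z ⟶ X) [IsClosedImmersion i]

open Groth.Agent.Lib.Helper2 in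
/-- `i_* O_Z` is coherent -/
theorem isCoh_pushO : Coh.IsCoh (ShriekExt.pushO i) :=
  Groth.Agent.S0019.result i _ (⟨inferInstance, inferInstance⟩ : Coh.IsCoh (Coh.structureModule Z))

open Groth.Agent.Lib.Helper2 in
/-- the right derived functors of `Hom(O_Z, -)` preserve quasi-coherence -/
theorem isQuasicoherent_rightDerived_homO [Dual3.HasHomO i] [HasInjectiveResolutions X.Modules]
    (M : X.Modules) (hM : M.IsQuasicoherent) (q : ℕ) :
    (((Dual3.homO i).rightDerived q).obj M).IsQuasicoherent := by
  apply ClImmPush.isQuasicoherent_of_pushforward i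
  haveI : ModSite.HasSheafHom (O := X.sheaf) (ShriekExt.pushO i) :=
    ModSiteTensor.hasSheafHom _ _
  obtain ⟨e⟩ := ShriekExt.nonempty_rightDerived_shriek_iso i q
  exact (LocCohPlus.closed_qcoh X).of_iso (e.app M).symm
    (isQuasicoherent_extSh _ M (isCoh_pushO i) hM q)

open Groth.Agent.Lib.Helper2 Groth.Agent.Lib.Helper25 in
/-- the right derived functors of `Hom(O_Z, -)` preserve coherence -/
theorem isCoh_rightDerived_homO [Dual3.HasHomO i] [HasInjectiveResolutions X.Modules]
    (M : X.Modules) (hM : Coh.IsCoh M) (q : ℕ) :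
    Coh.IsCoh (((Dual3.homO i).rightDerived q).obj M) := by
  haveI : ModSite.HasSheafHom (O := X.sheaf) (ShriekExt.pushO i) :=
    ModSiteTensor.hasSheafHom _ _
  obtain ⟨e⟩ := ShriekExt.nonempty_rightDerived_shriek_iso i q
  obtain ⟨N, hN⟩ : ∃ N : Z.Modules, N = ((Dual3.homO i).rightDerived q).obj M := ⟨_, rfl⟩
  have h : Coh.IsCoh ((pushforward i).obj N) := by
    rw [hN]
    exact Groth.Agent.Lib.Helper17.DevBasic.isCoh_of_iso (e.app M).symm
      (ExtShCoh.isCoh_extSh q X _ M (isCoh_pushO i) hM)
  rw [← hN]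
  refine ⟨ClImmPush.isQuasicoherent_of_pushforward i _ h.1, ?_⟩
  haveI : SheafOfModules.IsFiniteType (R := ModSite.ringSh X.sheaf)
      (LocGenClosed.P i.base Z.sheaf X.sheaf { hom := i.c } N) := h.2
  exact LocGenClosed.isFiniteType_of_push i.base Z.sheaf X.sheaf { hom := i.c }
    i.isClosedEmbedding N

/-- **`R Hom(O_Z, -)` preserves quasi-coherent cohomology on `D⁺`.** -/
theorem isQCohD_RHomOPlus [Dual3.HasHomO i] [EnoughInjectives X.Modules]
    (K : DerivedCategory.Plus X.Modules) (hK : DCoh.IsQCohD K.obj) :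
    DCoh.IsQCohD ((Dual3.RHomOPlus i).obj K).obj := by
  intro n
  haveI : PreservesFiniteLimits (Dual3.homO i) := by
    haveI : PreservesLimitsOfSize.{0, 0} (Dual3.homO i) :=
      (Dual3.homOAdj i).rightAdjoint_preservesLimits
    exact PreservesLimitsOfSize.preservesFiniteLimits _
  exact WayOut.P_homology_rightDerivedFunctorPlus (Dual3.homO i)
    (P := fun M : Z.Modules => M.IsQuasicoherent) (Q := fun M : X.Modules => M.IsQuasicoherent)
    (LocCohPlus.closed_qcoh Z)
    (fun M hM q => isQuasicoherent_rightDerived_homO i M hM q)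
    (fun e hM => (LocCohPlus.closed_qcoh X).of_iso e hM) K hK n

/-- **`R Hom(O_Z, -)` preserves coherent cohomology on `D⁺`.** -/
theorem isCohD_RHomOPlus [Dual3.HasHomO i] [EnoughInjectives X.Modules]
    (K : DerivedCategory.Plus X.Modules) (hK : DCoh.IsCohD K.obj) :
    DCoh.IsCohD ((Dual3.RHomOPlus i).obj K).obj := by
  intro n
  haveI : IsLocallyNoetherian Z := LocallyOfFiniteType.isLocallyNoetherian i
  haveI : PreservesFiniteLimits (Dual3.homO i) := by
    haveI : PreservesLimitsOfSize.{0, 0} (Dual3.homO i) :=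
      (Dual3.homOAdj i).rightAdjoint_preservesLimits
    exact PreservesLimitsOfSize.preservesFiniteLimits _
  exact WayOut.P_homology_rightDerivedFunctorPlus (Dual3.homO i)
    (P := fun M : Z.Modules => Coh.IsCoh M) (Q := fun M : X.Modules => Coh.IsCoh M)
    (closed_coh Z)
    (fun M hM q => isCoh_rightDerived_homO i M hM q)
    (fun e hM => (closed_coh X).of_iso e hM) K hK n

end Ext

end Groth.Agent.Lib.Lead.RHomOQC
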