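import Mathlib
import Groth.Agent.Lib.Lead.RHomOQC

/-!
# `ℋom(F, G)` is quasi-coherent for `F` finitely presented, `G` quasi-coherent; `i_* Hom(O_Z, F)`
quasi-coherent for a finitely presented closed immersion (lead)
-/

set_option autoImplicit false
set_option linter.style.haveILetI false
universe u
open CategoryTheory CategoryTheory.Limits AlgebraicGeometry TopologicalSpace Opposite

namespace Groth.Agent.Lib.Lead.HomOQC

open Groth.Agent.Lib.Helper2.ExtShCoh Groth.Agent.Lib.Helper2.ExtTilde Groth.Agent.Lib.Helper2.RHom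
  Groth.Agent.Lib.Helper3 Groth.Agent.Lib.Helper13 Scheme.Modules

attribute [local instance] Abelian.hasFiniteBiproducts

variable {Y : Scheme.{u}}

/-- the exact sequence `E₁ ⟶ E₀ ⟶ M ⟶ 0` from generators of the kernel -/
theorem exact_of_epi_kernel {E₁ E₀ M : Y.Modules} (p : E₀ ⟶ M) (r : E₁ ⟶ kernel p) (hr : Epi r) :
    ∃ w : (r ≫ kernel.ι p) ≫ p = 0, (ShortComplex.mk (r ≫ kernel.ι p) p w).Exact := by
  have w : (r ≫ kernel.ι p) ≫ p = 0 := by
    rw [Category.assoc, kernel.condition, comp_zero]
  refine ⟨w, ?_⟩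
  let S₀ : ShortComplex Y.Modules := ShortComplex.mk (kernel.ι p) p (kernel.condition _)
  have h₀ : S₀.Exact := ShortComplex.exact_of_f_is_kernel S₀ (kernelIsKernel _)
  let φ : ShortComplex.mk (r ≫ kernel.ι p) p w ⟶ S₀ :=
    { τ₁ := r
      τ₂ := 𝟙 _
      τ₃ := 𝟙 _
      comm₁₂ := by
        dsimp [S₀]
        rw [Category.comp_id]
      comm₂₃ := by
        dsimp [S₀]
        rw [Category.id_comp, Category.comp_id] }
  haveI : Epi φ.τ₁ := hr
  haveI : IsIso φ.τ₂ := inferInstanceAs (IsIso (𝟙 _))
  haveI : Mono φ.τ₃ := inferInstanceAs (Mono (𝟙 _))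
  exact (ShortComplex.exact_iff_of_epi_of_isIso_of_mono φ).2 h₀

/-- `ℋom(F, G)` is quasi-coherent for `F` of finite presentation and `G` quasi-coherent
(any scheme) -/
theorem isQuasicoherent_sheafHom_of_isFP (F G : Y.Modules)
    [SheafOfModules.IsFinitePresentation (R := Y.ringCatSheaf) F]
    (hG : SheafOfModules.IsQuasicoherent (R := Y.ringCatSheaf) G) :
    SheafOfModules.IsQuasicoherent (R := Y.ringCatSheaf)
      ((ModSite.sheafHom (O := Y.sheaf) F).obj G) := by
  apply QCOpen.isQuasicoherent_of_open_cover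
  intro y
  obtain ⟨U, hU, hyU, P, hP⟩ := QCLocal.exists_affine_presentation F y
  refine ⟨U, hyU, ?_⟩
  haveI : Finite P.generators.I := hP.isFiniteType_generators.finite
  haveI : Finite P.relations.I := hP.isFiniteType_relations.finite
  obtain ⟨w, hex⟩ := exact_of_epi_kernel (Y := (U : Scheme.{u})) (E₁ := (SheafOfModules.free (R := (U : Scheme.{u}).ringCatSheaf) P.relations.I : (U : Scheme.{u}).Modules))
    (E₀ := (SheafOfModules.free (R := (U : Scheme.{u}).ringCatSheaf) P.generators.I : (U : Scheme.{u}).Modules))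
    P.generators.π P.relations.π P.relations.epi
  haveI : G.IsQuasicoherent := hG
  have hGU : SheafOfModules.IsQuasicoherent (R := (U : Scheme.{u}).ringCatSheaf)
      ((jst U).obj G) := Scheme.Modules.isQuasicoherent_restrictFunctor U.ι G
  have h := isQuasicoherent_sheafHom_of_presentation ((jst U).obj F) ((jst U).obj G) hGU
    (isFinFree_free P.generators.I) (isFinFree_free P.relations.I) _ _ P.generators.epi w hex
  exact isQuasicoherent_of_iso ((restrSheafHomIso U F).app G).symm h

section PushO

open Groth.Agent.Lib.Helper2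

variable {Z X : Scheme.{u}} (i : Z ⟶ X) [IsClosedImmersion i] [LocallyOfFinitePresentation i]

/-- `i_* O_Z` is of finite presentation for a closed immersion locally of finite presentation -/
theorem isFP_pushO :
    SheafOfModules.IsFinitePresentation (R := X.ringCatSheaf) (ShriekExt.pushO i) := by
  haveI hq : (ShriekExt.pushO i).IsQuasicoherent := QCSec.isQuasicoherent_pushforward i _
  rw [QCProps.isFinitePresentation_iff_finitePresentation_sections]
  intro U hU
  have hV : IsAffineOpen (i ⁻¹ᵁ U) := hU.preimage i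
  have hsurj : Function.Surjective (i.app U) := i.app_surjective U hU
  have hfp : (i.app U).hom.FinitePresentation := by
    have h := HasRingHomProperty.appLE (P := @LocallyOfFinitePresentation) i inferInstance
      ⟨U, hU⟩ ⟨i ⁻¹ᵁ U, hV⟩ le_rfl
    rwa [← Scheme.Hom.app_eq_appLE] at h
  letI := (i.app U).hom.toAlgebra
  haveI : Algebra.FinitePresentation Γ(X, U) Γ(Z, i ⁻¹ᵁ U) := hfp
  haveI : Module.Finite Γ(X, U) Γ(Z, i ⁻¹ᵁ U) :=
    Module.Finite.of_surjective (Algebra.linearMap Γ(X, U) Γ(Z, i ⁻¹ᵁ U)) hsurj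
  have h1 : Module.FinitePresentation Γ(X, U) Γ(Z, i ⁻¹ᵁ U) :=
    Module.FinitePresentation.of_finite_of_finitePresentation _ _
  let e : Γ(Z, i ⁻¹ᵁ U) ≃ₗ[Γ(X, U)] Γ(ShriekExt.pushO i, U) :=
    { toFun := fun b => b
      invFun := fun b => b
      map_add' := fun _ _ => rfl
      map_smul' := fun _ _ => rfl
      left_inv := fun _ => rfl
      right_inv := fun _ => rfl }
  exact Module.FinitePresentation.of_equiv e

/-- `i_* Hom(O_Z, F)` is quasi-coherent for `F` quasi-coherent and `i` a closed immersion locally of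
finite presentation -/
theorem isQCoh_push_homO [Dual3.HasHomO i] (F : X.Modules)
    (hF : SheafOfModules.IsQuasicoherent (R := X.ringCatSheaf) F) :
    SheafOfModules.IsQuasicoherent (R := X.ringCatSheaf)
      ((pushforward i).obj ((Dual3.homO i).obj F)) := by
  haveI := isFP_pushO i
  have h := isQuasicoherent_sheafHom_of_isFP (ShriekExt.pushO i) F hF
  exact isQuasicoherent_of_iso ((ShriekExt.sheafHomShriekIso i).app F) h

end PushO

end Groth.Agent.Lib.Lead.HomOQC
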