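/-
Lead library: Kronecker products of families of square matrices, indexed by functions, and the
induced algebra map out of a tensor power.
-/
import Mathlib
import Groth.Agent.Lib.Lead.TPow

set_option autoImplicit false
set_option linter.style.haveILetI false

namespace Groth.Agent.Lib.Lead.KronPow

open scoped TensorProduct
open PiTensorProduct

universe u v w

section kp

variable {R : Type*} [CommRing R] {ι J : Type*} [Fintype ι] [DecidableEq ι] [Fintype J]
  [DecidableEq J]

/-- Kronecker product of a family of matrices, indexed by functions. -/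
def kp (M : J → Matrix ι ι R) : Matrix (J → ι) (J → ι) R := fun f g => ∏ j, M j (f j) (g j)

theorem kp_apply (M : J → Matrix ι ι R) (f g : J → ι) : kp M f g = ∏ j, M j (f j) (g j) := rfl

theorem kp_mul (M N : J → Matrix ι ι R) : kp M * kp N = kp (fun j => M j * N j) := by
  ext f h
  simp only [Matrix.mul_apply, kp_apply]
  rw [Fintype.prod_sum]
  refine Finset.sum_congr rfl (fun g _ => ?_)
  rw [Finset.prod_mul_distrib]

theorem kp_one : kp (fun _ : J => (1 : Matrix ι ι R)) = 1 := by
  ext f g
  rw [kp_apply]
  by_cases h : f = g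
  · subst h
    simp
  · rw [Matrix.one_apply_ne h]
    obtain ⟨j, hj⟩ := Function.ne_iff.1 h
    exact Finset.prod_eq_zero (Finset.mem_univ j) (Matrix.one_apply_ne hj)

theorem kp_smul (c : J → R) (M : J → Matrix ι ι R) :
    kp (fun j => c j • M j) = (∏ j, c j) • kp M := by
  ext f g
  simp only [kp_apply, Matrix.smul_apply, smul_eq_mul, Finset.prod_mul_distrib]

theorem kp_map {S : Type*} [CommRing S] (φ : R →+* S) (M : J → Matrix ι ι R) :
    (kp M).map φ = kp (fun j => (M j).map φ) := by
  ext f g
  simp only [kp_apply, Matrix.map_apply, map_prod]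

theorem kp_update_add (M : J → Matrix ι ι R) (j : J) (X Y : Matrix ι ι R) :
    kp (Function.update M j (X + Y)) = kp (Function.update M j X) + kp (Function.update M j Y) := by
  ext f g
  simp only [kp_apply, Matrix.add_apply]
  rw [← Finset.mul_prod_erase Finset.univ _ (Finset.mem_univ j),
    ← Finset.mul_prod_erase Finset.univ (fun j' => Function.update M j X j' (f j') (g j'))
      (Finset.mem_univ j),
    ← Finset.mul_prod_erase Finset.univ (fun j' => Function.update M j Y j' (f j') (g j'))
      (Finset.mem_univ j)]
  simp only [Function.update_self, Matrix.add_apply]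
  have h : ∀ Z : Matrix ι ι R, ∏ x ∈ Finset.univ.erase j, Function.update M j Z x (f x) (g x) =
      ∏ x ∈ Finset.univ.erase j, M x (f x) (g x) := fun Z =>
    Finset.prod_congr rfl (fun x hx => by rw [Function.update_of_ne (Finset.ne_of_mem_erase hx)])
  rw [h, h, h, add_mul]

theorem kp_update_smul (M : J → Matrix ι ι R) (j : J) (c : R) (X : Matrix ι ι R) :
    kp (Function.update M j (c • X)) = c • kp (Function.update M j X) := by
  ext f g
  simp only [kp_apply, Matrix.smul_apply, smul_eq_mul]
  rw [← Finset.mul_prod_erase Finset.univ _ (Finset.mem_univ j),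
    ← Finset.mul_prod_erase Finset.univ (fun j' => Function.update M j X j' (f j') (g j'))
      (Finset.mem_univ j)]
  simp only [Function.update_self, Matrix.smul_apply, smul_eq_mul]
  have h : ∀ Z : Matrix ι ι R, ∏ x ∈ Finset.univ.erase j, Function.update M j Z x (f x) (g x) =
      ∏ x ∈ Finset.univ.erase j, M x (f x) (g x) := fun Z =>
    Finset.prod_congr rfl (fun x hx => by rw [Function.update_of_ne (Finset.ne_of_mem_erase hx)])
  rw [h, h, mul_assoc]

end kp

section alghom

variable {k : Type u} [Field k] {A : Type v} [Ring A] [Algebra k A] {L : Type w} [Field L]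
  [Algebra k L] {ι J : Type} [Fintype ι] [DecidableEq ι] [Fintype J] [DecidableEq J]

/-- The multilinear map `a ↦ ⊗_j ρ (a j)`. -/
noncomputable def kpMulti (ρ : A →ₐ[k] Matrix ι ι L) :
    MultilinearMap k (fun _ : J => A) (Matrix (J → ι) (J → ι) L) where
  toFun a := kp (fun j => ρ (a j))
  map_update_add' := by
    intro _ a j x y
    have h : ∀ z : A, (fun j' => ρ (Function.update a j z j')) =
        Function.update (fun j' => ρ (a j')) j (ρ z) := by
      intro z
      funext j'
      by_cases hj : j' = j
      · subst hj; simp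
      · simp [Function.update_of_ne hj]
    simp only [h, map_add]
    convert kp_update_add (fun j' => ρ (a j')) j (ρ x) (ρ y)
  map_update_smul' := by
    intro _ a j c x
    have h : ∀ z : A, (fun j' => ρ (Function.update a j z j')) =
        Function.update (fun j' => ρ (a j')) j (ρ z) := by
      intro z
      funext j'
      by_cases hj : j' = j
      · subst hj; simp
      · simp [Function.update_of_ne hj]
    simp only [h, map_smul]
    ext f g
    simp only [Matrix.smul_apply]
    rw [← algebraMap_smul L c (ρ x), kp_update_smul, Matrix.smul_apply, algebraMap_smul]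

theorem kpMulti_apply (ρ : A →ₐ[k] Matrix ι ι L) (a : J → A) :
    kpMulti (J := J) ρ a = kp (fun j => ρ (a j)) := rfl

/-- The algebra map `⨂_J A → M_{ι^J}(L)` induced by `ρ : A → M_ι(L)`. -/
noncomputable def kpAlgHom (ρ : A →ₐ[k] Matrix ι ι L) :
    (⨂[k] _ : J, A) →ₐ[k] Matrix (J → ι) (J → ι) L :=
  AlgHom.ofLinearMap (PiTensorProduct.lift (kpMulti (J := J) ρ))
    (by
      rw [PiTensorProduct.one_def, PiTensorProduct.lift.tprod, kpMulti_apply]
      simp only [Pi.one_apply, map_one]
      exact kp_one)
    (by
      refine TPow.map_mul_of_span (PiTensorProduct.lift (kpMulti (J := J) ρ)) _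
        span_tprod_eq_top ?_
      rintro _ ⟨a, rfl⟩ _ ⟨a', rfl⟩
      rw [tprod_mul_tprod, PiTensorProduct.lift.tprod, PiTensorProduct.lift.tprod,
        PiTensorProduct.lift.tprod, kpMulti_apply, kpMulti_apply, kpMulti_apply, kp_mul]
      simp only [Pi.mul_apply, map_mul])

theorem kpAlgHom_tprod (ρ : A →ₐ[k] Matrix ι ι L) (a : J → A) :
    kpAlgHom (J := J) ρ (tprod k a) = kp (fun j => ρ (a j)) := by
  simp only [kpAlgHom, AlgHom.ofLinearMap_apply, PiTensorProduct.lift.tprod, kpMulti_apply]

end alghom

end Groth.Agent.Lib.Lead.KronPow
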