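import Mathlib
import Groth.Prelude
import Groth.Agent.S4790
import Groth.Agent.Lib.Helper12.PbDiag
import Groth.Agent.Lib.Helper12.FGLimit

/-!
# Isomorphic after base change to a field extension ⇒ isomorphic after a finite extension (lead)

For finitely presented quasi-coherent modules `F`, `G` on a `k`-scheme `X` of finite type:
an isomorphism of the pullbacks to `X ⊗_k Ω` descends to a finitely generated `k`-subalgebra
`B ⊆ Ω` (`Lim8` descent of isomorphisms, `S4790`), and then specialises at a maximal ideal of `B`,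
whose residue field is finite over `k`.
-/

set_option autoImplicit false
set_option linter.style.haveILetI false
universe u
open CategoryTheory CategoryTheory.Limits AlgebraicGeometry Opposite

namespace Groth.Agent.Lib.Lead.IsoFinExt

open Groth.Agent.Lib.Helper12.FGLimit Groth.Agent.Lib.Helper12.PbDiag

variable (k Ω : Type u) [Field k] [Field Ω] [Algebra k Ω]

/-- Ring homomorphisms out of the bottom subalgebra are determined on constants. -/
theorem bot_hom_ext {R : Type u} [CommRing R] (f g : (⊥ : Subalgebra k Ω) →+* R)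
    (h : ∀ c : k, f (algebraMap k (⊥ : Subalgebra k Ω) c) = g (algebraMap k (⊥ : Subalgebra k Ω) c)) :
    f = g := by
  ext ⟨x, hx⟩
  obtain ⟨c, rfl⟩ := Algebra.mem_bot.mp hx
  exact h c

/-- `Spec k ⟶ Spec ⊥`. -/
noncomputable def β : Spec (CommRingCat.of k) ⟶ Spec (CommRingCat.of (⊥ : Subalgebra k Ω)) :=
  Spec.map (CommRingCat.ofHom ((Algebra.botEquiv k Ω : (⊥ : Subalgebra k Ω) ≃ₐ[k] k) : (⊥ : Subalgebra k Ω) →+* k))

instance : IsIso (β k Ω) := by
  unfold β
  have : IsIso (CommRingCat.ofHom ((Algebra.botEquiv k Ω : (⊥ : Subalgebra k Ω) ≃ₐ[k] k) :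
      (⊥ : Subalgebra k Ω) →+* k)) :=
    (ConcreteCategory.isIso_iff_bijective _).mpr (Algebra.botEquiv k Ω).bijective
  infer_instance

theorem comp_β {R : Type u} [CommRing R] [Algebra k R] (ψ : (⊥ : Subalgebra k Ω) →+* R)
    (hψ : ∀ c : k, ψ (algebraMap k (⊥ : Subalgebra k Ω) c) = algebraMap k R c) :
    Spec.map (CommRingCat.ofHom (algebraMap k R)) ≫ β k Ω = Spec.map (CommRingCat.ofHom ψ) := by
  unfold β
  rw [← Spec.map_comp]
  congr 1
  ext1
  apply bot_hom_ext
  intro c
  simp [hψ]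

set_option maxHeartbeats 1600000 in
theorem main {k : Type u} [Field k] {X : Scheme.{u}}
    (p : X ⟶ Spec (CommRingCat.of k)) [LocallyOfFiniteType p] [QuasiCompact p]
    (F G : X.Modules) [Coh.IsQCoh F] [Coh.IsQCoh G] (hF : CohB1.IsFP F) (hG : CohB1.IsFP G)
    (Ω : Type u) [Field Ω] [Algebra k Ω]
    (e : (Scheme.Modules.pullback (pullback.fst p (Spec.map (CommRingCat.ofHom (algebraMap k Ω))))).obj F ≅
      (Scheme.Modules.pullback (pullback.fst p (Spec.map (CommRingCat.ofHom (algebraMap k Ω))))).obj G) :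
    ∃ (k' : Type u) (_ : Field k') (_ : Algebra k k') (_ : Module.Finite k k'),
      Nonempty ((Scheme.Modules.pullback (pullback.fst p (Spec.map (CommRingCat.ofHom (algebraMap k k'))))).obj F ≅
        (Scheme.Modules.pullback (pullback.fst p (Spec.map (CommRingCat.ofHom (algebraMap k k'))))).obj G) := by
  classical
  haveI hFfp : SheafOfModules.IsFinitePresentation (R := X.ringCatSheaf) F := hF
  haveI hGfp : SheafOfModules.IsFinitePresentation (R := X.ringCatSheaf) G := hG
  -- the diagram of f.g. subalgebras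
  let I := (FGSub k Ω)ᵒᵖ
  let D : I ⥤ Scheme.{u} := specDiag k Ω
  let c : Cone D := specCone k Ω
  let hc : IsLimit c := isLimitSpecCone k Ω
  let i₀ : I := op ⟨⊥, Subalgebra.fg_bot⟩
  let a : Spec (CommRingCat.of Ω) ⟶ Spec (CommRingCat.of k) :=
    Spec.map (CommRingCat.ofHom (algebraMap k Ω))
  let h₀ : X ⟶ D.obj i₀ := p ≫ β k Ω
  have hca : c.π.app i₀ = a ≫ β k Ω := by
    symm
    exact comp_β k Ω ((⊥ : Subalgebra k Ω).val.toRingHom) (fun c => rfl)
  have hZ : IsPullback (pullback.fst p a) (pullback.snd p a) h₀ (c.π.app i₀) := by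
    have s : IsPullback (pullback.fst p a) (pullback.snd p a) p a := IsPullback.of_hasPullback p a
    have t : IsPullback (𝟙 X) p (p ≫ β k Ω) (β k Ω) := IsPullback.of_horiz_isIso ⟨by simp⟩
    have := s.paste_horiz t
    rw [Category.comp_id, ← hca] at this
    exact this
  haveI hDaff : ∀ {i j : I} (f : i ⟶ j), IsAffineHom (D.map f) := fun f => inferInstance
  let D' : Over i₀ ⥤ Scheme.{u} := pbDiagram D i₀ h₀
  let c' : Cone D' := pbCone c (pullback.fst p a) (pullback.snd p a) hZ
  let hc' : IsLimit c' := isLimitPbCone c hc (pullback.fst p a) (pullback.snd p a) hZ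
  let i₀' : Over i₀ := Over.mk (𝟙 i₀)
  haveI : ∀ (i j : Over i₀) (f : i ⟶ j), IsAffineHom (D'.map f) :=
    fun i j f => isAffineHom_pbDiagram_map D i₀ h₀ f
  haveI : IsLocallyNoetherian X := LocallyOfFiniteType.isLocallyNoetherian p
  haveI : QuasiSeparated p := inferInstance
  haveI : QuasiSeparated h₀ := inferInstance
  haveI : QuasiCompact h₀ := inferInstance
  haveI : CompactSpace (D.obj i₀) := by
    show CompactSpace (Spec (CommRingCat.of (⊥ : Subalgebra k Ω))); infer_instance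
  haveI : QuasiSeparatedSpace (D.obj i₀) := by
    show QuasiSeparatedSpace (Spec (CommRingCat.of (⊥ : Subalgebra k Ω))); infer_instance
  haveI : CompactSpace (D'.obj i₀') := compactSpace_pbDiagram_obj D i₀ h₀ i₀'
  haveI : QuasiSeparatedSpace (D'.obj i₀') := quasiSeparatedSpace_pbDiagram_obj D i₀ h₀ i₀'
  let fst₀ : D'.obj i₀' ⟶ X := pullback.fst h₀ (D.map i₀'.hom)
  let F₀ : (D'.obj i₀').Modules := (Scheme.Modules.pullback fst₀).obj F
  let G₀ : (D'.obj i₀').Modules := (Scheme.Modules.pullback fst₀).obj G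
  haveI : Coh.IsQCoh F₀ := Groth.Agent.Lib.Helper17.PbStalk.isQuasicoherent_pullback fst₀ F
  haveI : Coh.IsQCoh G₀ := Groth.Agent.Lib.Helper17.PbStalk.isQuasicoherent_pullback fst₀ G
  have hF₀ : CohB1.IsFP F₀ := Groth.Agent.Lib.Helper17.PbFinite.isFinitePresentation_pullback fst₀ F
  have hG₀ : CohB1.IsFP G₀ := Groth.Agent.Lib.Helper17.PbFinite.isFinitePresentation_pullback fst₀ G
  have hπ : c'.π.app i₀' ≫ fst₀ = pullback.fst p a :=
    pbCone_π_fst c (pullback.fst p a) (pullback.snd p a) hZ i₀'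
  have e₀ : (Scheme.Modules.pullback (c'.π.app i₀')).obj F₀ ≅
      (Scheme.Modules.pullback (c'.π.app i₀')).obj G₀ :=
    (Groth.Agent.Lib.Helper17.SepFG.compIso (c'.π.app i₀') fst₀ (pullback.fst p a) hπ).app F ≪≫ e ≪≫
      ((Groth.Agent.Lib.Helper17.SepFG.compIso (c'.π.app i₀') fst₀ (pullback.fst p a) hπ).app G).symm
  obtain ⟨j, φ, ⟨ej⟩⟩ := (Groth.Agent.S4790.result D' c' hc' i₀' F₀ G₀ hF₀ hG₀).mp ⟨e₀⟩
  let fstj : D'.obj j ⟶ X := pullback.fst h₀ (D.map j.hom)
  have hφ : D'.map φ ≫ fst₀ = fstj := pbDiagram_map_fst D i₀ h₀ φ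
  have ej' : (Scheme.Modules.pullback fstj).obj F ≅ (Scheme.Modules.pullback fstj).obj G :=
    ((Groth.Agent.Lib.Helper17.SepFG.compIso (D'.map φ) fst₀ fstj hφ).app F).symm ≪≫ ej ≪≫
      (Groth.Agent.Lib.Helper17.SepFG.compIso (D'.map φ) fst₀ fstj hφ).app G
  -- a closed point of `Spec B`
  set B : Subalgebra k Ω := j.left.unop.1 with hB
  haveI : Algebra.FiniteType k B := (Subalgebra.fg_iff_finiteType _).mp j.left.unop.2
  obtain ⟨m, hm⟩ := Ideal.exists_maximal B
  letI : Field (B ⧸ m) := Ideal.Quotient.field m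
  haveI : Algebra.FiniteType k (B ⧸ m) :=
    Algebra.FiniteType.of_surjective (Ideal.Quotient.mkₐ k m) Ideal.Quotient.mk_surjective
  haveI : Module.Finite k (B ⧸ m) := finite_of_finite_type_of_isJacobsonRing k (B ⧸ m)
  refine ⟨B ⧸ m, inferInstance, inferInstance, inferInstance, ⟨?_⟩⟩
  let a' : Spec (CommRingCat.of (B ⧸ m)) ⟶ Spec (CommRingCat.of k) :=
    Spec.map (CommRingCat.ofHom (algebraMap k (B ⧸ m)))
  let r : Spec (CommRingCat.of (B ⧸ m)) ⟶ D.obj j.left :=
    Spec.map (CommRingCat.ofHom (Ideal.Quotient.mk m))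
  have hr : a' ≫ β k Ω = r ≫ D.map j.hom := by
    rw [comp_β k Ω ((Ideal.Quotient.mk m).comp
      (Subalgebra.inclusion (bot_le : (⊥ : Subalgebra k Ω) ≤ B)).toRingHom) (fun c => rfl)]
    show _ = Spec.map _ ≫ Spec.map _
    rw [← Spec.map_comp]
    rfl
  have hcond : pullback.fst p a' ≫ h₀ = (pullback.snd p a' ≫ r) ≫ D.map j.hom := by
    show pullback.fst p a' ≫ p ≫ β k Ω = _
    rw [Category.assoc, ← hr, pullback.condition_assoc]
    rfl
  let t : pullback p a' ⟶ D'.obj j :=
    pullback.lift (pullback.fst p a') (pullback.snd p a' ≫ r) hcond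
  have ht : t ≫ fstj = pullback.fst p a' := pullback.lift_fst _ _ _
  exact ((Groth.Agent.Lib.Helper17.SepFG.compIso t fstj (pullback.fst p a') ht).app F).symm ≪≫
    (Scheme.Modules.pullback t).mapIso ej' ≪≫
    (Groth.Agent.Lib.Helper17.SepFG.compIso t fstj (pullback.fst p a') ht).app G

end Groth.Agent.Lib.Lead.IsoFinExt
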