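import Groth.Agent.Lib.Lead.KosCechP
import Groth.Agent.Lib.Helper13.CechLocal
import Groth.Agent.Lib.Helper13.CechH0

/-!
# The Čech complex of `W ↦ Γ(W, O_X) ⊗ N` for the family `X_{f_j}`
-/

set_option autoImplicit false
set_option linter.style.haveILetI false
set_option linter.unusedSectionVars false
set_option linter.unusedVariables false

universe u

open AlgebraicGeometry CategoryTheory CategoryTheory.Limits Opposite TopologicalSpace TensorProduct

namespace Groth.Agent.Lib.Lead.KosCechC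

open Groth.Agent.Lib.Helper3.QCSec Groth.Agent.Lib.Lead.KosGeo Groth.Agent.Lib.Lead.KosCechP
open Groth.Agent.Lib.Helper13 Groth.Agent.Lib.Helper13.CechBasic Groth.Agent.Lib.Helper13.CechLocal
  Groth.Agent.Lib.Helper13.CechLow Groth.Agent.Lib.Helper13.CechLES Groth.Agent.Lib.Helper13.CechH0

variable {X : Scheme.{u}}

lemma basicOpen_finset_prod {κ : Type*} (s : Finset κ) (a : κ → Γ(X, ⊤)) :
    X.basicOpen (∏ k ∈ s, a k) = s.inf (fun k => X.basicOpen (a k)) := by
  classical
  induction s using Finset.induction_on with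
  | empty => simp
  | insert b s hb ih => rw [Finset.prod_insert hb, Finset.inf_insert, Scheme.basicOpen_mul, ih]

variable {ι : Type u} (f : ι → Γ(X, ⊤))

/-- the family `X_{f_j}`. -/
abbrev VV (j : ι) : X.Opens := X.basicOpen (f j)

/-- the product of the functions of a tuple. -/
noncomputable def gg {n : ℕ} (i : Fin (n + 1) → ι) : Γ(X, ⊤) := ∏ k, f (i k)

lemma prod_eq_basicOpen {n : ℕ} (i : Fin (n + 1) → ι) :
    (∏ᶜ (VV f ∘ i) : X.Opens) = X.basicOpen (gg f i) := by
  rw [CechLocal.prod_eq_iInf, gg, basicOpen_finset_prod, Finset.inf_univ_eq_iInf]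

lemma gg_cons (j : ι) {n : ℕ} (i : Fin (n + 1) → ι) :
    gg f (Fin.cons j i : Fin (n + 2) → ι) = gg f i * f j := by
  unfold gg
  rw [Fin.prod_univ_succ, mul_comm]
  simp

lemma prod_le_basicOpen {n : ℕ} (i : Fin (n + 1) → ι) (k : Fin (n + 1)) :
    (∏ᶜ (VV f ∘ i) : X.Opens) ≤ X.basicOpen (f (i k)) := by
  rw [CechLocal.prod_eq_iInf]
  exact iInf_le (fun k => VV f (i k)) k

section cech

variable [CompactSpace X] [QuasiSeparatedSpace X] (N : ModuleCat.{u} Γ(X, ⊤))

/-- multiplication by `a ^ K` on `PN N`. -/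
noncomputable def phi (a : Γ(X, ⊤)) (K : ℕ) : PN N ⟶ PN N := Pmap (a ^ K • 𝟙 N)

lemma phi_apply (a : Γ(X, ⊤)) (K : ℕ) (W : (X.Opens)ᵒᵖ) (x : GamA X W.unop ⊗[Γ(X, ⊤)] N) :
    ((phi N a K).app W).hom x = a ^ K • x := Pmap_smul_apply (a ^ K) W x

lemma phi_add (a : Γ(X, ⊤)) (K L : ℕ) : phi N a (K + L) = phi N a K ≫ phi N a L := by
  unfold phi
  rw [← Pmap_comp]
  congr 1
  rw [Linear.smul_comp, Linear.comp_smul, Category.id_comp, smul_smul, ← pow_add, add_comm]

lemma isLoc_phi (j : ι) {n : ℕ} (i : Fin (n + 1) → ι) :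
    IsLoc (PN N) (phi N (f j)) (CechLocal.le_cons (VV f) j i) where
  surj y := by
    obtain ⟨K, x, hx⟩ := exists_resT_eq_pow_smul N _ _ (gg f i) (f j) (prod_eq_basicOpen f i)
      ((prod_eq_basicOpen f (Fin.cons j i)).trans (congrArg _ (gg_cons f j i)))
      (CechLocal.le_cons (VV f) j i) y
    exact ⟨K, x, hx.trans (phi_apply N (f j) K _ y).symm⟩
  inj x hx := by
    obtain ⟨K, hK⟩ := exists_pow_smul_eq_zero_of_resT N _ _ (gg f i) (f j)
      (prod_eq_basicOpen f i)
      ((prod_eq_basicOpen f (Fin.cons j i)).trans (congrArg _ (gg_cons f j i)))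
      (CechLocal.le_cons (VV f) j i) x hx
    exact ⟨K, (phi_apply N (f j) K _ x).trans hK⟩

/-- the short complex of presheaves attached to a short complex of modules. -/
noncomputable def PS (S0 : ShortComplex (ModuleCat.{u} Γ(X, ⊤))) :
    ShortComplex ((X.Opens)ᵒᵖ ⥤ AddCommGrpCat.{u}) :=
  ShortComplex.mk (Pmap S0.f) (Pmap S0.g) (by rw [← Pmap_comp, S0.zero, Pmap_zero])

lemma PS_inj (S0 : ShortComplex (ModuleCat.{u} Γ(X, ⊤))) (hS0 : S0.ShortExact) (W : X.Opens)
    (g : Γ(X, ⊤)) (hW : W = X.basicOpen g) (x : GamA X W ⊗[Γ(X, ⊤)] S0.X₁)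
    (hx : S0.f.hom.lTensor (GamA X W) x = 0) : x = 0 := by
  haveI := flat_GamA W g hW
  have hinj : Function.Injective S0.f.hom := (ModuleCat.mono_iff_injective _).1 hS0.mono_f
  have := Module.Flat.lTensor_preserves_injective_linearMap (M := GamA X W) S0.f.hom hinj
  exact this (hx.trans (map_zero _).symm)

lemma PS_ex (S0 : ShortComplex (ModuleCat.{u} Γ(X, ⊤))) (hS0 : S0.ShortExact) (W : X.Opens)
    (x : GamA X W ⊗[Γ(X, ⊤)] S0.X₂) (hx : S0.g.hom.lTensor (GamA X W) x = 0) :
    ∃ y, S0.f.hom.lTensor (GamA X W) y = x := by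
  have hex : Function.Exact S0.f.hom S0.g.hom :=
    (ShortComplex.ShortExact.moduleCat_exact_iff_function_exact S0).1 hS0.exact
  have hsurj : Function.Surjective S0.g.hom := (ModuleCat.epi_iff_surjective _).1 hS0.epi_g
  have := lTensor_exact (GamA X W) hex hsurj
  exact (this x).1 hx

lemma PS_surj (S0 : ShortComplex (ModuleCat.{u} Γ(X, ⊤))) (hS0 : S0.ShortExact) (W : X.Opens)
    (z : GamA X W ⊗[Γ(X, ⊤)] S0.X₃) : ∃ x, S0.g.hom.lTensor (GamA X W) x = z := by
  have hsurj : Function.Surjective S0.g.hom := (ModuleCat.epi_iff_surjective _).1 hS0.epi_g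
  exact LinearMap.lTensor_surjective (GamA X W) hsurj z

lemma sectionwiseExact_PS (S0 : ShortComplex (ModuleCat.{u} Γ(X, ⊤))) (hS0 : S0.ShortExact) :
    SectionwiseExact (VV f) (PS S0) where
  inj n i x hx := PS_inj S0 hS0 _ (gg f i) (prod_eq_basicOpen f i) x hx
  ex n i x hx := PS_ex S0 hS0 _ x hx
  surj n i z := PS_surj S0 hS0 _ z

end cech

/-! ### the augmented Čech complex -/

section aug

/-- the augmentation of the family to the whole space. -/
def augTop : Aug (VV f) (⊤ : X.Opens) where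
  b j := homOfLE le_top
  compat i := Subsingleton.elim _ _

/-- the augmented Čech complex `P(X) → Č⁰ → Č¹ → ⋯`. -/
noncomputable def Caug (P : (X.Opens)ᵒᵖ ⥤ AddCommGrpCat.{u}) : CochainComplex AddCommGrpCat.{u} ℕ :=
  (cx (VV f) P).augment (ε (augTop f) P) (ε_d (augTop f) P)

/-- functoriality of the augmented complex. -/
noncomputable def CaugMap {P P' : (X.Opens)ᵒᵖ ⥤ AddCommGrpCat.{u}} (τ : P ⟶ P') :
    Caug f P ⟶ Caug f P' where
  f n := match n with
    | 0 => τ.app (op ⊤)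
    | n + 1 => ((cechComplexFunctor (VV f)).map τ).f n
  comm' i j hij := by
    obtain rfl : i + 1 = j := hij
    cases i with
    | zero => exact (ε_naturality (augTop f) τ).symm
    | succ i => exact ((cechComplexFunctor (VV f)).map τ).comm i (i + 1)

lemma CaugMap_f_zero {P P' : (X.Opens)ᵒᵖ ⥤ AddCommGrpCat.{u}} (τ : P ⟶ P') :
    (CaugMap f τ).f 0 = τ.app (op ⊤) := rfl

lemma CaugMap_f_succ {P P' : (X.Opens)ᵒᵖ ⥤ AddCommGrpCat.{u}} (τ : P ⟶ P') (n : ℕ) :
    (CaugMap f τ).f (n + 1) = ((cechComplexFunctor (VV f)).map τ).f n := rfl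

/-- the short complex of augmented complexes attached to a short complex of presheaves. -/
noncomputable def CaugSC (S : ShortComplex ((X.Opens)ᵒᵖ ⥤ AddCommGrpCat.{u})) :
    ShortComplex (CochainComplex AddCommGrpCat.{u} ℕ) :=
  ShortComplex.mk (CaugMap f S.f) (CaugMap f S.g) (by
    ext n : 1
    cases n with
    | zero =>
      change S.f.app (op ⊤) ≫ S.g.app (op ⊤) = 0
      rw [← NatTrans.comp_app, S.zero]
      rfl
    | succ n =>
      change ((cechComplexFunctor (VV f)).map S.f).f n ≫ ((cechComplexFunctor (VV f)).map S.g).f n = 0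
      rw [← HomologicalComplex.comp_f, ← Functor.map_comp, S.zero, CechLES.map_zero']
      rfl)

/-- homology of the augmented complex in degrees `≥ 2` is Čech cohomology. -/
noncomputable def augmentHomologyIso (C : CochainComplex AddCommGrpCat.{u} ℕ) {G : AddCommGrpCat.{u}}
    (g : G ⟶ C.X 0) (w : g ≫ C.d 0 1 = 0) (p : ℕ) :
    (C.augment g w).homology (p + 2) ≅ C.homology (p + 1) :=
  ShortComplex.homologyMapIso
    (((C.augment g w).isoSc' (p + 1) (p + 2) (p + 3) (by simp) (by simp)) ≪≫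
      (ShortComplex.isoMk (Iso.refl _) (Iso.refl _) (Iso.refl _)
        (by
          change 𝟙 (C.X p) ≫ C.d p (p + 1) = C.d p (p + 1) ≫ 𝟙 (C.X (p + 1))
          simp)
        (by
          change 𝟙 (C.X (p + 1)) ≫ C.d (p + 1) (p + 2) = C.d (p + 1) (p + 2) ≫ 𝟙 (C.X (p + 2))
          simp)) ≪≫
      (C.isoSc' p (p + 1) (p + 2) (by simp) (by simp)).symm)

end aug

/-! ### exactness and vanishing for the augmented complex -/

section vanish

variable [CompactSpace X] [QuasiSeparatedSpace X]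

lemma CaugSC_shortExact (S0 : ShortComplex (ModuleCat.{u} Γ(X, ⊤))) (hS0 : S0.ShortExact) :
    (CaugSC f (PS S0)).ShortExact := by
  apply HomologicalComplex.shortExact_of_degreewise_shortExact
  intro n
  cases n with
  | zero =>
    have hmono : Mono ((Pmap S0.f).app (op (⊤ : X.Opens))) := by
      rw [AddCommGrpCat.mono_iff_injective, injective_iff_map_eq_zero]
      intro x hx
      exact PS_inj S0 hS0 ⊤ 1 (Scheme.basicOpen_one (X := X)).symm x hx
    have hepi : Epi ((Pmap S0.g).app (op (⊤ : X.Opens))) := by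
      rw [AddCommGrpCat.epi_iff_surjective]
      intro z
      exact PS_surj S0 hS0 ⊤ z
    refine { exact := ?_, mono_f := hmono, epi_g := hepi }
    rw [ShortComplex.ab_exact_iff]
    intro x hx
    exact PS_ex S0 hS0 ⊤ x hx
  | succ n =>
    exact (cechSC_shortExact (sectionwiseExact_PS f S0 hS0)).map_of_exact
      (HomologicalComplex.eval _ _ n)

/-- all cochain groups of a torsion module vanish. -/
lemma eq_zero_of_torsion (N : ModuleCat.{u} Γ(X, ⊤))
    (hN : ∀ j : ι, ∀ x : N, ∃ k : ℕ, f j ^ k • x = 0) (n : ℕ) (x : (cx (VV f) (PN N)).X n) :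
    x = 0 := by
  apply ext_elem
  intro i
  haveI : Subsingleton (GamA X (∏ᶜ (VV f ∘ i) : X.Opens) ⊗[Γ(X, ⊤)] N) :=
    subsingleton_of_torsion N (f (i 0)) (hN (i 0)) _ (prod_le_basicOpen f i 0)
  exact Subsingleton.elim (α := GamA X (∏ᶜ (VV f ∘ i) : X.Opens) ⊗[Γ(X, ⊤)] N) _ _

lemma isZero_Caug_homology_of_torsion (N : ModuleCat.{u} Γ(X, ⊤))
    (hN : ∀ j : ι, ∀ x : N, ∃ k : ℕ, f j ^ k • x = 0) (q : ℕ) (hq : 1 ≤ q) :
    IsZero ((Caug f (PN N)).homology q) := by
  obtain ⟨q', rfl⟩ := Nat.exists_eq_add_of_le' hq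
  rw [← HomologicalComplex.exactAt_iff_isZero_homology]
  apply ShortComplex.exact_of_isZero_X₂
  change IsZero ((cx (VV f) (PN N)).X q')
  haveI : Subsingleton ((cx (VV f) (PN N)).X q') :=
    ⟨fun a b => by rw [eq_zero_of_torsion f N hN q' a, eq_zero_of_torsion f N hN q' b]⟩
  exact AddCommGrpCat.isZero_of_subsingleton _

end vanish

end Groth.Agent.Lib.Lead.KosCechC
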