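import Groth.Agent.Lib.Lead.KosCechE

/-!
# The augmented Čech cohomology of `W ↦ Γ(W, O_X) ⊗ N` is the Koszul limit cohomology of `N`

By dimension shifting along `N → ∏_j N_{f_j}`.
-/

set_option autoImplicit false
set_option linter.style.haveILetI false
set_option linter.unusedSectionVars false
set_option linter.unusedVariables false

universe u

open AlgebraicGeometry CategoryTheory CategoryTheory.Limits Opposite TopologicalSpace TensorProduct

namespace Groth.Agent.Lib.Lead.KosCechD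

open Groth.Agent.Lib.Helper3.QCSec Groth.Agent.Lib.Lead.KosGeo Groth.Agent.Lib.Lead.KosCechP
  Groth.Agent.Lib.Lead.KosCechC Groth.Agent.Lib.Lead.KosCechE Groth.Agent.Lib.Lead.KosVanish
  Groth.Agent.Lib.Helper4.KosLim Groth.Agent.Lib.Helper4.KosBottom
open Groth.Agent.Lib.Helper13 Groth.Agent.Lib.Helper13.CechBasic Groth.Agent.Lib.Helper13.CechLocal
  Groth.Agent.Lib.Helper13.CechLow Groth.Agent.Lib.Helper13.CechLES Groth.Agent.Lib.Helper13.CechH0

section algebra

variable {A : Type u} [CommRing A]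

/-- the product of modules `E i` on each of which `f i ∈ fs` acts bijectively (index type in `Type u`). -/
theorem subsingleton_TT_pi' (fs : List A) {ι : Type u} [Fintype ι] [DecidableEq ι] (E : ι → Type u)
    [∀ i, AddCommGroup (E i)] [∀ i, Module A (E i)] (f : ι → A) (hf : ∀ i, f i ∈ fs)
    (hbij : ∀ i, Function.Bijective (fun x : E i => f i • x)) (p : ℕ) :
    Subsingleton (TT fs (ModuleCat.of A (∀ i, E i)) p) := by
  apply subsingleton_TT_of_decomp fs _ p Finset.univ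
    (fun i => ModuleCat.ofHom ((LinearMap.single A E i).comp (LinearMap.proj i)))
  · apply ModuleCat.hom_ext
    apply LinearMap.ext
    intro x
    funext j
    simp only [ModuleCat.hom_sum, LinearMap.sum_apply, ModuleCat.hom_ofHom, LinearMap.comp_apply,
      LinearMap.proj_apply, ModuleCat.hom_id, LinearMap.id_apply, Finset.sum_apply]
    rw [Finset.sum_eq_single j]
    · simp
    · intro i _ hij
      simp [hij]
    · intro h
      exact absurd (Finset.mem_univ j) h
  · intro i _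
    refine ⟨ModuleCat.of A (E i), ModuleCat.ofHom (LinearMap.proj i),
      ModuleCat.ofHom (LinearMap.single A E i), rfl, ?_⟩
    exact subsingleton_TT_of_bijective fs (ModuleCat.of A (E i)) (f i) (hf i) (hbij i) p

variable {ι : Type u} (f : ι → A) (N : ModuleCat.{u} A)

/-- `N_{f_j}`. -/
abbrev LocN (j : ι) : Type u := LocalizedModule (Submonoid.powers (f j)) N

/-- `∏_j N_{f_j}`. -/
noncomputable abbrev EN : ModuleCat.{u} A := ModuleCat.of A (∀ j : ι, LocN f N j)

/-- `N → ∏_j N_{f_j}`. -/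
noncomputable def iotaN : N ⟶ EN f N :=
  ModuleCat.ofHom (LinearMap.pi (fun j => LocalizedModule.mkLinearMap (Submonoid.powers (f j)) N))

lemma iotaN_ker (n : N) (h : (iotaN f N).hom n = 0) (j : ι) : ∃ k : ℕ, f j ^ k • n = 0 := by
  have hj : LocalizedModule.mkLinearMap (Submonoid.powers (f j)) N n = 0 := congrFun h j
  obtain ⟨c, hc⟩ := (IsLocalizedModule.eq_zero_iff (Submonoid.powers (f j))
    (LocalizedModule.mkLinearMap (Submonoid.powers (f j)) N)).1 hj
  obtain ⟨k, hk⟩ := c.2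
  have hk' : f j ^ k = (c : A) := hk
  exact ⟨k, by rw [hk']; exact hc⟩

lemma smul_pow_bijective (j : ι) (K : ℕ) :
    Function.Bijective (fun x : LocN f N j => f j ^ K • x) := by
  have h := IsLocalizedModule.map_units (LocalizedModule.mkLinearMap (Submonoid.powers (f j)) N)
    (⟨f j ^ K, Submonoid.pow_mem _ (Submonoid.mem_powers (f j)) K⟩ : Submonoid.powers (f j))
  exact (Module.End.isUnit_iff _).1 h

lemma smul_bijective_LocN (j : ι) : Function.Bijective (fun x : LocN f N j => f j • x) := by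
  have h := smul_pow_bijective f N j 1
  simpa using h

lemma EN_partition [Fintype ι] (K : ι → ℕ) :
    ∃ (θ : EN f N ⟶ EN f N) (a : ι → (EN f N ⟶ EN f N)),
      Function.Bijective θ.hom ∧ θ = ∑ j, (f j ^ K j • 𝟙 (EN f N)) ≫ a j := by
  classical
  refine ⟨ModuleCat.ofHom (LinearMap.pi (fun j => (f j ^ K j) • LinearMap.proj j)),
    fun j => ModuleCat.ofHom ((LinearMap.single A (LocN f N) j).comp (LinearMap.proj j)), ?_, ?_⟩
  · constructor
    · intro x y h
      funext j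
      exact (smul_pow_bijective f N j (K j)).1 (congrFun h j)
    · intro y
      choose x hx using fun j => (smul_pow_bijective f N j (K j)).2 (y j)
      exact ⟨x, funext hx⟩
  · apply ModuleCat.hom_ext
    apply LinearMap.ext
    intro x
    funext k
    rw [ModuleCat.hom_sum, LinearMap.sum_apply, Finset.sum_apply, Finset.sum_eq_single k]
    · simp
    · intro i _ hik
      simp [hik]
    · intro h
      exact absurd (Finset.mem_univ k) h

lemma subsingleton_TT_EN [Fintype ι] (fs : List A) (hf : ∀ j, f j ∈ fs) (p : ℕ) :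
    Subsingleton (TT fs (EN f N) p) := by
  classical
  exact subsingleton_TT_pi' fs (LocN f N) f hf (smul_bijective_LocN f N) p

end algebra

section abelian

variable {C : Type*} [Category C] [Abelian C]

lemma isIso_of_exact_of_isZero {X1 X2 X3 X4 : C} (a : X1 ⟶ X2) (b : X2 ⟶ X3) (c : X3 ⟶ X4)
    (w1 : a ≫ b = 0) (w2 : b ≫ c = 0) (h1 : (ShortComplex.mk a b w1).Exact)
    (h2 : (ShortComplex.mk b c w2).Exact) (hX1 : IsZero X1) (hX4 : IsZero X4) : IsIso b := by
  haveI : Mono b := h1.mono_g (hX1.eq_of_src _ _)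
  haveI : Epi b := h2.epi_f (hX4.eq_of_tgt _ _)
  exact isIso_of_mono_of_epi b

end abelian

section shift

variable {X : Scheme.{u}} [CompactSpace X] [QuasiSeparatedSpace X] {ι : Type u} [Fintype ι]
  (f : ι → Γ(X, ⊤))

/-- augmented Čech cohomology of `W ↦ Γ(W, O_X) ⊗ N`. -/
noncomputable abbrev Haug (N : ModuleCat.{u} Γ(X, ⊤)) (q : ℕ) : AddCommGrpCat.{u} :=
  (Caug f (PN N)).homology q

variable {N E : ModuleCat.{u} Γ(X, ⊤)} (i : N ⟶ E)
  (hK : ∀ n : N, i.hom n = 0 → ∀ j : ι, ∃ k : ℕ, f j ^ k • n = 0)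
  (hE : HasPartition f E)

include hK in
lemma nonempty_iso_SK (q : ℕ) : Nonempty (Haug f N (q + 1) ≅ Haug f (SK i).X₃ (q + 1)) := by
  have hSE := CaugSC_shortExact f (SK i) (SK_shortExact i)
  have htors : ∀ j : ι, ∀ x : (SK i).X₁, ∃ k : ℕ, f j ^ k • x = 0 := by
    intro j x
    obtain ⟨k, hk⟩ := hK x.1 x.2 j
    exact ⟨k, Subtype.ext hk⟩
  have hz1 : IsZero (Haug f (SK i).X₁ (q + 1)) :=
    isZero_Caug_homology_of_torsion f _ htors (q + 1) (by omega)
  have hz2 : IsZero (Haug f (SK i).X₁ (q + 2)) :=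
    isZero_Caug_homology_of_torsion f _ htors (q + 2) (by omega)
  haveI : IsIso (HomologicalComplex.homologyMap (CaugSC f (PS (SK i))).g (q + 1)) :=
    isIso_of_exact_of_isZero _ _ _ _ _ (hSE.homology_exact₂ (q + 1))
      (hSE.homology_exact₃ (q + 1) (q + 2) rfl) hz1 hz2
  have e := asIso (HomologicalComplex.homologyMap (CaugSC f (PS (SK i))).g (q + 1))
  exact ⟨e⟩

include hE in
lemma nonempty_iso_SQ (q : ℕ) : Nonempty (Haug f (SQ i).X₃ q ≅ Haug f (SQ i).X₁ (q + 1)) := by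
  have hSE := CaugSC_shortExact f (SQ i) (SQ_shortExact i)
  have hz1 : IsZero (Haug f (SQ i).X₂ q) := isZero_Caug_homology_of_partition f E hE q
  have hz2 : IsZero (Haug f (SQ i).X₂ (q + 1)) := isZero_Caug_homology_of_partition f E hE (q + 1)
  haveI : IsIso (hSE.δ q (q + 1) rfl) :=
    isIso_of_exact_of_isZero _ _ _ _ _ (hSE.homology_exact₃ q (q + 1) rfl)
      (hSE.homology_exact₁ q (q + 1) rfl) hz1 hz2
  have e := asIso (hSE.δ q (q + 1) rfl)
  exact ⟨e⟩

include hK hE in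
/-- dimension shifting for the augmented Čech cohomology. -/
theorem nonempty_Haug_succ_equiv (q : ℕ) :
    Nonempty (Haug f N (q + 1) ≃+ Haug f (ModuleCat.of Γ(X, ⊤) (E ⧸ LinearMap.range i.hom)) q) := by
  obtain ⟨e1⟩ := nonempty_iso_SK f i hK q
  obtain ⟨e2⟩ := nonempty_iso_SQ f i hE q
  exact ⟨(e1 ≪≫ e2.symm).addCommGroupIsoToAddEquiv⟩

end shift

section base

variable {X : Scheme.{u}} [CompactSpace X] [QuasiSeparatedSpace X] {ι : Type u}
  (f : ι → Γ(X, ⊤)) (N : ModuleCat.{u} Γ(X, ⊤))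

lemma mk1_bijective : Function.Bijective (TensorProduct.mk Γ(X, ⊤) (GamA X ⊤) N 1) := by
  haveI := isLocalizedModule_mk N ⊤ 1 (Scheme.basicOpen_one (X := X)).symm
  have hone : ∀ c : Submonoid.powers (1 : Γ(X, ⊤)), (c : Γ(X, ⊤)) = 1 := by
    intro c
    obtain ⟨k, hk⟩ := c.2
    have hk' : (1 : Γ(X, ⊤)) ^ k = (c : Γ(X, ⊤)) := hk
    rw [← hk', one_pow]
  constructor
  · rw [injective_iff_map_eq_zero]
    intro n hn
    obtain ⟨c, hc⟩ := (IsLocalizedModule.eq_zero_iff (Submonoid.powers (1 : Γ(X, ⊤)))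
      (TensorProduct.mk Γ(X, ⊤) (GamA X ⊤) N 1)).1 hn
    have hc' : (c : Γ(X, ⊤)) • n = 0 := hc
    rw [hone c, one_smul] at hc'
    exact hc'
  · intro x
    obtain ⟨⟨n, s⟩, hs⟩ := IsLocalizedModule.surj (Submonoid.powers (1 : Γ(X, ⊤)))
      (TensorProduct.mk Γ(X, ⊤) (GamA X ⊤) N 1) x
    have hs' : (s : Γ(X, ⊤)) • x = TensorProduct.mk Γ(X, ⊤) (GamA X ⊤) N 1 n := hs
    rw [hone s, one_smul] at hs'
    exact ⟨n, hs'.symm⟩

lemma eps_eq_zero_iff (x : GamA X ⊤ ⊗[Γ(X, ⊤)] N) :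
    (ε (augTop f) (PN N)).hom x = 0 ↔ ∀ j, ∃ K : ℕ, f j ^ K • x = 0 := by
  constructor
  · intro hx j
    apply top_inj f N j
    have h1 := at0_eps f N x j
    have h2 : at0 (VV f) (PN N) ((ε (augTop f) (PN N)).hom x) j = 0 :=
      (congrArg (fun c => at0 (VV f) (PN N) c j) hx).trans (at0_zero _ j)
    exact h1.symm.trans h2
  · intro h
    apply ext0
    intro j
    refine ((at0_eps f N x j).trans ?_).trans (at0_zero _ j).symm
    obtain ⟨K, hK⟩ := h j
    have hu : IsUnit (algebraMap Γ(X, ⊤) (GamA X (VV f j)) (f j ^ K)) := by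
      rw [map_pow]
      exact (isUnit_algebraMap_of_eq_basicOpen (VV f j) (f j) rfl).pow K
    apply smul_injective_of_isUnit N (f j ^ K) (VV f j) hu
    change f j ^ K • resT N (le_top : VV f j ≤ ⊤) x = f j ^ K • 0
    rw [← map_smul, hK, map_zero, smul_zero]

variable (fs : List Γ(X, ⊤)) (hf : ∀ j, f j ∈ fs) (hfs : ∀ a ∈ fs, ∃ j, f j = a)

include hf in
lemma mk1_mem_ker (n : DRing.torsionSub (Ideal.span {a | a ∈ fs}) N) :
    (ε (augTop f) (PN N)).hom (TensorProduct.mk Γ(X, ⊤) (GamA X ⊤) N 1 (n : N)) = 0 := by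
  refine (eps_eq_zero_iff f N _).2 (fun j => ?_)
  obtain ⟨k, hk⟩ := (mem_torsionSub_iff fs N (n : N)).1 n.2 (f j) (hf j)
  refine ⟨k, ?_⟩
  rw [← map_smul, hk, map_zero]

include hf in
/-- `Γ_{(f)}(N) → ker ε`, `n ↦ 1 ⊗ n`. -/
noncomputable def torsToKer :
    DRing.torsionSub (Ideal.span {a | a ∈ fs}) N →+ (ε (augTop f) (PN N)).hom.ker where
  toFun n := ⟨TensorProduct.mk Γ(X, ⊤) (GamA X ⊤) N 1 (n : N),
    AddMonoidHom.mem_ker.2 (mk1_mem_ker f N fs hf n)⟩
  map_zero' := Subtype.ext (map_zero _)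
  map_add' a b := Subtype.ext (map_add _ _ _)

include hf hfs in
lemma torsToKer_bijective : Function.Bijective (torsToKer f N fs hf) := by
  constructor
  · rw [injective_iff_map_eq_zero]
    intro n hn
    have h1 : TensorProduct.mk Γ(X, ⊤) (GamA X ⊤) N 1 (n : N) = 0 := congrArg Subtype.val hn
    exact Subtype.ext ((mk1_bijective N).1 (h1.trans (map_zero _).symm))
  · intro x
    obtain ⟨n, hn⟩ := (mk1_bijective N).2 (x.1 : GamA X ⊤ ⊗[Γ(X, ⊤)] N)
    have hx := (eps_eq_zero_iff f N x.1).1 (AddMonoidHom.mem_ker.1 x.2)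
    have hmem : n ∈ DRing.torsionSub (Ideal.span {a | a ∈ fs}) N := by
      rw [mem_torsionSub_iff]
      intro a ha
      obtain ⟨j, rfl⟩ := hfs a ha
      obtain ⟨K, hK⟩ := hx j
      refine ⟨K, (mk1_bijective N).1 ?_⟩
      rw [map_smul, hn, map_zero]
      exact hK
    exact ⟨⟨n, hmem⟩, Subtype.ext hn⟩

/-- the kernel of `ε` as the `0`-cycles of the augmented complex. -/
noncomputable def toCyc :
    AddCommGrpCat.of (ε (augTop f) (PN N)).hom.ker ⟶ (Caug f (PN N)).cycles 0 :=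
  (Caug f (PN N)).liftCycles
    (AddCommGrpCat.ofHom (AddSubgroup.subtype _) :
      AddCommGrpCat.of (ε (augTop f) (PN N)).hom.ker ⟶ (Caug f (PN N)).X 0) 1 (by simp) (by
    ext x
    exact x.2)

lemma toCyc_i_apply (x : (ε (augTop f) (PN N)).hom.ker) :
    ((Caug f (PN N)).iCycles 0).hom ((toCyc f N).hom x) = x.1 := by
  have h : toCyc f N ≫ (Caug f (PN N)).iCycles 0 =
      (AddCommGrpCat.ofHom (AddSubgroup.subtype _) :
        AddCommGrpCat.of (ε (augTop f) (PN N)).hom.ker ⟶ (Caug f (PN N)).X 0) :=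
    (Caug f (PN N)).liftCycles_i _ _ _ _
  exact ConcreteCategory.congr_hom h x

lemma isIso_toCyc : IsIso (toCyc f N) := by
  rw [ConcreteCategory.isIso_iff_bijective]
  have hmono : Function.Injective ((Caug f (PN N)).iCycles 0).hom :=
    (AddCommGrpCat.mono_iff_injective _).1 inferInstance
  constructor
  · intro x y h
    apply Subtype.ext
    rw [← toCyc_i_apply, ← toCyc_i_apply]
    exact congrArg _ h
  · intro z
    have hz : ((Caug f (PN N)).d 0 1).hom (((Caug f (PN N)).iCycles 0).hom z) = 0 :=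
      ConcreteCategory.congr_hom ((Caug f (PN N)).iCycles_d 0 1) z
    refine ⟨⟨((Caug f (PN N)).iCycles 0).hom z, hz⟩, hmono ?_⟩
    rw [toCyc_i_apply]

include hf hfs in
theorem nonempty_Haug_zero_equiv :
    Nonempty ((Caug f (PN N)).homology 0 ≃+ TT fs N 0) := by
  haveI := isIso_toCyc f N
  let e1 : AddCommGrpCat.of (ε (augTop f) (PN N)).hom.ker ≅ (Caug f (PN N)).homology 0 :=
    asIso (toCyc f N) ≪≫ (Caug f (PN N)).isoHomologyπ₀
  let e2 : DRing.torsionSub (Ideal.span {a | a ∈ fs}) N ≃+ (ε (augTop f) (PN N)).hom.ker :=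
    AddEquiv.ofBijective (torsToKer f N fs hf) (torsToKer_bijective f N fs hf hfs)
  exact ⟨(e1.symm.addCommGroupIsoToAddEquiv.trans e2.symm).trans (T0Equiv fs N).symm.toAddEquiv⟩

end base

section main

variable {X : Scheme.{u}} [CompactSpace X] [QuasiSeparatedSpace X] {ι : Type u} [Fintype ι]
  (f : ι → Γ(X, ⊤)) (fs : List Γ(X, ⊤)) (hf : ∀ j, f j ∈ fs) (hfs : ∀ a ∈ fs, ∃ j, f j = a)

include hf hfs in
/-- **the augmented Čech cohomology of `W ↦ Γ(W, O_X) ⊗ N` is the Koszul limit cohomology.** -/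
theorem nonempty_Haug_equiv_TT : ∀ (q : ℕ) (N : ModuleCat.{u} Γ(X, ⊤)),
    Nonempty ((Caug f (PN N)).homology q ≃+ TT fs N q)
  | 0, N => nonempty_Haug_zero_equiv f N fs hf hfs
  | q + 1, N => by
    have hK : ∀ n : N, (iotaN f N).hom n = 0 → ∀ j : ι, ∃ k : ℕ, f j ^ k • n = 0 :=
      fun n hn j => iotaN_ker f N n hn j
    have hK' : ∀ n : N, (iotaN f N).hom n = 0 → ∀ a ∈ fs, ∃ k : ℕ, a ^ k • n = 0 := by
      intro n hn a ha
      obtain ⟨j, rfl⟩ := hfs a ha
      exact hK n hn j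
    obtain ⟨e1⟩ := nonempty_Haug_succ_equiv f (iotaN f N) hK (EN_partition f N) q
    obtain ⟨e2⟩ := nonempty_Haug_equiv_TT q
      (ModuleCat.of Γ(X, ⊤) ((EN f N) ⧸ LinearMap.range (iotaN f N).hom))
    obtain ⟨e3⟩ := nonempty_TT_succ_equiv fs (iotaN f N) hK'
      (fun p => subsingleton_TT_EN f N fs hf p) q
    exact ⟨(e1.trans e2).trans e3.symm.toAddEquiv⟩

end main

end Groth.Agent.Lib.Lead.KosCechD
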