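import Groth.Agent.Lib.Lead.KosCechC

/-!
# Acyclicity of the augmented Čech complex of `W ↦ Γ(W, O_X) ⊗ E` for modules with partitions of unity
-/

set_option autoImplicit false
set_option linter.style.haveILetI false
set_option linter.unusedSectionVars false
set_option linter.unusedVariables false

universe u

open AlgebraicGeometry CategoryTheory CategoryTheory.Limits Opposite TopologicalSpace TensorProduct

namespace Groth.Agent.Lib.Lead.KosCechE

open Groth.Agent.Lib.Helper3.QCSec Groth.Agent.Lib.Lead.KosGeo Groth.Agent.Lib.Lead.KosCechP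
  Groth.Agent.Lib.Lead.KosCechC
open Groth.Agent.Lib.Helper13 Groth.Agent.Lib.Helper13.CechBasic Groth.Agent.Lib.Helper13.CechLocal
  Groth.Agent.Lib.Helper13.CechLow Groth.Agent.Lib.Helper13.CechLES Groth.Agent.Lib.Helper13.CechH0

variable {X : Scheme.{u}} {ι : Type u} (f : ι → Γ(X, ⊤))

/-- the partition of unity hypothesis on a module. -/
def HasPartition (E : ModuleCat.{u} Γ(X, ⊤)) [Fintype ι] : Prop :=
  ∀ K : ι → ℕ, ∃ (θ : E ⟶ E) (a : ι → (E ⟶ E)), Function.Bijective θ.hom ∧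
    θ = ∑ j, (f j ^ K j • 𝟙 E) ≫ a j

lemma Pmap_bijective {N N' : ModuleCat.{u} Γ(X, ⊤)} (θ : N ⟶ N')
    (hθ : Function.Bijective θ.hom) (W : (X.Opens)ᵒᵖ) :
    Function.Bijective ((Pmap θ).app W).hom := by
  let e : N ≃ₗ[Γ(X, ⊤)] N' := LinearEquiv.ofBijective θ.hom hθ
  exact (e.lTensor (GamA X W.unop)).bijective

lemma partition_apply [Fintype ι] (E : ModuleCat.{u} Γ(X, ⊤)) (K : ι → ℕ) (θ : E ⟶ E)
    (a : ι → (E ⟶ E)) (hθ : θ = ∑ j, (f j ^ K j • 𝟙 E) ≫ a j) (W : (X.Opens)ᵒᵖ)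
    (x : GamA X W.unop ⊗[Γ(X, ⊤)] E) :
    ∑ j, ((Pmap (a j)).app W).hom (((phi E (f j) (K j)).app W).hom x) = ((Pmap θ).app W).hom x := by
  rw [hθ, Pmap_sum_apply]
  refine Finset.sum_congr rfl (fun j _ => ?_)
  rw [Pmap_comp]
  rfl

lemma Pmap_naturality_apply {N N' : ModuleCat.{u} Γ(X, ⊤)} (φ : N ⟶ N') {W W' : X.Opens}
    (h : W' ≤ W) (x : GamA X W ⊗[Γ(X, ⊤)] N) :
    resT N' h (((Pmap φ).app (op W)).hom x) = ((Pmap φ).app (op W')).hom (resT N h x) :=
  (ConcreteCategory.congr_hom ((Pmap φ).naturality (homOfLE h).op) x).symm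

lemma at0_zero {P : (X.Opens)ᵒᵖ ⥤ AddCommGrpCat.{u}} (V : ι → X.Opens) (j : ι) :
    at0 V P 0 j = 0 := by
  unfold at0
  rw [map_zero, map_zero]

lemma at0_eps (N : ModuleCat.{u} Γ(X, ⊤)) (s : (PN N).obj (op (⊤ : X.Opens))) (j : ι) :
    at0 (VV f) (PN N) ((ε (augTop f) (PN N)).hom s) j =
      resT N (le_top : VV f j ≤ ⊤) (s : GamA X ⊤ ⊗[Γ(X, ⊤)] N) := by
  rw [ε_apply, at0_εfun]
  rfl

section loc

variable [CompactSpace X] [QuasiSeparatedSpace X] (N : ModuleCat.{u} Γ(X, ⊤))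

lemma top_inj (j : ι) (x : GamA X ⊤ ⊗[Γ(X, ⊤)] N)
    (hx : resT N (le_top : VV f j ≤ ⊤) x = 0) : ∃ K : ℕ, f j ^ K • x = 0 :=
  exists_pow_smul_eq_zero_of_resT N ⊤ (VV f j) 1 (f j) (Scheme.basicOpen_one (X := X)).symm
    (by rw [one_mul]) le_top x hx

lemma top_surj (j : ι) (y : GamA X (VV f j) ⊗[Γ(X, ⊤)] N) :
    ∃ (K : ℕ) (x : GamA X ⊤ ⊗[Γ(X, ⊤)] N), resT N (le_top : VV f j ≤ ⊤) x = f j ^ K • y :=
  exists_resT_eq_pow_smul N ⊤ (VV f j) 1 (f j) (Scheme.basicOpen_one (X := X)).symm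
    (by rw [one_mul]) le_top y

end loc

section acyclic

variable [Fintype ι] [CompactSpace X] [QuasiSeparatedSpace X] (E : ModuleCat.{u} Γ(X, ⊤))
  (hE : HasPartition f E)

lemma partition_applyL (K : ι → ℕ) (θ : E ⟶ E)
    (a : ι → (E ⟶ E)) (hθ : θ = ∑ j, (f j ^ K j • 𝟙 E) ≫ a j) (W : X.Opens)
    (x : GamA X W ⊗[Γ(X, ⊤)] E) :
    ∑ j, (a j).hom.lTensor (GamA X W) (f j ^ K j • x) = θ.hom.lTensor (GamA X W) x := by
  subst hθ
  rw [ModuleCat.hom_sum]
  have h : (∑ j, ((f j ^ K j • 𝟙 E) ≫ a j).hom).lTensor (GamA X W) =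
      ∑ j, (((f j ^ K j • 𝟙 E) ≫ a j).hom).lTensor (GamA X W) :=
    map_sum (LinearMap.lTensorHom (GamA X W)) _ _
  rw [h, LinearMap.sum_apply]
  refine Finset.sum_congr rfl (fun j _ => ?_)
  rw [ModuleCat.hom_comp, ModuleCat.hom_smul, ModuleCat.hom_id, LinearMap.lTensor_comp,
    LinearMap.comp_apply, LinearMap.lTensor_smul, LinearMap.lTensor_id]
  rfl

lemma resT_lTensor {N N' : ModuleCat.{u} Γ(X, ⊤)} (φ : N ⟶ N') {W W' : X.Opens} (h : W' ≤ W)
    (x : GamA X W ⊗[Γ(X, ⊤)] N) :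
    resT N' h (φ.hom.lTensor (GamA X W) x) = φ.hom.lTensor (GamA X W') (resT N h x) := by
  have : (resT N' h) ∘ₗ (φ.hom.lTensor (GamA X W)) =
      (φ.hom.lTensor (GamA X W')) ∘ₗ (resT N h) := by
    apply TensorProduct.ext'
    intro b n
    rfl
  exact LinearMap.congr_fun this x

lemma lTensor_bijective {N N' : ModuleCat.{u} Γ(X, ⊤)} (θ : N ⟶ N')
    (hθ : Function.Bijective θ.hom) (W : X.Opens) :
    Function.Bijective (θ.hom.lTensor (GamA X W)) := by
  let e : N ≃ₗ[Γ(X, ⊤)] N' := LinearEquiv.ofBijective θ.hom hθ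
  exact (e.lTensor (GamA X W)).bijective

include hE in
lemma eps_injective : Function.Injective (ε (augTop f) (PN E)).hom := by
  rw [injective_iff_map_eq_zero]
  intro s hs
  let s' : GamA X ⊤ ⊗[Γ(X, ⊤)] E := s
  have h1 : ∀ j, ∃ K : ℕ, f j ^ K • s' = 0 := by
    intro j
    apply top_inj f E j s'
    have := at0_eps f E s j
    rw [hs, at0_zero] at this
    exact this.symm
  choose K hK using h1
  obtain ⟨θ, a, hbij, hθ⟩ := hE K
  have h2 : θ.hom.lTensor (GamA X ⊤) s' = 0 := by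
    rw [← partition_applyL f E K θ a hθ ⊤ s']
    apply Finset.sum_eq_zero
    intro j _
    rw [hK j, map_zero]
  have h3 : s' = 0 := (lTensor_bijective θ hbij ⊤).1 (h2.trans (map_zero _).symm)
  exact h3

include hE in
lemma exists_eps_eq (c : (cx (VV f) (PN E)).X 0)
    (hc : ((cx (VV f) (PN E)).d 0 1).hom c = 0) :
    ∃ s : (PN E).obj (op (⊤ : X.Opens)), (ε (augTop f) (PN E)).hom s = c := by
  classical
  let cc : ∀ j : ι, GamA X (VV f j) ⊗[Γ(X, ⊤)] E := fun j => at0 (VV f) (PN E) c j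
  -- the cocycle condition
  have hcoc : ∀ i : Fin 2 → ι,
      resT E (Pi.π (VV f ∘ i) 1).le (cc (i 1)) = resT E (Pi.π (VV f ∘ i) 0).le (cc (i 0)) := by
    intro i
    have h := congrArg (fun z => (proj (VV f) (PN E) 1 i).hom z) hc
    simp only [d0_proj, map_zero] at h
    exact sub_eq_zero.1 h
  -- Step A
  choose K b hb using fun j => top_surj f E j (cc j)
  -- Step B
  have hB : ∀ j k : ι, ∃ L : ℕ, f j ^ L • (resT E (le_top : VV f k ≤ ⊤) (b j) -
      f j ^ K j • cc k) = 0 := by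
    intro j k
    let i : Fin 2 → ι := ![j, k]
    have hW' : (∏ᶜ (VV f ∘ i) : X.Opens) = X.basicOpen (f k * f j) := by
      rw [prod_eq_basicOpen f i]
      congr 1
      unfold gg
      rw [Fin.prod_univ_two]
      exact mul_comm (f j) (f k)
    have h1 : (∏ᶜ (VV f ∘ i) : X.Opens) ≤ VV f k := (Pi.π (VV f ∘ i) 1).le
    have h0 : (∏ᶜ (VV f ∘ i) : X.Opens) ≤ VV f j := (Pi.π (VV f ∘ i) 0).le
    apply exists_pow_smul_eq_zero_of_resT E (VV f k) _ (f k) (f j) rfl hW' h1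
    rw [map_sub, map_smul, resT_resT]
    have e1 : resT E (h1.trans (le_top : VV f k ≤ ⊤)) (b j) =
        resT E h0 (resT E (le_top : VV f j ≤ ⊤) (b j)) := (resT_resT E _ _ _).symm
    rw [e1, hb j, map_smul, sub_eq_zero]
    congr 1
    exact (hcoc i).symm
  choose L hL using hB
  choose M hM using fun j => Finite.exists_le (L j)
  have hL' : ∀ j k : ι, f j ^ M j • resT E (le_top : VV f k ≤ ⊤) (b j) =
      f j ^ (M j + K j) • cc k := by
    intro j k
    have h2 : f j ^ M j • (resT E (le_top : VV f k ≤ ⊤) (b j) - f j ^ K j • cc k) = 0 := by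
      obtain ⟨d, hd⟩ := Nat.exists_eq_add_of_le (hM j k)
      rw [hd, add_comm, pow_add, mul_smul, hL j k, smul_zero]
    rw [smul_sub, sub_eq_zero, smul_smul, ← pow_add] at h2
    exact h2
  -- Step C
  obtain ⟨θ, a, hbij, hθ⟩ := hE (fun j => M j + K j)
  let s₀ : GamA X ⊤ ⊗[Γ(X, ⊤)] E := ∑ j, (a j).hom.lTensor (GamA X ⊤) (f j ^ M j • b j)
  have hs₀ : ∀ k, resT E (le_top : VV f k ≤ ⊤) s₀ = θ.hom.lTensor (GamA X (VV f k)) (cc k) := by
    intro k
    rw [← partition_applyL f E (fun j => M j + K j) θ a hθ (VV f k)]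
    change resT E (le_top : VV f k ≤ ⊤) (∑ j, (a j).hom.lTensor (GamA X ⊤) (f j ^ M j • b j)) = _
    rw [map_sum]
    refine Finset.sum_congr rfl (fun j _ => ?_)
    rw [resT_lTensor, map_smul, hL' j k]
  obtain ⟨s, hs⟩ := (lTensor_bijective θ hbij ⊤).2 s₀
  refine ⟨s, ?_⟩
  apply ext0
  intro k
  refine (at0_eps f E s k).trans ?_
  apply (lTensor_bijective θ hbij (VV f k)).1
  change θ.hom.lTensor (GamA X (VV f k)) (resT E (le_top : VV f k ≤ ⊤) s) =
    θ.hom.lTensor (GamA X (VV f k)) (cc k)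
  rw [← hs₀ k, ← hs, resT_lTensor]

include hE in
lemma exists_partition_hu : ∀ K : ι → ℕ, ∃ (ψ : PN E ⟶ PN E) (a : ι → (PN E ⟶ PN E)),
    (∀ (W : (X.Opens)ᵒᵖ) (x : (PN E).obj W),
      ∑ j, ((a j).app W).hom (((phi E (f j) (K j)).app W).hom x) = (ψ.app W).hom x) ∧
    ∀ (n : ℕ) (i : Fin (n + 1) → ι),
      Function.Bijective ((ψ.app (op (∏ᶜ (VV f ∘ i)))).hom) := by
  intro K
  obtain ⟨θ, a, hbij, hθ⟩ := hE K
  exact ⟨Pmap θ, fun j => Pmap (a j), fun W x => partition_apply f E K θ a hθ W x,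
    fun n i => Pmap_bijective θ hbij _⟩

include hE in
theorem isZero_Caug_homology_of_partition (q : ℕ) : IsZero ((Caug f (PN E)).homology q) := by
  rw [← HomologicalComplex.exactAt_iff_isZero_homology]
  match q with
  | 0 =>
    rw [HomologicalComplex.exactAt_iff' _ 0 0 1 (by simp) (by simp)]
    rw [ShortComplex.exact_iff_mono _ ((Caug f (PN E)).shape 0 0 (by simp))]
    change Mono (ε (augTop f) (PN E))
    rw [AddCommGrpCat.mono_iff_injective]
    exact eps_injective f E hE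
  | 1 =>
    rw [HomologicalComplex.exactAt_iff' _ 0 1 2 (by simp) (by simp), ShortComplex.ab_exact_iff]
    intro c hc
    exact exists_eps_eq f E hE c hc
  | q + 2 =>
    rw [HomologicalComplex.exactAt_iff' _ (q + 1) (q + 2) (q + 3) (by simp) (by simp),
      ShortComplex.ab_exact_iff]
    intro c hc
    exact exists_primitive (fun j K => phi E (f j) K) (fun j N K => phi_add E (f j) N K)
      (fun j n i => isLoc_phi f E j i) (exists_partition_hu f E hE) q c hc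

end acyclic

end Groth.Agent.Lib.Lead.KosCechE
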