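import Groth.Agent.Lib.Lead.KosGeo

/-!
# The presheaf `W ↦ Γ(W, O_X) ⊗ N` attached to a module over the global functions

`X` quasi-compact quasi-separated, `A = Γ(X, ⊤)`, `N` an `A`-module.
* `GamA X W`: `Γ(W, O_X)` as an `A`-algebra; `isLocalization_GamA`: it is `A_g` for `W = X_g`.
* `PN N`: the presheaf of abelian groups `W ↦ Γ(W, O_X) ⊗[A] N`, functorial in `N` (`Pmap`).
* exactness in `N` over the `X_g`, localization properties of the restriction maps, vanishing for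
  torsion modules.
-/

set_option autoImplicit false
set_option linter.style.haveILetI false
set_option linter.unusedSectionVars false
set_option linter.unusedVariables false

universe u

open AlgebraicGeometry CategoryTheory Opposite TopologicalSpace TensorProduct

namespace Groth.Agent.Lib.Lead.KosCechP

open Groth.Agent.Lib.Helper3.QCSec Groth.Agent.Lib.Lead.KosGeo

variable (X : Scheme.{u})

/-- `Γ(W, O_X)` as an algebra over the global functions. -/
def GamA (W : X.Opens) : Type u := Γ(X, W)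

noncomputable instance (W : X.Opens) : CommRing (GamA X W) := inferInstanceAs (CommRing Γ(X, W))

noncomputable instance (W : X.Opens) : Algebra Γ(X, ⊤) (GamA X W) :=
  (X.presheaf.map (homOfLE (le_top : W ≤ ⊤)).op).hom.toAlgebra

variable {X}

lemma algebraMap_GamA (W : X.Opens) (a : Γ(X, ⊤)) :
    algebraMap Γ(X, ⊤) (GamA X W) a = rres X (le_top : W ≤ ⊤) a := rfl

/-- restriction as an algebra map. -/
noncomputable def resA {W W' : X.Opens} (h : W' ≤ W) : GamA X W →ₐ[Γ(X, ⊤)] GamA X W' where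
  toRingHom := (X.presheaf.map (homOfLE h).op).hom
  commutes' a := rres_rres h le_top a

lemma resA_apply {W W' : X.Opens} (h : W' ≤ W) (b : GamA X W) : resA h b = rres X h b := rfl

lemma resA_refl (W : X.Opens) : resA (le_refl W) = AlgHom.id Γ(X, ⊤) (GamA X W) := by
  ext b
  exact rres_self (le_refl W) b

lemma resA_comp {W W' W'' : X.Opens} (h : W' ≤ W) (h' : W'' ≤ W') :
    (resA h').comp (resA h) = resA (h'.trans h) := by
  ext b
  exact rres_rres h' h b

lemma isUnit_algebraMap_of_le_basicOpen (f : Γ(X, ⊤)) {W : X.Opens} (hW : W ≤ X.basicOpen f) :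
    IsUnit (algebraMap Γ(X, ⊤) (GamA X W) f) :=
  isUnit_rres_of_le_basicOpen f hW

section loc

variable [CompactSpace X] [QuasiSeparatedSpace X]

/-- `Γ(X_g, O_X) = A_g` (the qcqs lemma). -/
lemma isLocalization_GamA (W : X.Opens) (g : Γ(X, ⊤)) (hW : W = X.basicOpen g) :
    IsLocalization.Away g (GamA X W) := by
  subst hW
  exact isLocalization_basicOpen_of_qcqs (isCompact_top' (X := X)) (isQS ⊤) g

end loc

/-! ### the presheaf -/

section presheaf

variable (N : ModuleCat.{u} Γ(X, ⊤))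

/-- restriction maps of `W ↦ Γ(W, O_X) ⊗ N`. -/
noncomputable def resT {W W' : X.Opens} (h : W' ≤ W) :
    (GamA X W ⊗[Γ(X, ⊤)] N) →ₗ[Γ(X, ⊤)] (GamA X W' ⊗[Γ(X, ⊤)] N) :=
  (resA h).toLinearMap.rTensor N

lemma resT_tmul {W W' : X.Opens} (h : W' ≤ W) (b : GamA X W) (n : N) :
    resT N h (b ⊗ₜ n) = (resA h b) ⊗ₜ[Γ(X, ⊤)] n := rfl

lemma resT_refl (W : X.Opens) (x : GamA X W ⊗[Γ(X, ⊤)] N) : resT N (le_refl W) x = x := by
  unfold resT
  rw [resA_refl]
  exact LinearMap.congr_fun (LinearMap.rTensor_id _ _) x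

lemma resT_resT {W W' W'' : X.Opens} (h : W' ≤ W) (h' : W'' ≤ W') (x : GamA X W ⊗[Γ(X, ⊤)] N) :
    resT N h' (resT N h x) = resT N (h'.trans h) x := by
  unfold resT
  rw [← resA_comp h h']
  exact (LinearMap.congr_fun (LinearMap.rTensor_comp N (resA h').toLinearMap (resA h).toLinearMap) x).symm

/-- the presheaf `W ↦ Γ(W, O_X) ⊗ N`. -/
noncomputable def PN : (X.Opens)ᵒᵖ ⥤ AddCommGrpCat.{u} where
  obj W := AddCommGrpCat.of (GamA X W.unop ⊗[Γ(X, ⊤)] N)
  map f := AddCommGrpCat.ofHom (resT N f.unop.le).toAddMonoidHom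
  map_id W := by
    ext x
    exact resT_refl N W.unop x
  map_comp f g := by
    ext x
    exact (resT_resT N f.unop.le g.unop.le x).symm

lemma PN_map_apply {W W' : (X.Opens)ᵒᵖ} (f : W ⟶ W') (x : GamA X W.unop ⊗[Γ(X, ⊤)] N) :
    ((PN N).map f).hom x = resT N f.unop.le x := rfl

variable {N} {N' N'' : ModuleCat.{u} Γ(X, ⊤)}

/-- functoriality in the module. -/
noncomputable def Pmap (φ : N ⟶ N') : PN N ⟶ PN N' where
  app W := AddCommGrpCat.ofHom (φ.hom.lTensor (GamA X W.unop)).toAddMonoidHom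
  naturality W W' f := by
    ext x
    change (φ.hom.lTensor _) (resT N f.unop.le x) = resT N' f.unop.le ((φ.hom.lTensor _) x)
    unfold resT
    have : (φ.hom.lTensor _) ∘ₗ ((resA f.unop.le).toLinearMap.rTensor N) =
        ((resA f.unop.le).toLinearMap.rTensor N') ∘ₗ (φ.hom.lTensor _) := by
      apply TensorProduct.ext'
      intro b n
      rfl
    exact LinearMap.congr_fun this x

lemma Pmap_apply (φ : N ⟶ N') (W : (X.Opens)ᵒᵖ) (x : GamA X W.unop ⊗[Γ(X, ⊤)] N) :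
    ((Pmap φ).app W).hom x = φ.hom.lTensor (GamA X W.unop) x := rfl

lemma Pmap_id : Pmap (𝟙 N) = 𝟙 (PN N) := by
  ext W x
  change (LinearMap.id.lTensor _) x = x
  rw [LinearMap.lTensor_id]
  rfl

lemma Pmap_comp (φ : N ⟶ N') (ψ : N' ⟶ N'') : Pmap (φ ≫ ψ) = Pmap φ ≫ Pmap ψ := by
  ext W x
  change ((ψ.hom ∘ₗ φ.hom).lTensor _) x = (ψ.hom.lTensor _) ((φ.hom.lTensor _) x)
  rw [LinearMap.lTensor_comp]
  rfl

lemma Pmap_zero : Pmap (0 : N ⟶ N') = 0 := by
  ext W x
  change (((0 : N ⟶ N').hom).lTensor _) x = 0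
  rw [ModuleCat.hom_zero, LinearMap.lTensor_zero]
  rfl

lemma Pmap_smul_apply (a : Γ(X, ⊤)) (W : (X.Opens)ᵒᵖ) (x : GamA X W.unop ⊗[Γ(X, ⊤)] N) :
    ((Pmap (a • 𝟙 N)).app W).hom x = a • x := by
  rw [Pmap_apply, ModuleCat.hom_smul, ModuleCat.hom_id, LinearMap.lTensor_smul, LinearMap.lTensor_id]
  rfl

lemma Pmap_sum_apply {κ : Type*} (s : Finset κ) (φ : κ → (N ⟶ N')) (W : (X.Opens)ᵒᵖ)
    (x : GamA X W.unop ⊗[Γ(X, ⊤)] N) :
    ((Pmap (∑ k ∈ s, φ k)).app W).hom x = ∑ k ∈ s, ((Pmap (φ k)).app W).hom x := by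
  classical
  induction s using Finset.induction_on with
  | empty =>
    simp only [Finset.sum_empty]
    rw [Pmap_zero]
    rfl
  | insert a s ha ih =>
    rw [Finset.sum_insert ha, Finset.sum_insert ha, ← ih]
    change (((φ a + ∑ k ∈ s, φ k).hom).lTensor _) x = _
    rw [ModuleCat.hom_add, LinearMap.lTensor_add]
    rfl

end presheaf

/-! ### properties over the `X_g` -/

section props

variable (N : ModuleCat.{u} Γ(X, ⊤))

lemma smul_injective_of_isUnit (a : Γ(X, ⊤)) (W : X.Opens)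
    (ha : IsUnit (algebraMap Γ(X, ⊤) (GamA X W) a)) :
    Function.Injective (fun z : GamA X W ⊗[Γ(X, ⊤)] N => a • z) := by
  intro z z' h
  have h' : algebraMap Γ(X, ⊤) (GamA X W) a • z = algebraMap Γ(X, ⊤) (GamA X W) a • z' := by
    rw [algebraMap_smul, algebraMap_smul]
    exact h
  exact ha.smul_left_cancel.mp h'

lemma smul_bijective_of_isUnit (a : Γ(X, ⊤)) (W : X.Opens)
    (ha : IsUnit (algebraMap Γ(X, ⊤) (GamA X W) a)) :
    Function.Bijective (fun z : GamA X W ⊗[Γ(X, ⊤)] N => a • z) := by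
  refine ⟨smul_injective_of_isUnit N a W ha, fun z => ?_⟩
  obtain ⟨u, hu⟩ := ha
  refine ⟨(↑u⁻¹ : GamA X W) • z, ?_⟩
  change a • ((↑u⁻¹ : GamA X W) • z) = z
  rw [← algebraMap_smul (GamA X W) a, ← hu, smul_smul, Units.mul_inv, one_smul]

/-- torsion modules vanish over `W ⊆ X_f`. -/
lemma subsingleton_of_torsion (f : Γ(X, ⊤)) (hN : ∀ x : N, ∃ k : ℕ, f ^ k • x = 0)
    (W : X.Opens) (hW : W ≤ X.basicOpen f) : Subsingleton (GamA X W ⊗[Γ(X, ⊤)] N) := by
  obtain ⟨u, hu⟩ := isUnit_algebraMap_of_le_basicOpen f hW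
  have hz : ∀ z : GamA X W ⊗[Γ(X, ⊤)] N, z = 0 := by
    intro z
    induction z using TensorProduct.induction_on with
    | zero => rfl
    | tmul b n =>
      obtain ⟨k, hk⟩ := hN n
      have e : b = f ^ k • ((↑(u⁻¹ ^ k) : GamA X W) * b) := by
        rw [Algebra.smul_def, map_pow, ← hu, ← Units.val_pow_eq_pow_val, ← mul_assoc, ← Units.val_mul,
          inv_pow, mul_inv_cancel, Units.val_one, one_mul]
      rw [e, TensorProduct.smul_tmul, hk, TensorProduct.tmul_zero]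
    | add x y hx hy => rw [hx, hy, add_zero]
  exact ⟨fun a b => by rw [hz a, hz b]⟩

variable [CompactSpace X] [QuasiSeparatedSpace X]

/-- `n ↦ 1 ⊗ n` is the localization of `N` at `g`, over `X_g`. -/
lemma isLocalizedModule_mk (W : X.Opens) (g : Γ(X, ⊤)) (hW : W = X.basicOpen g) :
    IsLocalizedModule (Submonoid.powers g) (TensorProduct.mk Γ(X, ⊤) (GamA X W) N 1) := by
  haveI : IsLocalization (Submonoid.powers g) (GamA X W) := isLocalization_GamA W g hW
  infer_instance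

lemma flat_GamA (W : X.Opens) (g : Γ(X, ⊤)) (hW : W = X.basicOpen g) :
    Module.Flat Γ(X, ⊤) (GamA X W) := by
  haveI : IsLocalization (Submonoid.powers g) (GamA X W) := isLocalization_GamA W g hW
  exact IsLocalization.flat _ (Submonoid.powers g)

lemma isUnit_algebraMap_of_eq_basicOpen (W : X.Opens) (g : Γ(X, ⊤)) (hW : W = X.basicOpen g) :
    IsUnit (algebraMap Γ(X, ⊤) (GamA X W) g) :=
  isUnit_algebraMap_of_le_basicOpen g (le_of_eq hW)

/-- surjectivity part of "restriction from `X_g` to `X_{gf}` is localization at `f`". -/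
lemma exists_resT_eq_pow_smul (W W' : X.Opens) (g f : Γ(X, ⊤)) (hW : W = X.basicOpen g)
    (hW' : W' = X.basicOpen (g * f)) (h : W' ≤ W) (y : GamA X W' ⊗[Γ(X, ⊤)] N) :
    ∃ (K : ℕ) (x : GamA X W ⊗[Γ(X, ⊤)] N), resT N h x = f ^ K • y := by
  haveI := isLocalizedModule_mk N W' (g * f) hW'
  obtain ⟨⟨n, s⟩, hs⟩ := IsLocalizedModule.surj (Submonoid.powers (g * f))
    (TensorProduct.mk Γ(X, ⊤) (GamA X W') N 1) y
  obtain ⟨K, hK⟩ := s.2
  obtain ⟨u, hu⟩ := isUnit_algebraMap_of_eq_basicOpen W g hW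
  refine ⟨K, ((↑(u⁻¹ ^ K) : GamA X W)) ⊗ₜ n, ?_⟩
  have hgW' : IsUnit (algebraMap Γ(X, ⊤) (GamA X W') (g ^ K)) := by
    rw [map_pow]
    exact (isUnit_algebraMap_of_le_basicOpen g (h.trans (le_of_eq hW))).pow K
  apply smul_injective_of_isUnit N (g ^ K) W' hgW'
  change g ^ K • resT N h (((↑(u⁻¹ ^ K) : GamA X W)) ⊗ₜ n) = g ^ K • (f ^ K • y)
  have e : g ^ K • ((↑(u⁻¹ ^ K) : GamA X W)) = 1 := by
    rw [Algebra.smul_def, map_pow, ← hu, ← Units.val_pow_eq_pow_val, ← Units.val_mul,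
      inv_pow, mul_inv_cancel, Units.val_one]
  have hK' : (g * f) ^ K = (s : Γ(X, ⊤)) := hK
  rw [← map_smul, TensorProduct.smul_tmul', e, resT_tmul, map_one, smul_smul, ← mul_pow, hK']
  exact hs.symm

/-- injectivity part. -/
lemma exists_pow_smul_eq_zero_of_resT (W W' : X.Opens) (g f : Γ(X, ⊤)) (hW : W = X.basicOpen g)
    (hW' : W' = X.basicOpen (g * f)) (h : W' ≤ W) (x : GamA X W ⊗[Γ(X, ⊤)] N)
    (hx : resT N h x = 0) : ∃ K : ℕ, f ^ K • x = 0 := by
  haveI := isLocalizedModule_mk N W g hW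
  obtain ⟨⟨n, s⟩, hs⟩ := IsLocalizedModule.surj (Submonoid.powers g)
    (TensorProduct.mk Γ(X, ⊤) (GamA X W) N 1) x
  obtain ⟨k, hk⟩ := s.2
  have hk' : g ^ k = (s : Γ(X, ⊤)) := hk
  have hs' : g ^ k • x = (1 : GamA X W) ⊗ₜ[Γ(X, ⊤)] n := by
    rw [hk']
    exact hs
  have h1 : (1 : GamA X W') ⊗ₜ[Γ(X, ⊤)] n = 0 := by
    have := congrArg (resT N h) hs'
    rw [map_smul, hx, smul_zero, resT_tmul, map_one] at this
    exact this.symm
  haveI := isLocalizedModule_mk N W' (g * f) hW'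
  obtain ⟨c, hc⟩ := (IsLocalizedModule.eq_zero_iff (Submonoid.powers (g * f))
    (TensorProduct.mk Γ(X, ⊤) (GamA X W') N 1)).1 h1
  obtain ⟨L, hL⟩ := c.2
  have hL' : (g * f) ^ L = (c : Γ(X, ⊤)) := hL
  have hc' : (g * f) ^ L • n = 0 := by
    rw [hL']
    exact hc
  refine ⟨L, ?_⟩
  have hu : IsUnit (algebraMap Γ(X, ⊤) (GamA X W) (g ^ (L + k))) := by
    rw [map_pow]
    exact (isUnit_algebraMap_of_eq_basicOpen W g hW).pow _
  apply smul_injective_of_isUnit N (g ^ (L + k)) W hu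
  change g ^ (L + k) • (f ^ L • x) = g ^ (L + k) • 0
  rw [smul_zero, smul_smul]
  have e : g ^ (L + k) * f ^ L = (g * f) ^ L * g ^ k := by ring
  rw [e, mul_smul, hs', ← TensorProduct.tmul_smul, hc', TensorProduct.tmul_zero]

end props

end Groth.Agent.Lib.Lead.KosCechP
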