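import Groth.Agent.Lib.Lead.KosCechD

/-!
# Transport of the Koszul limit cohomology along a ring isomorphism

By the same dimension shifting which characterizes it.
-/

set_option autoImplicit false
set_option linter.style.haveILetI false
set_option linter.unusedSectionVars false
set_option linter.unusedVariables false

universe u

open CategoryTheory CategoryTheory.Limits

namespace Groth.Agent.Lib.Lead.KosTransport

open Groth.Agent.Lib.Lead.KosVanish Groth.Agent.Lib.Lead.KosCechD
  Groth.Agent.Lib.Helper4.KosLim Groth.Agent.Lib.Helper4.KosBottom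

variable {A : Type u} [CommRing A]

/-- `H^p((f), -)` of isomorphic modules. -/
noncomputable def TTequivOfIso (fs : List A) {M N : ModuleCat.{u} A} (i : M ≅ N) (p : ℕ) :
    TT fs M p ≃ₗ[A] TT fs N p :=
  LinearEquiv.ofLinearMap (TT.map fs p i.hom) (TT.map fs p i.inv)
    (LinearMap.ext fun x => by
      rw [LinearMap.comp_apply, ← TT_map_comp, i.inv_hom_id, TT_map_id]
      rfl)
    (LinearMap.ext fun x => by
      rw [LinearMap.comp_apply, ← TT_map_comp, i.hom_inv_id, TT_map_id]
      rfl)

lemma sum_single_proj {ι : Type u} [Fintype ι] [DecidableEq ι] (E : ι → Type u)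
    [∀ i, AddCommGroup (E i)] [∀ i, Module A (E i)] :
    ∑ i, ModuleCat.ofHom ((LinearMap.single A E i).comp (LinearMap.proj i)) =
      𝟙 (ModuleCat.of A (∀ i, E i)) := by
  apply ModuleCat.hom_ext
  apply LinearMap.ext
  intro x
  funext j
  rw [ModuleCat.hom_sum, LinearMap.sum_apply, Finset.sum_apply, Finset.sum_eq_single j]
  · simp
  · intro i _ hij
    simp [hij]
  · intro h
    exact absurd (Finset.mem_univ j) h

variable {A' : Type u} [CommRing A'] (e : A ≃+* A')

/-- restriction of scalars along `e⁻¹`. -/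
noncomputable abbrev Phi : ModuleCat.{u} A ⥤ ModuleCat.{u} A' :=
  ModuleCat.restrictScalars (e.symm : A' →+* A)

/-- the identity `M → Φ M`. -/
def toPhi (M : ModuleCat.{u} A) : M ≃+ (Phi e).obj M := AddEquiv.refl _

lemma Phi_smul (M : ModuleCat.{u} A) (a' : A') (m : M) :
    a' • toPhi e M m = toPhi e M (e.symm a' • m) := rfl

lemma e_smul (M : ModuleCat.{u} A) (a : A) (m : M) :
    e a • toPhi e M m = toPhi e M (a • m) := by
  rw [Phi_smul, e.symm_apply_apply]

lemma e_pow_smul (M : ModuleCat.{u} A) (a : A) (k : ℕ) (m : M) :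
    (e a) ^ k • toPhi e M m = toPhi e M (a ^ k • m) := by
  rw [← map_pow, e_smul]

theorem nonempty_TT_zero_transport (fs : List A) (M : ModuleCat.{u} A) :
    Nonempty (TT fs M 0 ≃+ TT (fs.map e) ((Phi e).obj M) 0) := by
  let t : DRing.torsionSub (Ideal.span {a | a ∈ fs}) M ≃+
      DRing.torsionSub (Ideal.span {a | a ∈ fs.map e}) ((Phi e).obj M) :=
    { toFun := fun x => ⟨x.1, (mem_torsionSub_iff (fs.map e) _ _).2 (fun a' ha' => by
        obtain ⟨a, ha, rfl⟩ := List.mem_map.1 ha'
        obtain ⟨k, hk⟩ := (mem_torsionSub_iff fs M x.1).1 x.2 a ha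
        exact ⟨k, (e_pow_smul e M a k x.1).trans (congrArg (toPhi e M) hk)⟩)⟩
      invFun := fun y => ⟨y.1, (mem_torsionSub_iff fs M _).2 (fun a ha => by
        obtain ⟨k, hk⟩ := (mem_torsionSub_iff (fs.map e) _ y.1).1 y.2 (e a)
          (List.mem_map.2 ⟨a, ha, rfl⟩)
        exact ⟨k, (toPhi e M).injective ((e_pow_smul e M a k y.1).symm.trans hk)⟩)⟩
      left_inv := fun _ => rfl
      right_inv := fun _ => rfl
      map_add' := fun _ _ => rfl }
  exact ⟨((T0Equiv fs M).toAddEquiv.trans t).trans (T0Equiv (fs.map e) _).symm.toAddEquiv⟩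

/-- **transport of `H^p((f), M)` along a ring isomorphism.** -/
theorem nonempty_TT_transport (fs : List A) : ∀ (p : ℕ) (M : ModuleCat.{u} A),
    Nonempty (TT fs M p ≃+ TT (fs.map e) ((Phi e).obj M) p)
  | 0, M => nonempty_TT_zero_transport e fs M
  | p + 1, M => by
    classical
    let f : ULift.{u} (Fin fs.length) → A := fun j => fs.get j.down
    have hf : ∀ j, f j ∈ fs := fun j => List.get_mem _ _
    have hfs : ∀ a ∈ fs, ∃ j, f j = a := by
      intro a ha
      obtain ⟨n, rfl⟩ := List.mem_iff_get.mp ha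
      exact ⟨⟨n⟩, rfl⟩
    have hK : ∀ m : M, (iotaN f M).hom m = 0 → ∀ a ∈ fs, ∃ k : ℕ, a ^ k • m = 0 := by
      intro m hm a ha
      obtain ⟨j, rfl⟩ := hfs a ha
      exact iotaN_ker f M m hm j
    have hE : ∀ q, Subsingleton (TT fs (EN f M) q) := fun q => subsingleton_TT_EN f M fs hf q
    obtain ⟨e1⟩ := nonempty_TT_succ_equiv fs (iotaN f M) hK hE p
    obtain ⟨e2⟩ := nonempty_TT_transport fs p
      (ModuleCat.of A ((EN f M) ⧸ LinearMap.range (iotaN f M).hom))
    -- the primed side
    have hK' : ∀ m : (Phi e).obj M, ((Phi e).map (iotaN f M)).hom m = 0 →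
        ∀ a' ∈ fs.map e, ∃ k : ℕ, a' ^ k • m = 0 := by
      intro m hm a' ha'
      obtain ⟨a, ha, rfl⟩ := List.mem_map.1 ha'
      obtain ⟨k, hk⟩ := hK m hm a ha
      exact ⟨k, (e_pow_smul e M a k m).trans (congrArg (toPhi e M) hk)⟩
    have hE' : ∀ q, Subsingleton (TT (fs.map e) ((Phi e).obj (EN f M)) q) := by
      intro q
      apply subsingleton_TT_of_decomp (fs.map e) _ q Finset.univ
        (fun i => (Phi e).map
          (ModuleCat.ofHom ((LinearMap.single A (LocN f M) i).comp (LinearMap.proj i))))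
      · rw [← CategoryTheory.Functor.map_sum, sum_single_proj, CategoryTheory.Functor.map_id]
      · intro i _
        refine ⟨(Phi e).obj (ModuleCat.of A (LocN f M i)),
          (Phi e).map (ModuleCat.ofHom (LinearMap.proj i)),
          (Phi e).map (ModuleCat.ofHom (LinearMap.single A (LocN f M) i)), ?_, ?_⟩
        · rw [← CategoryTheory.Functor.map_comp]
          rfl
        · apply subsingleton_TT_of_bijective (fs.map e) _ (e (f i))
            (List.mem_map.2 ⟨f i, hf i, rfl⟩)
          have hb := smul_bijective_LocN f M i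
          have he : (fun x : (Phi e).obj (ModuleCat.of A (LocN f M i)) => e (f i) • x) =
              (fun x : LocN f M i => f i • x) := by
            funext x
            exact e_smul e (ModuleCat.of A (LocN f M i)) (f i) x
          rw [he]
          exact hb
    obtain ⟨e3⟩ := nonempty_TT_succ_equiv (fs.map e) ((Phi e).map (iotaN f M)) hK' hE' p
    -- comparison of the two quotients
    let g : (Phi e).obj (EN f M) →ₗ[A']
        (Phi e).obj (ModuleCat.of A ((EN f M) ⧸ LinearMap.range (iotaN f M).hom)) :=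
      ((Phi e).map (ModuleCat.ofHom (LinearMap.range (iotaN f M).hom).mkQ)).hom
    have hg : Function.Surjective g := (LinearMap.range (iotaN f M).hom).mkQ_surjective
    have hker : LinearMap.range ((Phi e).map (iotaN f M)).hom = LinearMap.ker g := by
      ext x
      rw [LinearMap.mem_ker, LinearMap.mem_range]
      constructor
      · rintro ⟨m, rfl⟩
        exact (Submodule.Quotient.mk_eq_zero _).2 ⟨m, rfl⟩
      · intro hx
        obtain ⟨m, hm⟩ := (Submodule.Quotient.mk_eq_zero (LinearMap.range (iotaN f M).hom)).1 hx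
        exact ⟨m, hm⟩
    let e4 : ModuleCat.of A' (((Phi e).obj (EN f M)) ⧸
          LinearMap.range ((Phi e).map (iotaN f M)).hom) ≅
        (Phi e).obj (ModuleCat.of A ((EN f M) ⧸ LinearMap.range (iotaN f M).hom)) :=
      ((Submodule.quotEquivOfEq _ _ hker).trans (g.quotKerEquivOfSurjective hg)).toModuleIso
    exact ⟨((e1.toAddEquiv.trans e2).trans (TTequivOfIso _ e4 p).symm.toAddEquiv).trans
      e3.symm.toAddEquiv⟩

end Groth.Agent.Lib.Lead.KosTransport
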