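import Groth.Agent.S2442
import Groth.Agent.S2439
import Groth.Agent.S6031
import Groth.Agent.Lib.Lead.KosTransport

/-!
# Koszul limit cohomology and cohomology with supports on an affine scheme
-/

set_option autoImplicit false
set_option linter.style.haveILetI false
set_option linter.unusedSectionVars false
set_option linter.unusedVariables false

universe u

open CategoryTheory CategoryTheory.Limits TopologicalSpace AlgebraicGeometry Opposite

namespace Groth.Agent.Lib.Lead.KosLocCoh

open Groth.Agent.Lib.Lead.KosVanish Groth.Agent.Lib.Lead.KosTransport Groth.Agent.Lib.Lead.KosGeo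
  Groth.Agent.Lib.Helper4.KosLim

section general

variable {X : TopCat.{u}} (F : CohTop.Ab X) (U : Opens X)

/-- `H^1_Z(X, F)` is the cokernel of the restriction `Γ(X, F) → Γ(U, F)` when the connecting map is
surjective (e.g. when `H^1(X, F) = 0`). -/
theorem nonempty_coker_equiv_HZ_one
    (hsurj : Function.Surjective (LocCohZ.delta F 0 (le_top : U ≤ ⊤))) :
    Nonempty ((F.obj.obj (op U)) ⧸ (F.obj.map (homOfLE (le_top : U ≤ ⊤)).op).hom.range ≃+
      LocCohZ.HZc F 1 U) := by
  have hS := LocCohZ.zqSeq_shortExact (le_top : U ≤ ⊤)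
  let σ : F.obj.obj (op U) →+ Abelian.Ext (CohCx.freeSheaf (Opens.grothendieckTopology X) U) F 0 :=
    (Abelian.Ext.addEquiv₀.symm.toAddMonoidHom).comp
      (CohFree.homEquivSect (Opens.grothendieckTopology X) U F).symm.toAddMonoidHom
  have hσ : ∀ t, σ t = Abelian.Ext.mk₀ (CohFree.ofSect (Opens.grothendieckTopology X) U F t) := fun t => rfl
  let ψ : F.obj.obj (op U) →+ LocCohZ.HZc F 1 U :=
    (hS.extClass.precomp F (rfl : 1 + 0 = 1)).comp σ
  have hψ : ∀ t, ψ t = hS.extClass.comp (Abelian.Ext.mk₀ (CohFree.ofSect (Opens.grothendieckTopology X) U F t))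
      (rfl : 1 + 0 = 1) := fun t => rfl
  have hψsurj : Function.Surjective ψ := by
    intro z
    obtain ⟨x, hx⟩ := hsurj z
    obtain ⟨φ, rfl⟩ := (Abelian.Ext.mk₀_bijective _ _).surjective x
    refine ⟨CohFree.evalGen (Opens.grothendieckTopology X) U F φ, ?_⟩
    rw [hψ, CohFree.ofSect_evalGen]
    exact hx
  have hker : ψ.ker = (F.obj.map (homOfLE (le_top : U ≤ ⊤)).op).hom.range := by
    ext t
    rw [AddMonoidHom.mem_ker, AddMonoidHom.mem_range]
    constructor
    · intro ht
      have ht' : hS.extClass.comp (Abelian.Ext.mk₀ (CohFree.ofSect (Opens.grothendieckTopology X) U F t))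
          (rfl : 1 + 0 = 1) = 0 := (hψ t).symm.trans ht
      obtain ⟨x₂, hx₂⟩ := Abelian.Ext.contravariant_sequence_exact₁ hS F _ rfl ht'
      obtain ⟨φ, rfl⟩ := (Abelian.Ext.mk₀_bijective _ _).surjective x₂
      rw [Abelian.Ext.mk₀_comp_mk₀] at hx₂
      have hφ : CohCx.freeSheafMap (Opens.grothendieckTopology X) (homOfLE (le_top : U ≤ ⊤)) ≫ φ = CohFree.ofSect (Opens.grothendieckTopology X) U F t :=
        (Abelian.Ext.mk₀_bijective _ _).injective hx₂
      have h1 := CohFree.evalGen_freeSheafMap_comp (Opens.grothendieckTopology X) (homOfLE (le_top : U ≤ ⊤)) F φ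
      rw [hφ, CohFree.evalGen_ofSect] at h1
      exact ⟨CohFree.evalGen (Opens.grothendieckTopology X) ⊤ F φ, h1.symm⟩
    · rintro ⟨m, rfl⟩
      have hφ : CohFree.ofSect (Opens.grothendieckTopology X) U F ((F.obj.map (homOfLE (le_top : U ≤ ⊤)).op).hom m) =
          CohCx.freeSheafMap (Opens.grothendieckTopology X) (homOfLE (le_top : U ≤ ⊤)) ≫ CohFree.ofSect (Opens.grothendieckTopology X) ⊤ F m := by
        apply (CohFree.homEquivSect (Opens.grothendieckTopology X) U F).injective
        rw [CohFree.homEquivSect_apply, CohFree.homEquivSect_apply, CohFree.evalGen_ofSect,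
          CohFree.evalGen_freeSheafMap_comp, CohFree.evalGen_ofSect]
      rw [hψ]
      have hx : (Abelian.Ext.mk₀ (CohFree.ofSect (Opens.grothendieckTopology X) U F
          ((F.obj.map (homOfLE (le_top : U ≤ ⊤)).op).hom m)) :
          Abelian.Ext (LocCohZ.zqSeq (le_top : U ≤ ⊤)).X₁ F 0) =
          (Abelian.Ext.mk₀ (LocCohZ.zqSeq (le_top : U ≤ ⊤)).f).comp
            (Abelian.Ext.mk₀ (CohFree.ofSect (Opens.grothendieckTopology X) ⊤ F m)) (zero_add 0) := by
        exact (congrArg Abelian.Ext.mk₀ hφ).trans (Abelian.Ext.mk₀_comp_mk₀ _ _).symm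
      exact (congrArg (fun x => hS.extClass.comp x (rfl : 1 + 0 = 1)) hx).trans
        (hS.extClass_comp_assoc _)
  exact ⟨(QuotientAddGroup.quotientAddEquivOfEq hker.symm).trans
    (QuotientAddGroup.quotientKerEquivOfSurjective ψ hψsurj)⟩

end general

section affine

variable (Y : Scheme.{u}) [IsAffine Y] (fs : List Γ(Y, ⊤)) (F : Y.Modules) [F.IsQuasicoherent]

/-- on an affine scheme, the Koszul limit cohomology of the global sections is the cohomology with
supports in `V(f)`. -/
theorem nonempty_koszulHLim_equiv_HZM (i : ℕ) :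
    Nonempty (CohIII.koszulHLim fs (ModuleCat.of Γ(Y, ⊤) (F.val.obj (op ⊤))) i ≃+
      LocCohZ.HZM Y F i (⨆ j : Fin fs.length, Y.basicOpen (fs.get j))) := by
  have hF : Coh.IsQCoh F := ‹F.IsQuasicoherent›
  haveI : Coh.IsQCoh F := hF
  have h31 := Groth.Agent.S6031.result Y F hF (⨆ j : Fin fs.length, Y.basicOpen (fs.get j))
  match i with
  | 0 =>
    obtain ⟨e1⟩ := (Groth.Agent.S2442.result Y fs F).1
    exact ⟨e1.symm.trans (LocCohZ.sect0Equiv (X := Y.carrier) (Coh.toAb F)
      (le_top : (⨆ j : Fin fs.length, Y.basicOpen (fs.get j)) ≤ ⊤)).symm⟩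
  | 1 =>
    obtain ⟨e1⟩ := (Groth.Agent.S2442.result Y fs F).2
    obtain ⟨e2⟩ := nonempty_coker_equiv_HZ_one (X := Y.carrier) (Coh.toAb F)
      (⨆ j : Fin fs.length, Y.basicOpen (fs.get j)) h31.1
    exact ⟨e1.symm.trans e2⟩
  | n + 2 =>
    obtain ⟨e1⟩ := Groth.Agent.S2439.result Y fs
      (fun j => (isAffineOpen_top Y).basicOpen (fs.get j)) F (n + 1) (by omega)
    let e2 := AddEquiv.ofBijective _ (h31.2 (n + 1) (by omega))
    exact ⟨(e1.symm.trans
      (Groth.Agent.Lib.Helper13.AffineVanish.HUEquivHHon F _ (n + 1)).symm).trans e2⟩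

end affine

end Groth.Agent.Lib.Lead.KosLocCoh
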