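import Groth.Agent.Lib.Helper4.KosBottom

/-!
# Vanishing and dimension shifting for the direct limit of Koszul cohomology

Complements to helper4's `KosLim` / `KosBottom`:
* `mem_torsionSub_iff`, additivity of `koszulMap` / `TT.map`, `TT_exact₂`;
* `subsingleton_TT_of_torsion`: `H^p((f), N) = 0` for `p ≥ 1` when `N` is `(f)`-power torsion;
* `subsingleton_TT_of_bijective`: `H^p((f), E) = 0` for all `p` when some `f_i` acts bijectively on `E`;
* `subsingleton_TT_of_decomp`: the same for a finite "product" of such modules;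
* `nonempty_TT_one_equiv`, `nonempty_TT_succ_equiv`: dimension shifting along `M → E`.
-/

set_option autoImplicit false
set_option linter.style.haveILetI false
set_option linter.unusedSectionVars false
set_option linter.unusedVariables false
set_option maxHeartbeats 800000

universe u

open CategoryTheory CategoryTheory.Limits CochainComplex HomComplex

namespace Groth.Agent.Lib.Lead.KosVanish

open CohIII Groth.Agent.Lib.Helper14.KoszulFun Groth.Agent.Lib.Helper4.KosCone
  Groth.Agent.Lib.Helper4.KosLim Groth.Agent.Lib.Helper4.LCBridge Groth.Agent.Lib.Helper4.KosBottom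

variable {A : Type u} [CommRing A]

lemma mem_torsionSub_iff (fs : List A) (M : Type u) [AddCommGroup M] [Module A M] (m : M) :
    m ∈ DRing.torsionSub (Ideal.span {a | a ∈ fs}) M ↔ ∀ f ∈ fs, ∃ n : ℕ, f ^ n • m = 0 := by
  constructor
  · rintro ⟨k, hk⟩ f hf
    exact ⟨k, hk _ (Ideal.pow_mem_pow (Ideal.subset_span (s := {a | a ∈ fs}) hf) k)⟩
  · intro h
    set J : Ideal A := LinearMap.ker (LinearMap.toSpanSingleton A M m) with hJ
    have hle : Ideal.span {a | a ∈ fs} ≤ J.radical := by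
      rw [Ideal.span_le]
      intro f hf
      obtain ⟨n, hn⟩ := h f hf
      refine ⟨n, ?_⟩
      change f ^ n ∈ LinearMap.ker (LinearMap.toSpanSingleton A M m)
      rw [LinearMap.mem_ker, LinearMap.toSpanSingleton_apply]
      exact hn
    obtain ⟨k, hk'⟩ := Ideal.exists_pow_le_of_le_radical_of_fg hle
      (Submodule.fg_span (List.finite_toSet fs))
    refine ⟨k, fun a ha => ?_⟩
    have := hk' ha
    rw [hJ, LinearMap.mem_ker, LinearMap.toSpanSingleton_apply] at this
    exact this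

/-! ### additivity -/

lemma coneMap_add (g : A) {X Y : CochainComplex (ModuleCat.{u} A) ℤ} (φ ψ : X ⟶ Y) :
    coneMap g (φ + ψ) = coneMap g φ + coneMap g ψ := by
  ext p : 1
  apply mappingCone.ext_from _ (p + 1) p rfl
  · rw [inl_coneMap g _ (p + 1) p (by omega)]
    simp only [HomologicalComplex.add_f_apply, Preadditive.add_comp, Preadditive.comp_add]
    rw [inl_coneMap g φ (p + 1) p (by omega), inl_coneMap g ψ (p + 1) p (by omega)]
  · rw [inr_coneMap]
    simp only [HomologicalComplex.add_f_apply, Preadditive.add_comp, Preadditive.comp_add]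
    rw [inr_coneMap, inr_coneMap]

lemma koszulMap_add {M N : ModuleCat.{u} A} (φ ψ : M ⟶ N) :
    ∀ fs : List A, koszulMap (φ + ψ) fs = koszulMap φ fs + koszulMap ψ fs
  | [] => by
    rw [koszulMap_nil, koszulMap_nil, koszulMap_nil, Functor.map_add]
    rfl
  | f :: fs => by
    rw [koszulMap_cons, koszulMap_cons, koszulMap_cons, koszulMap_add φ ψ fs, coneMap_add]
    rfl

lemma koszulMap_id (M : ModuleCat.{u} A) (fs : List A) : koszulMap (𝟙 M) fs = 𝟙 _ := by
  have := koszulMap_smul_id M (1 : A) fs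
  rwa [one_smul, one_smul] at this

section maps

variable (fs : List A) (p : ℕ) {M N P : ModuleCat.{u} A}

lemma mapH_add (φ ψ : M ⟶ N) (n : ℕ) (y : koszulHPow fs M p n) :
    mapH fs p (φ + ψ) n y = mapH fs p φ n y + mapH fs p ψ n y := by
  unfold mapH
  rw [koszulMap_add, HomologicalComplex.homologyMap_add]
  rfl

lemma mapH_comp (φ : M ⟶ N) (ψ : N ⟶ P) (n : ℕ) (y : koszulHPow fs M p n) :
    mapH fs p (φ ≫ ψ) n y = mapH fs p ψ n (mapH fs p φ n y) := by
  unfold mapH
  rw [koszulMap_comp, HomologicalComplex.homologyMap_comp]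
  rfl

lemma mapH_id (n : ℕ) (y : koszulHPow fs M p n) : mapH fs p (𝟙 M) n y = y := by
  unfold mapH
  rw [koszulMap_id, HomologicalComplex.homologyMap_id]
  rfl

lemma mapH_zero (n : ℕ) (y : koszulHPow fs M p n) : mapH fs p (0 : M ⟶ N) n y = 0 := by
  unfold mapH
  rw [koszulMap_zero, HomologicalComplex.homologyMap_zero]
  rfl

lemma TT_map_add (φ ψ : M ⟶ N) (x : TT fs M p) :
    TT.map fs p (φ + ψ) x = TT.map fs p φ x + TT.map fs p ψ x := by
  obtain ⟨n, y, rfl⟩ := TT.exists_of fs M p x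
  rw [TT.map_of, TT.map_of, TT.map_of, mapH_add, map_add]

lemma TT_map_comp (φ : M ⟶ N) (ψ : N ⟶ P) (x : TT fs M p) :
    TT.map fs p (φ ≫ ψ) x = TT.map fs p ψ (TT.map fs p φ x) := by
  obtain ⟨n, y, rfl⟩ := TT.exists_of fs M p x
  rw [TT.map_of, TT.map_of, TT.map_of, mapH_comp]

lemma TT_map_id (x : TT fs M p) : TT.map fs p (𝟙 M) x = x := by
  obtain ⟨n, y, rfl⟩ := TT.exists_of fs M p x
  rw [TT.map_of, mapH_id]

lemma TT_map_zero (x : TT fs M p) : TT.map fs p (0 : M ⟶ N) x = 0 := by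
  obtain ⟨n, y, rfl⟩ := TT.exists_of fs M p x
  rw [TT.map_of, mapH_zero, map_zero]

lemma TT_map_sum {ι : Type*} (s : Finset ι) (φ : ι → (M ⟶ N)) (x : TT fs M p) :
    TT.map fs p (∑ i ∈ s, φ i) x = ∑ i ∈ s, TT.map fs p (φ i) x := by
  classical
  induction s using Finset.induction_on with
  | empty => simp only [Finset.sum_empty]; exact TT_map_zero fs p x
  | insert a s ha ih =>
    rw [Finset.sum_insert ha, Finset.sum_insert ha, TT_map_add, ih]

end maps

/-! ### exactness in the middle -/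

section exact2

variable (fs : List A) (S0 : ShortComplex (ModuleCat.{u} A)) (hS0 : S0.ShortExact) (p : ℕ)

include hS0 in
lemma exact₂_level (n : ℕ) (y₂ : koszulHPow fs S0.X₂ p n) (h : mapH fs p S0.g n y₂ = 0) :
    ∃ y₁ : koszulHPow fs S0.X₁ p n, mapH fs p S0.f n y₁ = y₂ := by
  have hex := (koszul_shortExact S0 hS0 (pw fs n)).homology_exact₂ ((p : ℤ) - fs.length)
  rw [ShortComplex.moduleCat_exact_iff] at hex
  exact hex y₂ h

lemma TT_map_f_g (x₁ : TT fs S0.X₁ p) : TT.map fs p S0.g (TT.map fs p S0.f x₁) = 0 := by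
  rw [← TT_map_comp, S0.zero, TT_map_zero]

include hS0 in
lemma TT_exact₂ (x₂ : TT fs S0.X₂ p) (h : TT.map fs p S0.g x₂ = 0) :
    ∃ x₁ : TT fs S0.X₁ p, TT.map fs p S0.f x₁ = x₂ := by
  obtain ⟨n, y, rfl⟩ := TT.exists_of fs S0.X₂ p x₂
  rw [TT.map_of, TT.of_eq_zero_iff] at h
  obtain ⟨m, hm, h0⟩ := h
  have h1 : mapH fs p S0.g m (trH fs S0.X₂ p n m hm y) = 0 :=
    (LinearMap.congr_fun (mapH_comm fs p S0.g n m hm) y).trans h0
  obtain ⟨y₁, hy₁⟩ := exact₂_level fs S0 hS0 p m _ h1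
  refine ⟨TT.of fs S0.X₁ p m y₁, ?_⟩
  rw [TT.map_of, hy₁, TT.of_tr]

end exact2

/-! ### torsion modules -/

lemma single_pow_smul (N : ModuleCat.{u} A) (a : A) (hN : ∀ x : N, ∃ k : ℕ, a ^ k • x = 0) (d : ℤ)
    (z : ((HomologicalComplex.single (ModuleCat.{u} A) (ComplexShape.up ℤ) 0).obj N).X d) :
    ∃ k : ℕ, a ^ k • z = 0 := by
  by_cases hd : d = 0
  · subst hd
    let e := HomologicalComplex.singleObjXSelf (ComplexShape.up ℤ) (0 : ℤ) N
    have hinj : Function.Injective e.hom.hom := (ConcreteCategory.bijective_of_isIso e.hom).1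
    obtain ⟨k, hk⟩ := hN (e.hom.hom z)
    refine ⟨k, hinj ?_⟩
    rw [map_smul, hk, map_zero]
  · have hz : IsZero (((HomologicalComplex.single (ModuleCat.{u} A) (ComplexShape.up ℤ) 0).obj N).X d) :=
      HomologicalComplex.isZero_single_obj_X _ _ _ _ hd
    haveI := ModuleCat.subsingleton_of_isZero hz
    exact ⟨0, Subsingleton.elim _ _⟩

lemma cone_pow_smul {K L : CochainComplex (ModuleCat.{u} A) ℤ} (φ : K ⟶ L) (a : A) (d : ℤ)
    (z : (mappingCone φ).X d) (h1 : ∃ k : ℕ, a ^ k • fstL φ d (d + 1) rfl z = 0)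
    (h2 : ∃ k : ℕ, a ^ k • sndL φ d z = 0) : ∃ k : ℕ, a ^ k • z = 0 := by
  obtain ⟨k₁, h₁⟩ := h1
  obtain ⟨k₂, h₂⟩ := h2
  refine ⟨k₁ + k₂, ?_⟩
  apply ext' φ d (d + 1) rfl
  · rw [map_smul, map_zero, pow_add, mul_comm, mul_smul, h₁, smul_zero]
  · rw [map_smul, map_zero, pow_add, mul_smul, h₂, smul_zero]

lemma exists_pow_smul_cochain (N : ModuleCat.{u} A) (a : A)
    (hN : ∀ x : N, ∃ k : ℕ, a ^ k • x = 0) :
    ∀ (fs : List A) (d : ℤ) (z : (koszulCx N fs).X d), ∃ k : ℕ, a ^ k • z = 0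
  | [], d, z => single_pow_smul N a hN d z
  | f :: fs, d, z =>
    cone_pow_smul (f • 𝟙 (koszulCx N fs)) a d z
      (exists_pow_smul_cochain N a hN fs (d + 1) _) (exists_pow_smul_cochain N a hN fs d _)

lemma comp_f_apply {K L P : CochainComplex (ModuleCat.{u} A) ℤ} (a : K ⟶ L) (b : L ⟶ P) (j : ℤ)
    (x : K.X j) : ((a ≫ b).f j).hom x = (b.f j).hom ((a.f j).hom x) := rfl

lemma cone_map_eq_zero {K₁ L₁ K₂ L₂ : CochainComplex (ModuleCat.{u} A) ℤ} (φ₁ : K₁ ⟶ L₁)
    (φ₂ : K₂ ⟶ L₂) (a : K₁ ⟶ K₂) (b : L₁ ⟶ L₂) (comm : φ₁ ≫ b = a ≫ φ₂) (d : ℤ)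
    (z : (mappingCone φ₁).X d) (h1 : (a.f (d + 1)).hom (fstL φ₁ d (d + 1) rfl z) = 0)
    (h2 : (b.f d).hom (sndL φ₁ d z) = 0) :
    ((mappingCone.map φ₁ φ₂ a b comm).f d).hom z = 0 := by
  apply ext' φ₂ d (d + 1) rfl
  · rw [fst_map_apply, h1, map_zero]
  · rw [snd_map_apply, h2, map_zero]

lemma single_eq_zero (N : ModuleCat.{u} A) (d : ℤ) (hd : d ≠ 0)
    (z : ((HomologicalComplex.single (ModuleCat.{u} A) (ComplexShape.up ℤ) 0).obj N).X d) : z = 0 := by
  have hz : IsZero (((HomologicalComplex.single (ModuleCat.{u} A) (ComplexShape.up ℤ) 0).obj N).X d) :=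
    HomologicalComplex.isZero_single_obj_X _ _ _ _ hd
  haveI := ModuleCat.subsingleton_of_isZero hz
  exact Subsingleton.elim _ _

lemma exists_trans_eq_zero (N : ModuleCat.{u} A) :
    ∀ (fs : List A) (hN : ∀ f ∈ fs, ∀ x : N, ∃ k : ℕ, f ^ k • x = 0) (d : ℤ)
      (hd : -(fs.length : ℤ) < d) (n : ℕ) (z : (koszulCx N (pw fs n)).X d),
      ∃ (m : ℕ) (h : n ≤ m), ((koszulTrans N n m h fs).f d).hom z = 0
  | [], _, d, hd, n, z => by
    have hd0 : d ≠ 0 := by
      simp only [List.length_nil, Nat.cast_zero, neg_zero] at hd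
      omega
    refine ⟨n, le_rfl, ?_⟩
    have : z = 0 := single_eq_zero N d hd0 z
    rw [this, map_zero]
  | f :: fs, hN, d, hd, n, z => by
    have hN' : ∀ g ∈ fs, ∀ x : N, ∃ k : ℕ, g ^ k • x = 0 :=
      fun g hg => hN g (List.mem_cons_of_mem _ hg)
    have hd' : -(fs.length : ℤ) < d + 1 := by
      simp only [List.length_cons, Nat.cast_add, Nat.cast_one] at hd
      omega
    obtain ⟨m₁, h₁, e₁⟩ := exists_trans_eq_zero N fs hN' (d + 1) hd' n
      (fstL (f ^ n • 𝟙 (koszulCx N (pw fs n))) d (d + 1) rfl z)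
    obtain ⟨k, hk⟩ := exists_pow_smul_cochain N f (hN f List.mem_cons_self) (pw fs n) d
      (sndL (f ^ n • 𝟙 (koszulCx N (pw fs n))) d z)
    have hm : n ≤ max m₁ (n + k) := le_trans h₁ (le_max_left _ _)
    refine ⟨max m₁ (n + k), hm, ?_⟩
    refine cone_map_eq_zero (f ^ n • 𝟙 (koszulCx N (pw fs n)))
      (f ^ (max m₁ (n + k)) • 𝟙 (koszulCx N (pw fs (max m₁ (n + k)))))
      (koszulTrans N n (max m₁ (n + k)) hm fs)
      (f ^ (max m₁ (n + k) - n) • koszulTrans N n (max m₁ (n + k)) hm fs)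
      (trans_comm N n (max m₁ (n + k)) hm f fs) d z ?_ ?_
    · rw [← koszulTrans_comp N n m₁ _ h₁ (le_max_left _ _) fs, comp_f_apply, e₁, map_zero]
    · change f ^ (max m₁ (n + k) - n) •
        ((koszulTrans N n (max m₁ (n + k)) hm fs).f d).hom
          (sndL (f ^ n • 𝟙 (koszulCx N (pw fs n))) d z) = 0
      rw [← map_smul]
      have h0 : f ^ (max m₁ (n + k) - n) • sndL (f ^ n • 𝟙 (koszulCx N (pw fs n))) d z = 0 := by
        have hle : n + k ≤ max m₁ (n + k) := le_max_right _ _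
        have e : max m₁ (n + k) - n = (max m₁ (n + k) - n - k) + k := by omega
        rw [e, pow_add, mul_smul, hk, smul_zero]
      rw [h0, map_zero]

/-- `H^p((f), N) = 0` for `p ≥ 1` when every element of `N` is killed by a power of each `f_i`. -/
theorem subsingleton_TT_of_torsion (fs : List A) (N : ModuleCat.{u} A)
    (hN : ∀ f ∈ fs, ∀ x : N, ∃ k : ℕ, f ^ k • x = 0) (p : ℕ) (hp : 1 ≤ p) :
    Subsingleton (TT fs N p) := by
  apply TT.subsingleton_of_forall
  intro n y
  obtain ⟨z, rfl⟩ := ModCx.cls_surjective (koszulCx N (pw fs n)) ((p : ℤ) - fs.length) y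
  obtain ⟨m, h, e⟩ := exists_trans_eq_zero N fs hN ((p : ℤ) - fs.length) (by omega) n z.1
  refine ⟨m, h, ?_⟩
  change (HomologicalComplex.homologyMap (koszulTrans N n m h fs) _).hom (ModCx.cls _ _ z) = 0
  rw [ModCx.homologyMap_cls]
  have hz : (⟨((koszulTrans N n m h fs).f ((p : ℤ) - fs.length)).hom z.1,
      ModCx.map_mem_Z _ (koszulTrans N n m h fs) z⟩ :
      ModCx.Z (koszulCx N (pw fs m)) ((p : ℤ) - fs.length)) = 0 := Subtype.ext e
  rw [hz, map_zero]

/-! ### modules on which some `f_i` is bijective -/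

theorem subsingleton_koszulHPow_of_bijective (fs : List A) (E : ModuleCat.{u} A) (f : A)
    (hf : f ∈ fs) (hbij : Function.Bijective (fun x : E => f • x)) (p n : ℕ) :
    Subsingleton (koszulHPow fs E p n) := by
  have hmem : f ^ n ∈ pw fs n := List.mem_map.mpr ⟨f, hf, rfl⟩
  obtain ⟨s⟩ := Groth.Agent.Lib.Helper4.koszulCx_smul_homotopic_zero_of_mem E (pw fs n) (f ^ n) hmem
  have hbn : Function.Bijective (fun x : E => f ^ n • x) := by
    induction n with
    | zero =>
      simp only [pow_zero, one_smul]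
      exact Function.bijective_id
    | succ k ih =>
      have hk : f ^ k ∈ pw fs k := List.mem_map.mpr ⟨f, hf, rfl⟩
      have : (fun x : E => f ^ (k + 1) • x) = (fun x : E => f ^ k • x) ∘ (fun x : E => f • x) := by
        funext x
        simp only [Function.comp, pow_succ, mul_smul]
      rw [this]
      exact (ih hk (Groth.Agent.Lib.Helper4.koszulCx_smul_homotopic_zero_of_mem E (pw fs k)
        (f ^ k) hk).some).comp hbij
  -- the inverse of multiplication by `f ^ n`
  let eqv : E ≃ₗ[A] E := LinearEquiv.ofBijective (LinearMap.lsmul A E (f ^ n)) hbn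
  let ψ : E ⟶ E := ModuleCat.ofHom eqv.symm.toLinearMap
  have hcomp : (f ^ n • 𝟙 E) ≫ ψ = 𝟙 E := by
    ext x
    change eqv.symm (f ^ n • x) = x
    exact eqv.symm_apply_apply x
  have h0 : ∀ y : koszulHPow fs E p n, mapH fs p (f ^ n • 𝟙 E) n y = 0 := by
    intro y
    unfold mapH
    rw [koszulMap_smul_id, s.homologyMap_eq, HomologicalComplex.homologyMap_zero]
    rfl
  refine ⟨fun a b => ?_⟩
  have hz : ∀ y : koszulHPow fs E p n, y = 0 := by
    intro y
    have := mapH_comp fs p (f ^ n • 𝟙 E) ψ n y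
    rw [hcomp, mapH_id, h0, map_zero] at this
    exact this
  rw [hz a, hz b]

theorem subsingleton_TT_of_bijective (fs : List A) (E : ModuleCat.{u} A) (f : A)
    (hf : f ∈ fs) (hbij : Function.Bijective (fun x : E => f • x)) (p : ℕ) :
    Subsingleton (TT fs E p) := by
  apply TT.subsingleton_of_forall
  intro n y
  haveI := subsingleton_koszulHPow_of_bijective fs E f hf hbij p n
  exact ⟨n, le_rfl, Subsingleton.elim _ _⟩

/-- `H^p((f), E) = 0` when the identity of `E` is a finite sum of endomorphisms factoring through modules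
with vanishing `H^p((f), -)`. -/
theorem subsingleton_TT_of_decomp (fs : List A) (E : ModuleCat.{u} A) (p : ℕ) {ι : Type*}
    (s : Finset ι) (e : ι → (E ⟶ E)) (hsum : ∑ i ∈ s, e i = 𝟙 E)
    (hfac : ∀ i ∈ s, ∃ (E' : ModuleCat.{u} A) (a : E ⟶ E') (b : E' ⟶ E),
      e i = a ≫ b ∧ Subsingleton (TT fs E' p)) : Subsingleton (TT fs E p) := by
  have hz : ∀ x : TT fs E p, x = 0 := by
    intro x
    have h1 : TT.map fs p (∑ i ∈ s, e i) x = x := by rw [hsum, TT_map_id]
    rw [TT_map_sum] at h1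
    rw [← h1]
    apply Finset.sum_eq_zero
    intro i hi
    obtain ⟨E', a, b, hab, hsub⟩ := hfac i hi
    rw [hab, TT_map_comp, Subsingleton.elim (TT.map fs p a x) 0, map_zero]
  exact ⟨fun a b => by rw [hz a, hz b]⟩

/-- the product of modules `E i` on each of which `f i ∈ fs` acts bijectively. -/
theorem subsingleton_TT_pi (fs : List A) {ι : Type} [Fintype ι] [DecidableEq ι] (E : ι → Type u)
    [∀ i, AddCommGroup (E i)] [∀ i, Module A (E i)] (f : ι → A) (hf : ∀ i, f i ∈ fs)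
    (hbij : ∀ i, Function.Bijective (fun x : E i => f i • x)) (p : ℕ) :
    Subsingleton (TT fs (ModuleCat.of A (∀ i, E i)) p) := by
  apply subsingleton_TT_of_decomp fs _ p Finset.univ
    (fun i => ModuleCat.ofHom ((LinearMap.single A E i).comp (LinearMap.proj i)))
  · apply ModuleCat.hom_ext
    apply LinearMap.ext
    intro x
    funext j
    simp only [ModuleCat.hom_sum, LinearMap.sum_apply, ModuleCat.hom_ofHom, LinearMap.comp_apply,
      LinearMap.proj_apply, ModuleCat.hom_id, LinearMap.id_apply, Finset.sum_apply]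
    rw [Finset.sum_eq_single j]
    · simp
    · intro i _ hij
      simp [hij]
    · intro h
      exact absurd (Finset.mem_univ j) h
  · intro i _
    refine ⟨ModuleCat.of A (E i), ModuleCat.ofHom (LinearMap.proj i),
      ModuleCat.ofHom (LinearMap.single A E i), rfl, ?_⟩
    exact subsingleton_TT_of_bijective fs (ModuleCat.of A (E i)) (f i) (hf i) (hbij i) p

/-! ### dimension shifting along `ι : M ⟶ E` -/

section shift

variable (fs : List A) {M E : ModuleCat.{u} A} (ι : M ⟶ E)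

/-- `0 → ker ι → M → range ι → 0`. -/
noncomputable def SK : ShortComplex (ModuleCat.{u} A) :=
  ShortComplex.mk (ModuleCat.ofHom (LinearMap.ker ι.hom).subtype)
    (ModuleCat.ofHom ι.hom.rangeRestrict) (by
      ext x
      exact x.2)

lemma SK_shortExact : (SK ι).ShortExact := by
  haveI : Mono (SK ι).f :=
    (ModuleCat.mono_iff_injective _).2 (LinearMap.ker ι.hom).injective_subtype
  haveI : Epi (SK ι).g :=
    (ModuleCat.epi_iff_surjective _).2 ι.hom.surjective_rangeRestrict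
  refine ShortComplex.ShortExact.mk ?_
  rw [ShortComplex.moduleCat_exact_iff]
  intro x hx
  have hx' : ι.hom x = 0 := congrArg Subtype.val hx
  exact ⟨⟨x, hx'⟩, rfl⟩

/-- `0 → range ι → E → E / range ι → 0`. -/
noncomputable def SQ : ShortComplex (ModuleCat.{u} A) :=
  ShortComplex.mk (ModuleCat.ofHom (LinearMap.range ι.hom).subtype)
    (ModuleCat.ofHom (LinearMap.range ι.hom).mkQ) (by
      ext x
      exact (Submodule.Quotient.mk_eq_zero _).2 x.2)

lemma SQ_shortExact : (SQ ι).ShortExact := by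
  haveI : Mono (SQ ι).f :=
    (ModuleCat.mono_iff_injective _).2 (LinearMap.range ι.hom).injective_subtype
  haveI : Epi (SQ ι).g :=
    (ModuleCat.epi_iff_surjective _).2 (LinearMap.range ι.hom).mkQ_surjective
  refine ShortComplex.ShortExact.mk ?_
  rw [ShortComplex.moduleCat_exact_iff]
  intro x hx
  have hx' : x ∈ LinearMap.range ι.hom := (Submodule.Quotient.mk_eq_zero _).1 hx
  exact ⟨⟨x, hx'⟩, rfl⟩

variable (hK : ∀ m : M, ι.hom m = 0 → ∀ f ∈ fs, ∃ k : ℕ, f ^ k • m = 0)
  (hE : ∀ p : ℕ, Subsingleton (TT fs E p))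

include hK in
lemma subsingleton_TT_ker (q : ℕ) (hq : 1 ≤ q) : Subsingleton (TT fs (SK ι).X₁ q) := by
  apply subsingleton_TT_of_torsion fs _ _ q hq
  intro f hf x
  obtain ⟨k, hk⟩ := hK x.1 x.2 f hf
  exact ⟨k, Subtype.ext hk⟩

include hK in
lemma bijective_TT_map_rangeRestrict (q : ℕ) (hq : 1 ≤ q) :
    Function.Bijective (TT.map fs q (SK ι).g) := by
  constructor
  · rw [injective_iff_map_eq_zero]
    intro x hx
    obtain ⟨x₁, rfl⟩ := TT_exact₂ fs (SK ι) (SK_shortExact ι) q x hx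
    haveI := subsingleton_TT_ker fs ι hK q hq
    rw [Subsingleton.elim x₁ 0, map_zero]
  · intro x₃
    haveI := subsingleton_TT_ker fs ι hK (q + 1) (by omega)
    exact TT.exact₃ fs (SK ι) (SK_shortExact ι) q x₃ (Subsingleton.elim _ _)

include hK hE in
/-- `H^{p+1}((f), M) ≅ H^p((f), E / ι M)` when `ker ι` is torsion and `E` is acyclic. -/
theorem nonempty_TT_succ_equiv (p : ℕ) :
    Nonempty (TT fs M (p + 1) ≃ₗ[A] TT fs (ModuleCat.of A (E ⧸ LinearMap.range ι.hom)) p) := by
  let e1 : TT fs M (p + 1) ≃ₗ[A] TT fs (SK ι).X₃ (p + 1) :=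
    LinearEquiv.ofBijective (TT.map fs (p + 1) (SK ι).g)
      (bijective_TT_map_rangeRestrict fs ι hK (p + 1) (by omega))
  obtain ⟨e2⟩ := TT.nonempty_equiv_succ fs (SQ ι) (SQ_shortExact ι) p (hE p) (hE (p + 1))
  exact ⟨e1.trans e2.symm⟩

include hK hE in
/-- `H^1((f), M) ≅ Γ_{(f)}(E / ι M)` when `ker ι` is torsion and `E` is acyclic. -/
theorem nonempty_TT_one_equiv :
    Nonempty (TT fs M 1 ≃ₗ[A]
      DRing.torsionSub (Ideal.span {a | a ∈ fs}) (E ⧸ LinearMap.range ι.hom)) := by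
  obtain ⟨e⟩ := nonempty_TT_succ_equiv fs ι hK hE 0
  exact ⟨e.trans (T0Equiv fs (ModuleCat.of A (E ⧸ LinearMap.range ι.hom)))⟩

end shift

end Groth.Agent.Lib.Lead.KosVanish
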