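/-
Lead library: Kronecker powers over commutative rings and the antisymmetrizer.

* `kpAlgHom'`: `⨂_J A → M_{ι^J}(L)` induced by `ρ : A → M_ι(L)`, for commutative rings `k`, `L`;
* `Pm σ`, `antisym`: permutation matrices of the place permutations on `(Fin n → Fin n)` and the
  antisymmetrizer `Σ sign σ • Pm σ`;
* `kp_mul_antisym`: Kronecker powers `M ⊗ ⋯ ⊗ M` commute with the antisymmetrizer;
* `antisym_eq`: `antisym = w wᵀ` with `w id = 1`.
-/
import Mathlib
import Groth.Agent.Lib.Lead.KronPow

set_option autoImplicit false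

namespace Groth.Agent.Lib.Lead.KronPerm

open scoped TensorProduct
open PiTensorProduct Groth.Agent.Lib.Lead.KronPow

universe u v w

section alghom

variable {k : Type u} [CommRing k] {A : Type v} [Ring A] [Algebra k A] {L : Type w} [CommRing L]
  [Algebra k L] {ι J : Type} [Fintype ι] [DecidableEq ι] [Fintype J] [DecidableEq J]

/-- The multilinear map `a ↦ ⊗_j ρ (a j)`. -/
noncomputable def kpMulti' (ρ : A →ₐ[k] Matrix ι ι L) :
    MultilinearMap k (fun _ : J => A) (Matrix (J → ι) (J → ι) L) where
  toFun a := kp (fun j => ρ (a j))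
  map_update_add' := by
    intro _ a j x y
    have h : ∀ z : A, (fun j' => ρ (Function.update a j z j')) =
        Function.update (fun j' => ρ (a j')) j (ρ z) := by
      intro z
      funext j'
      by_cases hj : j' = j
      · subst hj; simp
      · simp [Function.update_of_ne hj]
    simp only [h, map_add]
    convert kp_update_add (fun j' => ρ (a j')) j (ρ x) (ρ y)
  map_update_smul' := by
    intro _ a j c x
    have h : ∀ z : A, (fun j' => ρ (Function.update a j z j')) =
        Function.update (fun j' => ρ (a j')) j (ρ z) := by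
      intro z
      funext j'
      by_cases hj : j' = j
      · subst hj; simp
      · simp [Function.update_of_ne hj]
    simp only [h, map_smul]
    ext f g
    simp only [Matrix.smul_apply]
    rw [← algebraMap_smul L c (ρ x), kp_update_smul, Matrix.smul_apply, algebraMap_smul]

theorem kpMulti'_apply (ρ : A →ₐ[k] Matrix ι ι L) (a : J → A) :
    kpMulti' (J := J) ρ a = kp (fun j => ρ (a j)) := rfl

/-- The algebra map `⨂_J A → M_{ι^J}(L)` induced by `ρ : A → M_ι(L)`. -/
noncomputable def kpAlgHom' (ρ : A →ₐ[k] Matrix ι ι L) :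
    (⨂[k] _ : J, A) →ₐ[k] Matrix (J → ι) (J → ι) L :=
  AlgHom.ofLinearMap (PiTensorProduct.lift (kpMulti' (J := J) ρ))
    (by
      rw [PiTensorProduct.one_def, PiTensorProduct.lift.tprod, kpMulti'_apply]
      simp only [Pi.one_apply, map_one]
      exact kp_one)
    (by
      refine TPow.map_mul_of_span (PiTensorProduct.lift (kpMulti' (J := J) ρ)) _
        span_tprod_eq_top ?_
      rintro _ ⟨a, rfl⟩ _ ⟨a', rfl⟩
      rw [tprod_mul_tprod, PiTensorProduct.lift.tprod, PiTensorProduct.lift.tprod,
        PiTensorProduct.lift.tprod, kpMulti'_apply, kpMulti'_apply, kpMulti'_apply, kp_mul]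
      simp only [Pi.mul_apply, map_mul])

theorem kpAlgHom'_tprod (ρ : A →ₐ[k] Matrix ι ι L) (a : J → A) :
    kpAlgHom' (J := J) ρ (tprod k a) = kp (fun j => ρ (a j)) := by
  simp only [kpAlgHom', AlgHom.ofLinearMap_apply, PiTensorProduct.lift.tprod, kpMulti'_apply]

end alghom

section perm

variable {T : Type u} [CommRing T] {n : ℕ}

/-- The permutation matrix of the place permutation `b ↦ b ∘ σ`. -/
def Pm (σ : Equiv.Perm (Fin n)) : Matrix (Fin n → Fin n) (Fin n → Fin n) T :=
  fun a b => if a = b ∘ σ then 1 else 0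

theorem kp_mul_Pm (M : Matrix (Fin n) (Fin n) T) (σ : Equiv.Perm (Fin n)) :
    kp (fun _ : Fin n => M) * Pm σ = Pm σ * kp (fun _ : Fin n => M) := by
  ext a c
  have h1 : (kp (fun _ : Fin n => M) * Pm σ : Matrix (Fin n → Fin n) (Fin n → Fin n) T) a c =
      kp (fun _ : Fin n => M) a (c ∘ σ) := by
    rw [Matrix.mul_apply, Finset.sum_eq_single (c ∘ σ)]
    · rw [Pm, if_pos rfl, mul_one]
    · intro b _ hb
      rw [Pm, if_neg hb, mul_zero]
    · intro h
      exact absurd (Finset.mem_univ _) h
  have h2 : (Pm σ * kp (fun _ : Fin n => M) : Matrix (Fin n → Fin n) (Fin n → Fin n) T) a c =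
      kp (fun _ : Fin n => M) (a ∘ σ.symm) c := by
    rw [Matrix.mul_apply, Finset.sum_eq_single (a ∘ σ.symm)]
    · have : a = (a ∘ σ.symm) ∘ σ := by
        funext i
        simp
      rw [Pm, if_pos this, one_mul]
    · intro b _ hb
      have : ¬ a = b ∘ σ := by
        intro h
        apply hb
        rw [h]
        funext i
        simp
      rw [Pm, if_neg this, zero_mul]
    · intro h
      exact absurd (Finset.mem_univ _) h
  rw [h1, h2, kp_apply, kp_apply]
  exact (Equiv.prod_comp σ (fun j => M ((a ∘ σ.symm) j) (c j))).symm.trans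
    (Finset.prod_congr rfl fun i _ => by simp) |>.symm

variable (T n) in
/-- The antisymmetrizer. -/
noncomputable def antisym : Matrix (Fin n → Fin n) (Fin n → Fin n) T :=
  ∑ σ : Equiv.Perm (Fin n), ((Equiv.Perm.sign σ : ℤ) : T) • Pm σ

theorem kp_mul_antisym (M : Matrix (Fin n) (Fin n) T) :
    kp (fun _ : Fin n => M) * antisym T n = antisym T n * kp (fun _ : Fin n => M) := by
  rw [antisym, Finset.mul_sum, Finset.sum_mul]
  refine Finset.sum_congr rfl fun σ _ => ?_
  rw [Matrix.mul_smul, Matrix.smul_mul, kp_mul_Pm]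

theorem antisym_map {T' : Type v} [CommRing T'] (φ : T →+* T') :
    (antisym T n).map φ = antisym T' n := by
  ext a b
  simp only [antisym, Matrix.map_apply, Matrix.sum_apply, Matrix.smul_apply, Pm, smul_eq_mul,
    map_sum, map_mul, map_intCast, apply_ite φ, map_one, map_zero]

/-- The vector `w` with `antisym = w wᵀ`. -/
noncomputable def wvec (a : Fin n → Fin n) : T :=
  (Matrix.of fun i x => if a i = x then (1 : T) else 0 : Matrix (Fin n) (Fin n) T).det

theorem wvec_id : wvec (T := T) (id : Fin n → Fin n) = 1 := by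
  have : (Matrix.of fun i x => if id i = x then (1 : T) else 0 : Matrix (Fin n) (Fin n) T) = 1 := by
    ext i x
    simp [Matrix.one_apply]
  rw [wvec, this, Matrix.det_one]

theorem antisym_eq (a b : Fin n → Fin n) :
    antisym T n a b = wvec a * wvec b := by
  have h1 : wvec (T := T) a * wvec b = (Matrix.of fun i j => if a i = b j then (1 : T) else 0 :
      Matrix (Fin n) (Fin n) T).det := by
    rw [wvec, wvec, ← Matrix.det_transpose (Matrix.of fun i x => if b i = x then (1 : T) else 0),
      ← Matrix.det_mul]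
    congr 1
    ext i j
    simp only [Matrix.mul_apply, Matrix.of_apply, Matrix.transpose_apply, mul_ite, mul_one,
      mul_zero]
    rw [Finset.sum_eq_single (b j)]
    · simp
    · intro x _ hx
      rw [if_neg (Ne.symm hx)]
    · intro h
      exact absurd (Finset.mem_univ _) h
  rw [h1, Matrix.det_apply, antisym, Matrix.sum_apply]
  rw [← Equiv.sum_comp (Equiv.inv (Equiv.Perm (Fin n)))]
  refine Finset.sum_congr rfl fun σ _ => ?_
  simp only [Equiv.inv_apply, Matrix.smul_apply, Pm, Matrix.of_apply, Finset.prod_boole,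
    Equiv.Perm.sign_inv, smul_eq_mul, Units.smul_def, zsmul_eq_mul, Finset.mem_univ, forall_true_left]
  congr 1
  have hiff : (a = b ∘ (σ⁻¹ : Equiv.Perm (Fin n))) ↔ (∀ i, a (σ i) = b i) := by
    constructor
    · intro h i
      rw [h]
      simp
    · intro h
      funext i
      have := h (σ⁻¹ i)
      simpa using this
  simp only [hiff]

end perm

end Groth.Agent.Lib.Lead.KronPerm
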