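import Groth.Agent.S1940
import Mathlib.AlgebraicGeometry.AffineTransitionLimit

/-!
# Cycles on cofiltered limits of schemes with affine flat transition maps (lead)

* `stalk_surj`: every element of a stalk of the limit comes from a stalk of a stage;
* `exists_stage_map_maximalIdeal`: for a locally Noetherian limit the maximal ideal of a stalk of
  the limit is generated by the maximal ideal of the stalk of a late enough stage;
* `exists_stage_unique`: a point of the limit is, for late stages, the unique generic point of its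
  fibre (with multiplicity one).
-/

set_option autoImplicit false
set_option backward.isDefEq.respectTransparency false
universe u
open CategoryTheory Limits AlgebraicGeometry IsLocalRing

namespace Groth.Agent.Lib.Lead.LimCyc

open Groth.Agent.Lib.Lead.CycPull

section general

variable {X Y : Scheme.{u}} (q : X ⟶ Y)

theorem genF_of_map_eq (x : X)
    (h : Ideal.map (q.stalkMap x).hom (maximalIdeal (Y.presheaf.stalk (q x))) =
      maximalIdeal (X.presheaf.stalk x)) :
    ∀ y, q y = q x → y ⤳ x → y = x := by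
  intro y hy1 hy2
  obtain ⟨r, rfl⟩ : ∃ r : PrimeSpectrum (X.presheaf.stalk x), (X.fromSpecStalk x) r = y := by
    have : y ∈ Set.range (X.fromSpecStalk x) := by
      rw [Scheme.range_fromSpecStalk]
      exact hy2
    exact this
  have hJr : Ideal.map (q.stalkMap x).hom (maximalIdeal (Y.presheaf.stalk (q x))) ≤ r.asIdeal :=
    (Groth.Agent.S6479.map_eq_iff q x r).mp hy1
  have hr : r = IsLocalRing.closedPoint (X.presheaf.stalk x) := by
    apply PrimeSpectrum.ext
    have hle : maximalIdeal (X.presheaf.stalk x) ≤ r.asIdeal := by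
      rw [← h]
      exact hJr
    exact ((IsLocalRing.maximalIdeal.isMaximal _).eq_of_le r.2.ne_top hle).symm
  rw [hr, Scheme.fromSpecStalk_closedPoint]

theorem mult_eq_one_of_map_eq (x : X)
    (h : Ideal.map (q.stalkMap x).hom (maximalIdeal (Y.presheaf.stalk (q x))) =
      maximalIdeal (X.presheaf.stalk x)) : mult q x = 1 := by
  unfold mult
  rw [Groth.Agent.S6479.length_congr _ _ h]
  haveI : IsSimpleModule (X.presheaf.stalk x)
      (X.presheaf.stalk x ⧸ maximalIdeal (X.presheaf.stalk x)) :=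
    isSimpleModule_iff_isCoatom.mpr (Ideal.isMaximal_def.mp inferInstance)
  rw [Module.length_eq_one]
  rfl

theorem finite_genF {X X' : Scheme.{u}} (q : X' ⟶ X) [IsLocallyNoetherian X'] [CompactSpace X']
    (ξ : X) : {η : X' | q η = ξ ∧ ∀ y, q y = q η → y ⤳ η → y = η}.Finite := by
  classical
  have hW : ∀ y : X', ∃ W : X'.Opens, IsAffineOpen W ∧ y ∈ W := fun y => by
    obtain ⟨W, hW, hyW, -⟩ := exists_isAffineOpen_mem_and_subset (x := y) (U := ⊤) trivial
    exact ⟨W, hW, hyW⟩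
  choose W hWaff hyW using hW
  obtain ⟨t, ht⟩ := CompactSpace.elim_nhds_subcover (fun y => (W y : Set X'))
    (fun y => (W y).2.mem_nhds (hyW y))
  have hfin : (⋃ y ∈ (t : Set X'),
      {η : X' | η ∈ W y ∧ q η = ξ ∧ ∀ z, q z = q η → z ⤳ η → z = η}).Finite := by
    refine Set.Finite.biUnion t.finite_toSet (fun y _ => ?_)
    haveI : IsNoetherianRing Γ(X', W y) :=
      IsLocallyNoetherian.component_noetherian ⟨W y, hWaff y⟩
    haveI : TopologicalSpace.NoetherianSpace {x : X' // x ∈ W y} :=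
      noetherianSpace_of_isAffineOpen (W y) (hWaff y)
    exact Groth.Agent.S1940.finite_genF_in_open q (W y) ξ
  refine hfin.subset ?_
  rintro η ⟨h1, h2⟩
  have hmem : η ∈ ⋃ y ∈ t, (W y : Set X') := by
    rw [ht]
    trivial
  obtain ⟨y, hyt, hηy⟩ := Set.mem_iUnion₂.mp hmem
  exact Set.mem_biUnion (Finset.mem_coe.mpr hyt) ⟨hηy, h1, h2⟩

end general

section family

variable {I : Type u} [Category.{u} I] [IsCofiltered I] (D : I ⥤ Scheme.{u}) {X' : Scheme.{u}}
  (p : ∀ i, X' ⟶ D.obj i) (hp : ∀ (i j : I) (f : j ⟶ i), p j ≫ D.map f = p i)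

include hp in
theorem map_p_apply {i j : I} (f : j ⟶ i) (s : X') : D.map f (p j s) = p i s := by
  have := congr($(hp i j f) s)
  exact this

include hp in
theorem exists_stalkMap_eq {i j : I} (f : j ⟶ i) (x' : X')
    (b : (D.obj i).presheaf.stalk (p i x')) :
    ∃ b' : (D.obj j).presheaf.stalk (p j x'), (p j).stalkMap x' b' = (p i).stalkMap x' b := by
  have h1 := Scheme.Hom.stalkMap_congr_hom (p i) (p j ≫ D.map f) (hp i j f).symm x'
  rw [Scheme.Hom.stalkMap_comp] at h1
  have h2 := ConcreteCategory.congr_hom h1 b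
  simp only [CommRingCat.comp_apply] at h2
  exact ⟨_, h2.symm⟩

include hp in
theorem exists_stage_range
    (hsurj : ∀ (x' : X') (a : X'.presheaf.stalk x'),
      ∃ (i : I) (b : (D.obj i).presheaf.stalk (p i x')), (p i).stalkMap x' b = a)
    (x' : X') (T : Finset (X'.presheaf.stalk x')) :
    ∃ i₁ : I, ∀ a ∈ T, ∀ (j : I) (_ : j ⟶ i₁),
      ∃ b : (D.obj j).presheaf.stalk (p j x'), (p j).stalkMap x' b = a := by
  classical
  induction T using Finset.induction_on with
  | empty =>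
    exact ⟨(IsCofiltered.nonempty (C := I)).some, fun a ha => absurd ha (Finset.notMem_empty a)⟩
  | insert a T _ ih =>
    obtain ⟨i₁, h₁⟩ := ih
    obtain ⟨i₂, b, hb⟩ := hsurj x' a
    refine ⟨IsCofiltered.min i₁ i₂, ?_⟩
    intro a' ha' j f
    rcases Finset.mem_insert.mp ha' with rfl | ha'
    · obtain ⟨b', hb'⟩ :=
        exists_stalkMap_eq D p hp (f ≫ IsCofiltered.minToRight i₁ i₂) x' b
      exact ⟨b', hb'.trans hb⟩
    · exact h₁ a' ha' j (f ≫ IsCofiltered.minToLeft i₁ i₂)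

include hp in
theorem exists_stage_map_maximalIdeal [IsLocallyNoetherian X']
    (hsurj : ∀ (x' : X') (a : X'.presheaf.stalk x'),
      ∃ (i : I) (b : (D.obj i).presheaf.stalk (p i x')), (p i).stalkMap x' b = a)
    (x' : X') :
    ∃ i₁ : I, ∀ (j : I) (_ : j ⟶ i₁),
      Ideal.map ((p j).stalkMap x').hom (maximalIdeal ((D.obj j).presheaf.stalk (p j x'))) =
        maximalIdeal (X'.presheaf.stalk x') := by
  classical
  obtain ⟨T, hT⟩ := (IsNoetherian.noetherian (maximalIdeal (X'.presheaf.stalk x')) :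
    (maximalIdeal (X'.presheaf.stalk x')).FG)
  obtain ⟨i₁, h₁⟩ := exists_stage_range D p hp hsurj x' T
  refine ⟨i₁, fun j f => le_antisymm ?_ ?_⟩
  · have hloc : IsLocalHom ((p j).stalkMap x').hom := inferInstance
    exact ((IsLocalRing.local_hom_TFAE ((p j).stalkMap x').hom).out 0 2).mp hloc
  · rw [← hT]
    refine Submodule.span_le.mpr (fun a ha => ?_)
    obtain ⟨b, hb⟩ := h₁ a (Finset.mem_coe.mp ha) j f
    have hamem : a ∈ maximalIdeal (X'.presheaf.stalk x') := by
      rw [← hT]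
      exact Submodule.subset_span ha
    have hbmem : b ∈ maximalIdeal ((D.obj j).presheaf.stalk (p j x')) := by
      refine (IsLocalRing.mem_maximalIdeal b).mpr (fun hu => ?_)
      have hua : IsUnit a := by
        rw [← hb]
        exact hu.map ((p j).stalkMap x').hom
      exact (IsLocalRing.mem_maximalIdeal a).mp hamem hua
    rw [← hb]
    exact Ideal.mem_map_of_mem _ hbmem

include hp in
/-- for late stages a point of the limit is the unique generic point of its fibre, and the fibre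
has multiplicity one there. -/
theorem exists_stage_unique [IsLocallyNoetherian X'] [CompactSpace X']
    (hF2 : ∀ s s' : X', (∀ i, p i s = p i s') → s = s')
    (δ : (i : I) → ↥(D.obj i) → ℤ) (δ' : X' → ℤ) (hdim' : Cyc.IsDimFun X' δ')
    (hshift' : ∀ (i : I) (x : X'), (∀ y, p i y = p i x → y ⤳ x → y = x) → δ' x = δ i (p i x))
    (hM : ∀ x' : X', ∃ i₁ : I, ∀ (j : I) (_ : j ⟶ i₁),
      Ideal.map ((p j).stalkMap x').hom (maximalIdeal ((D.obj j).presheaf.stalk (p j x'))) =
        maximalIdeal (X'.presheaf.stalk x'))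
    (x' : X') :
    ∃ i₂ : I, ∀ (j : I) (_ : j ⟶ i₂),
      (Ideal.map ((p j).stalkMap x').hom (maximalIdeal ((D.obj j).presheaf.stalk (p j x'))) =
        maximalIdeal (X'.presheaf.stalk x')) ∧
      ∀ η : X', p j η = p j x' → (∀ y, p j y = p j η → y ⤳ η → y = η) → η = x' := by
  classical
  obtain ⟨i₁, h₁⟩ := hM x'
  have hgen : ∀ (j : I) (_ : j ⟶ i₁), ∀ y, p j y = p j x' → y ⤳ x' → y = x' :=
    fun j f => genF_of_map_eq (p j) x' (h₁ j f)
  have hδx : ∀ (j : I) (_ : j ⟶ i₁), δ' x' = δ j (p j x') :=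
    fun j f => hshift' j x' (hgen j f)
  have hGfin : {η : X' | p i₁ η = p i₁ x' ∧ ∀ y, p i₁ y = p i₁ η → y ⤳ η → y = η}.Finite :=
    finite_genF (p i₁) (p i₁ x')
  let a : X' → I := fun η => if h : ∃ i, p i η ≠ p i x' then h.choose else i₁
  have ha : ∀ η, η ≠ x' → p (a η) η ≠ p (a η) x' := by
    intro η hη
    have h : ∃ i, p i η ≠ p i x' := by
      by_contra hcon
      push_neg at hcon
      exact hη (hF2 η x' hcon)
    have hae : a η = h.choose := dif_pos h
    rw [hae]
    exact h.choose_spec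
  obtain ⟨i₂, hi₂⟩ := IsCofiltered.inf_objs_exists (insert i₁ (hGfin.toFinset.image a))
  obtain ⟨g₁⟩ := hi₂ (Finset.mem_insert_self _ _)
  refine ⟨i₂, fun j f => ⟨h₁ j (f ≫ g₁), ?_⟩⟩
  intro η hη1 hη2
  by_contra hne
  have e1 : p i₁ η = p i₁ x' := by
    rw [← map_p_apply D p hp (f ≫ g₁) η, ← map_p_apply D p hp (f ≫ g₁) x', hη1]
  have hδη : δ' η = δ j (p j η) := hshift' j η hη2
  have hδ1 : δ' x' = δ j (p j x') := hδx j (f ≫ g₁)
  have hδ2 : δ' x' = δ i₁ (p i₁ x') := hδx i₁ (𝟙 i₁)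
  have e2 : δ i₁ (p i₁ η) = δ i₁ (p i₁ x') := by rw [e1]
  have e3 : δ j (p j η) = δ j (p j x') := by rw [hη1]
  have hηG : η ∈ {η : X' | p i₁ η = p i₁ x' ∧ ∀ y, p i₁ y = p i₁ η → y ⤳ η → y = η} := by
    refine ⟨e1, ?_⟩
    have hB := Groth.Agent.S6479.delta_le_and (p i₁) η δ' (δ i₁) hdim' 0
      (fun z hz => by rw [add_zero]; exact hshift' i₁ z hz)
    apply hB.2
    omega
  obtain ⟨g⟩ := hi₂ (Finset.mem_insert_of_mem
    (Finset.mem_image.mpr ⟨η, hGfin.mem_toFinset.mpr hηG, rfl⟩))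
  apply ha η hne
  rw [← map_p_apply D p hp (f ≫ g) η, ← map_p_apply D p hp (f ≫ g) x', hη1]

end family

section cone

variable {I : Type u} [Category.{u} I] [IsCofiltered I] (D : I ⥤ Scheme.{u}) (c : Cone D)
  (hc : IsLimit c) [∀ {i j : I} (f : i ⟶ j), IsAffineHom (D.map f)]

include hc in
theorem eq_of_forall_π_eq {s s' : c.pt} (h : ∀ i, c.π.app i s = c.π.app i s') : s = s' := by
  apply Inseparable.eq
  rw [(isBasis_preimage_isAffineOpen D c hc).inseparable_iff]
  rintro _ ⟨_, ⟨i, O, -, rfl⟩, rfl⟩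
  show c.π.app i s ∈ O ↔ c.π.app i s' ∈ O
  rw [h i]

set_option backward.defeqAttrib.useBackward true in
open Scheme.Opens in
include hc in
theorem exists_section_stage (i : I) (V : (D.obj i).Opens) (hV : IsAffineOpen V)
    (r : Γ(c.pt, c.π.app i ⁻¹ᵁ V)) :
    ∃ (j : Over i) (s : Γ(D.obj j.left, D.map j.hom ⁻¹ᵁ V))
      (h : c.π.app j.left ⁻¹ᵁ D.map j.hom ⁻¹ᵁ V = c.π.app i ⁻¹ᵁ V),
      r = (c.π.app j.left).appLE (D.map j.hom ⁻¹ᵁ V) (c.π.app i ⁻¹ᵁ V) h.ge s := by
  have (j : _) : IsAffine ((opensDiagram D i V).op.obj j).unop := hV.preimage _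
  have (j : _) : IsAffine ((opensDiagram D i V).obj j) := hV.preimage _
  obtain ⟨⟨j⟩, s, hs⟩ := (Types.jointly_surjective_of_isColimit (isColimitOfPreserves
    (Scheme.Γ ⋙ forget _) (isLimitOpensCone D c hc i V).op) ((c.π.app i ⁻¹ᵁ V).topIso.inv r))
  obtain ⟨s, rfl⟩ := (D.map j.hom ⁻¹ᵁ V).topIso.symm.commRingCatIsoToRingEquiv.surjective s
  have h : c.π.app j.left ⁻¹ᵁ D.map j.hom ⁻¹ᵁ V = c.π.app i ⁻¹ᵁ V := congr($(c.w j.hom) ⁻¹ᵁ V)
  have : r = (c.π.app j.left).appLE (D.map j.hom ⁻¹ᵁ V) (c.π.app i ⁻¹ᵁ V) h.ge s := by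
    convert!
      show r = ((topIso _).inv ≫ ((opensCone D c i V).π.app j).appTop ≫ (topIso _).hom) s from
        (c.π.app i ⁻¹ᵁ V).topIso.commRingCatIsoToRingEquiv.symm_apply_eq.mp hs.symm using 3
    simp [Scheme.Hom.app_eq_appLE, Scheme.Hom.resLE_appLE]
  exact ⟨j, s, h, this⟩

include hc in
theorem stalk_surj (x' : c.pt) (a : c.pt.presheaf.stalk x') :
    ∃ (i : I) (b : (D.obj i).presheaf.stalk (c.π.app i x')), (c.π.app i).stalkMap x' b = a := by
  obtain ⟨U, m, hUB, r, rfl⟩ := TopCat.Presheaf.exists_mem_germ_eq_of_isBasis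
    (isBasis_preimage_isAffineOpen D c hc) c.pt.presheaf x' a
  obtain ⟨i, V, hV, rfl⟩ := hUB
  obtain ⟨j, s, h, hr⟩ := exists_section_stage D c hc i V hV r
  have hm : c.π.app j.left x' ∈ D.map j.hom ⁻¹ᵁ V := by
    have h2 : x' ∈ c.π.app j.left ⁻¹ᵁ D.map j.hom ⁻¹ᵁ V := by
      rw [h]
      exact m
    exact h2
  refine ⟨j.left, (D.obj j.left).presheaf.germ _ _ hm s, ?_⟩
  rw [Scheme.Hom.germ_stalkMap_apply, hr]
  exact (c.pt.presheaf.germ_res_apply (homOfLE h.ge) x' m ((c.π.app j.left).app _ s)).symm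

end cone

end Groth.Agent.Lib.Lead.LimCyc
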