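import Groth.Agent.Lib.Lead.LimCyc
import Groth.Agent.S6496

/-!
# Rational equivalence and limits (lead)

* `pull_formula`: the flat pullback of a sum of principal divisors, pointwise (the computation
  behind `S1940`), as a double sum over the generic points of the fibres;
* finiteness of supports on quasi-compact locally Noetherian schemes;
* `exists_residue_stage`: elements of residue fields of a limit descend to a stage.
-/

set_option autoImplicit false
set_option backward.isDefEq.respectTransparency false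
universe u
open CategoryTheory Limits AlgebraicGeometry IsLocalRing

namespace Groth.Agent.Lib.Lead.LimCycRat

open Groth.Agent.Lib.Lead.CycPull
open Groth.Agent.Lib.Lead.LimCyc
open Groth.Agent.Lib.Helper23.CycLib
open Groth.Agent.S1940

theorem pull_formula (X X' : Scheme.{u}) (δ : X → ℤ) (δ' : X' → ℤ) (hX : Cyc.IsSetup X δ)
    (hX' : Cyc.IsSetup X' δ') (p : X' ⟶ X) [Flat p] (c : ℤ)
    (hc : ∀ x' : X', (∀ y, p y = p x' → y ⤳ x' → y = x') → δ' x' = δ (p x') + c) (k : ℤ)
    (α : X → ℤ) (hα : ∀ x, δ x ≠ k → α x = 0) {ι : Type u} (ξ : ι → X)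
    (f : (i : ι) → X.residueField (ξ i)) (hδξ : ∀ i, δ (ξ i) = k + 1) (hf : ∀ i, f i ≠ 0)
    (hsum : ∀ x : X, α x = ∑ᶠ i, Cyc.divFun δ (ξ i) (f i) x) (x' : X') :
    Cyc.pullFun p δ' δ c α x' =
      ∑ᶠ i : ι, ∑ᶠ s : SIdx p ξ i, Cyc.divFun δ' s.1 (pfn p ξ f ⟨i, s⟩) x' := by
  classical
  obtain ⟨hLNX, -, hdimX⟩ := hX
  obtain ⟨hLNX', -, hdimX'⟩ := hX'
  haveI := hLNX
  haveI := hLNX'
  have hδpt : ∀ j : Σ i, SIdx p ξ i, δ' j.2.1 = k + 1 + c := by
    intro j
    have h1 := hc j.2.1 j.2.2.2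
    rw [j.2.2.1, hδξ j.1] at h1
    exact h1
  have hB2 := Groth.Agent.S6479.delta_le_and p x' δ' δ hdimX' c hc
  by_cases hA : δ' x' = δ (p x') + c
  · have hP : Cyc.pullFun p δ' δ c α x' = α (p x') * mult p x' := if_pos hA
    rw [hP]
    have hgen : ∀ y, p y = p x' → y ⤳ x' → y = x' := hB2.2 hA
    by_cases hk : δ (p x') = k
    · rw [hsum (p x'), finsum_mul]
      refine finsum_congr (fun i => ?_)
      by_cases hy : ξ i ⤳ p x'
      · have hcond : ξ i ⤳ p x' ∧ δ (p x') + 1 = δ (ξ i) := ⟨hy, by rw [hδξ i, hk]⟩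
        have hne : ξ i ≠ p x' := by
          intro h
          have h5 := hδξ i
          rw [h, hk] at h5
          omega
        have himm : ∀ z : X, ξ i ⤳ z → z ⤳ p x' → z = ξ i ∨ z = p x' :=
          fun z h1 h2 => immediate_of_delta hdimX hcond.2 z h1 h2
        have hG := pull_ord_formula p x' (ξ i) hy hne himm hgen (f i) (hf i)
        have hD : Cyc.divFun δ (ξ i) (f i) (p x') = Cyc.ordAt (p x') (ξ i) hy (f i) :=
          dif_pos hcond
        rw [hD, hG]
        symm
        let e : GIdx p x' (ξ i) → SIdx p ξ i := fun ξ' => ⟨ξ'.1, ξ'.2.2.1, ξ'.2.2.2⟩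
        have he : Function.Injective e := by
          intro a b h
          exact Subtype.ext (congrArg (fun z : SIdx p ξ i => z.1) h)
        refine finsum_eq_of_injective_of_support e he _ _ ?_ ?_
        · intro ξ'
          have h3 : δ' ξ'.1 = k + 1 + c := hδpt ⟨i, e ξ'⟩
          exact divFun_pfn_pos p ξ f δ' ⟨i, e ξ'⟩ x' ξ'.2.1
            (by show δ' x' + 1 = δ' ξ'.1; omega)
        · intro s hs
          exact divFun_pfn_neg p ξ f δ' ⟨i, s⟩ x'
            (fun h => hs ⟨(⟨s.1, h.1, s.2.1, s.2.2⟩ : GIdx p x' (ξ i)), rfl⟩)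
      · have hD : Cyc.divFun δ (ξ i) (f i) (p x') = 0 := dif_neg (fun h => hy h.1)
        rw [hD, zero_mul]
        symm
        apply finsum_eq_zero_of_forall_eq_zero
        intro s
        refine divFun_pfn_neg p ξ f δ' ⟨i, s⟩ x' (fun h => hy ?_)
        have h3 : p s.1 ⤳ p x' := p.base.hom.map_specializes h.1
        rwa [s.2.1] at h3
    · have hα0 : α (p x') = 0 := hα (p x') hk
      rw [hα0, zero_mul]
      symm
      apply finsum_eq_zero_of_forall_eq_zero
      intro i
      apply finsum_eq_zero_of_forall_eq_zero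
      intro s
      refine divFun_pfn_neg p ξ f δ' ⟨i, s⟩ x' ?_
      rintro ⟨-, h2⟩
      have h2' : δ' x' + 1 = δ' s.1 := h2
      have h3' : δ' s.1 = k + 1 + c := hδpt ⟨i, s⟩
      apply hk
      omega
  · have hP : Cyc.pullFun p δ' δ c α x' = 0 := if_neg hA
    rw [hP]
    symm
    apply finsum_eq_zero_of_forall_eq_zero
    intro i
    apply finsum_eq_zero_of_forall_eq_zero
    intro s
    by_cases hcond : s.1 ⤳ x' ∧ δ' x' + 1 = δ' s.1
    · have h3 : δ' s.1 = k + 1 + c := hδpt ⟨i, s⟩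
      have hsp : ξ i ⤳ p x' := by
        have h4 : p s.1 ⤳ p x' := p.base.hom.map_specializes hcond.1
        rwa [s.2.1] at h4
      have hle := hB2.1
      have hc2 := hcond.2
      have heq : ξ i = p x' := by
        by_contra hne
        have h6 := (hdimX (ξ i) (p x') hsp hne).1
        have h7 := hδξ i
        omega
      have hpe : p x' = p s.1 := by rw [s.2.1, heq]
      have h0 := ordAt_pull_eq_zero_of_eq p x' s.1 hcond.1 hpe
        ((X.residueFieldCongr s.2.1.symm).hom (f i)) (residueFieldCongr_ne_zero _ _ (hf i))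
      have h5 := divFun_pfn_pos p ξ f δ' ⟨i, s⟩ x' hcond.1 hcond.2
      exact h5.trans (mul_eq_zero_of_right _ h0)
    · exact divFun_pfn_neg p ξ f δ' ⟨i, s⟩ x' hcond

theorem pullFun_sub {X X' : Scheme.{u}} (q : X' ⟶ X) (δ' : X' → ℤ) (δ : X → ℤ) (c : ℤ)
    (a b : X → ℤ) :
    Cyc.pullFun q δ' δ c (a - b) = Cyc.pullFun q δ' δ c a - Cyc.pullFun q δ' δ c b := by
  funext x
  rw [Pi.sub_apply]
  simp only [Cyc.pullFun]
  by_cases hA : δ' x = δ (q x) + c
  · rw [if_pos hA, if_pos hA, if_pos hA, Pi.sub_apply, sub_mul]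
  · rw [if_neg hA, if_neg hA, if_neg hA, sub_zero]

theorem exists_cycle_of_finite_support {X : Scheme.{u}} (g : X → ℤ)
    (h : (Function.support g).Finite) : ∃ a : AlgebraicCycle X ℤ, ⇑a = g :=
  ⟨⟨g, fun _ _ => Set.mem_univ _, fun _ _ => ⟨Set.univ, Filter.univ_mem, by
    rw [Set.univ_inter]
    exact h⟩⟩, rfl⟩

theorem support_finite_of_compact {X : Scheme.{u}} [CompactSpace X] (a : AlgebraicCycle X ℤ) :
    (Function.support ⇑a).Finite := by
  have h := (Function.locallyFinsupp.locallyFiniteSupport a).finite_inter_support_of_isCompact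
    isCompact_univ
  rwa [Set.univ_inter] at h

theorem pullFun_support_finite {X X' : Scheme.{u}} (q : X' ⟶ X) [IsLocallyNoetherian X']
    [CompactSpace X'] (δ' : X' → ℤ) (δ : X → ℤ) (hdim' : Cyc.IsDimFun X' δ') (c : ℤ)
    (hc : ∀ x' : X', (∀ y, q y = q x' → y ⤳ x' → y = x') → δ' x' = δ (q x') + c)
    (α : X → ℤ) (hα : (Function.support α).Finite) :
    (Function.support (Cyc.pullFun q δ' δ c α)).Finite := by
  refine (Set.Finite.biUnion hα (fun ξ _ => finite_genF q ξ)).subset ?_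
  intro x' hx'
  have hA : δ' x' = δ (q x') + c := by
    by_contra hne
    exact hx' (if_neg hne)
  have hαne : α (q x') ≠ 0 := by
    intro h0
    apply hx'
    have hP : Cyc.pullFun q δ' δ c α x' = α (q x') * mult q x' := if_pos hA
    rw [hP, h0, zero_mul]
  have hB := Groth.Agent.S6479.delta_le_and q x' δ' δ hdim' c hc
  exact Set.mem_biUnion (show q x' ∈ Function.support α from hαne) ⟨rfl, hB.2 hA⟩

theorem divFun_support_finite {X : Scheme.{u}} [IsLocallyNoetherian X] [CompactSpace X]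
    (δ : X → ℤ) (hδ : Cyc.IsDimFun X δ) (ξ : X) (g : X.residueField ξ) :
    (Function.support (Cyc.divFun δ ξ g)).Finite := by
  have h := fun x => divFun_support_locallyFinite δ hδ ξ g x
  choose V hxV hVf using h
  obtain ⟨t, ht⟩ := CompactSpace.elim_nhds_subcover (fun x => (V x : Set X))
    (fun x => (V x).2.mem_nhds (hxV x))
  refine (Set.Finite.biUnion t.finite_toSet (fun x _ => hVf x)).subset ?_
  intro y hy
  have hmem : y ∈ ⋃ x ∈ t, (V x : Set X) := by
    rw [ht]
    trivial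
  obtain ⟨x, hxt, hyx⟩ := Set.mem_iUnion₂.mp hmem
  exact Set.mem_biUnion (Finset.mem_coe.mpr hxt) ⟨hyx, hy⟩

theorem finite_index_of_compact {X : Scheme.{u}} [CompactSpace X] {ι : Type u} (ξ : ι → X)
    (hlf : ∀ x : X, ∃ U : Set X, IsOpen U ∧ x ∈ U ∧ {i | (closure {ξ i} ∩ U).Nonempty}.Finite) :
    Finite ι := by
  choose U hUo hxU hUf using hlf
  obtain ⟨t, ht⟩ := CompactSpace.elim_nhds_subcover U (fun x => (hUo x).mem_nhds (hxU x))
  have hsub : (Set.univ : Set ι) ⊆
      ⋃ x ∈ (t : Set X), {i | (closure {ξ i} ∩ U x).Nonempty} := by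
    intro i _
    have hmem : ξ i ∈ ⋃ x ∈ t, U x := by
      rw [ht]
      trivial
    obtain ⟨x, hxt, hx⟩ := Set.mem_iUnion₂.mp hmem
    exact Set.mem_biUnion (Finset.mem_coe.mpr hxt) ⟨ξ i, subset_closure rfl, hx⟩
  exact Set.finite_univ_iff.mp
    ((Set.Finite.biUnion t.finite_toSet (fun x _ => hUf x)).subset hsub)

section family

variable {I : Type u} [Category.{u} I] [IsCofiltered I] (D : I ⥤ Scheme.{u}) {X' : Scheme.{u}}
  (p : ∀ i, X' ⟶ D.obj i) (hp : ∀ (i j : I) (f : j ⟶ i), p j ≫ D.map f = p i)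

include hp in
theorem exists_residue_stage
    (hsurj : ∀ (x' : X') (a : X'.presheaf.stalk x'),
      ∃ (i : I) (b : (D.obj i).presheaf.stalk (p i x')), (p i).stalkMap x' b = a)
    (x' : X') (φ : X'.residueField x') :
    ∃ i₁ : I, ∀ (j : I) (_ : j ⟶ i₁),
      ∃ g : (D.obj j).residueField (p j x'), ((p j).residueFieldMap x').hom g = φ := by
  obtain ⟨a, rfl⟩ := X'.residue_surjective x' φ
  obtain ⟨i₁, b, hb⟩ := hsurj x' a
  refine ⟨i₁, fun j f => ?_⟩
  obtain ⟨b', hb'⟩ := exists_stalkMap_eq D p hp f x' b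
  refine ⟨(D.obj j).residue (p j x') b', ?_⟩
  have h := Scheme.residue_residueFieldMap (p j) x'
  have h2 := ConcreteCategory.congr_hom h b'
  simp only [CommRingCat.comp_apply] at h2
  rw [← hb, ← hb']
  exact h2

end family

end Groth.Agent.Lib.Lead.LimCycRat
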