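import Mathlib

/-!
# Spreading out a localizing map through an essentially finite type map

Let `R → A → C` be ring maps with `A → C` and `R → C` both localizations, `R` Noetherian and
`A` essentially of finite type over `R`. Then there is `a ∈ A`, invertible in `C`, such that
`R → A[1/a]` is a localization (`exists_away_isLocalization`).
-/

set_option autoImplicit false
set_option linter.style.haveILetI false

universe u

namespace Groth.Agent.Lib.Lead.LocImmSpread

variable {R A C : Type u} [CommRing R] [CommRing A] [CommRing C]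
  [Algebra R A] [Algebra A C] [Algebra R C] [IsScalarTower R A C]

/-- If `x` maps to a unit in the localization `S⁻¹A`, then `x` divides an element of `S`. -/
lemma exists_mul_mem_of_isUnit (S : Submonoid A) [IsLocalization S C] (x : A)
    (hx : IsUnit (algebraMap A C x)) : ∃ y : A, x * y ∈ S := by
  obtain ⟨u, hu⟩ := hx
  obtain ⟨⟨y, s⟩, hys⟩ := IsLocalization.surj S (↑u⁻¹ : C)
  have h1 : algebraMap A C (x * y) = algebraMap A C s := by
    rw [map_mul, ← hys, ← hu]
    simp only
    rw [← mul_assoc, Units.mul_inv, one_mul]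
  obtain ⟨c, hc⟩ := (IsLocalization.eq_iff_exists S C).mp h1
  refine ⟨c * y, ?_⟩
  rw [show x * (↑c * y) = ↑c * (x * y) by ring, hc]
  exact (c * s).2

/-- Elements of `D` which are fractions of elements of `R` with invertible denominators. -/
def IsFrac (R : Type u) [CommRing R] {D : Type u} [CommRing D] [Algebra R D] (d : D) : Prop :=
  ∃ r m : R, IsUnit (algebraMap R D m) ∧ d * algebraMap R D m = algebraMap R D r

section IsFrac

variable {D : Type u} [CommRing D] [Algebra R D]

lemma isFrac_algebraMap (r : R) : IsFrac R (algebraMap R D r) :=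
  ⟨r, 1, by simp, by simp⟩

lemma IsFrac.mul {d₁ d₂ : D} (h₁ : IsFrac R d₁) (h₂ : IsFrac R d₂) : IsFrac R (d₁ * d₂) := by
  obtain ⟨r₁, m₁, hm₁, e₁⟩ := h₁
  obtain ⟨r₂, m₂, hm₂, e₂⟩ := h₂
  refine ⟨r₁ * r₂, m₁ * m₂, by rw [map_mul]; exact hm₁.mul hm₂, ?_⟩
  rw [map_mul, map_mul, ← e₁, ← e₂]; ring

lemma IsFrac.add {d₁ d₂ : D} (h₁ : IsFrac R d₁) (h₂ : IsFrac R d₂) : IsFrac R (d₁ + d₂) := by
  obtain ⟨r₁, m₁, hm₁, e₁⟩ := h₁
  obtain ⟨r₂, m₂, hm₂, e₂⟩ := h₂
  refine ⟨r₁ * m₂ + r₂ * m₁, m₁ * m₂, by rw [map_mul]; exact hm₁.mul hm₂, ?_⟩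
  rw [map_mul, map_add, map_mul, map_mul, ← e₁, ← e₂]; ring

lemma IsFrac.inv {d d' : D} (h : IsFrac R d) (hd : d * d' = 1) : IsFrac R d' := by
  obtain ⟨r, m, hm, e⟩ := h
  have hdu : IsUnit d := IsUnit.of_mul_eq_one _ hd
  refine ⟨m, r, ?_, ?_⟩
  · rw [← e]; exact hdu.mul hm
  · rw [← e, ← mul_assoc, mul_comm d' d, hd, one_mul]

lemma IsFrac.pow {d : D} (h : IsFrac R d) (n : ℕ) : IsFrac R (d ^ n) := by
  induction n with
  | zero => rw [pow_zero]; exact ⟨1, 1, by simp, by simp⟩
  | succ n ih => rw [pow_succ]; exact ih.mul h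

end IsFrac

theorem exists_away_isLocalization [IsNoetherianRing R] [Algebra.EssFiniteType R A]
    (S : Submonoid A) [IsLocalization S C] (T : Submonoid R) [IsLocalization T C] :
    ∃ a ∈ S, ∀ (D : Type u) [CommRing D] [Algebra A D] [Algebra R D] [IsScalarTower R A D]
      [IsLocalization.Away a D],
      IsLocalization ((IsUnit.submonoid D).comap (algebraMap R D)) D := by
  classical
  obtain ⟨σ, hσ⟩ := (Algebra.essFiniteType_iff (R := R) (S := A)).mp inferInstance
  -- the generators become fractions over `R` after inverting an element of `S`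
  have h2 : ∀ b : A, ∃ (r : R) (t : T) (s : S),
      (s : A) * (b * algebraMap R A t) = s * algebraMap R A r := by
    intro b
    obtain ⟨⟨r, t⟩, hrt⟩ := IsLocalization.surj T (algebraMap A C b)
    have : algebraMap A C (b * algebraMap R A t) = algebraMap A C (algebraMap R A r) := by
      rw [map_mul, ← IsScalarTower.algebraMap_apply, ← IsScalarTower.algebraMap_apply]
      exact hrt
    obtain ⟨s, hs⟩ := (IsLocalization.eq_iff_exists S C).mp this
    exact ⟨r, t, s, hs⟩
  choose r t s hrts using h2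
  -- the kernel of `R → C` is killed by a single element of `T`
  have h3 : ∃ τ₀ : T, ∀ x : R, algebraMap R C x = 0 → (τ₀ : R) * x = 0 := by
    obtain ⟨G, hG⟩ : (RingHom.ker (algebraMap R C)).FG := IsNoetherian.noetherian _
    have hk : ∀ g : R, ∃ τ : T, algebraMap R C g = 0 → (τ : R) * g = 0 := by
      intro g
      by_cases hg : algebraMap R C g = 0
      · obtain ⟨τ, hτ⟩ := (IsLocalization.map_eq_zero_iff T C g).mp hg
        exact ⟨τ, fun _ => hτ⟩
      · exact ⟨1, fun h => absurd h hg⟩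
    choose τ hτ using hk
    have key : ∀ x ∈ Ideal.span (G : Set R), (∏ g ∈ G, (τ g : R)) * x = 0 := by
      intro x hx'
      induction hx' using Submodule.span_induction with
      | mem g hg =>
        have hg0 : algebraMap R C g = 0 := by
          have : g ∈ RingHom.ker (algebraMap R C) := by rw [← hG]; exact Ideal.subset_span hg
          exact this
        obtain ⟨c, hc⟩ := Finset.dvd_prod_of_mem (fun g => (τ g : R)) hg
        rw [hc, mul_comm _ c, mul_assoc, hτ g hg0, mul_zero]
      | zero => rw [mul_zero]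
      | add x y _ _ hx hy => rw [mul_add, hx, hy, add_zero]
      | smul c x _ hx => rw [smul_eq_mul, mul_left_comm, hx, mul_zero]
    refine ⟨∏ g ∈ G, τ g, fun x hx => ?_⟩
    rw [Submonoid.coe_finsetProd]
    exact key x (by rw [hG]; exact hx)
  obtain ⟨τ₀, hτ₀⟩ := h3
  set t₀ : T := τ₀ * ∏ b ∈ σ, t b with ht₀
  have ht₀u : IsUnit (algebraMap A C (algebraMap R A t₀)) := by
    rw [← IsScalarTower.algebraMap_apply]
    exact IsLocalization.map_units C t₀
  obtain ⟨y, hy⟩ := exists_mul_mem_of_isUnit S _ ht₀u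
  refine ⟨(algebraMap R A t₀ * y) * ((∏ b ∈ σ, s b : S) : A), S.mul_mem hy (SetLike.coe_mem _), ?_⟩
  intro D _ _ _ _ _
  set a : A := (algebraMap R A t₀ * y) * ((∏ b ∈ σ, s b : S) : A) with ha
  have hDa : IsUnit (algebraMap A D a) := IsLocalization.Away.algebraMap_isUnit a
  have hDt₀ : IsUnit (algebraMap R D t₀) := by
    rw [IsScalarTower.algebraMap_apply R A D]
    rw [ha, map_mul, map_mul] at hDa
    exact isUnit_of_mul_isUnit_left (isUnit_of_mul_isUnit_left hDa)
  have hDτ₀ : IsUnit (algebraMap R D τ₀) := by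
    rw [ht₀, Submonoid.coe_mul, map_mul] at hDt₀
    exact isUnit_of_mul_isUnit_left hDt₀
  have hDt : ∀ b ∈ σ, IsUnit (algebraMap R D (t b)) := by
    intro b hb
    rw [ht₀, Submonoid.coe_mul, map_mul, Submonoid.coe_finsetProd] at hDt₀
    obtain ⟨c, hc⟩ := Finset.dvd_prod_of_mem (fun b => (t b : R)) hb
    rw [hc, map_mul] at hDt₀
    exact isUnit_of_mul_isUnit_left (isUnit_of_mul_isUnit_right hDt₀)
  have hDs : ∀ b ∈ σ, IsUnit (algebraMap A D (s b)) := by
    intro b hb
    rw [ha, map_mul, Submonoid.coe_finsetProd] at hDa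
    obtain ⟨c, hc⟩ := Finset.dvd_prod_of_mem (fun b => (s b : A)) hb
    rw [hc, map_mul (algebraMap A D) (s b : A) c] at hDa
    exact isUnit_of_mul_isUnit_left (isUnit_of_mul_isUnit_right hDa)
  -- generators are fractions
  have hgen : ∀ b ∈ σ, IsFrac R (algebraMap A D b) := by
    intro b hb
    refine ⟨r b, t b, hDt b hb, ?_⟩
    have := congrArg (algebraMap A D) (hrts b)
    rw [map_mul, map_mul, map_mul, ← IsScalarTower.algebraMap_apply,
      ← IsScalarTower.algebraMap_apply] at this
    exact (hDs b hb).mul_left_cancel this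
  have hadj : ∀ β ∈ Algebra.adjoin R (σ : Set A), IsFrac R (algebraMap A D β) := by
    intro β hβ
    induction hβ using Algebra.adjoin_induction with
    | mem x hx => exact hgen x hx
    | algebraMap x => rw [← IsScalarTower.algebraMap_apply]; exact isFrac_algebraMap x
    | add x y _ _ hx hy => rw [map_add]; exact hx.add hy
    | mul x y _ _ hx hy => rw [map_mul]; exact hx.mul hy
  have hall : ∀ α : A, IsFrac R (algebraMap A D α) := by
    intro α
    obtain ⟨β', hβ', hβ'u, hαβ'⟩ := hσ α
    obtain ⟨v, hv⟩ := hβ'u.map (algebraMap A D)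
    have h1 : IsFrac R (↑v⁻¹ : D) := (hadj β' hβ').inv (by rw [← hv]; exact v.mul_inv)
    have h2 : algebraMap A D α = algebraMap A D (α * β') * ↑v⁻¹ := by
      rw [map_mul, ← hv, mul_assoc, Units.mul_inv, mul_one]
    rw [h2]
    exact (hadj _ hαβ').mul h1
  have hD : ∀ d : D, IsFrac R d := by
    intro d
    obtain ⟨⟨α, ⟨_, n, rfl⟩⟩, hαn⟩ := IsLocalization.surj (Submonoid.powers a) d
    simp only at hαn
    obtain ⟨v, hv⟩ := (hDa.pow n)
    have h1 : IsFrac R (↑v⁻¹ : D) :=
      ((hall a).pow n).inv (by rw [← hv]; exact v.mul_inv)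
    have h2 : d = algebraMap A D α * ↑v⁻¹ := by
      rw [← hαn, map_pow, ← hv, mul_assoc, Units.mul_inv, mul_one]
    rw [h2]
    exact (hall α).mul h1
  refine (isLocalization_iff _ _).mpr ⟨fun m => m.2, fun d => ?_, fun {x y} hxy => ?_⟩
  · obtain ⟨r', m', hm', e'⟩ := hD d
    exact ⟨⟨r', ⟨m', hm'⟩⟩, e'⟩
  · refine ⟨⟨τ₀, hDτ₀⟩, ?_⟩
    have hz : algebraMap R D (x - y) = 0 := by rw [map_sub, hxy, sub_self]
    rw [IsScalarTower.algebraMap_apply R A D] at hz
    obtain ⟨⟨_, n, rfl⟩, hn⟩ := (IsLocalization.map_eq_zero_iff (Submonoid.powers a) D _).mp hz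
    simp only at hn
    have hn' := congrArg (algebraMap A C) hn
    rw [map_mul, map_zero, ← IsScalarTower.algebraMap_apply, map_pow] at hn'
    have hau : IsUnit (algebraMap A C a) :=
      IsLocalization.map_units C (⟨a, S.mul_mem hy (SetLike.coe_mem _)⟩ : S)
    have hz' : algebraMap R C (x - y) = 0 := (hau.pow n).mul_left_cancel (by rw [hn', mul_zero])
    have := hτ₀ _ hz'
    rw [mul_sub, sub_eq_zero] at this
    exact this

end Groth.Agent.Lib.Lead.LocImmSpread
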