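/-
Lib/Lead/MilK12.lean -- the general Bass--Tate lemma: for a simple extension `E = F(a)` of degree
`d`, `K_n(E)` is generated by the symbols `{c₁, …, c_r, π₁(a), …, π_m(a)}` with `cᵢ ∈ Fˣ` and
`πᵢ` monic irreducible of strictly increasing degrees `≤ d - 1`.  Proved for an abstract
evaluation homomorphism `ev : F[X] →ₐ[F] L` which does not vanish on nonzero polynomials of
degree `≤ D`.
-/
import Groth.Agent.Lib.Lead.MilK11

set_option autoImplicit false
universe u

namespace Groth.Agent.Lib.Lead.MilK12

open MilK Polynomial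
open Groth.Agent.Lib.Helper20.MilKLemmas (IsSteinbergSymbol)
open Groth.Agent.Lib.Lead.MilK1 Groth.Agent.Lib.Lead.MilK5
open Groth.Agent.Lib.Lead.MilK7 (mem_of_forall_symbol natDegree_pos_of_not_isUnit)
open Groth.Agent.Lib.Lead.MilK10 (symbol_comp_perm_mem)

section Abstract

variable {F : Type u} [Field F] {L : Type u} [Field L] [Algebra F L] (ev : F[X] →ₐ[F] L)

/-- The value of a polynomial as a unit (`1` if the value is zero). -/
noncomputable def vu (g : F[X]) : Lˣ :=
  haveI := Classical.propDecidable (ev g = 0)
  if h : ev g = 0 then 1 else Units.mk0 (ev g) h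

theorem vu_of_ne {g : F[X]} (h : ev g ≠ 0) : vu ev g = Units.mk0 (ev g) h := by
  unfold vu
  exact dif_neg h

theorem coe_vu {g : F[X]} (h : ev g ≠ 0) : ((vu ev g : Lˣ) : L) = ev g := by
  rw [vu_of_ne ev h]
  rfl

theorem vu_mul {f g : F[X]} (hf : ev f ≠ 0) (hg : ev g ≠ 0) :
    vu ev (f * g) = vu ev f * vu ev g := by
  apply Units.ext
  rw [Units.val_mul, coe_vu ev hf, coe_vu ev hg,
    coe_vu ev (by rw [map_mul]; exact mul_ne_zero hf hg), map_mul]

theorem ev_C (c : F) : ev (C c) = algebraMap F L c := by
  have := ev.commutes c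
  rwa [Polynomial.algebraMap_eq] at this

theorem vu_C (c : Fˣ) :
    vu ev (C ((c : Fˣ) : F)) = Units.map ((algebraMap F L : F →+* L) : F →* L) c := by
  apply Units.ext
  rw [coe_vu ev (by rw [ev_C]; exact (_root_.map_ne_zero _).2 c.ne_zero), ev_C]
  rfl

theorem vu_neg_one : vu ev (-1) = -1 := by
  apply Units.ext
  rw [coe_vu ev (by rw [map_neg, map_one]; exact neg_ne_zero.2 one_ne_zero), map_neg, map_one]
  simp

/-- Values of polynomials of degree `≤ e`. -/
def Low (e : ℕ) : Set Lˣ := {y | ∃ g : F[X], g ≠ 0 ∧ g.natDegree ≤ e ∧ y = vu ev g}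

/-- Values of monic irreducible polynomials of degree `e`. -/
def Top (e : ℕ) : Set Lˣ :=
  {y | ∃ π : F[X], π.Monic ∧ Irreducible π ∧ π.natDegree = e ∧ y = vu ev π}

/-- Position-based normal form. -/
def NFp (N D : ℕ) (y : Fin N → Lˣ) : Prop :=
  ∃ (m : ℕ) (f : Fin N → F[X]), m ≤ N ∧ (∀ j, y j = vu ev (f j)) ∧
    (∀ j : Fin N, j.val < m → ∃ c : Fˣ, f j = C ((c : Fˣ) : F)) ∧
    (∀ j : Fin N, m ≤ j.val → (f j).Monic ∧ Irreducible (f j) ∧ (f j).natDegree ≤ D) ∧
    (∀ i j : Fin N, m ≤ i.val → i.val < j.val → (f i).natDegree < (f j).natDegree)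

/-- The subgroup generated by the normal-form symbols. -/
noncomputable def R (N D : ℕ) : AddSubgroup (K L N) :=
  AddSubgroup.closure {z | ∃ y, NFp ev N D y ∧ z = symbol y}

theorem R_mono {N D D' : ℕ} (h : D ≤ D') : R ev N D ≤ R ev N D' := by
  apply AddSubgroup.closure_mono
  rintro z ⟨y, ⟨m, f, hm, hy, hc, hp, hs⟩, rfl⟩
  exact ⟨y, ⟨m, f, hm, hy, hc,
    fun j hj => ⟨(hp j hj).1, (hp j hj).2.1, (hp j hj).2.2.trans h⟩, hs⟩, rfl⟩

theorem NFp_const {N D : ℕ} (y : Fin N → Lˣ) (c : Fin N → Fˣ)
    (hy : ∀ j, y j = vu ev (C ((c j : Fˣ) : F))) : NFp ev N D y :=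
  ⟨N, fun j => C ((c j : Fˣ) : F), le_refl N, hy, fun j _ => ⟨c j, rfl⟩,
    fun j hj => absurd j.isLt (by omega), fun i j hi _ => absurd i.isLt (by omega)⟩

theorem NFp_snoc {n e : ℕ} (y : Fin n → Lˣ) (hy : NFp ev n e y) (π₀ : F[X])
    (hm : π₀.Monic) (hi : Irreducible π₀) (hd : π₀.natDegree = e + 1) :
    NFp ev (n + 1) (e + 1) (Fin.snoc (α := fun _ => Lˣ) y (vu ev π₀)) := by
  obtain ⟨m, f, hmn, hyf, hc, hp, hs⟩ := hy
  have hlast : (Fin.last n).val = n := rfl
  refine ⟨m, Fin.snoc (α := fun _ => F[X]) f π₀, by omega, ?_, ?_, ?_, ?_⟩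
  · intro j
    refine Fin.lastCases ?_ (fun j' => ?_) j
    · rw [Fin.snoc_last, Fin.snoc_last]
    · rw [Fin.snoc_castSucc, Fin.snoc_castSucc]
      exact hyf j'
  · intro j
    refine Fin.lastCases ?_ (fun j' => ?_) j
    · intro hj
      omega
    · intro hj
      rw [Fin.snoc_castSucc]
      exact hc j' hj
  · intro j
    refine Fin.lastCases ?_ (fun j' => ?_) j
    · intro _
      rw [Fin.snoc_last]
      exact ⟨hm, hi, hd.le⟩
    · intro hj
      rw [Fin.snoc_castSucc]
      have := hp j' hj
      exact ⟨this.1, this.2.1, this.2.2.trans (Nat.le_succ e)⟩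
  · intro i j
    refine Fin.lastCases ?_ (fun j' => ?_) j
    · refine Fin.lastCases ?_ (fun i' => ?_) i
      · intro _ hlt
        exact absurd hlt (lt_irrefl _)
      · intro hi' _
        rw [Fin.snoc_last, Fin.snoc_castSucc, hd]
        have := (hp i' hi').2.2
        omega
    · refine Fin.lastCases ?_ (fun i' => ?_) i
      · intro _ hlt
        have h1 : (Fin.castSucc j').val = j'.val := rfl
        have := j'.isLt
        omega
      · intro hi' hlt
        rw [Fin.snoc_castSucc, Fin.snoc_castSucc]
        exact hs i' j' hi' hlt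

variable (D : ℕ) (Hnz : ∀ g : F[X], g ≠ 0 → g.natDegree ≤ D → ev g ≠ 0)
include Hnz

theorem vu_mem_closure (e : ℕ) (he : e + 1 ≤ D) (f : F[X]) (hf : f ≠ 0)
    (hfd : f.natDegree ≤ e + 1) :
    vu ev f ∈ Subgroup.closure (Low ev e ∪ Top ev (e + 1)) := by
  by_cases hd : f.natDegree ≤ e
  · exact Subgroup.subset_closure (Or.inl ⟨f, hf, hd, rfl⟩)
  have hd' : f.natDegree = e + 1 := by omega
  by_cases hirr : Irreducible f
  · have hlc : f.leadingCoeff ≠ 0 := leadingCoeff_ne_zero.2 hf
    have hπm : (f * C f.leadingCoeff⁻¹).Monic := monic_mul_leadingCoeff_inv hf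
    have hu : IsUnit (C f.leadingCoeff⁻¹ : F[X]) :=
      isUnit_C.2 (isUnit_iff_ne_zero.2 (inv_ne_zero hlc))
    have hπi : Irreducible (f * C f.leadingCoeff⁻¹) := (irreducible_mul_isUnit hu).2 hirr
    have hπd : (f * C f.leadingCoeff⁻¹).natDegree = e + 1 := by
      rw [natDegree_mul_C (inv_ne_zero hlc)]; exact hd'
    have hfeq : f = C f.leadingCoeff * (f * C f.leadingCoeff⁻¹) := by
      rw [mul_comm f, ← mul_assoc, ← C_mul, mul_inv_cancel₀ hlc, C_1, one_mul]
    have h1 : ev (C f.leadingCoeff) ≠ 0 :=
      Hnz _ (C_ne_zero.2 hlc) (by rw [natDegree_C]; exact Nat.zero_le _)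
    have h2 : ev (f * C f.leadingCoeff⁻¹) ≠ 0 := Hnz _ hπm.ne_zero (by omega)
    rw [hfeq, vu_mul ev h1 h2]
    exact mul_mem
      (Subgroup.subset_closure (Or.inl ⟨C f.leadingCoeff, C_ne_zero.2 hlc,
        by rw [natDegree_C]; exact Nat.zero_le e, rfl⟩))
      (Subgroup.subset_closure (Or.inr ⟨_, hπm, hπi, hπd, rfl⟩))
  · have hnu : ¬ IsUnit f := fun hu => by
      have := natDegree_eq_zero_of_isUnit hu
      omega
    have h1 : ¬ ∀ a b : F[X], f = a * b → IsUnit a ∨ IsUnit b :=
      fun h => hirr (irreducible_iff.2 ⟨hnu, fun a b => h a b⟩)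
    push_neg at h1
    obtain ⟨a, b, hab, ha, hb⟩ := h1
    have ha0 : a ≠ 0 := by rintro rfl; rw [zero_mul] at hab; exact hf hab
    have hb0 : b ≠ 0 := by rintro rfl; rw [mul_zero] at hab; exact hf hab
    have hda := natDegree_pos_of_not_isUnit ha0 ha
    have hdb := natDegree_pos_of_not_isUnit hb0 hb
    have hsum : a.natDegree + b.natDegree = e + 1 := by
      rw [← natDegree_mul ha0 hb0, ← hab]; exact hd'
    rw [hab, vu_mul ev (Hnz a ha0 (by omega)) (Hnz b hb0 (by omega))]
    exact mul_mem (Subgroup.subset_closure (Or.inl ⟨a, ha0, by omega, rfl⟩))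
      (Subgroup.subset_closure (Or.inl ⟨b, hb0, by omega, rfl⟩))

/-- Symbols of values of polynomials of degree `≤ e` are sums of normal-form symbols. -/
theorem low_le_R : ∀ (e : ℕ), e ≤ D → ∀ (N : ℕ) (y : Fin N → Lˣ),
    (∀ j, y j ∈ Low ev e) → symbol y ∈ R ev N e := by
  intro e
  induction e with
  | zero =>
    intro _ N y hy
    have hex : ∀ j, ∃ c : Fˣ, y j = vu ev (C ((c : Fˣ) : F)) := by
      intro j
      obtain ⟨h, hh0, hhd, hy⟩ := hy j
      have h1 : h.natDegree = 0 := by omega
      have h2 := eq_C_of_natDegree_eq_zero h1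
      have hc : h.coeff 0 ≠ 0 := by
        intro hc
        rw [hc, C_0] at h2
        exact hh0 h2
      exact ⟨Units.mk0 _ hc, by rw [hy, Units.val_mk0, ← h2]⟩
    choose c hc using hex
    exact AddSubgroup.subset_closure ⟨y, NFp_const ev y c hc, rfl⟩
  | succ e ih =>
    intro he N
    have ih' := ih (by omega)
    cases N with
    | zero =>
      intro y _
      exact AddSubgroup.subset_closure
        ⟨y, NFp_const ev y (fun j => j.elim0) (fun j => j.elim0), rfl⟩
    | succ n =>
      intro y hy
      have hneg : (-1 : Lˣ) ∈ Low ev e :=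
        ⟨-1, neg_ne_zero.2 one_ne_zero, by simp, (vu_neg_one ev).symm⟩
      -- one distinguished slot
      have oneSlot : ∀ (y : Fin (n + 1) → Lˣ) (j : Fin (n + 1)), y j ∈ Top ev (e + 1) →
          (∀ t, t ≠ j → y t ∈ Low ev e) → symbol y ∈ R ev (n + 1) (e + 1) := by
        intro y j hj hothers
        obtain ⟨π₀, hm, hi, hd, hyj⟩ := hj
        rw [← symbol_comp_perm_mem (R ev (n + 1) (e + 1)) (Equiv.swap j (Fin.last n))]
        have hlow : ∀ i : Fin n,
            y (Equiv.swap j (Fin.last n) (Fin.castSucc i)) ∈ Low ev e := by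
          intro i
          apply hothers
          intro h
          have h2 := congrArg (Equiv.swap j (Fin.last n)) h
          rw [Equiv.swap_apply_self, Equiv.swap_apply_left] at h2
          exact (Fin.castSucc_lt_last i).ne h2
        have heq : y ∘ ⇑(Equiv.swap j (Fin.last n)) =
            Fin.snoc (α := fun _ => Lˣ)
              (fun i => y (Equiv.swap j (Fin.last n) (Fin.castSucc i))) (vu ev π₀) := by
          funext t
          refine Fin.lastCases ?_ (fun i => ?_) t
          · rw [Function.comp_apply, Equiv.swap_apply_right, Fin.snoc_last]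
            exact hyj
          · rw [Function.comp_apply, Fin.snoc_castSucc]
        rw [heq]
        have hx : symbol (fun i => y (Equiv.swap j (Fin.last n) (Fin.castSucc i))) ∈
            R ev n e := ih' n _ hlow
        have hΦ : ∀ x ∈ R ev n e,
            MilK.mul L n 1 x (symbol ![vu ev π₀]) ∈ R ev (n + 1) (e + 1) := by
          intro x hx
          unfold R at hx
          induction hx using AddSubgroup.closure_induction with
          | mem z hz =>
            obtain ⟨y', hy', rfl⟩ := hz
            rw [mul_symbol_symbol, Fin.append_right_eq_snoc]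
            exact AddSubgroup.subset_closure ⟨_, NFp_snoc ev y' hy' π₀ hm hi hd, rfl⟩
          | zero =>
            rw [map_zero, AddMonoidHom.zero_apply]
            exact AddSubgroup.zero_mem _
          | add a b _ _ ha hb =>
            rw [map_add, AddMonoidHom.add_apply]
            exact AddSubgroup.add_mem _ ha hb
          | neg a _ ha =>
            rw [map_neg, AddMonoidHom.neg_apply]
            exact AddSubgroup.neg_mem _ ha
        have h3 := hΦ _ hx
        rw [mul_symbol_symbol, Fin.append_right_eq_snoc] at h3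
        exact h3
      -- induction on the number of slots which may contain a top-degree entry
      have key : ∀ (N' : ℕ) (y : Fin (n + 1) → Lˣ) (J : Finset (Fin (n + 1))), J.card ≤ N' →
          (∀ t, t ∉ J → y t ∈ Low ev e) → (∀ t, t ∈ J → y t ∈ Low ev e ∪ Top ev (e + 1)) →
          symbol y ∈ R ev (n + 1) (e + 1) := by
        intro N'
        induction N' with
        | zero =>
          intro y J hJ hout _
          have hJ0 : J = ∅ := Finset.card_eq_zero.1 (Nat.le_zero.1 hJ)
          exact R_mono ev (Nat.le_succ e)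
            (ih' (n + 1) y (fun t => hout t (by rw [hJ0]; simp)))
        | succ N' ihN =>
          intro y J hJ hout hin
          have upd : ∀ s ∈ J, ∀ T : Fin (n + 1) → Lˣ, T s ∈ Low ev e →
              (∀ t, t ∉ J → T t ∈ Low ev e) →
              (∀ t, t ∈ J → T t ∈ Low ev e ∪ Top ev (e + 1)) →
              symbol T ∈ R ev (n + 1) (e + 1) := by
            intro s hs T hTs hTout hTin
            refine ihN T (J.erase s) (by rw [Finset.card_erase_of_mem hs]; omega) ?_ ?_
            · intro t ht
              by_cases hts : t = s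
              · rw [hts]; exact hTs
              · exact hTout t (fun h => ht (Finset.mem_erase.2 ⟨hts, h⟩))
            · intro t ht
              exact hTin t (Finset.mem_of_mem_erase ht)
          by_cases hcard : J.card ≤ 1
          · rcases Nat.le_one_iff_eq_zero_or_eq_one.1 hcard with h0 | h1
            · have hJ0 : J = ∅ := Finset.card_eq_zero.1 h0
              exact R_mono ev (Nat.le_succ e)
                (ih' (n + 1) y (fun t => hout t (by rw [hJ0]; simp)))
            · obtain ⟨j, hj⟩ := Finset.card_eq_one.1 h1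
              have hothers : ∀ t, t ≠ j → y t ∈ Low ev e := fun t ht =>
                hout t (by rw [hj, Finset.mem_singleton]; exact ht)
              rcases hin j (by rw [hj]; exact Finset.mem_singleton_self j) with h | h
              · refine R_mono ev (Nat.le_succ e) (ih' (n + 1) y (fun t => ?_))
                by_cases ht : t = j
                · rw [ht]; exact h
                · exact hothers t ht
              · exact oneSlot y j h hothers
          · have h2 : 1 < J.card := by omega
            obtain ⟨i, hi, j, hj, hij⟩ := Finset.one_lt_card.1 h2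
            have hcase : ∀ u v : Lˣ, u ∈ Low ev e ∪ Top ev (e + 1) →
                v ∈ Low ev e ∪ Top ev (e + 1) → (u ∈ Low ev e ∨ v ∈ Low ev e) →
                symbol (Function.update (Function.update y i u) j v) ∈
                  R ev (n + 1) (e + 1) := by
              intro u v hu hv hlow
              have hTout : ∀ t, t ∉ J →
                  Function.update (Function.update y i u) j v t ∈ Low ev e := by
                intro t ht
                have hti : t ≠ i := fun h => ht (by rw [h]; exact hi)
                have htj : t ≠ j := fun h => ht (by rw [h]; exact hj)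
                rw [Function.update_of_ne htj, Function.update_of_ne hti]
                exact hout t ht
              have hTin : ∀ t, t ∈ J → Function.update (Function.update y i u) j v t ∈
                  Low ev e ∪ Top ev (e + 1) := by
                intro t ht
                by_cases htj : t = j
                · rw [htj, Function.update_self]; exact hv
                · rw [Function.update_of_ne htj]
                  by_cases hti : t = i
                  · rw [hti, Function.update_self]; exact hu
                  · rw [Function.update_of_ne hti]; exact hin t ht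
              rcases hlow with hl | hl
              · exact upd i hi _ (by
                  rw [Function.update_of_ne hij, Function.update_self]; exact hl) hTout hTin
              · exact upd j hj _ (by rw [Function.update_self]; exact hl) hTout hTin
            rcases hin i hi with hiL | hiT
            · have h5 := hcase (y i) (y j) (Or.inl hiL) (hin j hj) (Or.inl hiL)
              rwa [Function.update_eq_self, Function.update_eq_self] at h5
            rcases hin j hj with hjL | hjT
            · have h5 := hcase (y i) (y j) (Or.inr hiT) (Or.inl hjL) (Or.inr hjL)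
              rwa [Function.update_eq_self, Function.update_eq_self] at h5
            obtain ⟨π₁, hm₁, hi₁, hd₁, hy₁⟩ := hiT
            obtain ⟨π₂, hm₂, hi₂, hd₂, hy₂⟩ := hjT
            have hφ := isSteinbergSymbol_slots' y i j hij
            have hself : symbol y =
                symbol (Function.update (Function.update y i (vu ev π₁)) j (vu ev π₂)) := by
              rw [← hy₁, Function.update_eq_self, ← hy₂, Function.update_eq_self]
            have hP₁top : vu ev π₁ ∈ Low ev e ∪ Top ev (e + 1) :=
              Or.inr ⟨π₁, hm₁, hi₁, hd₁, rfl⟩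
            have hP₂top : vu ev π₂ ∈ Low ev e ∪ Top ev (e + 1) :=
              Or.inr ⟨π₂, hm₂, hi₂, hd₂, rfl⟩
            have hC := hcase (vu ev π₁) (-1) hP₁top (Or.inl hneg) (Or.inr hneg)
            by_cases heq : π₁ = π₂
            · rw [hself, ← heq]
              have e8 := hφ.self_self (vu ev π₁)
              rw [e8]
              exact hC
            · have hne : π₁ - π₂ ≠ 0 := sub_ne_zero.2 heq
              have hdlt : (π₁ - π₂).natDegree ≤ e := by
                have h1 : (π₁ - π₂).degree < π₁.degree := by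
                  apply degree_sub_lt_left _ hm₁.ne_zero
                  · rw [hm₁.leadingCoeff, hm₂.leadingCoeff]
                  · rw [degree_eq_natDegree hm₁.ne_zero, degree_eq_natDegree hm₂.ne_zero,
                      hd₁, hd₂]
                have h2 := natDegree_lt_natDegree hne h1
                omega
              have hc₀ : vu ev (π₁ - π₂) ∈ Low ev e := ⟨_, hne, hdlt, rfl⟩
              have hv0 : ev (π₁ - π₂) ≠ 0 := Hnz _ hne (by omega)
              have hv1 : ev π₁ ≠ 0 := Hnz _ hm₁.ne_zero (by omega)
              have hv2 : ev π₂ ≠ 0 := Hnz _ hm₂.ne_zero (by omega)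
              have hst : ((vu ev (π₁ - π₂) * (vu ev π₁)⁻¹ : Lˣ) : L) +
                  ((vu ev π₂ * (vu ev π₁)⁻¹ : Lˣ) : L) = 1 := by
                simp only [Units.val_mul, Units.val_inv_eq_inv_val, coe_vu ev hv0,
                  coe_vu ev hv1, coe_vu ev hv2]
                rw [← add_mul, ← map_add, sub_add_cancel, mul_inv_cancel₀ hv1]
              have h0 := hφ.steinberg _ _ hst
              have e1 := hφ.mul_left (vu ev (π₁ - π₂)) (vu ev π₁)⁻¹ (vu ev π₂ * (vu ev π₁)⁻¹)
              have e2 := hφ.mul_right (vu ev (π₁ - π₂)) (vu ev π₂) (vu ev π₁)⁻¹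
              have e3 := hφ.inv_right (vu ev (π₁ - π₂)) (vu ev π₁)
              have e4 := hφ.mul_right (vu ev π₁)⁻¹ (vu ev π₂) (vu ev π₁)⁻¹
              have e5 := hφ.inv_left (vu ev π₁) (vu ev π₂)
              have e6 := hφ.inv_left (vu ev π₁) (vu ev π₁)⁻¹
              have e7 := hφ.inv_right (vu ev π₁) (vu ev π₁)
              have e8 := hφ.self_self (vu ev π₁)
              rw [e1, e2, e3, e4, e5, e6, e7, e8] at h0
              have hA := hcase (vu ev (π₁ - π₂)) (vu ev π₂) (Or.inl hc₀) hP₂top (Or.inl hc₀)
              have hB := hcase (vu ev (π₁ - π₂)) (vu ev π₁) (Or.inl hc₀) hP₁top (Or.inl hc₀)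
              rw [hself]
              have hX : symbol (Function.update (Function.update y i (vu ev π₁)) j (vu ev π₂)) =
                  symbol (Function.update (Function.update y i (vu ev (π₁ - π₂))) j (vu ev π₂)) +
                  -symbol (Function.update (Function.update y i (vu ev (π₁ - π₂))) j (vu ev π₁)) +
                  - -symbol (Function.update (Function.update y i (vu ev π₁)) j (-1)) := by
                calc symbol (Function.update (Function.update y i (vu ev π₁)) j (vu ev π₂))
                    = symbol (Function.update (Function.update y i (vu ev π₁)) j (vu ev π₂)) +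
                      (symbol (Function.update (Function.update y i (vu ev (π₁ - π₂))) j
                        (vu ev π₂)) +
                      -symbol (Function.update (Function.update y i (vu ev (π₁ - π₂))) j
                        (vu ev π₁)) +
                      (-symbol (Function.update (Function.update y i (vu ev π₁)) j (vu ev π₂)) +
                      - -symbol (Function.update (Function.update y i (vu ev π₁)) j (-1)))) := by
                        rw [h0, add_zero]
                  _ = _ := by abel
              rw [hX]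
              exact AddSubgroup.add_mem _ (AddSubgroup.add_mem _ hA (AddSubgroup.neg_mem _ hB))
                (AddSubgroup.neg_mem _ (AddSubgroup.neg_mem _ hC))
      refine symbol_mem_of_closure (Low ev e ∪ Top ev (e + 1)) _ ?_ y (fun j => ?_)
      · intro y' hy'
        exact key (n + 1) y' Finset.univ (by simp)
          (fun t ht => absurd (Finset.mem_univ t) ht) (fun t _ => hy' t)
      · obtain ⟨f, hf0, hfd, hfy⟩ := hy j
        rw [hfy]
        exact vu_mem_closure ev D Hnz e he f hf0 hfd

end Abstract

section Simple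

variable {F : Type u} [Field F] {E : Type u} [Field E] [Algebra F E]

theorem NFp_to_statement (a : E) {N D : ℕ}
    (Hnz : ∀ g : F[X], g ≠ 0 → g.natDegree ≤ D → aeval a g ≠ 0)
    (y : Fin N → Eˣ) (hy : NFp (aeval a : F[X] →ₐ[F] E) N D y) :
    ∃ (m : ℕ) (hm : m ≤ N) (x : K F (N - m)) (π : Fin m → F[X])
      (hπ : ∀ i, aeval a (π i) ≠ 0),
      (∀ i, (π i).Monic ∧ Irreducible (π i) ∧ (π i).natDegree ≤ D) ∧
      (∀ i j : Fin m, i < j → (π i).natDegree < (π j).natDegree) ∧
      symbol y = MilK.cast E (Nat.sub_add_cancel hm)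
        (MilK.mul E (N - m) m (MilK.map (algebraMap F E) (N - m) x)
          (MilK.symbol (fun i => Units.mk0 (aeval a (π i)) (hπ i)))) := by
  obtain ⟨m', f, hmN, hyf, hc, hp, hs⟩ := hy
  have hm : N - m' ≤ N := Nat.sub_le _ _
  have hpos1 : ∀ i : Fin (N - (N - m')), i.val < N := fun i => by
    have := i.isLt
    omega
  have hpos1' : ∀ i : Fin (N - (N - m')), i.val < m' := fun i => by
    have := i.isLt
    omega
  have hcex : ∀ i : Fin (N - (N - m')), ∃ c : Fˣ, f ⟨i.val, hpos1 i⟩ = C ((c : Fˣ) : F) :=
    fun i => hc ⟨i.val, hpos1 i⟩ (hpos1' i)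
  choose c hcc using hcex
  have hpos2 : ∀ i : Fin (N - m'), (N - (N - m')) + i.val < N := fun i => by
    have := i.isLt
    omega
  have hge2 : ∀ i : Fin (N - m'), m' ≤ (N - (N - m')) + i.val := fun i => by omega
  have hπne : ∀ i : Fin (N - m'), aeval a (f ⟨(N - (N - m')) + i.val, hpos2 i⟩) ≠ 0 :=
    fun i => Hnz _ (hp ⟨_, hpos2 i⟩ (hge2 i)).1.ne_zero (hp ⟨_, hpos2 i⟩ (hge2 i)).2.2
  refine ⟨N - m', hm, symbol c, fun i => f ⟨(N - (N - m')) + i.val, hpos2 i⟩, hπne,
    fun i => hp ⟨_, hpos2 i⟩ (hge2 i), ?_, ?_⟩
  · intro i j hij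
    refine hs ⟨_, hpos2 i⟩ ⟨_, hpos2 j⟩ (hge2 i) ?_
    show (N - (N - m')) + i.val < (N - (N - m')) + j.val
    have := Fin.lt_def.1 hij
    omega
  · rw [map_symbol, mul_symbol_symbol, cast_symbol]
    congr 1
    funext t
    rw [Function.comp_apply]
    by_cases ht : t.val < N - (N - m')
    · have e1 : Fin.cast (Nat.sub_add_cancel hm).symm t =
          Fin.castAdd (N - m') ⟨t.val, ht⟩ := Fin.ext rfl
      have h5 : f t = C ((c ⟨t.val, ht⟩ : Fˣ) : F) := hcc ⟨t.val, ht⟩
      rw [e1, Fin.append_left, hyf t, h5, vu_C]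
    · have hge : N - (N - m') ≤ t.val := not_lt.1 ht
      have hlt' : t.val - (N - (N - m')) < N - m' := by
        have := t.isLt
        omega
      have e2 : Fin.cast (Nat.sub_add_cancel hm).symm t =
          Fin.natAdd (N - (N - m')) ⟨t.val - (N - (N - m')), hlt'⟩ := by
        apply Fin.ext
        show t.val = (N - (N - m')) + (t.val - (N - (N - m')))
        omega
      rw [e2, Fin.append_right, hyf t, ← vu_of_ne (aeval a : F[X] →ₐ[F] E)]
      congr 2
      apply Fin.ext
      show t.val = (N - (N - m')) + (t.val - (N - (N - m')))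
      omega

/-- **The general Bass--Tate lemma.** -/
theorem bassTate_general [FiniteDimensional F E] (a : E)
    (hgen : IntermediateField.adjoin F ({a} : Set E) = ⊤)
    (dd : ℕ) (hdd : Module.finrank F E = dd) (n : ℕ) :
    (⊤ : AddSubgroup (MilK.K E n)) = AddSubgroup.closure {z : MilK.K E n |
      ∃ (m : ℕ) (hm : m ≤ n) (x : MilK.K F (n - m)) (π : Fin m → Polynomial F)
        (hπ : ∀ i, Polynomial.aeval a (π i) ≠ 0),
        (∀ i, (π i).Monic ∧ Irreducible (π i) ∧ (π i).natDegree ≤ dd - 1) ∧
        (∀ i j : Fin m, i < j → (π i).natDegree < (π j).natDegree) ∧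
        z = MilK.cast E (Nat.sub_add_cancel hm)
          (MilK.mul E (n - m) m (MilK.map (algebraMap F E) (n - m) x)
            (MilK.symbol (fun i => Units.mk0 (Polynomial.aeval a (π i)) (hπ i))))} := by
  symm
  rw [eq_top_iff]
  intro z _
  have hint : IsIntegral F a := IsIntegral.of_finite F a
  have hdeg : (minpoly F a).natDegree = dd := by
    rw [← hdd]
    exact (Field.primitive_element_iff_minpoly_natDegree_eq F a).1 hgen
  have hdpos : 0 < dd := by
    rw [← hdeg]
    exact minpoly.natDegree_pos hint
  have Hnz : ∀ g : F[X], g ≠ 0 → g.natDegree ≤ dd - 1 →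
      (aeval a : F[X] →ₐ[F] E) g ≠ 0 := by
    intro g hg0 hgd h0
    have h1 := minpoly.degree_le_of_ne_zero F a hg0 h0
    have h2 := natDegree_le_natDegree h1
    omega
  have hrange : ∀ z : E, ∃ g : F[X], aeval a g = z := by
    intro z
    have h1 : z ∈ (IntermediateField.adjoin F ({a} : Set E)).toSubalgebra := by
      rw [IntermediateField.mem_toSubalgebra, hgen]
      exact IntermediateField.mem_top
    rw [IntermediateField.adjoin_simple_toSubalgebra_of_isAlgebraic hint.isAlgebraic,
      Algebra.adjoin_singleton_eq_range_aeval] at h1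
    exact h1
  have hlow : ∀ y : Eˣ, y ∈ Low (aeval a : F[X] →ₐ[F] E) (dd - 1) := by
    intro y
    obtain ⟨g₀, hg₀⟩ := hrange (y : E)
    have hlt := natDegree_modByMonic_lt g₀ (minpoly.monic hint) (minpoly.ne_one F a)
    have hval : aeval a (g₀ %ₘ minpoly F a) = (y : E) := by
      rw [aeval_modByMonic_eq_self_of_root (minpoly.aeval F a), hg₀]
    have hne : g₀ %ₘ minpoly F a ≠ 0 := by
      intro h
      rw [h, map_zero] at hval
      exact y.ne_zero hval.symm
    refine ⟨g₀ %ₘ minpoly F a, hne, by omega, Units.ext ?_⟩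
    rw [coe_vu _ (by rw [hval]; exact y.ne_zero), hval]
  refine mem_of_forall_symbol _ (fun y => ?_) z
  have h1 := low_le_R (aeval a : F[X] →ₐ[F] E) (dd - 1) Hnz (dd - 1) le_rfl n y
    (fun j => hlow (y j))
  have hle : R (aeval a : F[X] →ₐ[F] E) n (dd - 1) ≤ AddSubgroup.closure {z : MilK.K E n |
      ∃ (m : ℕ) (hm : m ≤ n) (x : MilK.K F (n - m)) (π : Fin m → Polynomial F)
        (hπ : ∀ i, Polynomial.aeval a (π i) ≠ 0),
        (∀ i, (π i).Monic ∧ Irreducible (π i) ∧ (π i).natDegree ≤ dd - 1) ∧
        (∀ i j : Fin m, i < j → (π i).natDegree < (π j).natDegree) ∧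
        z = MilK.cast E (Nat.sub_add_cancel hm)
          (MilK.mul E (n - m) m (MilK.map (algebraMap F E) (n - m) x)
            (MilK.symbol (fun i => Units.mk0 (Polynomial.aeval a (π i)) (hπ i))))} := by
    unfold R
    rw [AddSubgroup.closure_le]
    rintro z ⟨y, hy, rfl⟩
    exact AddSubgroup.subset_closure (NFp_to_statement a Hnz y hy)
  exact hle h1

end Simple

end Groth.Agent.Lib.Lead.MilK12
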