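/-
Lib/Lead/MilK2.lean -- Milnor K-theory of a discretely valued field: lifting symbols from the
residue field modulo a subgroup containing the symbols with an entry in 1 + m; the kernel of the
tame symbol.
-/
import Groth.Agent.Lib.Lead.MilK1

set_option autoImplicit false
universe u v

namespace Groth.Agent.Lib.Lead.MilK2

open MilK
open Groth.Agent.Lib.Helper20.MilKLemmas (IsSteinbergSymbol isSteinbergSymbol_slots
  symbol_update_mul)
open Groth.Agent.Lib.Lead.MilK1

section DVR

variable (A : Type u) [CommRing A] [IsDomain A] [IsDiscreteValuationRing A]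
  (L : Type v) [Field L] [Algebra A L] [IsFractionRing A L]

/-- `V` contains all symbols having an entry in `1 + m`. -/
def ContainsOneUnits {N : ℕ} (V : AddSubgroup (K L N)) : Prop :=
  ∀ (y : Fin N → Lˣ) (k : Fin N) (w : Aˣ), IsLocalRing.residue A (w : A) = 1 →
    y k = unitToFrac A L w → symbol y ∈ V

theorem containsOneUnits_U (N : ℕ) : ContainsOneUnits A L (U A L N) :=
  fun y k w hw hy => symbol_mem_U_of_residue_one A L y k w hw hy

theorem unitResidue_surjective : Function.Surjective (unitResidue A) := by
  intro a
  obtain ⟨b, hb⟩ := IsLocalRing.residue_surjective (a : IsLocalRing.ResidueField A)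
  have hbu : IsUnit b := by
    rw [← IsLocalRing.residue_ne_zero_iff_isUnit, hb]
    exact a.ne_zero
  refine ⟨hbu.unit, Units.ext ?_⟩
  show IsLocalRing.residue A (hbu.unit : A) = a
  rw [IsUnit.unit_spec, hb]

/-- A chosen section of the reduction of units. -/
noncomputable def sec (a : (IsLocalRing.ResidueField A)ˣ) : Aˣ :=
  Classical.choose (unitResidue_surjective A a)

theorem unitResidue_sec (a : (IsLocalRing.ResidueField A)ˣ) : unitResidue A (sec A a) = a :=
  Classical.choose_spec (unitResidue_surjective A a)

theorem residue_eq_one_of_unitResidue_eq_one (w : Aˣ) (h : unitResidue A w = 1) :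
    IsLocalRing.residue A (w : A) = 1 := congrArg Units.val h

theorem unitResidue_eq_one_of_residue_eq_one (w : Aˣ) (h : IsLocalRing.residue A (w : A) = 1) :
    unitResidue A w = 1 := Units.ext h

variable {A L}

theorem symbol_update_congr {N : ℕ} (V : AddSubgroup (K L N)) (hV : ContainsOneUnits A L V)
    (y : Fin N → Lˣ) (k : Fin N) (a b : Aˣ) (hab : unitResidue A a = unitResidue A b) :
    symbol (Function.update y k (unitToFrac A L a)) -
      symbol (Function.update y k (unitToFrac A L b)) ∈ V := by
  have hw : unitResidue A (b⁻¹ * a) = 1 := by rw [map_mul, map_inv, hab, inv_mul_cancel]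
  have e : unitToFrac A L a = unitToFrac A L b * unitToFrac A L (b⁻¹ * a) := by
    rw [← map_mul, mul_inv_cancel_left]
  rw [e, symbol_update_mul, add_sub_cancel_left]
  exact hV _ k (b⁻¹ * a) (residue_eq_one_of_unitResidue_eq_one A _ hw)
    (Function.update_self _ _ _)

/-- Tuples congruent modulo `1 + m` slot by slot have symbols congruent modulo `V`. -/
theorem symbol_sub_mem_of_congr {N : ℕ} (V : AddSubgroup (K L N)) (hV : ContainsOneUnits A L V)
    (J : Finset (Fin N)) :
    ∀ y y' : Fin N → Lˣ,
      (∀ k ∈ J, ∃ w : Aˣ, IsLocalRing.residue A (w : A) = 1 ∧ y' k = y k * unitToFrac A L w) →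
      (∀ k, k ∉ J → y' k = y k) → symbol y' - symbol y ∈ V := by
  classical
  induction J using Finset.induction_on with
  | empty =>
    intro y y' _ h2
    have : y' = y := funext fun k => h2 k (Finset.notMem_empty k)
    rw [this, sub_self]
    exact V.zero_mem
  | insert j J' hj ih =>
    intro y y' h1 h2
    obtain ⟨w, hw, hyw⟩ := h1 j (Finset.mem_insert_self _ _)
    have ih' := ih y (Function.update y' j (y j)) (by
      intro k hk
      have hkj : k ≠ j := by rintro rfl; exact hj hk
      rw [Function.update_of_ne hkj]
      exact h1 k (Finset.mem_insert_of_mem hk)) (by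
      intro k hk
      by_cases hkj : k = j
      · rw [hkj, Function.update_self]
      · rw [Function.update_of_ne hkj]
        exact h2 k (fun h => (Finset.mem_insert.1 h).elim hkj hk))
    have e1 : y' = Function.update (Function.update y' j (y j)) j (y j * unitToFrac A L w) := by
      rw [Function.update_idem, ← hyw, Function.update_eq_self]
    have e2 : Function.update (Function.update y' j (y j)) j (y j) =
        Function.update y' j (y j) := Function.update_idem _ _ _
    have h3 : symbol y' = symbol (Function.update y' j (y j)) +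
        symbol (Function.update (Function.update y' j (y j)) j (unitToFrac A L w)) := by
      conv_lhs => rw [e1]
      rw [symbol_update_mul, e2]
    have h4 : symbol (Function.update (Function.update y' j (y j)) j (unitToFrac A L w)) ∈ V :=
      hV _ j w hw (Function.update_self _ _ _)
    have h5 : symbol y' - symbol y = (symbol (Function.update y' j (y j)) - symbol y) +
        symbol (Function.update (Function.update y' j (y j)) j (unitToFrac A L w)) := by
      rw [h3]; abel
    rw [h5]
    exact V.add_mem ih' h4

/-- Data for lifting symbols of the residue field to symbols of `L`. -/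
structure LiftData (A : Type u) [CommRing A] [IsDomain A] [IsDiscreteValuationRing A]
    (L : Type v) [Field L] [Algebra A L] [IsFractionRing A L] (n N : ℕ) where
  E : (Fin n → Additive (IsLocalRing.ResidueField A)ˣ) → (Fin N → Lˣ)
  e : Fin n → Fin N
  he : StrictMono e
  hE : ∀ (a : Fin n → Additive (IsLocalRing.ResidueField A)ˣ) (i : Fin n)
    (z : Additive (IsLocalRing.ResidueField A)ˣ),
    E (Function.update a i z) = Function.update (E a) (e i) (unitToFrac A L (sec A z.toMul))

namespace LiftData

variable {n N : ℕ} (D : LiftData A L n N)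

theorem E_apply (a : Fin n → Additive (IsLocalRing.ResidueField A)ˣ) (i : Fin n) :
    D.E a (D.e i) = unitToFrac A L (sec A (a i).toMul) := by
  have h := D.hE a i (a i)
  rw [Function.update_eq_self] at h
  have h' := congrFun h (D.e i)
  rw [Function.update_self] at h'
  exact h'

theorem lift_add (V : AddSubgroup (K L N)) (hV : ContainsOneUnits A L V)
    (a : Fin n → Additive (IsLocalRing.ResidueField A)ˣ) (i : Fin n)
    (x y : Additive (IsLocalRing.ResidueField A)ˣ) :
    (QuotientAddGroup.mk (symbol (D.E (Function.update a i (x + y)))) : K L N ⧸ V) =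
      QuotientAddGroup.mk (symbol (D.E (Function.update a i x))) +
        QuotientAddGroup.mk (symbol (D.E (Function.update a i y))) := by
  rw [D.hE, D.hE, D.hE, ← QuotientAddGroup.mk_add, ← symbol_update_mul, ← map_mul,
    QuotientAddGroup.eq_iff_sub_mem]
  apply symbol_update_congr V hV
  rw [map_mul, unitResidue_sec, unitResidue_sec, unitResidue_sec, toMul_add]

/-- The multilinear map underlying the lifting homomorphism. -/
noncomputable def liftMulti (V : AddSubgroup (K L N)) (hV : ContainsOneUnits A L V) :
    MultilinearMap ℤ (fun _ : Fin n => Additive (IsLocalRing.ResidueField A)ˣ) (K L N ⧸ V) where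
  toFun a := QuotientAddGroup.mk (symbol (D.E a))
  map_update_add' := by
    intro inst a i x y
    have : inst = instDecidableEqFin n := Subsingleton.elim _ _
    subst this
    exact D.lift_add V hV a i x y
  map_update_smul' := by
    intro inst a i c x
    have : inst = instDecidableEqFin n := Subsingleton.elim _ _
    subst this
    let h : Additive (IsLocalRing.ResidueField A)ˣ →+ (K L N ⧸ V) :=
      AddMonoidHom.mk' (fun z => QuotientAddGroup.mk (symbol (D.E (Function.update a i z))))
        (fun x y => D.lift_add V hV a i x y)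
    exact map_zsmul h c x

theorem lift_steinberg (V : AddSubgroup (K L N)) (hV : ContainsOneUnits A L V)
    (x : Fin n → (IsLocalRing.ResidueField A)ˣ) (hx : IsSteinberg (IsLocalRing.ResidueField A) x) :
    D.liftMulti V hV (fun i => Additive.ofMul (x i)) = 0 := by
  classical
  obtain ⟨i, j, hij, hsum⟩ := hx
  show (QuotientAddGroup.mk (symbol (D.E fun i => Additive.ofMul (x i))) : K L N ⧸ V) = 0
  rw [QuotientAddGroup.eq_zero_iff]
  obtain ⟨Y, hY⟩ : ∃ Y : Fin N → Lˣ, Y = D.E fun i => Additive.ofMul (x i) := ⟨_, rfl⟩
  rw [← hY]
  have hYi : Y (D.e i) = unitToFrac A L (sec A (x i)) := by rw [hY]; exact D.E_apply _ i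
  have hYj : Y (D.e j) = unitToFrac A L (sec A (x j)) := by rw [hY]; exact D.E_apply _ j
  have hne : D.e i ≠ D.e j := (D.he hij).ne
  -- the unit W = s_i + s_j
  have hWu : IsUnit ((sec A (x i) : A) + (sec A (x j) : A)) := by
    rw [← IsLocalRing.residue_ne_zero_iff_isUnit, map_add]
    have h1 : IsLocalRing.residue A (sec A (x i) : A) = x i :=
      congrArg Units.val (unitResidue_sec A (x i))
    have h2 : IsLocalRing.residue A (sec A (x j) : A) = x j :=
      congrArg Units.val (unitResidue_sec A (x j))
    rw [h1, h2, hsum]
    exact one_ne_zero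
  obtain ⟨W, hW⟩ := hWu
  have hWres : IsLocalRing.residue A (W : A) = 1 := by
    rw [hW, map_add]
    have h1 : IsLocalRing.residue A (sec A (x i) : A) = x i :=
      congrArg Units.val (unitResidue_sec A (x i))
    have h2 : IsLocalRing.residue A (sec A (x j) : A) = x j :=
      congrArg Units.val (unitResidue_sec A (x j))
    rw [h1, h2, hsum]
  have hWinv : IsLocalRing.residue A ((W⁻¹ : Aˣ) : A) = 1 := by
    apply residue_eq_one_of_unitResidue_eq_one
    rw [map_inv, unitResidue_eq_one_of_residue_eq_one A W hWres, inv_one]
  have hφ := isSteinbergSymbol_slots Y (D.e i) (D.e j) (D.he hij)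
  have hst : ((unitToFrac A L (sec A (x i)) * unitToFrac A L W⁻¹ : Lˣ) : L) +
      ((unitToFrac A L (sec A (x j)) * unitToFrac A L W⁻¹ : Lˣ) : L) = 1 := by
    have h1 : ((unitToFrac A L (sec A (x i)) * unitToFrac A L W⁻¹ : Lˣ) : L) =
        algebraMap A L (sec A (x i) : A) * algebraMap A L ((W⁻¹ : Aˣ) : A) := rfl
    have h2 : ((unitToFrac A L (sec A (x j)) * unitToFrac A L W⁻¹ : Lˣ) : L) =
        algebraMap A L (sec A (x j) : A) * algebraMap A L ((W⁻¹ : Aˣ) : A) := rfl
    rw [h1, h2, ← add_mul, ← map_add, ← hW, ← map_mul, Units.mul_inv, map_one]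
  have h0 := hφ.steinberg _ _ hst
  rw [hφ.mul_left, hφ.mul_right, hφ.mul_right] at h0
  have e0 : Function.update (Function.update Y (D.e i) (unitToFrac A L (sec A (x i)))) (D.e j)
      (unitToFrac A L (sec A (x j))) = Y := by
    rw [← hYi, Function.update_eq_self, ← hYj, Function.update_eq_self]
  rw [e0] at h0
  have m1 : symbol (Function.update (Function.update Y (D.e i) (unitToFrac A L (sec A (x i))))
      (D.e j) (unitToFrac A L W⁻¹)) ∈ V :=
    hV _ (D.e j) W⁻¹ hWinv (Function.update_self _ _ _)
  have m2 : symbol (Function.update (Function.update Y (D.e i) (unitToFrac A L W⁻¹))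
      (D.e j) (unitToFrac A L (sec A (x j)))) ∈ V :=
    hV _ (D.e i) W⁻¹ hWinv (by rw [Function.update_of_ne hne, Function.update_self])
  have m3 : symbol (Function.update (Function.update Y (D.e i) (unitToFrac A L W⁻¹))
      (D.e j) (unitToFrac A L W⁻¹)) ∈ V :=
    hV _ (D.e j) W⁻¹ hWinv (Function.update_self _ _ _)
  have h6 : symbol Y = -(symbol (Function.update (Function.update Y (D.e i)
      (unitToFrac A L (sec A (x i)))) (D.e j) (unitToFrac A L W⁻¹)) +
      (symbol (Function.update (Function.update Y (D.e i) (unitToFrac A L W⁻¹))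
      (D.e j) (unitToFrac A L (sec A (x j)))) +
      symbol (Function.update (Function.update Y (D.e i) (unitToFrac A L W⁻¹))
      (D.e j) (unitToFrac A L W⁻¹)))) := by
    rw [eq_neg_iff_add_eq_zero, ← h0]
    abel
  rw [h6]
  exact V.neg_mem (V.add_mem m1 (V.add_mem m2 m3))

/-- The lifting homomorphism `K_n(κ) → K_N(L)/V`. -/
noncomputable def liftHom (V : AddSubgroup (K L N)) (hV : ContainsOneUnits A L V) :
    K (IsLocalRing.ResidueField A) n →+ K L N ⧸ V :=
  MilK.lift (D.liftMulti V hV) (D.lift_steinberg V hV)

theorem liftHom_symbol (V : AddSubgroup (K L N)) (hV : ContainsOneUnits A L V)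
    (x : Fin n → (IsLocalRing.ResidueField A)ˣ) :
    D.liftHom V hV (symbol x) =
      QuotientAddGroup.mk (symbol (D.E fun i => Additive.ofMul (x i))) :=
  lift_symbol _ _ x

end LiftData

variable (A L)

/-- Lifting data `{ū₁, …, ūₙ} ↦ {c, u₁, …, uₙ}`. -/
noncomputable def consData (n : ℕ) (c : Lˣ) : LiftData A L n (n + 1) where
  E a := Fin.cons c (fun k => unitToFrac A L (sec A (a k).toMul))
  e := Fin.succ
  he := Fin.strictMono_succ
  hE a i z := by
    have h : (fun k => unitToFrac A L (sec A ((Function.update a i z) k).toMul)) =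
        Function.update (fun k => unitToFrac A L (sec A (a k).toMul)) i
          (unitToFrac A L (sec A z.toMul)) := by
      funext k
      by_cases hk : k = i
      · subst hk; rw [Function.update_self, Function.update_self]
      · rw [Function.update_of_ne hk, Function.update_of_ne hk]
    rw [h, Fin.cons_update]

theorem consData_E (n : ℕ) (c : Lˣ) (a : Fin n → Additive (IsLocalRing.ResidueField A)ˣ) :
    (consData A L n c).E a = Fin.cons c (fun k => unitToFrac A L (sec A (a k).toMul)) := rfl

/-- Lifting data `{ū₁, …, ūₙ} ↦ {u₁, …, uₙ}`. -/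
noncomputable def idData (n : ℕ) : LiftData A L n n where
  E a := fun k => unitToFrac A L (sec A (a k).toMul)
  e := id
  he := strictMono_id
  hE a i z := by
    funext k
    by_cases hk : k = i
    · subst hk; rw [Function.update_self, id, Function.update_self]
    · rw [Function.update_of_ne hk, id, Function.update_of_ne hk]

theorem idData_E (n : ℕ) (a : Fin n → Additive (IsLocalRing.ResidueField A)ˣ) :
    (idData A L n).E a = fun k => unitToFrac A L (sec A (a k).toMul) := rfl

end DVR

end Groth.Agent.Lib.Lead.MilK2
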