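/-
Lib/Lead/MilK3.lean -- the tame symbol of a discretely valued field is surjective with kernel the
subgroup generated by unit symbols.
-/
import Groth.Agent.Lib.Lead.MilK2

set_option autoImplicit false
universe u v

namespace Groth.Agent.Lib.Lead.MilK3

open MilK
open Groth.Agent.Lib.Helper20.MilKLemmas (IsSteinbergSymbol isSteinbergSymbol_slots
  symbol_update_mul)
open Groth.Agent.Lib.Helper26.MilKBasic (symbol_induction tame_units_eq_zero)
open Groth.Agent.Lib.Lead.MilK1 Groth.Agent.Lib.Lead.MilK2

variable (A : Type u) [CommRing A] [IsDomain A] [IsDiscreteValuationRing A]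
  (L : Type v) [Field L] [Algebra A L] [IsFractionRing A L]

/-- A subgroup containing all symbols is everything. -/
theorem mem_of_forall_symbol {F : Type u} [Field F] {n : ℕ} (S : AddSubgroup (K F n))
    (hS : ∀ y : Fin n → Fˣ, symbol y ∈ S) (z : K F n) : z ∈ S :=
  symbol_induction S.zero_mem (fun _ _ => S.add_mem) (fun _ => S.neg_mem) hS z

/-- To show that a subgroup of `K_n(L)` is everything it suffices to treat symbols of units and
symbols with exactly one entry equal to the uniformizer, in slot `0`, the others being units. -/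
theorem mem_of_units_and_pi (ϖ : A) (hϖ : Irreducible ϖ) {n : ℕ} (S : AddSubgroup (K L n))
    (h0 : ∀ y : Fin n → Lˣ, (∀ k, y k ∈ Set.range (unitToFrac A L)) → symbol y ∈ S)
    (h1 : ∀ (y : Fin n → Lˣ) (k₀ : Fin n), (k₀ : ℕ) = 0 → y k₀ = unitFrac A L ϖ hϖ.ne_zero →
      (∀ k, k ≠ k₀ → y k ∈ Set.range (unitToFrac A L)) → symbol y ∈ S)
    (z : K L n) : z ∈ S := by
  classical
  refine mem_of_forall_symbol S (fun y => ?_) z
  refine slot_reduction (gens A L ϖ hϖ) (closure_gens A L ϖ hϖ) S Finset.univ y ?_ y
    (fun i hi => absurd (Finset.mem_univ i) hi)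
  intro y' _ hy'
  refine reduce_pi A L ϖ hϖ S (fun _ => True) (fun _ _ _ _ => trivial) (fun y _ h => h0 y h) ?_
    y' trivial (fun k => hy' k (Finset.mem_univ k))
  intro y k₀ _ hk₀ hothers
  by_cases hk0 : (k₀ : ℕ) = 0
  · exact h1 y k₀ hk0 hk₀ hothers
  · -- swap slot k₀ with slot 0
    have hn : 0 < n := Nat.pos_of_ne_zero (fun h => by subst h; exact k₀.elim0)
    obtain ⟨z0, hz0⟩ : ∃ z0 : Fin n, (z0 : ℕ) = 0 := ⟨⟨0, hn⟩, rfl⟩
    have hne : z0 ≠ k₀ := fun h => hk0 (h ▸ hz0)
    rw [symbol_swap y z0 k₀ hne]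
    apply S.neg_mem
    apply h1 _ z0 hz0
    · rw [Function.update_of_ne hne, Function.update_self]
      exact hk₀
    · intro k hk
      by_cases hkk : k = k₀
      · subst hkk
        rw [Function.update_self]
        exact hothers z0 hne
      · rw [Function.update_of_ne hkk, Function.update_of_ne hk]
        exact hothers k hkk

variable {A L}

/-- The tame symbol composed with the lifting map is the projection modulo unit symbols. -/
theorem lift_tame_eq (n : ℕ) (d : K L (n + 1) →+ K (IsLocalRing.ResidueField A) n)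
    (hd : IsTameSymbol A L n d) (ϖ : A) (hϖ : Irreducible ϖ) (x : K L (n + 1)) :
    (consData A L n (unitFrac A L ϖ hϖ.ne_zero)).liftHom (U A L (n + 1))
      (containsOneUnits_U A L (n + 1)) (d x) = QuotientAddGroup.mk x := by
  classical
  obtain ⟨ψ, hψ⟩ : ∃ ψ, ψ = (consData A L n (unitFrac A L ϖ hϖ.ne_zero)).liftHom (U A L (n + 1))
      (containsOneUnits_U A L (n + 1)) := ⟨_, rfl⟩
  rw [← hψ]
  have hmem : x ∈ AddMonoidHom.eqLocus (ψ.comp d) (QuotientAddGroup.mk' (U A L (n + 1))) := by
    refine mem_of_units_and_pi A L ϖ hϖ _ ?_ ?_ x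
    · intro y hall
      choose u hu using hall
      have hy : y = fun k => unitToFrac A L (u k) := funext fun k => (hu k).symm
      show ψ (d (symbol y)) = QuotientAddGroup.mk (symbol y)
      have h1 : d (symbol y) = 0 := by rw [hy]; exact tame_units_eq_zero A L n d hd u
      have h2 : symbol y ∈ U A L (n + 1) := by
        rw [hy]; exact AddSubgroup.subset_closure ⟨u, rfl⟩
      rw [h1, map_zero, eq_comm, QuotientAddGroup.eq_zero_iff]
      exact h2
    · intro y k₀ hk0 hk₀ hothers
      have hk₀0 : k₀ = 0 := Fin.ext hk0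
      subst hk₀0
      have hex : ∀ i : Fin n, ∃ u : Aˣ, unitToFrac A L u = y i.succ :=
        fun i => hothers i.succ (Fin.succ_ne_zero i)
      choose u hu using hex
      have hy : y = Fin.cons (unitFrac A L ϖ hϖ.ne_zero) (fun i => unitToFrac A L (u i)) := by
        funext k
        refine Fin.cases ?_ (fun i => ?_) k
        · rw [Fin.cons_zero]; exact hk₀
        · rw [Fin.cons_succ]; exact (hu i).symm
      show ψ (d (symbol y)) = QuotientAddGroup.mk (symbol y)
      have h1 : d (symbol y) = symbol fun i => unitResidue A (u i) := by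
        rw [hy]; exact hd ϖ hϖ u
      rw [h1, hψ, LiftData.liftHom_symbol, QuotientAddGroup.eq_iff_sub_mem]
      refine symbol_sub_mem_of_congr (U A L (n + 1)) (containsOneUnits_U A L (n + 1)) Finset.univ
        y _ ?_ (fun k hk => absurd (Finset.mem_univ k) hk)
      intro k _
      refine Fin.cases ?_ (fun i => ?_) k
      · refine ⟨1, by simp, ?_⟩
        rw [consData_E, Fin.cons_zero, map_one, mul_one, hk₀]
      · refine ⟨(u i)⁻¹ * sec A (unitResidue A (u i)), ?_, ?_⟩
        · apply residue_eq_one_of_unitResidue_eq_one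
          rw [map_mul, map_inv, unitResidue_sec, inv_mul_cancel]
        · rw [consData_E, Fin.cons_succ, ← hu i, ← map_mul, mul_inv_cancel_left]
          rfl
  exact hmem

variable (A L)

/-- The tame symbol is surjective, and its kernel is generated by the symbols of units. -/
theorem tame_surjective_and_ker (n : ℕ) (d : K L (n + 1) →+ K (IsLocalRing.ResidueField A) n)
    (hd : IsTameSymbol A L n d) :
    Function.Surjective d ∧ d.ker = U A L (n + 1) := by
  classical
  obtain ⟨ϖ, hϖ⟩ := IsDiscreteValuationRing.exists_irreducible A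
  refine ⟨?_, ?_⟩
  · intro y
    refine symbol_induction (p := fun y => ∃ x, d x = y) ⟨0, map_zero d⟩ ?_ ?_ ?_ y
    · rintro a b ⟨x, rfl⟩ ⟨x', rfl⟩
      exact ⟨x + x', map_add d x x'⟩
    · rintro a ⟨x, rfl⟩
      exact ⟨-x, map_neg d x⟩
    · intro x
      refine ⟨symbol (Fin.cons (unitFrac A L ϖ hϖ.ne_zero)
        fun i => unitToFrac A L (sec A (x i))), ?_⟩
      rw [hd ϖ hϖ (fun i => sec A (x i))]
      congr 1
      funext i
      exact unitResidue_sec A (x i)
  · apply le_antisymm
    · intro x hx
      have h := lift_tame_eq n d hd ϖ hϖ x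
      rw [AddMonoidHom.mem_ker.1 hx, map_zero, eq_comm, QuotientAddGroup.eq_zero_iff] at h
      exact h
    · unfold U
      rw [AddSubgroup.closure_le]
      rintro _ ⟨u, rfl⟩
      exact AddMonoidHom.mem_ker.2 (tame_units_eq_zero A L n d hd u)

end Groth.Agent.Lib.Lead.MilK3
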