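/-
Lib/Lead/MilK4.lean -- specialization map and tame symbol together: (s, ∂) is surjective with
kernel generated by the symbols whose first entry is in 1 + m.
-/
import Groth.Agent.Lib.Lead.MilK3

set_option autoImplicit false
universe u v

namespace Groth.Agent.Lib.Lead.MilK4

open MilK
open Groth.Agent.Lib.Helper20.MilKLemmas (IsSteinbergSymbol isSteinbergSymbol_slots
  symbol_update_mul)
open Groth.Agent.Lib.Helper26.MilKBasic (symbol_induction tame_units_eq_zero)
open Groth.Agent.Lib.Lead.MilK1 Groth.Agent.Lib.Lead.MilK2 Groth.Agent.Lib.Lead.MilK3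

variable (A : Type u) [CommRing A] [IsDomain A] [IsDiscreteValuationRing A]
  (L : Type v) [Field L] [Algebra A L] [IsFractionRing A L]

theorem unitToFrac_injective : Function.Injective (unitToFrac A L) := by
  intro a b h
  apply Units.ext
  exact IsFractionRing.injective A L (congrArg Units.val h)

/-- The subgroup generated by the symbols whose first entry is in `1 + m`. -/
def U1 (n : ℕ) : AddSubgroup (K L (n + 1)) :=
  AddSubgroup.closure {z | ∃ (u₀ : Aˣ) (w : Fin n → Lˣ),
    IsLocalRing.residue A (u₀ : A) = 1 ∧ z = symbol (Fin.cons (unitToFrac A L u₀) w)}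

theorem containsOneUnits_U1 (n : ℕ) : ContainsOneUnits A L (U1 A L n) := by
  intro y k w hw hy
  have key : ∀ y : Fin (n + 1) → Lˣ, y 0 = unitToFrac A L w → symbol y ∈ U1 A L n := by
    intro y hy0
    refine AddSubgroup.subset_closure ⟨w, fun i => y i.succ, hw, ?_⟩
    congr 1
    funext k
    refine Fin.cases ?_ (fun i => ?_) k
    · rw [Fin.cons_zero]; exact hy0
    · rw [Fin.cons_succ]
  by_cases hk : k = 0
  · subst hk
    exact key y hy
  · rw [symbol_swap y 0 k (Ne.symm hk)]
    apply (U1 A L n).neg_mem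
    apply key
    rw [Function.update_of_ne (Ne.symm hk), Function.update_self]
    exact hy

variable {A L}

theorem spec_units {n : ℕ} (ϖ : A) (hϖ : Irreducible ϖ)
    (s : K L n →+ K (IsLocalRing.ResidueField A) n) (hs : IsSpecMap A L ϖ hϖ n s)
    (u : Fin n → Aˣ) :
    s (symbol fun i => unitToFrac A L (u i)) = symbol fun i => unitResidue A (u i) := by
  have h := hs (fun _ => 0) u
  simp only [zpow_zero, one_mul] at h
  exact h

/-- A general evaluation of the specialization map. -/
theorem spec_eval {n : ℕ} (ϖ : A) (hϖ : Irreducible ϖ)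
    (s : K L n →+ K (IsLocalRing.ResidueField A) n) (hs : IsSpecMap A L ϖ hϖ n s)
    (y : Fin n → Lˣ) (e : Fin n → ℤ) (u : Fin n → Aˣ)
    (hy : ∀ k, y k = unitFrac A L ϖ hϖ.ne_zero ^ e k * unitToFrac A L (u k)) :
    s (symbol y) = symbol fun i => unitResidue A (u i) := by
  have : y = fun k => unitFrac A L ϖ hϖ.ne_zero ^ e k * unitToFrac A L (u k) := funext hy
  rw [this]
  exact hs e u

/-- The specialization map kills symbols having an entry in `1 + m` in slot `0`. -/
theorem spec_eq_zero_of_residue_one {n : ℕ} (ϖ : A) (hϖ : Irreducible ϖ)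
    (s : K L (n + 1) →+ K (IsLocalRing.ResidueField A) (n + 1))
    (hs : IsSpecMap A L ϖ hϖ (n + 1) s) (u₀ : Aˣ) (hu₀ : IsLocalRing.residue A (u₀ : A) = 1)
    (x : Fin (n + 1) → Lˣ) (hx : x 0 = unitToFrac A L u₀) : s (symbol x) = 0 := by
  classical
  have hmem : symbol x ∈ s.ker := by
    refine slot_reduction (gens A L ϖ hϖ) (closure_gens A L ϖ hϖ) s.ker
      (Finset.univ.erase 0) x ?_ x (fun _ _ => rfl)
    intro y hy hyG
    have hy0 : y 0 = unitToFrac A L u₀ := by rw [hy 0 (Finset.notMem_erase 0 _), hx]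
    -- a general computation
    have hcomp : ∀ (y : Fin (n + 1) → Lˣ) (e : Fin (n + 1) → ℤ), y 0 = unitToFrac A L u₀ →
        e 0 = 0 →
        (∀ k, ∃ u : Aˣ, y k = unitFrac A L ϖ hϖ.ne_zero ^ e k * unitToFrac A L u) →
        symbol y ∈ s.ker := by
      intro y e hy0 he0 hex
      choose u hu using hex
      rw [AddMonoidHom.mem_ker, spec_eval ϖ hϖ s hs y e u hu]
      apply symbol_eq_zero_of_entry_one _ 0
      have h0 := hu 0
      rw [he0, zpow_zero, one_mul, hy0] at h0
      rw [← unitToFrac_injective A L h0]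
      exact unitResidue_eq_one_of_residue_eq_one A u₀ hu₀
    refine reduce_pi A L ϖ hϖ s.ker (fun y => y 0 = unitToFrac A L u₀) ?_ ?_ ?_ y hy0 ?_
    · intro y k hPy hk
      have hk0 : k ≠ 0 := by
        rintro rfl
        rw [hPy] at hk
        exact unitFrac_ne_unitToFrac A L ϖ hϖ u₀ hk.symm
      show Function.update y k (-1) 0 = _
      rw [Function.update_of_ne hk0.symm]
      exact hPy
    · intro y hPy hall
      refine hcomp y (fun _ => 0) hPy rfl ?_
      intro k
      obtain ⟨u, hu⟩ := hall k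
      exact ⟨u, by rw [zpow_zero, one_mul, hu]⟩
    · intro y k₀ hPy hk₀ hothers
      have hk0 : k₀ ≠ 0 := by
        rintro rfl
        rw [hPy] at hk₀
        exact unitFrac_ne_unitToFrac A L ϖ hϖ u₀ hk₀.symm
      refine hcomp y (fun k => if k = k₀ then 1 else 0) hPy (if_neg hk0.symm) ?_
      intro k
      by_cases hk : k = k₀
      · refine ⟨1, ?_⟩
        rw [if_pos hk, zpow_one, map_one, mul_one, hk, hk₀]
      · obtain ⟨u, hu⟩ := hothers k hk
        exact ⟨u, by rw [if_neg hk, zpow_zero, one_mul, hu]⟩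
    · intro k
      by_cases hk : k = 0
      · rw [hk, hy0]; exact Or.inr ⟨u₀, rfl⟩
      · exact hyG k (Finset.mem_erase.2 ⟨hk, Finset.mem_univ _⟩)
  exact AddMonoidHom.mem_ker.1 hmem

/-- The specialization map kills `{ϖ, u₁, …, uₙ}`. -/
theorem spec_cons_pi {n : ℕ} (ϖ : A) (hϖ : Irreducible ϖ)
    (s : K L (n + 1) →+ K (IsLocalRing.ResidueField A) (n + 1))
    (hs : IsSpecMap A L ϖ hϖ (n + 1) s) (u : Fin n → Aˣ) :
    s (symbol (Fin.cons (unitFrac A L ϖ hϖ.ne_zero) fun i => unitToFrac A L (u i))) = 0 := by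
  rw [spec_eval ϖ hϖ s hs _ (Fin.cons 1 fun _ => 0) (Fin.cons 1 u)]
  · apply symbol_eq_zero_of_entry_one _ 0
    rw [Fin.cons_zero, map_one]
  · intro k
    refine Fin.cases ?_ (fun i => ?_) k
    · rw [Fin.cons_zero, Fin.cons_zero, Fin.cons_zero, zpow_one, map_one, mul_one]
    · rw [Fin.cons_succ, Fin.cons_succ, Fin.cons_succ, zpow_zero, one_mul]

variable (A L)

theorem spec_tame (n : ℕ) (d : K L (n + 1) →+ K (IsLocalRing.ResidueField A) n)
    (hd : IsTameSymbol A L n d) (ϖ : A) (hϖ : Irreducible ϖ)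
    (s : K L (n + 1) →+ K (IsLocalRing.ResidueField A) (n + 1))
    (hs : IsSpecMap A L ϖ hϖ (n + 1) s) :
    Function.Surjective (fun x : K L (n + 1) => (s x, d x)) ∧
      ∀ x : K L (n + 1), (s x = 0 ∧ d x = 0) ↔ x ∈ U1 A L n := by
  classical
  have hker := (tame_surjective_and_ker A L n d hd).2
  refine ⟨?_, ?_⟩
  · -- surjectivity
    have hT : ∀ p : K (IsLocalRing.ResidueField A) (n + 1) × K (IsLocalRing.ResidueField A) n,
        p ∈ (s.prod d).range := by
      have h1 : ∀ a : K (IsLocalRing.ResidueField A) (n + 1),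
          a ∈ (s.prod d).range.comap (AddMonoidHom.inl _ _) := by
        intro a
        refine mem_of_forall_symbol _ (fun x => ?_) a
        rw [AddSubgroup.mem_comap]
        refine ⟨symbol fun i => unitToFrac A L (sec A (x i)), ?_⟩
        rw [AddMonoidHom.prod_apply, spec_units ϖ hϖ s hs,
          tame_units_eq_zero A L n d hd (fun i => sec A (x i))]
        simp only [unitResidue_sec, AddMonoidHom.inl_apply]
      have h2 : ∀ b : K (IsLocalRing.ResidueField A) n,
          b ∈ (s.prod d).range.comap (AddMonoidHom.inr _ _) := by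
        intro b
        refine mem_of_forall_symbol _ (fun x => ?_) b
        rw [AddSubgroup.mem_comap]
        refine ⟨symbol (Fin.cons (unitFrac A L ϖ hϖ.ne_zero)
          fun i => unitToFrac A L (sec A (x i))), ?_⟩
        rw [AddMonoidHom.prod_apply, spec_cons_pi ϖ hϖ s hs, hd ϖ hϖ (fun i => sec A (x i))]
        simp only [unitResidue_sec, AddMonoidHom.inr_apply]
      rintro ⟨a, b⟩
      have h3 := (s.prod d).range.add_mem (AddSubgroup.mem_comap.1 (h1 a))
        (AddSubgroup.mem_comap.1 (h2 b))
      simpa using h3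
    intro p
    obtain ⟨x, hx⟩ := hT p
    exact ⟨x, hx⟩
  · intro x
    constructor
    · rintro ⟨hsx, hdx⟩
      have hxU : x ∈ U A L (n + 1) := by rw [← hker]; exact AddMonoidHom.mem_ker.2 hdx
      have key : ∀ z, z ∈ U A L (n + 1) →
          (idData A L (n + 1)).liftHom (U1 A L n) (containsOneUnits_U1 A L n) (s z) =
            QuotientAddGroup.mk z := by
        intro z hz
        induction hz using AddSubgroup.closure_induction with
        | mem z hz =>
          obtain ⟨u, rfl⟩ := hz
          rw [spec_units ϖ hϖ s hs, LiftData.liftHom_symbol, QuotientAddGroup.eq_iff_sub_mem]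
          refine symbol_sub_mem_of_congr (U1 A L n) (containsOneUnits_U1 A L n) Finset.univ
            _ _ ?_ (fun k hk => absurd (Finset.mem_univ k) hk)
          intro k _
          refine ⟨(u k)⁻¹ * sec A (unitResidue A (u k)), ?_, ?_⟩
          · apply residue_eq_one_of_unitResidue_eq_one
            rw [map_mul, map_inv, unitResidue_sec, inv_mul_cancel]
          · rw [idData_E, ← map_mul, mul_inv_cancel_left]
            rfl
        | zero => rw [map_zero, map_zero]; rfl
        | add a b _ _ ha hb => rw [map_add, map_add, ha, hb]; rfl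
        | neg a _ ha => rw [map_neg, map_neg, ha]; rfl
      have h := key x hxU
      rw [hsx, map_zero, eq_comm, QuotientAddGroup.eq_zero_iff] at h
      exact h
    · intro hx
      have hle : U1 A L n ≤ s.ker ⊓ d.ker := by
        unfold U1
        rw [AddSubgroup.closure_le]
        rintro _ ⟨u₀, w, hu₀, rfl⟩
        refine ⟨?_, ?_⟩
        · exact AddMonoidHom.mem_ker.2
            (spec_eq_zero_of_residue_one ϖ hϖ s hs u₀ hu₀ _ (Fin.cons_zero _ _))
        · rw [hker]
          exact symbol_mem_U_of_residue_one A L _ 0 u₀ hu₀ (Fin.cons_zero _ _)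
      obtain ⟨h1, h2⟩ := hle hx
      exact ⟨AddMonoidHom.mem_ker.1 h1, AddMonoidHom.mem_ker.1 h2⟩

end Groth.Agent.Lib.Lead.MilK4
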