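import Mathlib
import Groth.Prelude.Def_ModSt
import Groth.Agent.Lib.Helper10.StkSub
import Groth.Agent.Lib.Helper17.FibreFlat
import Groth.Agent.Lib.Helper17.PbFinite
import Groth.Agent.Lib.Helper17.PbFlatOver

/-!
# The category of modules on base changes is fibred in groupoids (lead)

* `isCart_unit`: the unit of the pullback/pushforward adjunction is a cartesian comparison map.
* `IsCart.isoPullback`: a cartesian comparison map identifies the source module with the pullback.
* `isFibGrpd_fam`: `ModSt.Fam f` is fibred in groupoids.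
* `isCohObj_of_hom`: the source of a morphism to a flat finitely presented object is one.
* `isFibGrpd_coh`: `ModSt.Coh f` is fibred in groupoids.
-/

set_option autoImplicit false
universe u
open CategoryTheory CategoryTheory.Limits AlgebraicGeometry Opposite

namespace Groth.Agent.Lib.Lead.ModStFib

open ModSt

section Cart

variable {Y Z W : Scheme.{u}}

theorem isCart_unit (h : Y ⟶ Z) (N : Z.Modules) :
    IsCart h ((Scheme.Modules.pullbackPushforwardAdjunction h).unit.app N) := by
  intro M'
  have heq : (fun v : (Scheme.Modules.pullback h).obj N ⟶ M' =>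
      (Scheme.Modules.pullbackPushforwardAdjunction h).unit.app N ≫
        (Scheme.Modules.pushforward h).map v) =
      ((Scheme.Modules.pullbackPushforwardAdjunction h).homEquiv N M') := by
    funext v
    rw [Adjunction.homEquiv_unit]
  rw [heq]
  exact Equiv.bijective _

/-- the adjoint of a comparison map. -/
noncomputable def adj (h : Y ⟶ Z) {N : Z.Modules} {M : Y.Modules}
    (c : N ⟶ (Scheme.Modules.pushforward h).obj M) : (Scheme.Modules.pullback h).obj N ⟶ M :=
  ((Scheme.Modules.pullbackPushforwardAdjunction h).homEquiv N M).symm c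

theorem isIso_adj {h : Y ⟶ Z} {N : Z.Modules} {M : Y.Modules}
    {c : N ⟶ (Scheme.Modules.pushforward h).obj M} (hc : IsCart h c) : IsIso (adj h c) := by
  apply isIso_of_coyoneda_map_bijective
  intro T
  have heq : (fun x : M ⟶ T => adj h c ≫ x) =
      ((Scheme.Modules.pullbackPushforwardAdjunction h).homEquiv N T).symm ∘
        (fun v : M ⟶ T => c ≫ (Scheme.Modules.pushforward h).map v) := by
    funext v
    simp only [Function.comp_apply, adj]
    rw [Adjunction.homEquiv_naturality_right_symm]
  rw [heq]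
  exact (Equiv.bijective _).comp (hc T)

/-- a cartesian comparison map identifies the source with the pullback. -/
noncomputable def IsCart.isoPullback {h : Y ⟶ Z} {N : Z.Modules} {M : Y.Modules}
    {c : N ⟶ (Scheme.Modules.pushforward h).obj M} (hc : IsCart h c) :
    (Scheme.Modules.pullback h).obj N ≅ M :=
  haveI := isIso_adj hc
  asIso (adj h c)

/-- Two out of three for cartesian comparison maps: the unique factorisation of a cartesian map
through a cartesian map is cartesian. -/
theorem exists_unique_factor {h₁ : Y ⟶ Z} {h₂ : Z ⟶ W} {P : W.Modules} {N : Z.Modules}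
    {M : Y.Modules} {c₂ : P ⟶ (Scheme.Modules.pushforward h₂).obj N} (hc₂ : IsCart h₂ c₂)
    {c : P ⟶ (Scheme.Modules.pushforward (h₁ ≫ h₂)).obj M} (hc : IsCart (h₁ ≫ h₂) c) :
    ∃! c₁ : N ⟶ (Scheme.Modules.pushforward h₁).obj M,
      c₂ ≫ (Scheme.Modules.pushforward h₂).map c₁ ≫
        (Scheme.Modules.pushforwardComp h₁ h₂).hom.app M = c ∧ IsCart h₁ c₁ := by
  obtain ⟨c₁, hc₁⟩ := (hc₂ ((Scheme.Modules.pushforward h₁).obj M)).2
    (c ≫ (Scheme.Modules.pushforwardComp h₁ h₂).inv.app M)
  replace hc₁ : c₂ ≫ (Scheme.Modules.pushforward h₂).map c₁ =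
    c ≫ (Scheme.Modules.pushforwardComp h₁ h₂).inv.app M := hc₁
  have hc₁' : c₂ ≫ (Scheme.Modules.pushforward h₂).map c₁ ≫
        (Scheme.Modules.pushforwardComp h₁ h₂).hom.app M = c := by
    have := congrArg (fun t => t ≫ (Scheme.Modules.pushforwardComp h₁ h₂).hom.app M) hc₁
    simpa using this
  refine ⟨c₁, ⟨hc₁', ?_⟩, ?_⟩
  · intro M'
    -- the composite with the bijection for `c₂` is the bijection for `c`
    have hcomp : ((Scheme.Modules.pushforwardComp h₁ h₂).app M').homToEquiv ∘
        (fun w : N ⟶ (Scheme.Modules.pushforward h₁).obj M' =>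
          c₂ ≫ (Scheme.Modules.pushforward h₂).map w) ∘
        (fun v : M ⟶ M' => c₁ ≫ (Scheme.Modules.pushforward h₁).map v) =
        (fun v : M ⟶ M' => c ≫ (Scheme.Modules.pushforward (h₁ ≫ h₂)).map v) := by
      funext v
      simp only [Function.comp_apply, Iso.homToEquiv_apply, Iso.app_hom, Category.assoc,
        Functor.map_comp]
      rw [← hc₁']
      simp only [Category.assoc]
      rw [← (Scheme.Modules.pushforwardComp h₁ h₂).hom.naturality v]
      rfl
    have hb : Function.Bijective
        ((fun w : N ⟶ (Scheme.Modules.pushforward h₁).obj M' =>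
          c₂ ≫ (Scheme.Modules.pushforward h₂).map w) ∘
        (fun v : M ⟶ M' => c₁ ≫ (Scheme.Modules.pushforward h₁).map v)) := by
      have h3 := hc M'
      rw [← hcomp] at h3
      exact (Function.Bijective.of_comp_iff' (Equiv.bijective _) _).1 h3
    exact (Function.Bijective.of_comp_iff' (hc₂ _) _).1 hb
  · rintro c₁' ⟨h1, -⟩
    apply (hc₂ ((Scheme.Modules.pushforward h₁).obj M)).1
    show c₂ ≫ (Scheme.Modules.pushforward h₂).map c₁' = c₂ ≫ (Scheme.Modules.pushforward h₂).map c₁
    rw [hc₁, ← h1]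
    simp

end Cart

variable {X S : Scheme.{u}} {f : X ⟶ S}

section Lift

variable (A : Obj f) {V : Over S} (g : V ⟶ A.base)

/-- the base change of an object along a morphism of bases. -/
noncomputable def liftObj : Obj f where
  base := V
  XT := pullback A.q g.left
  p := pullback.fst A.q g.left ≫ A.p
  q := pullback.snd A.q g.left
  isPullback := by
    have h1 : IsPullback (pullback.fst A.q g.left) (pullback.snd A.q g.left) A.q g.left :=
      IsPullback.of_hasPullback _ _
    have h2 := h1.paste_horiz A.isPullback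
    rwa [Over.w g] at h2
  E := (Scheme.Modules.pullback (pullback.fst A.q g.left)).obj A.E

/-- the cartesian morphism from the base change. -/
noncomputable def liftHom : liftObj A g ⟶ A where
  base := g
  top := pullback.fst A.q g.left
  w_p := rfl
  w_q := pullback.condition
  c := (Scheme.Modules.pullbackPushforwardAdjunction (pullback.fst A.q g.left)).unit.app A.E
  cart := isCart_unit _ _

end Lift

/-- every morphism of `ModSt.Obj f` is strongly cartesian. -/
theorem sc_fam {y x : Obj f} (φ : y ⟶ x) :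
    (Obj.forget f).IsStronglyCartesian ((Obj.forget f).map φ) φ := by
  rw [Groth.Agent.Lib.Helper10.Fib.sc_map_iff]
  intro z g ψ hψ
  replace hψ : ψ.base = g ≫ φ.base := hψ
  obtain ⟨t, ht1, ht2⟩ : ∃ t : z.XT ⟶ y.XT, t ≫ φ.top = ψ.top ∧ t ≫ y.q = z.q ≫ g.left := by
    have hw : ψ.top ≫ x.q = (z.q ≫ g.left) ≫ φ.base.left := by
      rw [ψ.w_q, hψ, Category.assoc]; rfl
    exact ⟨(Obj.Hom.isPullback_top φ).lift ψ.top (z.q ≫ g.left) hw,
      (Obj.Hom.isPullback_top φ).lift_fst _ _ _, (Obj.Hom.isPullback_top φ).lift_snd _ _ _⟩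
  obtain ⟨b, tt, wp, wq, c', hc'⟩ := ψ
  dsimp only at hψ ht1
  subst hψ
  subst ht1
  obtain ⟨c₁, ⟨hc₁, hcart⟩, huniq⟩ := exists_unique_factor φ.cart hc'
  have wp1 : t ≫ y.p = z.p := by rw [← φ.w_p, ← Category.assoc]; exact wp
  let χ : z ⟶ y := ⟨g, t, wp1, ht2, c₁, hcart⟩
  refine ⟨χ, ⟨rfl, ?_⟩, ?_⟩
  · refine Obj.Hom.ext' rfl rfl fun U s => heq_of_eq ?_
    have : (χ ≫ φ).c = c' := hc₁
    rw [this]
    rfl
  · rintro χ' ⟨h1, h2⟩
    have h1' : χ'.base = g := h1
    have htop : χ'.top = t := by
      apply (Obj.Hom.isPullback_top φ).hom_ext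
      · exact congrArg Obj.Hom.top h2
      · rw [χ'.w_q, ht2, h1']
        rfl
    obtain ⟨b', t', wp', wq', c₁', hcart'⟩ := χ'
    dsimp only at h1' htop
    subst h1'
    subst htop
    have hc : c₁' = c₁ := by
      apply huniq
      refine ⟨?_, hcart'⟩
      have h3 : (Obj.Hom.comp ⟨b', t', wp', wq', c₁', hcart'⟩ φ : Obj.Hom z x) =
        ⟨b' ≫ φ.base, t' ≫ φ.top, wp, wq, c', hc'⟩ := h2
      simp only [Obj.Hom.comp, Obj.Hom.mk.injEq, heq_eq_eq, true_and] at h3
      exact h3
    subst hc
    rfl

theorem isFibGrpd_fam : FibCat.IsFibGrpd (ModSt.Fam f).p where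
  exists_lift := by
    intro x V g
    refine ⟨liftObj x g, liftHom x g, ?_⟩
    show (Obj.forget f).IsHomLift ((Obj.forget f).map (liftHom x g)) (liftHom x g)
    infer_instance
  isStronglyCartesian φ := sc_fam φ

/-- the source of a morphism to a flat finitely presented object is flat and finitely presented. -/
theorem isCohObj_of_hom {y x : Obj f} (φ : y ⟶ x) (hx : IsCohObj x) : IsCohObj y := by
  obtain ⟨hfl, hfp⟩ := hx
  have : SheafOfModules.IsFinitePresentation (R := x.XT.ringCatSheaf) x.E := hfp
  have : x.E.IsQuasicoherent := inferInstance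
  let e : (Scheme.Modules.pullback φ.top).obj x.E ≅ y.E := IsCart.isoPullback φ.cart
  refine ⟨?_, ?_⟩
  · intro pt
    refine Groth.Agent.Lib.Helper17.PbFlatOver.isFlatOverAt_of_iso _ e pt ?_
    exact Groth.Agent.Lib.Helper17.FibreFlat.isFlatOverAt_baseChange
      (Obj.Hom.isPullback_top φ) x.E pt (hfl _)
  · have h1 : SheafOfModules.IsFinitePresentation (R := y.XT.ringCatSheaf)
        ((Scheme.Modules.pullback φ.top).obj x.E) :=
      Groth.Agent.Lib.Helper17.PbFinite.isFinitePresentation_pullback φ.top x.E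
    exact (SheafOfModules.isFinitePresentation (R := y.XT.ringCatSheaf)).prop_of_iso e h1

theorem isFibGrpd_coh (f : X ⟶ S) : FibCat.IsFibGrpd (ModSt.Coh f).p :=
  Groth.Agent.Lib.Helper10.StkSub.isFibGrpd_sub (𝒳 := ModSt.Fam f) IsCohObj isFibGrpd_fam
    (fun y _ φ hx => ⟨y, Iso.refl y, isCohObj_of_hom φ hx,
      (show (ModSt.Fam f).p.IsHomLift (𝟙 ((ModSt.Fam f).p.obj y)) (𝟙 y) from inferInstance)⟩)

end Groth.Agent.Lib.Lead.ModStFib
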