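/-
Lead library: Rosenberg–Zelinsky type results.  For an automorphism `φ` of `M_n(R)`, `φ` is inner
iff the module of liftings is free; matrix action on `N^n` for an invertible module `N`.
-/
import Mathlib
import Groth.Agent.Lib.Lead.MoritaMat

set_option autoImplicit false
universe u v
open TensorProduct

namespace Groth.Agent.Lib.Lead.MoritaPic

open Groth.Agent.Lib.Lead.MoritaEnd Groth.Agent.Lib.Lead.MoritaMat

variable {R : Type u} [CommRing R] {n : ℕ}

theorem exists_liftMod_mul (φ : Matrix (Fin n) (Fin n) R ≃ₐ[R] Matrix (Fin n) (Fin n) R)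
    (l : twist (endAut φ)) (l' : twist (endAut φ).symm) (a : R)
    (hll' : ∀ x, l'.1 (l.1 x) = a • x) :
    ∃ (M : liftMod φ) (M' : Matrix (Fin n) (Fin n) R), M' * M.1 = a • 1 := by
  obtain ⟨M, hM⟩ : ∃ M : liftMod φ, Matrix.toLinAlgEquiv' M.1 = l.1 := by
    refine ⟨(liftEquiv φ).symm l, ?_⟩
    have h1 := (liftEquiv φ).apply_symm_apply l
    have h2 := congrArg Subtype.val h1
    exact h2
  refine ⟨M, (Matrix.toLinAlgEquiv' (R := R) (n := Fin n)).symm l'.1, ?_⟩
  apply (Matrix.toLinAlgEquiv' (R := R) (n := Fin n)).injective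
  rw [map_mul, AlgEquiv.apply_symm_apply, hM, map_smul, map_one]
  refine LinearMap.ext fun x => ?_
  rw [Module.End.mul_apply, hll', LinearMap.smul_apply, Module.End.one_apply]

/-- If `liftMod φ` is free then `φ` is inner. -/
theorem inner_of_free (hn : 0 < n) (φ : Matrix (Fin n) (Fin n) R ≃ₐ[R] Matrix (Fin n) (Fin n) R)
    (hfree : Module.Free R (liftMod φ)) :
    ∃ P : GL (Fin n) R, ∀ A : Matrix (Fin n) (Fin n) R, φ A = P.1 * A * (P⁻¹).1 := by
  haveI := faithfullyFlat_pi (A := R) hn
  haveI := invertible_liftMod hn φ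
  obtain ⟨e⟩ := (Module.Invertible.free_iff_linearEquiv).1 hfree
  obtain ⟨U, hUdef⟩ : ∃ U : liftMod φ, U = e.symm 1 := ⟨_, rfl⟩
  have hgen : ∀ M : liftMod φ, M = e M • U := by
    intro M
    rw [hUdef, ← map_smul, smul_eq_mul, mul_one, LinearEquiv.symm_apply_apply]
  have hS := span_scalars_eq_top (endAut φ)
  have hI : ∀ a ∈ Ideal.span {a : R | ∃ (l : twist (endAut φ)) (l' : twist (endAut φ).symm),
      ∀ x, l'.1 (l.1 x) = a • x}, ∃ V : Matrix (Fin n) (Fin n) R, V * U.1 = a • 1 := by
    intro a ha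
    induction ha using Submodule.span_induction with
    | mem a ha =>
      obtain ⟨l, l', hll'⟩ := ha
      obtain ⟨M, M', hprod⟩ := exists_liftMod_mul φ l l' a hll'
      have hM1 : M.1 = e M • U.1 := by
        conv_lhs => rw [hgen M]
        rfl
      refine ⟨e M • M', ?_⟩
      rw [Matrix.smul_mul, ← Matrix.mul_smul, ← hM1, hprod]
    | zero => exact ⟨0, by rw [zero_mul, zero_smul]⟩
    | add x y _ _ hx hy =>
      obtain ⟨V, hV⟩ := hx
      obtain ⟨W, hW⟩ := hy
      exact ⟨V + W, by rw [add_mul, hV, hW, add_smul]⟩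
    | smul c x _ hx =>
      obtain ⟨V, hV⟩ := hx
      exact ⟨c • V, by rw [Matrix.smul_mul, hV, smul_smul, smul_eq_mul]⟩
  obtain ⟨V, hV⟩ := hI 1 (by rw [hS]; exact Submodule.mem_top)
  rw [one_smul] at hV
  have hUunit : IsUnit U.1 :=
    (Matrix.isUnit_iff_isUnit_det _).2 (Matrix.isUnit_det_of_left_inverse hV)
  obtain ⟨P, hP⟩ := hUunit
  refine ⟨P, fun A => ?_⟩
  have h1 := (mem_liftMod φ U.1).1 U.2 A
  show φ A = (P : Matrix (Fin n) (Fin n) R) * A * ((P⁻¹ : GL (Fin n) R) : Matrix (Fin n) (Fin n) R)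
  rw [hP, h1, mul_assoc, ← hP, Units.mul_inv, mul_one]

/-- `(liftMod φ)^n ≅ R^n`. -/
theorem nonempty_pi_equiv (hn : 0 < n)
    (φ : Matrix (Fin n) (Fin n) R ≃ₐ[R] Matrix (Fin n) (Fin n) R) :
    Nonempty ((Fin n → liftMod φ) ≃ₗ[R] (Fin n → R)) := by
  haveI := faithfullyFlat_pi (A := R) hn
  exact ⟨(((TensorProduct.piScalarRight R R (liftMod φ) (Fin n)).symm ≪≫ₗ
    (TensorProduct.comm R (liftMod φ) (Fin n → R))) ≪≫ₗ
    (TensorProduct.congr (LinearEquiv.refl R (Fin n → R)) (liftEquiv φ))) ≪≫ₗ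
    (LinearEquiv.ofBijective (ev (endAut φ)) (ev_bijective (endAut φ)))⟩

section action

variable (N : Type u) [AddCommGroup N] [Module R N]

/-- The matrix action on `N^n`. -/
def act (K : Matrix (Fin n) (Fin n) R) : Module.End R (Fin n → N) where
  toFun y := fun i => ∑ j, K i j • y j
  map_add' y z := by
    funext i
    simp only [Pi.add_apply, smul_add, Finset.sum_add_distrib]
  map_smul' c y := by
    funext i
    simp only [Pi.smul_apply, RingHom.id_apply, Finset.smul_sum]
    exact Finset.sum_congr rfl fun j _ => smul_comm _ _ _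

theorem act_apply (K : Matrix (Fin n) (Fin n) R) (y : Fin n → N) (i : Fin n) :
    act N K y i = ∑ j, K i j • y j := rfl

/-- The matrix action as an algebra homomorphism. -/
def actHom : Matrix (Fin n) (Fin n) R →ₐ[R] Module.End R (Fin n → N) :=
  AlgHom.ofLinearMap
    { toFun := act N
      map_add' := fun K K' => by
        refine LinearMap.ext fun y => funext fun i => ?_
        simp only [act_apply, LinearMap.add_apply, Pi.add_apply, Matrix.add_apply, add_smul,
          Finset.sum_add_distrib]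
      map_smul' := fun c K => by
        refine LinearMap.ext fun y => funext fun i => ?_
        simp only [act_apply, RingHom.id_apply, LinearMap.smul_apply, Pi.smul_apply,
          Matrix.smul_apply, Finset.smul_sum, smul_assoc] }
    (by
      refine LinearMap.ext fun y => funext fun i => ?_
      show act N 1 y i = y i
      rw [act_apply]
      simp only [Matrix.one_apply, ite_smul, one_smul, zero_smul, Finset.sum_ite_eq,
        Finset.mem_univ, if_true])
    (by
      intro K K'
      refine LinearMap.ext fun y => funext fun i => ?_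
      show act N (K * K') y i = act N K (act N K' y) i
      simp only [act_apply, Matrix.mul_apply, Finset.sum_smul, Finset.smul_sum, smul_smul]
      exact Finset.sum_comm)

theorem actHom_apply (K : Matrix (Fin n) (Fin n) R) (y : Fin n → N) (i : Fin n) :
    actHom N K y i = ∑ j, K i j • y j := rfl

theorem actHom_bijective [Module.Invertible R N] :
    Function.Bijective (actHom (n := n) (R := R) N) := by
  constructor
  · rw [injective_iff_map_eq_zero]
    intro K hK
    ext i j
    have h1 : ∀ x : N, K i j • x = 0 := by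
      intro x
      have h2 := congrFun (LinearMap.congr_fun hK (Pi.single j x)) i
      rw [actHom_apply] at h2
      simp only [Pi.single_apply, smul_ite, smul_zero, Finset.sum_ite_eq', Finset.mem_univ,
        if_true] at h2
      exact h2
    apply (Module.Invertible.toModuleEnd_bijective R N).1
    refine LinearMap.ext fun x => ?_
    show K i j • x = (0 : R) • x
    rw [h1 x, zero_smul]
  · intro f
    have hsurj := (Module.Invertible.toModuleEnd_bijective R N).2
    choose c hc using fun (p : Fin n × Fin n) =>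
      hsurj ((LinearMap.proj p.1) ∘ₗ f ∘ₗ (LinearMap.single R (fun _ : Fin n => N) p.2))
    refine ⟨Matrix.of fun i j => c (i, j), ?_⟩
    refine LinearMap.ext fun y => funext fun i => ?_
    rw [actHom_apply]
    have hy : y = ∑ j, Pi.single j (y j) := (Finset.univ_sum_single y).symm
    conv_rhs => rw [hy, map_sum]
    rw [Finset.sum_apply]
    refine Finset.sum_congr rfl fun j _ => ?_
    exact LinearMap.congr_fun (hc (i, j)) (y j)

/-- The automorphism of `M_n(R)` attached to `e : N^n ≅ R^n`. -/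
noncomputable def autN [Module.Invertible R N] (e : (Fin n → N) ≃ₗ[R] (Fin n → R)) :
    Matrix (Fin n) (Fin n) R ≃ₐ[R] Matrix (Fin n) (Fin n) R :=
  (AlgEquiv.ofBijective (actHom N) (actHom_bijective N)).trans
    ((e.conjAlgEquiv R).trans (Matrix.toLinAlgEquiv' (R := R) (n := Fin n)).symm)

theorem autN_mulVec [Module.Invertible R N] (e : (Fin n → N) ≃ₗ[R] (Fin n → R))
    (K : Matrix (Fin n) (Fin n) R) (y : Fin n → N) :
    (autN N e K).mulVec (e y) = e (actHom N K y) := by
  rw [← Matrix.toLinAlgEquiv'_apply, autN, AlgEquiv.trans_apply, AlgEquiv.trans_apply,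
    AlgEquiv.apply_symm_apply, LinearEquiv.conjAlgEquiv_apply, AlgEquiv.ofBijective_apply]
  simp only [LinearMap.comp_apply, LinearEquiv.coe_coe, LinearEquiv.symm_apply_apply]

theorem free_of_inner (hn : 0 < n) [Module.Invertible R N]
    (e : (Fin n → N) ≃ₗ[R] (Fin n → R)) (P : GL (Fin n) R)
    (hP : ∀ K : Matrix (Fin n) (Fin n) R, autN N e K = P.1 * K * (P⁻¹).1) :
    Nonempty (N ≃ₗ[R] R) := by
  obtain ⟨i₀, hi₀⟩ : ∃ i₀ : Fin n, i₀ = ⟨0, hn⟩ := ⟨_, rfl⟩
  obtain ⟨Q, hQdef⟩ : ∃ Q : Matrix (Fin n) (Fin n) R, Q = (P⁻¹).1 := ⟨_, rfl⟩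
  have hQP : Q * P.1 = 1 := by rw [hQdef]; exact Units.inv_mul P
  have hPQ : P.1 * Q = 1 := by rw [hQdef]; exact Units.mul_inv P
  obtain ⟨E, hEdef⟩ : ∃ E : Matrix (Fin n) (Fin n) R, E = Matrix.single i₀ i₀ 1 := ⟨_, rfl⟩
  -- intertwining
  have star : ∀ (K : Matrix (Fin n) (Fin n) R) (y : Fin n → N),
      Q.mulVec (e (actHom N K y)) = K.mulVec (Q.mulVec (e y)) := by
    intro K y
    rw [← autN_mulVec, hP K, ← hQdef, Matrix.mulVec_mulVec, Matrix.mulVec_mulVec, ← mul_assoc,
      ← mul_assoc, hQP, one_mul]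
  have hEact : ∀ y : Fin n → N, actHom N E y = Pi.single i₀ (y i₀) := by
    intro y
    funext i
    rw [actHom_apply, hEdef]
    by_cases hi : i = i₀
    · subst hi
      simp [Matrix.single_apply, Pi.single_apply]
    · simp [Matrix.single_apply, Pi.single_apply, hi, Ne.symm hi]
  have hEvec : ∀ v : Fin n → R, E.mulVec v = Pi.single i₀ (v i₀) := by
    intro v
    rw [hEdef, Matrix.single_mulVec, one_mul]
    rfl
  obtain ⟨f, hf⟩ : ∃ f : N →ₗ[R] R, ∀ x, f x = (Q.mulVec (e (Pi.single i₀ x))) i₀ :=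
    ⟨(LinearMap.proj i₀) ∘ₗ (Matrix.toLin' Q) ∘ₗ e.toLinearMap ∘ₗ
      (LinearMap.single R (fun _ : Fin n => N) i₀), fun x => rfl⟩
  obtain ⟨g, hg⟩ : ∃ g : R →ₗ[R] N, ∀ r, g r = (e.symm (P.1.mulVec (Pi.single i₀ r))) i₀ :=
    ⟨(LinearMap.proj i₀) ∘ₗ e.symm.toLinearMap ∘ₗ (Matrix.toLin' P.1) ∘ₗ
      (LinearMap.single R (fun _ : Fin n => R) i₀), fun r => rfl⟩
  refine ⟨LinearEquiv.ofLinear f g ?_ ?_⟩
  · -- f ∘ g = id
    refine LinearMap.ext fun r => ?_
    rw [LinearMap.comp_apply, LinearMap.id_apply, hf, hg]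
    obtain ⟨y, hy⟩ : ∃ y : Fin n → N, y = e.symm (P.1.mulVec (Pi.single i₀ r)) := ⟨_, rfl⟩
    have h3 : Q.mulVec (P.1.mulVec (Pi.single i₀ r)) = Pi.single i₀ r := by
      rw [Matrix.mulVec_mulVec, hQP, Matrix.one_mulVec]
    rw [← hy, ← hEact y, star E y, hy, LinearEquiv.apply_symm_apply, h3, hEvec,
      Pi.single_eq_same, Pi.single_eq_same]
  · -- g ∘ f = id
    refine LinearMap.ext fun x => ?_
    rw [LinearMap.comp_apply, LinearMap.id_apply, hg, hf]
    obtain ⟨w, hw⟩ : ∃ w : Fin n → R, w = Q.mulVec (e (Pi.single i₀ x)) := ⟨_, rfl⟩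
    have h1 : w = Pi.single i₀ (w i₀) := by
      have h2 := star E (Pi.single i₀ x)
      rw [hEact, Pi.single_eq_same, ← hw, hEvec] at h2
      exact h2
    rw [← hw, ← h1, hw, Matrix.mulVec_mulVec, hPQ, Matrix.one_mulVec, LinearEquiv.symm_apply_apply,
      Pi.single_eq_same]

theorem actHom_single (a b : Fin n) (y : Fin n → N) :
    actHom N (Matrix.single a b (1 : R)) y = Pi.single a (y b) := by
  funext i
  rw [actHom_apply]
  by_cases hi : i = a
  · subst hi
    simp [Matrix.single_apply, Pi.single_apply]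
  · simp [Matrix.single_apply, Pi.single_apply, hi, Ne.symm hi]

end action

section pic

instance instInvertibleTpow (L : Type u) [AddCommGroup L] [Module R L] [Module.Invertible R L]
    (k : ℕ) : Module.Invertible R (⨂[R] _ : Fin k, L) := invertible_tpow R L k

theorem pic_mk_tpow (L : Type u) [AddCommGroup L] [Module R L] [Module.Invertible R L] (k : ℕ) :
    CommRing.Pic.mk R (⨂[R] _ : Fin k, L) = CommRing.Pic.mk R L ^ k := by
  induction k with
  | zero =>
    rw [pow_zero, CommRing.Pic.mk_eq_one_iff]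
    exact ⟨PiTensorProduct.isEmptyEquiv (R := R) (s := fun _ : Fin 0 => L) (Fin 0)⟩
  | succ k ih =>
    rw [pow_succ, ← ih, ← CommRing.Pic.mk_tensor, CommRing.Pic.mk_eq_mk_iff]
    exact ⟨(succLin R L k).symm⟩

variable (N : Type u) [AddCommGroup N] [Module R N] [Module.Invertible R N]
  (e : (Fin n → N) ≃ₗ[R] (Fin n → R))

/-- The matrix with columns `e (single j x)`. -/
def colMat : N →ₗ[R] Matrix (Fin n) (Fin n) R where
  toFun x := Matrix.of fun i j => e (Pi.single j x) i
  map_add' x y := by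
    ext i j
    simp only [Matrix.of_apply, Matrix.add_apply, Pi.single_add, map_add, Pi.add_apply]
  map_smul' c x := by
    ext i j
    simp only [Matrix.of_apply, Matrix.smul_apply, Pi.single_smul, map_smul, Pi.smul_apply,
      RingHom.id_apply]

theorem colMat_mulVec (x : N) (v : Fin n → R) :
    (colMat N e x).mulVec v = e (fun i => v i • x) := by
  have h : (fun i => v i • x) = ∑ j, v j • Pi.single j x := by
    funext i
    rw [Finset.sum_apply]
    simp only [Pi.smul_apply, Pi.single_apply, smul_ite, smul_zero, Finset.sum_ite_eq,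
      Finset.mem_univ, if_true]
  rw [h, map_sum]
  funext i
  rw [Finset.sum_apply]
  simp only [map_smul, Pi.smul_apply, smul_eq_mul, Matrix.mulVec, dotProduct]
  exact Finset.sum_congr rfl fun j _ => mul_comm _ _

theorem ext_mulVec (A B : Matrix (Fin n) (Fin n) R) (h : ∀ v, A.mulVec v = B.mulVec v) :
    A = B := by
  apply Matrix.toLin'.injective
  refine LinearMap.ext fun v => ?_
  rw [Matrix.toLin'_apply, Matrix.toLin'_apply, h v]

theorem colMat_mem (x : N) : colMat N e x ∈ liftMod (autN N e) := by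
  rw [mem_liftMod]
  intro K
  apply ext_mulVec
  intro v
  rw [← Matrix.mulVec_mulVec, ← Matrix.mulVec_mulVec, colMat_mulVec, colMat_mulVec, autN_mulVec]
  congr 1
  funext i
  rw [actHom_apply]
  simp only [Matrix.mulVec, dotProduct, Finset.sum_smul, mul_smul]

theorem colMat_injective (hn : 0 < n) : Function.Injective (colMat N e) := by
  rw [injective_iff_map_eq_zero]
  intro x hx
  have h1 := colMat_mulVec N e x (Pi.single (⟨0, hn⟩ : Fin n) (1 : R) : Fin n → R)
  rw [hx, Matrix.zero_mulVec] at h1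
  have h2 : (fun i => ((Pi.single (⟨0, hn⟩ : Fin n) (1 : R) : Fin n → R) i) • x) = 0 :=
    e.injective (by rw [← h1, map_zero])
  have h3 := congrFun h2 ⟨0, hn⟩
  rw [Pi.single_eq_same, one_smul] at h3
  exact h3

theorem colMat_surjective (hn : 0 < n) (M : liftMod (autN N e)) :
    ∃ x : N, colMat N e x = M.1 := by
  obtain ⟨i₀, -⟩ : ∃ i₀ : Fin n, i₀ = ⟨0, hn⟩ := ⟨_, rfl⟩
  obtain ⟨l, hl⟩ : ∃ l : (Fin n → R) →ₗ[R] (Fin n → N), ∀ v, l v = e.symm (M.1.mulVec v) :=
    ⟨e.symm.toLinearMap ∘ₗ Matrix.toLin' M.1, fun v => rfl⟩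
  have hMK := (mem_liftMod (autN N e) M.1).1 M.2
  have hlK : ∀ (K : Matrix (Fin n) (Fin n) R) (v : Fin n → R),
      l (K.mulVec v) = actHom N K (l v) := by
    intro K v
    rw [hl, hl, Matrix.mulVec_mulVec, hMK K, ← Matrix.mulVec_mulVec]
    have h1 : M.1.mulVec v = e (e.symm (M.1.mulVec v)) := (e.apply_symm_apply _).symm
    rw [h1, autN_mulVec, LinearEquiv.symm_apply_apply, LinearEquiv.symm_apply_apply]
  obtain ⟨x, hx⟩ : ∃ x : N, x = l (Pi.single i₀ 1) i₀ := ⟨_, rfl⟩
  have hsingle : ∀ j : Fin n, l (Pi.single j 1) = Pi.single j x := by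
    intro j
    have h1 : (Pi.single j (1 : R) : Fin n → R) =
        (Matrix.single j i₀ (1 : R)).mulVec (Pi.single i₀ 1) := by
      rw [Matrix.single_mulVec, Pi.single_eq_same, mul_one]
      rfl
    rw [h1, hlK, actHom_single, hx]
  have hlv : ∀ v : Fin n → R, l v = fun i => v i • x := by
    intro v
    have hv : v = ∑ j, v j • Pi.single j (1 : R) := by
      funext i
      rw [Finset.sum_apply]
      simp only [Pi.smul_apply, Pi.single_apply, smul_eq_mul, mul_ite, mul_one, mul_zero,
        Finset.sum_ite_eq, Finset.mem_univ, if_true]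
    conv_lhs => rw [hv]
    rw [map_sum]
    funext i
    rw [Finset.sum_apply]
    simp only [map_smul, hsingle, Pi.smul_apply, Pi.single_apply, smul_ite, smul_zero,
      Finset.sum_ite_eq, Finset.mem_univ, if_true]
  refine ⟨x, ?_⟩
  apply ext_mulVec
  intro v
  rw [colMat_mulVec, ← hlv v, hl, LinearEquiv.apply_symm_apply]

/-- `N ≃ liftMod (autN N e)`. -/
noncomputable def colEquiv (hn : 0 < n) : N ≃ₗ[R] liftMod (autN N e) :=
  LinearEquiv.ofBijective (LinearMap.codRestrict (liftMod (autN N e)) (colMat N e)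
    (colMat_mem N e)) ⟨by
      intro x y hxy
      apply colMat_injective N e hn
      exact congrArg Subtype.val hxy, by
      intro M
      obtain ⟨x, hx⟩ := colMat_surjective N e hn M
      exact ⟨x, Subtype.ext hx⟩⟩

include e in
theorem pic_pow_eq_one_aux : CommRing.Pic.mk R N ^ n = 1 := by
  rcases Nat.eq_zero_or_pos n with rfl | hn
  · exact pow_zero _
  haveI := invertible_liftMod hn (autN N e)
  have h1 : CommRing.Pic.mk R N = CommRing.Pic.mk R (liftMod (autN N e)) :=
    CommRing.Pic.mk_eq_mk_iff.2 ⟨colEquiv N e hn⟩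
  rw [h1, ← pic_mk_tpow, CommRing.Pic.mk_eq_one_iff]
  exact tpow_equiv hn (autN N e)

end pic

/-- `N^n ≅ R^n` implies `[N]^n = 1` in `Pic R`, for `N` in any universe. -/
theorem pic_pow_eq_one (N : Type v) [AddCommGroup N] [Module R N] [Module.Invertible R N]
    (e : (Fin n → N) ≃ₗ[R] (Fin n → R)) : CommRing.Pic.mk R N ^ n = 1 := by
  have h := pic_pow_eq_one_aux (CommRing.Pic.mk R N)
    ((LinearEquiv.piCongrRight fun _ : Fin n => CommRing.Pic.mk.linearEquiv R N) ≪≫ₗ e)
  rwa [CommRing.Pic.mk_eq_self] at h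

end Groth.Agent.Lib.Lead.MoritaPic
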