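import Mathlib
import Groth.Prelude.Def_W4c2arithlefschetzNode
import Groth.Agent.Lib.Helper7.PowSerCRing

/-!
# The ring `N = B[[t,e]]/(te - π)` for a DVR `B` with uniformizer `π` (lead)

General length lemmas (`length_colon_add`, `length_sup_mul`, `length_sup_pow`), the augmentation
`eps : N → k`, decomposition `r = c + t r₁ + e r₂`, `(t,e)` maximal and in the Jacobson radical,
`fixIdeal_le` (Nakayama), regularity of `π, t, e`, primality of `t, e`.
-/

set_option autoImplicit false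
universe u

namespace Groth.Agent.Lib.Lead.NodeB

open MvPowerSeries

section general

variable {R : Type*} [CommRing R]

theorem length_colon_add (F G : Ideal R) (t : R) (hG : ∀ x, x ∈ G ↔ t * x ∈ F) :
    Module.length R (R ⧸ F) =
      Module.length R (R ⧸ G) + Module.length R (R ⧸ (F ⊔ Ideal.span {t})) := by
  have h1 : G ≤ Submodule.comap (LinearMap.lsmul R R t) F := by
    intro x hx
    rw [Submodule.mem_comap]
    show t • x ∈ F
    rw [smul_eq_mul]; exact (hG x).mp hx
  let φ : (R ⧸ G) →ₗ[R] (R ⧸ F) := Submodule.mapQ G F (LinearMap.lsmul R R t) h1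
  let ψ : (R ⧸ F) →ₗ[R] (R ⧸ (F ⊔ Ideal.span {t})) := Submodule.factor le_sup_left
  have hφ : Function.Injective φ := by
    rw [injective_iff_map_eq_zero]
    intro z hz
    obtain ⟨x, rfl⟩ := Submodule.mkQ_surjective _ z
    have hz' : Submodule.mkQ F (t • x) = 0 := hz
    rw [Submodule.mkQ_apply, Submodule.Quotient.mk_eq_zero, smul_eq_mul] at hz'
    rw [Submodule.mkQ_apply, Submodule.Quotient.mk_eq_zero]
    exact (hG x).mpr hz'
  have hψ : Function.Surjective ψ := by
    intro w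
    obtain ⟨x, rfl⟩ := Submodule.mkQ_surjective _ w
    exact ⟨Submodule.mkQ F x, rfl⟩
  have H : Function.Exact φ ψ := by
    intro y
    constructor
    · intro hy
      obtain ⟨x, rfl⟩ := Submodule.mkQ_surjective _ y
      have hy' : Submodule.mkQ (F ⊔ Ideal.span {t}) x = 0 := hy
      rw [Submodule.mkQ_apply, Submodule.Quotient.mk_eq_zero, Submodule.mem_sup] at hy'
      obtain ⟨f, hf, s, hs, rfl⟩ := hy'
      obtain ⟨v, rfl⟩ := Ideal.mem_span_singleton'.mp hs
      refine ⟨Submodule.mkQ G v, ?_⟩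
      show Submodule.mkQ F (t • v) = Submodule.mkQ F (f + v * t)
      rw [Submodule.mkQ_apply, Submodule.mkQ_apply, Submodule.Quotient.eq]
      have : t • v - (f + v * t) = -f := by rw [smul_eq_mul]; ring
      rw [this]; exact Submodule.neg_mem F hf
    · rintro ⟨z, rfl⟩
      obtain ⟨v, rfl⟩ := Submodule.mkQ_surjective _ z
      show Submodule.mkQ (F ⊔ Ideal.span {t}) (t • v) = 0
      rw [Submodule.mkQ_apply, Submodule.Quotient.mk_eq_zero]
      exact Submodule.mem_sup_right
        (Ideal.mem_span_singleton'.mpr ⟨v, by rw [smul_eq_mul, mul_comm]⟩)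
  exact Module.length_eq_add_of_exact φ ψ hφ hψ H

theorem length_sup_mul (I : Ideal R) (x y : R) (hy : ∀ w, y * w ∈ I → w ∈ I) :
    Module.length R (R ⧸ (I ⊔ Ideal.span {x * y})) =
      Module.length R (R ⧸ (I ⊔ Ideal.span {x})) +
        Module.length R (R ⧸ (I ⊔ Ideal.span {y})) := by
  have hG : ∀ z, z ∈ I ⊔ Ideal.span {x} ↔ y * z ∈ I ⊔ Ideal.span {x * y} := by
    intro z
    constructor
    · intro hz
      obtain ⟨i, hi, s, hs, rfl⟩ := Submodule.mem_sup.mp hz
      obtain ⟨v, rfl⟩ := Ideal.mem_span_singleton'.mp hs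
      exact Submodule.mem_sup.mpr ⟨y * i, Ideal.mul_mem_left _ _ hi, v * (x * y),
        Ideal.mem_span_singleton'.mpr ⟨v, rfl⟩, by ring⟩
    · intro hz
      obtain ⟨i, hi, s, hs, h⟩ := Submodule.mem_sup.mp hz
      obtain ⟨v, rfl⟩ := Ideal.mem_span_singleton'.mp hs
      have h1 : y * (z - v * x) ∈ I := by
        have : y * (z - v * x) = i := by linear_combination (-1 : R) * h
        rw [this]; exact hi
      have h2 := hy _ h1
      have : z = (z - v * x) + v * x := by ring
      rw [this]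
      exact Submodule.mem_sup.mpr ⟨_, h2, _, Ideal.mem_span_singleton'.mpr ⟨v, rfl⟩, rfl⟩
  have hsup : I ⊔ Ideal.span {x * y} ⊔ Ideal.span {y} = I ⊔ Ideal.span {y} := by
    rw [sup_assoc]
    congr 1
    apply le_antisymm
    · refine sup_le ?_ le_rfl
      rw [Ideal.span_le, Set.singleton_subset_iff]
      exact Ideal.mem_span_singleton'.mpr ⟨x, rfl⟩
    · exact le_sup_right
  rw [length_colon_add _ _ y hG, hsup]

theorem length_sup_pow (I : Ideal R) (y : R) (hy : ∀ w, y * w ∈ I → w ∈ I) (n : ℕ) :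
    Module.length R (R ⧸ (I ⊔ Ideal.span {y ^ n})) =
      (n : ℕ∞) * Module.length R (R ⧸ (I ⊔ Ideal.span {y})) := by
  induction n with
  | zero =>
    have h1 : I ⊔ Ideal.span {y ^ 0} = ⊤ := by
      rw [pow_zero, Ideal.span_singleton_one, sup_top_eq]
    have hs : Subsingleton (R ⧸ (I ⊔ Ideal.span {y ^ 0})) :=
      Ideal.Quotient.subsingleton_iff.mpr h1
    rw [Module.length_eq_zero_iff.mpr hs, Nat.cast_zero, zero_mul]
  | succ n ih =>
    rw [pow_succ, length_sup_mul I (y ^ n) y hy, ih, Nat.cast_succ, add_mul, one_mul]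

theorem pow_regular {y : R} (hy : ∀ x, y * x = 0 → x = 0) (n : ℕ) :
    ∀ x, y ^ n * x = 0 → x = 0 := by
  induction n with
  | zero => intro x hx; rwa [pow_zero, one_mul] at hx
  | succ n ih =>
    intro x hx
    apply ih; apply hy
    rw [← mul_assoc, ← pow_succ']; exact hx

theorem cancel_of_regular {y : R} (hy : ∀ x, y * x = 0 → x = 0) {a b : R}
    (h : y * a = y * b) : a = b := by
  have : y * (a - b) = 0 := by rw [mul_sub, h, sub_self]
  exact sub_eq_zero.mp (hy _ this)

theorem mul_regular {y z : R} (hy : ∀ x, y * x = 0 → x = 0) (hz : ∀ x, z * x = 0 → x = 0) :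
    ∀ x, (y * z) * x = 0 → x = 0 := by
  intro x hx
  apply hz; apply hy
  rw [← mul_assoc]; exact hx

theorem assoc_of_prime_dvd {p q : R} (hp : Prime p) (hq : Prime q)
    (hqreg : ∀ x, q * x = 0 → x = 0) (h : p ∣ q) : ∃ w : Rˣ, p = w * q := by
  obtain ⟨c, hc⟩ := h
  have hq' : q ∣ p * c := ⟨1, by rw [mul_one]; exact hc.symm⟩
  rcases hq.dvd_or_dvd hq' with h1 | h1
  · obtain ⟨d, hd⟩ := h1
    have h2 : q * (d * c) = q * 1 := by rw [mul_one, ← mul_assoc, ← hd, ← hc]
    have h3 : d * c = 1 := cancel_of_regular hqreg h2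
    exact ⟨⟨d, c, h3, by rw [mul_comm]; exact h3⟩, by rw [hd, mul_comm]⟩
  · obtain ⟨c', hc'⟩ := h1
    exfalso
    have h2 : q * (p * c') = q * 1 := by
      rw [mul_one]
      calc q * (p * c') = p * (q * c') := by ring
        _ = q := by rw [← hc', ← hc]
    have h3 : p * c' = 1 := cancel_of_regular hqreg h2
    exact hp.not_unit (IsUnit.of_mul_eq_one _ h3)

theorem isUnit_or_dvd_of_dvd_pow {p g : R} (hp : Prime p) (hreg : ∀ x, p * x = 0 → x = 0)
    (n : ℕ) : g ∣ p ^ n → IsUnit g ∨ p ∣ g := by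
  induction n with
  | zero => intro h; left; rw [pow_zero] at h; exact isUnit_of_dvd_one h
  | succ n ih =>
    intro h
    obtain ⟨c, hc⟩ := h
    have h1 : p ∣ g * c := ⟨p ^ n, by rw [← hc, pow_succ']⟩
    rcases hp.dvd_or_dvd h1 with h2 | h2
    · right; exact h2
    · obtain ⟨c', rfl⟩ := h2
      apply ih
      refine ⟨c', cancel_of_regular hreg ?_⟩
      rw [← pow_succ', hc]; ring

theorem mem_fixIdeal {A : Type u} [Ring A] (σ : A → A) (x : A) : σ x - x ∈ ArLef.fixIdeal σ :=
  Ideal.subset_span ⟨x, rfl⟩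

theorem X_ne_zero' {k : Type*} [Field k] (s : Fin 2) : (X s : MvPowerSeries (Fin 2) k) ≠ 0 := by
  intro h
  have := congrArg (coeff (Finsupp.single s 1)) h
  rw [coeff_index_single_self_X, map_zero] at this
  exact one_ne_zero this

theorem X_zero_prime (k : Type*) [Field k] : Prime (X 0 : MvPowerSeries (Fin 2) k) := by
  haveI : IsDomain (MvPowerSeries (Fin 1) k) := NoZeroDivisors.to_isDomain _
  have h := (PowerSeries.X_prime (R := MvPowerSeries (Fin 1) k))
  rw [← MvPowerSeries.finSuccEquiv_X_zero (R := k) (n := 1)] at h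
  exact (MulEquiv.prime_iff (MvPowerSeries.finSuccEquiv k 1)).mp h

theorem X_one_prime (k : Type*) [Field k] : Prime (X 1 : MvPowerSeries (Fin 2) k) := by
  have h := X_zero_prime k
  have h2 : (MvPowerSeries.renameEquiv k (Equiv.swap (0 : Fin 2) 1)) (X 1) =
      (X 0 : MvPowerSeries (Fin 2) k) := by
    show MvPowerSeries.rename (⇑(Equiv.swap (0 : Fin 2) 1)) (X 1) = X 0
    rw [MvPowerSeries.rename_X, Equiv.swap_apply_right]
  rw [← h2] at h
  exact (MulEquiv.prime_iff _).mp h

end general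

section node

variable {B : Type u} [CommRing B] [IsDomain B] [IsDiscreteValuationRing B] (π : B)
  (hπ : Irreducible π)

local notation "NN" => ArLef.NodeAlg B π
local notation "𝔱" => ArLef.NodeAlg.t π
local notation "𝔢" => ArLef.NodeAlg.e π
local notation "ι" => algebraMap B (ArLef.NodeAlg B π)
local notation "qq" =>
  Ideal.Quotient.mk (Ideal.span {(X 0 * X 1 - C π : MvPowerSeries (Fin 2) B)})
local notation "kk" => IsLocalRing.ResidueField B

theorem algebraMap_eq_mk_C (c : B) : ι c = qq (C c) := by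
  rw [← Ideal.Quotient.mk_algebraMap, MvPowerSeries.algebraMap_apply,
    Algebra.algebraMap_self_apply]

theorem t_mul_e : 𝔱 * 𝔢 = ι π := by
  rw [algebraMap_eq_mk_C]
  show qq (X 0) * qq (X 1) = qq (C π)
  rw [← map_mul, Ideal.Quotient.eq]
  exact Ideal.subset_span (Set.mem_singleton _)

include hπ in
theorem residue_pi : IsLocalRing.residue B π = 0 := by
  rw [IsLocalRing.residue_eq_zero_iff, hπ.maximalIdeal_eq]
  exact Ideal.mem_span_singleton_self π

/-- the augmentation `N → k` -/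
noncomputable def eps : NN →+* kk :=
  Ideal.Quotient.lift _
    ((IsLocalRing.residue B).comp (constantCoeff (σ := Fin 2) (R := B))) (by
    intro a ha
    have hle : Ideal.span {(X 0 * X 1 - C π : MvPowerSeries (Fin 2) B)} ≤
        RingHom.ker ((IsLocalRing.residue B).comp (constantCoeff (σ := Fin 2) (R := B))) := by
      rw [Ideal.span_le, Set.singleton_subset_iff, SetLike.mem_coe, RingHom.mem_ker,
        RingHom.comp_apply, map_sub, map_mul, constantCoeff_X, zero_mul, constantCoeff_C,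
        zero_sub, map_neg, residue_pi π hπ, neg_zero]
    exact hle ha)

theorem eps_mk (f : MvPowerSeries (Fin 2) B) :
    eps π hπ (qq f) = IsLocalRing.residue B (constantCoeff f) := rfl

theorem eps_algebraMap (c : B) : eps π hπ (ι c) = IsLocalRing.residue B c := by
  rw [algebraMap_eq_mk_C, eps_mk, constantCoeff_C]

theorem eps_t : eps π hπ 𝔱 = 0 := by
  show IsLocalRing.residue B (constantCoeff (X 0 : MvPowerSeries (Fin 2) B)) = 0
  rw [constantCoeff_X, map_zero]

theorem eps_e : eps π hπ 𝔢 = 0 := by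
  show IsLocalRing.residue B (constantCoeff (X 1 : MvPowerSeries (Fin 2) B)) = 0
  rw [constantCoeff_X, map_zero]

theorem isUnit_of_eps_ne_zero (z : NN) (hz : eps π hπ z ≠ 0) : IsUnit z := by
  obtain ⟨g, rfl⟩ := Ideal.Quotient.mk_surjective z
  have hz' : IsLocalRing.residue B (constantCoeff g) ≠ 0 := hz
  have : IsUnit g := by
    rw [MvPowerSeries.isUnit_iff_constantCoeff]
    exact (IsLocalRing.residue_ne_zero_iff_isUnit _).mp hz'
  exact this.map _

theorem exists_decomp (r : NN) :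
    ∃ (c : B) (r1 r2 : NN), r = ι c + 𝔱 * r1 + 𝔢 * r2 := by
  obtain ⟨f, rfl⟩ := Ideal.Quotient.mk_surjective r
  obtain ⟨h, -, hf⟩ := Groth.Agent.Lib.Helper7.PowSerCRing.decomp (⊤ : Ideal B) 0 f
    (Groth.Agent.Lib.Helper7.PowSerCRing.mem_W_top 1 f)
  rw [Fin.sum_univ_two] at hf
  refine ⟨constantCoeff f, qq (h 0), qq (h 1), ?_⟩
  rw [algebraMap_eq_mk_C]
  show qq f = qq (C (constantCoeff f)) + qq (X 0) * qq (h 0) + qq (X 1) * qq (h 1)
  rw [← map_mul, ← map_mul, ← map_add, ← map_add, add_assoc]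
  exact congrArg _ hf

theorem span_te_le_ker : Ideal.span {𝔱, 𝔢} ≤ RingHom.ker (eps π hπ) := by
  rw [Ideal.span_le]
  intro x hx
  simp only [Set.mem_insert_iff, Set.mem_singleton_iff] at hx
  rw [SetLike.mem_coe, RingHom.mem_ker]
  rcases hx with rfl | rfl
  · exact eps_t π hπ
  · exact eps_e π hπ

theorem span_te_eq_ker : Ideal.span {𝔱, 𝔢} = RingHom.ker (eps π hπ) := by
  apply le_antisymm (span_te_le_ker π hπ)
  intro x hx
  rw [RingHom.mem_ker] at hx
  obtain ⟨c, r1, r2, hr⟩ := exists_decomp π x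
  have hc : IsLocalRing.residue B c = 0 := by
    have h1 := congrArg (eps π hπ) hr
    rw [hx, map_add, map_add, map_mul, map_mul, eps_t, eps_e, zero_mul, zero_mul, add_zero,
      add_zero, eps_algebraMap] at h1
    exact h1.symm
  rw [IsLocalRing.residue_eq_zero_iff, hπ.maximalIdeal_eq, Ideal.mem_span_singleton'] at hc
  obtain ⟨c', rfl⟩ := hc
  rw [hr, map_mul, ← t_mul_e]
  refine Ideal.add_mem _ (Ideal.add_mem _ ?_ ?_) ?_
  · exact Ideal.mul_mem_left _ _ (Ideal.mul_mem_right _ _ (Ideal.subset_span (by simp)))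
  · exact Ideal.mul_mem_right _ _ (Ideal.subset_span (by simp))
  · exact Ideal.mul_mem_right _ _ (Ideal.subset_span (by simp))

include hπ

theorem span_te_isMaximal : (Ideal.span {𝔱, 𝔢}).IsMaximal := by
  rw [span_te_eq_ker π hπ]
  refine RingHom.ker_isMaximal_of_surjective (eps π hπ) (fun c => ?_)
  obtain ⟨c', rfl⟩ := IsLocalRing.residue_surjective c
  exact ⟨ι c', eps_algebraMap π hπ c'⟩

theorem span_te_le_jacobson : Ideal.span {𝔱, 𝔢} ≤ Ideal.jacobson (⊥ : Ideal NN) := by
  intro x hx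
  rw [Ideal.mem_jacobson_bot]
  intro y
  apply isUnit_of_eps_ne_zero π hπ
  have hx0 : eps π hπ x = 0 := span_te_le_ker π hπ hx
  rw [map_add, map_mul, hx0, zero_mul, zero_add, map_one]
  exact one_ne_zero

theorem length_quot_span_te : Module.length NN (NN ⧸ Ideal.span {𝔱, 𝔢}) = 1 := by
  rw [Module.length_eq_one_iff]
  exact isSimpleModule_iff_quot_maximal.mpr
    ⟨_, span_te_isMaximal π hπ, ⟨LinearEquiv.refl _ _⟩⟩

theorem fixIdeal_le {F : Type*} [FunLike F NN NN] [RingHomClass F NN NN] (σ : F) (J : Ideal NN)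
    (hB : ∀ c : B, σ (ι c) - ι c ∈ J) (ht : σ 𝔱 - 𝔱 ∈ J) (he : σ 𝔢 - 𝔢 ∈ J) :
    ArLef.fixIdeal σ ≤ J := by
  have hFG : (ArLef.fixIdeal σ).FG := IsNoetherian.noetherian _
  refine Submodule.le_of_le_smul_of_le_jacobson_bot (I := Ideal.span {𝔱, 𝔢}) hFG
    (span_te_le_jacobson π hπ) ?_
  have hmem : ∀ r : NN, σ r - r ∈ J ⊔ Ideal.span {𝔱, 𝔢} • ArLef.fixIdeal σ := by
    intro r
    obtain ⟨c, r1, r2, hr⟩ := exists_decomp π r
    have key : σ r - r = ((σ (ι c) - ι c) + (σ r1 * (σ 𝔱 - 𝔱) + σ r2 * (σ 𝔢 - 𝔢))) +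
        (𝔱 * (σ r1 - r1) + 𝔢 * (σ r2 - r2)) := by
      rw [hr, map_add, map_add, map_mul, map_mul]; ring
    rw [key]
    refine Submodule.add_mem _ (Submodule.mem_sup_left ?_) (Submodule.mem_sup_right ?_)
    · exact Ideal.add_mem _ (hB c)
        (Ideal.add_mem _ (Ideal.mul_mem_left _ _ ht) (Ideal.mul_mem_left _ _ he))
    · refine Submodule.add_mem _ ?_ ?_
      · exact Submodule.smul_mem_smul (Ideal.subset_span (by simp)) (mem_fixIdeal σ r1)
      · exact Submodule.smul_mem_smul (Ideal.subset_span (by simp)) (mem_fixIdeal σ r2)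
  exact Ideal.span_le.mpr (by rintro _ ⟨r, rfl⟩; exact hmem r)

/-! ### reduction mod `π` -/

theorem map_C_pi :
    MvPowerSeries.map (σ := Fin 2) (IsLocalRing.residue B) (C π) = 0 := by
  rw [MvPowerSeries.map_C, residue_pi π hπ, map_zero]

theorem C_dvd_of_map_eq_zero (x : MvPowerSeries (Fin 2) B)
    (hx : MvPowerSeries.map (IsLocalRing.residue B) x = 0) : C π ∣ x := by
  have h : ∀ n, ∃ q, coeff n x = π * q := by
    intro n
    have h1 : IsLocalRing.residue B (coeff n x) = 0 := by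
      have := congrArg (coeff n) hx
      rwa [MvPowerSeries.coeff_map, map_zero] at this
    rw [IsLocalRing.residue_eq_zero_iff, hπ.maximalIdeal_eq, Ideal.mem_span_singleton'] at h1
    obtain ⟨q, hq⟩ := h1
    exact ⟨q, by rw [← hq, mul_comm]⟩
  choose q hq using h
  let Q : MvPowerSeries (Fin 2) B := fun n => q n
  have hQ : ∀ n, coeff n Q = q n := fun n => rfl
  refine ⟨Q, ?_⟩
  ext n
  rw [MvPowerSeries.coeff_C_mul, hQ, hq]

omit hπ in
theorem map_residue_surjective :
    Function.Surjective (MvPowerSeries.map (σ := Fin 2) (IsLocalRing.residue B)) := by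
  intro y
  let Q : MvPowerSeries (Fin 2) B :=
    fun n => Classical.choose (IsLocalRing.residue_surjective (coeff n y))
  have hQ : ∀ n, coeff n Q = Classical.choose (IsLocalRing.residue_surjective (coeff n y)) :=
    fun n => rfl
  refine ⟨Q, ?_⟩
  ext n
  rw [MvPowerSeries.coeff_map, hQ]
  exact Classical.choose_spec (IsLocalRing.residue_surjective (coeff n y))

theorem C_pi_ne_zero : (C π : MvPowerSeries (Fin 2) B) ≠ 0 :=
  (map_ne_zero_iff _ MvPowerSeries.C_injective).mpr hπ.ne_zero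

theorem pi_regular (x : NN) (h : ι π * x = 0) : x = 0 := by
  obtain ⟨f, rfl⟩ := Ideal.Quotient.mk_surjective x
  rw [algebraMap_eq_mk_C, ← map_mul, Ideal.Quotient.eq_zero_iff_mem,
    Ideal.mem_span_singleton'] at h
  obtain ⟨w, hw⟩ := h
  have h1 : MvPowerSeries.map (IsLocalRing.residue B) w * (X 0 * X 1) = 0 := by
    have := congrArg (MvPowerSeries.map (IsLocalRing.residue B)) hw
    rwa [map_mul, map_mul, map_sub, map_mul, MvPowerSeries.map_X, MvPowerSeries.map_X,
      map_C_pi π hπ, sub_zero, zero_mul] at this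
  have h2 : MvPowerSeries.map (IsLocalRing.residue B) w = 0 := by
    rcases mul_eq_zero.mp h1 with h | h
    · exact h
    · exact absurd h (mul_ne_zero (X_ne_zero' 0) (X_ne_zero' 1))
  obtain ⟨w', rfl⟩ := C_dvd_of_map_eq_zero π hπ w h2
  have hf : f = w' * (X 0 * X 1 - C π) := by
    apply mul_left_cancel₀ (C_pi_ne_zero π hπ)
    rw [← hw]; ring
  rw [Ideal.Quotient.eq_zero_iff_mem, hf]
  exact Ideal.mul_mem_left _ _ (Ideal.subset_span (Set.mem_singleton _))

theorem t_regular (x : NN) (h : 𝔱 * x = 0) : x = 0 := by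
  apply pi_regular π hπ
  rw [← t_mul_e, mul_comm 𝔱 𝔢, mul_assoc, h, mul_zero]

theorem e_regular (x : NN) (h : 𝔢 * x = 0) : x = 0 := by
  apply pi_regular π hπ
  rw [← t_mul_e, mul_assoc, h, mul_zero]

theorem t_dvd_iff (f : MvPowerSeries (Fin 2) B) :
    𝔱 ∣ qq f ↔ (X 0 : MvPowerSeries (Fin 2) kk) ∣ MvPowerSeries.map (IsLocalRing.residue B) f := by
  constructor
  · rintro ⟨y, hy⟩
    obtain ⟨g, rfl⟩ := Ideal.Quotient.mk_surjective y
    have h1 : qq (f - X 0 * g) = 0 := by
      rw [map_sub, map_mul]; exact sub_eq_zero.mpr hy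
    rw [Ideal.Quotient.eq_zero_iff_mem, Ideal.mem_span_singleton'] at h1
    obtain ⟨w, hw⟩ := h1
    have h2 := congrArg (MvPowerSeries.map (IsLocalRing.residue B)) hw
    rw [map_mul, map_sub, map_sub, map_mul, map_mul, MvPowerSeries.map_X, MvPowerSeries.map_X,
      map_C_pi π hπ, sub_zero] at h2
    exact ⟨MvPowerSeries.map (IsLocalRing.residue B) g +
      MvPowerSeries.map (IsLocalRing.residue B) w * X 1, by
        linear_combination (-1 : MvPowerSeries (Fin 2) kk) * h2⟩
  · rintro ⟨g', hg⟩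
    obtain ⟨g, rfl⟩ := map_residue_surjective g'
    have h0 : MvPowerSeries.map (IsLocalRing.residue B) (f - X 0 * g) = 0 := by
      rw [map_sub, map_mul, MvPowerSeries.map_X, hg, sub_self]
    obtain ⟨w, hw⟩ := C_dvd_of_map_eq_zero π hπ _ h0
    refine ⟨qq g + 𝔢 * qq w, ?_⟩
    have hf : f = X 0 * g + C π * w := by rw [← hw]; ring
    rw [hf, map_add, map_mul, map_mul, ← algebraMap_eq_mk_C, ← t_mul_e]
    show 𝔱 * qq g + 𝔱 * 𝔢 * qq w = _
    ring

theorem e_dvd_iff (f : MvPowerSeries (Fin 2) B) :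
    𝔢 ∣ qq f ↔ (X 1 : MvPowerSeries (Fin 2) kk) ∣ MvPowerSeries.map (IsLocalRing.residue B) f := by
  constructor
  · rintro ⟨y, hy⟩
    obtain ⟨g, rfl⟩ := Ideal.Quotient.mk_surjective y
    have h1 : qq (f - X 1 * g) = 0 := by
      rw [map_sub, map_mul]; exact sub_eq_zero.mpr hy
    rw [Ideal.Quotient.eq_zero_iff_mem, Ideal.mem_span_singleton'] at h1
    obtain ⟨w, hw⟩ := h1
    have h2 := congrArg (MvPowerSeries.map (IsLocalRing.residue B)) hw
    rw [map_mul, map_sub, map_sub, map_mul, map_mul, MvPowerSeries.map_X, MvPowerSeries.map_X,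
      map_C_pi π hπ, sub_zero] at h2
    exact ⟨MvPowerSeries.map (IsLocalRing.residue B) g +
      MvPowerSeries.map (IsLocalRing.residue B) w * X 0, by
        linear_combination (-1 : MvPowerSeries (Fin 2) kk) * h2⟩
  · rintro ⟨g', hg⟩
    obtain ⟨g, rfl⟩ := map_residue_surjective g'
    have h0 : MvPowerSeries.map (IsLocalRing.residue B) (f - X 1 * g) = 0 := by
      rw [map_sub, map_mul, MvPowerSeries.map_X, hg, sub_self]
    obtain ⟨w, hw⟩ := C_dvd_of_map_eq_zero π hπ _ h0
    refine ⟨qq g + 𝔱 * qq w, ?_⟩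
    have hf : f = X 1 * g + C π * w := by rw [← hw]; ring
    rw [hf, map_add, map_mul, map_mul, ← algebraMap_eq_mk_C, ← t_mul_e]
    show 𝔢 * qq g + 𝔱 * 𝔢 * qq w = _
    ring

theorem one_ne_zero' : (1 : NN) ≠ 0 := by
  intro h
  have h3 := congrArg (eps π hπ) h
  rw [map_one, map_zero] at h3
  exact one_ne_zero h3

theorem algebraMap_pi_ne_zero : ι π ≠ 0 := by
  intro h
  have h1 : ι π * (1 : NN) = 0 := by rw [h, zero_mul]
  exact one_ne_zero' π hπ (pi_regular π hπ 1 h1)

theorem prime_t : Prime 𝔱 := by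
  refine ⟨?_, ?_, ?_⟩
  · intro h
    apply algebraMap_pi_ne_zero π hπ
    rw [← t_mul_e, h, zero_mul]
  · intro hu
    have := hu.map (eps π hπ)
    rw [eps_t] at this
    exact not_isUnit_zero this
  · intro a b hab
    obtain ⟨f, rfl⟩ := Ideal.Quotient.mk_surjective a
    obtain ⟨g, rfl⟩ := Ideal.Quotient.mk_surjective b
    rw [← map_mul, t_dvd_iff π hπ, map_mul] at hab
    rw [t_dvd_iff π hπ, t_dvd_iff π hπ]
    exact (X_zero_prime _).dvd_or_dvd hab

theorem prime_e : Prime 𝔢 := by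
  refine ⟨?_, ?_, ?_⟩
  · intro h
    apply algebraMap_pi_ne_zero π hπ
    rw [← t_mul_e, h, mul_zero]
  · intro hu
    have := hu.map (eps π hπ)
    rw [eps_e] at this
    exact not_isUnit_zero this
  · intro a b hab
    obtain ⟨f, rfl⟩ := Ideal.Quotient.mk_surjective a
    obtain ⟨g, rfl⟩ := Ideal.Quotient.mk_surjective b
    rw [← map_mul, e_dvd_iff π hπ, map_mul] at hab
    rw [e_dvd_iff π hπ, e_dvd_iff π hπ]
    exact (X_one_prime _).dvd_or_dvd hab

theorem t_not_dvd_e : ¬ 𝔱 ∣ 𝔢 := by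
  intro h
  have h1 : (X 0 : MvPowerSeries (Fin 2) kk) ∣
      MvPowerSeries.map (IsLocalRing.residue B) (X 1) := (t_dvd_iff π hπ (X 1)).mp h
  rw [MvPowerSeries.map_X, MvPowerSeries.X_dvd_iff] at h1
  have := h1 (Finsupp.single 1 1) (by rw [Finsupp.single_apply, if_neg (by decide)])
  rw [coeff_index_single_self_X] at this
  exact one_ne_zero this

theorem e_not_dvd_t : ¬ 𝔢 ∣ 𝔱 := by
  intro h
  have h1 : (X 1 : MvPowerSeries (Fin 2) kk) ∣
      MvPowerSeries.map (IsLocalRing.residue B) (X 0) := (e_dvd_iff π hπ (X 0)).mp h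
  rw [MvPowerSeries.map_X, MvPowerSeries.X_dvd_iff] at h1
  have := h1 (Finsupp.single 0 1) (by rw [Finsupp.single_apply, if_neg (by decide)])
  rw [coeff_index_single_self_X] at this
  exact one_ne_zero this

theorem not_isUnit_of_mem {x : NN} (hx : x ∈ Ideal.span {𝔱, 𝔢}) : ¬ IsUnit x := by
  intro hu
  have h0 : eps π hπ x = 0 := span_te_le_ker π hπ hx
  have := hu.map (eps π hπ)
  rw [h0] at this
  exact not_isUnit_zero this

end node

end Groth.Agent.Lib.Lead.NodeB
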