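import Groth.Agent.Lib.Lead.NodeB

/-!
# Length computations in `N = B[[t,e]]/(te - π)` (lead)

`length_G`: `length N/(t^(m+1) e^(n+1), t a, e b) = 1 + (m+1) length N/(t,b) + (n+1) length N/(e,a)`
when `b υ = c t^m e^n - a` (`υ` a unit), `t ∤ b`, `e ∤ a`.
`length_H`: `length N/(t^(m+1), t a, b) + m = (m+1) length N/(t,b)` when `b υ = c t^m - e a`
(`υ, c` units), `t ∤ b`.
-/

set_option autoImplicit false
universe u

namespace Groth.Agent.Lib.Lead.NodeB

section general

variable {R : Type*} [CommRing R]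

theorem reg_mod_of_prime {p x : R} (hp : Prime p) (hreg : ∀ z, p * z = 0 → z = 0)
    (hx : ¬ p ∣ x) : ∀ w, p * w ∈ Ideal.span ({x} : Set R) → w ∈ Ideal.span ({x} : Set R) := by
  intro w hw
  obtain ⟨r, hr⟩ := Ideal.mem_span_singleton'.mp hw
  have h1 : p ∣ r * x := ⟨w, hr⟩
  rcases hp.dvd_or_dvd h1 with h2 | h2
  swap
  · exact absurd h2 hx
  obtain ⟨r', rfl⟩ := h2
  have h3 : w = r' * x := by
    apply cancel_of_regular hreg
    rw [← hr]; ring
  rw [h3]; exact Ideal.mul_mem_left _ _ (Ideal.mem_span_singleton_self _)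

theorem reg_mod_prime {p y : R} (hp : Prime p) (hy : ¬ p ∣ y) :
    ∀ w, y * w ∈ Ideal.span ({p} : Set R) → w ∈ Ideal.span ({p} : Set R) := by
  intro w hw
  rw [Ideal.mem_span_singleton] at hw ⊢
  rcases hp.dvd_or_dvd hw with h | h
  · exact absurd h hy
  · exact h

theorem reg_mod_pow {I : Ideal R} {y : R} (hy : ∀ w, y * w ∈ I → w ∈ I) (n : ℕ) :
    ∀ w, y ^ n * w ∈ I → w ∈ I := by
  induction n with
  | zero => intro w hw; rwa [pow_zero, one_mul] at hw
  | succ n ih =>
    intro w hw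
    apply ih; apply hy
    rw [← mul_assoc, ← pow_succ']; exact hw

theorem colon_mul_span_triple {D x1 x2 x3 : R} (hD : ∀ z, D * z = 0 → z = 0) :
    (Ideal.span ({D * x1, D * x2, D * x3} : Set R)).colon ({D} : Set R) =
      Ideal.span ({x1, x2, x3} : Set R) := by
  ext x
  rw [Submodule.mem_colon_singleton, smul_eq_mul]
  constructor
  · intro hx
    obtain ⟨p, q, r, h⟩ := Submodule.mem_span_triple.mp hx
    simp only [smul_eq_mul] at h
    have h1 : x = p * x1 + q * x2 + r * x3 := by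
      apply cancel_of_regular hD
      linear_combination (-1 : R) * h
    rw [h1]
    exact Submodule.mem_span_triple.mpr ⟨p, q, r, by simp only [smul_eq_mul]⟩
  · intro hx
    obtain ⟨p, q, r, h⟩ := Submodule.mem_span_triple.mp hx
    simp only [smul_eq_mul] at h
    refine Submodule.mem_span_triple.mpr ⟨p, q, r, ?_⟩
    simp only [smul_eq_mul]
    rw [← h]; ring

end general

section node

variable {B : Type u} [CommRing B] [IsDomain B] [IsDiscreteValuationRing B] (π : B)
  (hπ : Irreducible π)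

local notation "NN" => ArLef.NodeAlg B π
local notation "𝔱" => ArLef.NodeAlg.t π
local notation "𝔢" => ArLef.NodeAlg.e π
local notation "ι" => algebraMap B (ArLef.NodeAlg B π)

include hπ

theorem span_t_sup_span_e :
    Ideal.span ({𝔱} : Set NN) ⊔ Ideal.span ({𝔢} : Set NN) = Ideal.span ({𝔱, 𝔢} : Set NN) :=
  (Ideal.span_insert 𝔱 {𝔢}).symm

theorem length_G (m' n' : ℕ) (a b υ c : NN) (hυ : IsUnit υ)
    (hrel : b * υ = c * 𝔱 ^ m' * 𝔢 ^ n' - a)
    (htb : ¬ 𝔱 ∣ b) (hea : ¬ 𝔢 ∣ a) :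
    Module.length NN
        (NN ⧸ Ideal.span ({𝔱 ^ (m' + 1) * 𝔢 ^ (n' + 1), 𝔱 * a, 𝔢 * b} : Set NN)) =
      1 + ((m' + 1 : ℕ) : ℕ∞) * Module.length NN (NN ⧸ Ideal.span ({𝔱, b} : Set NN)) +
        ((n' + 1 : ℕ) : ℕ∞) * Module.length NN (NN ⧸ Ideal.span ({𝔢, a} : Set NN)) := by
  have hpt := prime_t π hπ
  have hpe := prime_e π hπ
  have treg := t_regular π hπ
  have ereg := e_regular π hπ
  obtain ⟨υ', hυ'⟩ := hυ.exists_right_inv
  have hb : b = (c * 𝔱 ^ m' * 𝔢 ^ n' - a) * υ' := by rw [← hrel, mul_assoc, hυ', mul_one]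
  have he_a := reg_mod_of_prime hpe ereg hea
  -- colon by t
  have hcol : ∀ x, x ∈ Ideal.span ({a} : Set NN) ⊔
      Ideal.span ({𝔱 ^ m' * 𝔢 ^ (n' + 1)} : Set NN) ↔
      𝔱 * x ∈ Ideal.span ({𝔱 ^ (m' + 1) * 𝔢 ^ (n' + 1), 𝔱 * a, 𝔢 * b} : Set NN) := by
    intro x
    constructor
    · intro hx
      obtain ⟨y, hy, z, hz, rfl⟩ := Submodule.mem_sup.mp hx
      obtain ⟨r, rfl⟩ := Ideal.mem_span_singleton'.mp hy
      obtain ⟨s, rfl⟩ := Ideal.mem_span_singleton'.mp hz
      have : 𝔱 * (r * a + s * (𝔱 ^ m' * 𝔢 ^ (n' + 1))) =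
          s * (𝔱 ^ (m' + 1) * 𝔢 ^ (n' + 1)) + r * (𝔱 * a) := by ring
      rw [this]
      exact Ideal.add_mem _ (Ideal.mul_mem_left _ _ (Ideal.subset_span (by simp)))
        (Ideal.mul_mem_left _ _ (Ideal.subset_span (by simp)))
    · intro hx
      obtain ⟨p, q, r, hpqr⟩ := Submodule.mem_span_triple.mp hx
      simp only [smul_eq_mul] at hpqr
      have h1 : 𝔱 ∣ r * (𝔢 * b) :=
        ⟨x - p * (𝔱 ^ m' * 𝔢 ^ (n' + 1)) - q * a, by linear_combination hpqr⟩
      have h2 : 𝔱 ∣ r := by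
        rcases hpt.dvd_or_dvd h1 with h | h
        · exact h
        · rcases hpt.dvd_or_dvd h with h' | h'
          · exact absurd h' (t_not_dvd_e π hπ)
          · exact absurd h' htb
      obtain ⟨r', rfl⟩ := h2
      have h3 : x = p * (𝔱 ^ m' * 𝔢 ^ (n' + 1)) + q * a + r' * (𝔢 * b) := by
        apply cancel_of_regular treg
        linear_combination (-1 : NN) * hpqr
      have h4 : 𝔢 * b = (c * υ') * (𝔱 ^ m' * 𝔢 ^ (n' + 1)) + (-(𝔢 * υ')) * a := by
        rw [hb]; ring
      rw [h3, h4]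
      have m1 : 𝔱 ^ m' * 𝔢 ^ (n' + 1) ∈ Ideal.span ({a} : Set NN) ⊔
          Ideal.span ({𝔱 ^ m' * 𝔢 ^ (n' + 1)} : Set NN) :=
        Submodule.mem_sup_right (Ideal.mem_span_singleton_self _)
      have m2 : a ∈ Ideal.span ({a} : Set NN) ⊔
          Ideal.span ({𝔱 ^ m' * 𝔢 ^ (n' + 1)} : Set NN) :=
        Submodule.mem_sup_left (Ideal.mem_span_singleton_self _)
      exact Ideal.add_mem _ (Ideal.add_mem _ (Ideal.mul_mem_left _ _ m1) (Ideal.mul_mem_left _ _ m2))
        (Ideal.mul_mem_left _ _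
          (Ideal.add_mem _ (Ideal.mul_mem_left _ _ m1) (Ideal.mul_mem_left _ _ m2)))
  have L0 := length_colon_add _ _ 𝔱 hcol
  -- the part G + (t)
  have hGt : Ideal.span ({𝔱 ^ (m' + 1) * 𝔢 ^ (n' + 1), 𝔱 * a, 𝔢 * b} : Set NN) ⊔
      Ideal.span ({𝔱} : Set NN) =
      Ideal.span ({𝔱} : Set NN) ⊔ Ideal.span ({b * 𝔢} : Set NN) := by
    apply le_antisymm
    · refine sup_le ?_ le_sup_left
      rw [Ideal.span_le]
      intro x hx
      simp only [Set.mem_insert_iff, Set.mem_singleton_iff] at hx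
      rcases hx with rfl | rfl | rfl
      · exact Submodule.mem_sup_left
          (Ideal.mem_span_singleton'.mpr ⟨𝔱 ^ m' * 𝔢 ^ (n' + 1), by ring⟩)
      · exact Submodule.mem_sup_left (Ideal.mem_span_singleton'.mpr ⟨a, by ring⟩)
      · exact Submodule.mem_sup_right (Ideal.mem_span_singleton'.mpr ⟨1, by ring⟩)
    · refine sup_le le_sup_right ?_
      rw [Ideal.span_le, Set.singleton_subset_iff]
      have : b * 𝔢 = 𝔢 * b := by ring
      rw [this]; exact Submodule.mem_sup_left (Ideal.subset_span (by simp))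
  have L1 := length_sup_mul (Ideal.span ({𝔱} : Set NN)) b 𝔢
    (reg_mod_prime hpt (t_not_dvd_e π hπ))
  rw [← Ideal.span_insert 𝔱 {b}, span_t_sup_span_e π hπ, length_quot_span_te π hπ] at L1
  -- the colon part
  have L2 := length_sup_mul (Ideal.span ({a} : Set NN)) (𝔱 ^ m') (𝔢 ^ (n' + 1))
    (reg_mod_pow he_a (n' + 1))
  have L3 := length_sup_pow (Ideal.span ({a} : Set NN)) 𝔢 he_a (n' + 1)
  have hae : Ideal.span ({a} : Set NN) ⊔ Ideal.span ({𝔢} : Set NN) =
      Ideal.span ({𝔢, a} : Set NN) := by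
    rw [sup_comm]; exact (Ideal.span_insert 𝔢 {a}).symm
  rw [hae] at L3
  have L4 : Module.length NN (NN ⧸ (Ideal.span ({a} : Set NN) ⊔ Ideal.span ({𝔱 ^ m'} : Set NN))) =
      (m' : ℕ∞) * Module.length NN (NN ⧸ Ideal.span ({𝔱, b} : Set NN)) := by
    rcases Nat.eq_zero_or_pos m' with hm | hm
    · subst hm
      have h1 : Ideal.span ({a} : Set NN) ⊔ Ideal.span ({𝔱 ^ 0} : Set NN) = ⊤ := by
        rw [pow_zero, Ideal.span_singleton_one, sup_top_eq]
      have hs : Subsingleton (NN ⧸ (Ideal.span ({a} : Set NN) ⊔ Ideal.span ({𝔱 ^ 0} : Set NN))) :=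
        Ideal.Quotient.subsingleton_iff.mpr h1
      rw [Module.length_eq_zero_iff.mpr hs, Nat.cast_zero, zero_mul]
    · obtain ⟨m'', rfl⟩ : ∃ m'', m' = m'' + 1 := ⟨m' - 1, by omega⟩
      have hta : ¬ 𝔱 ∣ a := by
        intro hd
        have h1 : 𝔱 ∣ b * υ := by
          rw [hrel]
          exact dvd_sub (Dvd.intro_left (c * 𝔱 ^ m'' * 𝔢 ^ n') (by ring)) hd
        rcases hpt.dvd_or_dvd h1 with h | h
        · exact htb h
        · exact hpt.not_isUnit (isUnit_of_dvd_unit h hυ)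
      have ht_a := reg_mod_of_prime hpt treg hta
      have hat : Ideal.span ({a} : Set NN) ⊔ Ideal.span ({𝔱} : Set NN) =
          Ideal.span ({𝔱, b} : Set NN) := by
        apply le_antisymm
        · refine sup_le ?_ ?_
          · rw [Ideal.span_le, Set.singleton_subset_iff]
            have : a = (c * 𝔱 ^ m'' * 𝔢 ^ n') * 𝔱 + (-υ) * b := by
              linear_combination hrel
            rw [this]
            exact Ideal.add_mem _ (Ideal.mul_mem_left _ _ (Ideal.subset_span (by simp)))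
              (Ideal.mul_mem_left _ _ (Ideal.subset_span (by simp)))
          · rw [Ideal.span_le, Set.singleton_subset_iff]; exact Ideal.subset_span (by simp)
        · rw [Ideal.span_le]
          intro x hx
          simp only [Set.mem_insert_iff, Set.mem_singleton_iff] at hx
          rcases hx with rfl | hx
          · exact Submodule.mem_sup_right (Ideal.mem_span_singleton_self _)
          · have : b = (c * 𝔱 ^ m'' * 𝔢 ^ n' * υ') * 𝔱 + (-υ') * a := by
              conv_lhs => rw [hb]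
              ring
            rw [hx, this]
            exact Ideal.add_mem _
              (Ideal.mul_mem_left _ _ (Submodule.mem_sup_right (Ideal.mem_span_singleton_self _)))
              (Ideal.mul_mem_left _ _ (Submodule.mem_sup_left (Ideal.mem_span_singleton_self _)))
      rw [length_sup_pow _ 𝔱 ht_a (m'' + 1), hat]
  rw [L0, hGt, L1, L2, L3, L4]
  push_cast
  ring

theorem length_H (m' : ℕ) (a b υ c : NN) (hυ : IsUnit υ) (hc : IsUnit c)
    (hrel : b * υ = c * 𝔱 ^ m' - 𝔢 * a) (htb : ¬ 𝔱 ∣ b) :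
    Module.length NN (NN ⧸ Ideal.span ({𝔱 ^ (m' + 1), 𝔱 * a, b} : Set NN)) + (m' : ℕ∞) =
      ((m' + 1 : ℕ) : ℕ∞) * Module.length NN (NN ⧸ Ideal.span ({𝔱, b} : Set NN)) := by
  have hpt := prime_t π hπ
  have hpe := prime_e π hπ
  have treg := t_regular π hπ
  have ereg := e_regular π hπ
  obtain ⟨υ', hυ'⟩ := hυ.exists_right_inv
  obtain ⟨c', hc'⟩ := hc.exists_right_inv
  have hb : b = (c * 𝔱 ^ m' - 𝔢 * a) * υ' := by rw [← hrel, mul_assoc, hυ', mul_one]
  have htm : 𝔱 ^ m' = c' * (b * υ + 𝔢 * a) := by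
    rw [hrel]
    calc 𝔱 ^ m' = (c * c') * 𝔱 ^ m' := by rw [hc', one_mul]
      _ = c' * (c * 𝔱 ^ m' - 𝔢 * a + 𝔢 * a) := by ring
  have heb : ¬ 𝔢 ∣ b := by
    intro hd
    have h1 : 𝔢 ∣ c * 𝔱 ^ m' := by
      have h2 : c * 𝔱 ^ m' = b * υ + 𝔢 * a := by rw [hrel]; ring
      rw [h2]
      exact dvd_add (Dvd.dvd.mul_right hd υ) (Dvd.intro a rfl)
    rcases hpe.dvd_or_dvd h1 with h | h
    · exact hpe.not_isUnit (isUnit_of_dvd_unit h hc)
    · exact e_not_dvd_t π hπ (hpe.dvd_of_dvd_pow h)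
  have ht_b := reg_mod_of_prime hpt treg htb
  have he_b := reg_mod_of_prime hpe ereg heb
  -- colon by t
  have hcol : ∀ x, x ∈ Ideal.span ({b} : Set NN) ⊔ Ideal.span ({a} : Set NN) ↔
      𝔱 * x ∈ Ideal.span ({𝔱 ^ (m' + 1), 𝔱 * a, b} : Set NN) := by
    intro x
    constructor
    · intro hx
      obtain ⟨y, hy, z, hz, rfl⟩ := Submodule.mem_sup.mp hx
      obtain ⟨r, rfl⟩ := Ideal.mem_span_singleton'.mp hy
      obtain ⟨s, rfl⟩ := Ideal.mem_span_singleton'.mp hz
      have : 𝔱 * (r * b + s * a) = (𝔱 * r) * b + s * (𝔱 * a) := by ring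
      rw [this]
      exact Ideal.add_mem _ (Ideal.mul_mem_left _ _ (Ideal.subset_span (by simp)))
        (Ideal.mul_mem_left _ _ (Ideal.subset_span (by simp)))
    · intro hx
      obtain ⟨p, q, r, hpqr⟩ := Submodule.mem_span_triple.mp hx
      simp only [smul_eq_mul] at hpqr
      have h1 : 𝔱 ∣ r * b := ⟨x - p * 𝔱 ^ m' - q * a, by linear_combination hpqr⟩
      have h2 : 𝔱 ∣ r := by
        rcases hpt.dvd_or_dvd h1 with h | h
        · exact h
        · exact absurd h htb
      obtain ⟨r', rfl⟩ := h2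
      have h3 : x = p * 𝔱 ^ m' + q * a + r' * b := by
        apply cancel_of_regular treg
        linear_combination (-1 : NN) * hpqr
      have mb : b ∈ Ideal.span ({b} : Set NN) ⊔ Ideal.span ({a} : Set NN) :=
        Submodule.mem_sup_left (Ideal.mem_span_singleton_self _)
      have ma : a ∈ Ideal.span ({b} : Set NN) ⊔ Ideal.span ({a} : Set NN) :=
        Submodule.mem_sup_right (Ideal.mem_span_singleton_self _)
      have mt : 𝔱 ^ m' ∈ Ideal.span ({b} : Set NN) ⊔ Ideal.span ({a} : Set NN) := by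
        rw [htm]
        exact Ideal.mul_mem_left _ _
          (Ideal.add_mem _ (Ideal.mul_mem_right _ _ mb) (Ideal.mul_mem_left _ _ ma))
      rw [h3]
      exact Ideal.add_mem _ (Ideal.add_mem _ (Ideal.mul_mem_left _ _ mt) (Ideal.mul_mem_left _ _ ma))
        (Ideal.mul_mem_left _ _ mb)
  have L0 := length_colon_add _ _ 𝔱 hcol
  have hGt : Ideal.span ({𝔱 ^ (m' + 1), 𝔱 * a, b} : Set NN) ⊔ Ideal.span ({𝔱} : Set NN) =
      Ideal.span ({𝔱, b} : Set NN) := by
    apply le_antisymm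
    · refine sup_le ?_ ?_
      · rw [Ideal.span_le]
        intro x hx
        simp only [Set.mem_insert_iff, Set.mem_singleton_iff] at hx
        rcases hx with rfl | rfl | rfl
        · rw [pow_succ]; exact Ideal.mul_mem_left _ _ (Ideal.subset_span (by simp))
        · exact Ideal.mul_mem_right _ _ (Ideal.subset_span (by simp))
        · exact Ideal.subset_span (by simp)
      · rw [Ideal.span_le, Set.singleton_subset_iff]; exact Ideal.subset_span (by simp)
    · rw [Ideal.span_le]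
      intro x hx
      simp only [Set.mem_insert_iff, Set.mem_singleton_iff] at hx
      rcases hx with rfl | rfl
      · exact Submodule.mem_sup_right (Ideal.mem_span_singleton_self _)
      · exact Submodule.mem_sup_left (Ideal.subset_span (by simp))
  rw [hGt] at L0
  -- relation between lengths
  have L1 := length_sup_mul (Ideal.span ({b} : Set NN)) a 𝔢 he_b
  have hbae : Ideal.span ({b} : Set NN) ⊔ Ideal.span ({a * 𝔢} : Set NN) =
      Ideal.span ({b} : Set NN) ⊔ Ideal.span ({𝔱 ^ m'} : Set NN) := by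
    apply le_antisymm
    · refine sup_le le_sup_left ?_
      rw [Ideal.span_le, Set.singleton_subset_iff]
      have : a * 𝔢 = c * 𝔱 ^ m' + (-υ) * b := by linear_combination hrel
      rw [this]
      exact Ideal.add_mem _
        (Ideal.mul_mem_left _ _ (Submodule.mem_sup_right (Ideal.mem_span_singleton_self _)))
        (Ideal.mul_mem_left _ _ (Submodule.mem_sup_left (Ideal.mem_span_singleton_self _)))
    · refine sup_le le_sup_left ?_
      rw [Ideal.span_le, Set.singleton_subset_iff]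
      have : 𝔱 ^ m' = (c' * υ) * b + c' * (a * 𝔢) := by rw [htm]; ring
      rw [this]
      exact Ideal.add_mem _
        (Ideal.mul_mem_left _ _ (Submodule.mem_sup_left (Ideal.mem_span_singleton_self _)))
        (Ideal.mul_mem_left _ _ (Submodule.mem_sup_right (Ideal.mem_span_singleton_self _)))
  have L2 := length_sup_pow (Ideal.span ({b} : Set NN)) 𝔱 ht_b m'
  have hbt : Ideal.span ({b} : Set NN) ⊔ Ideal.span ({𝔱} : Set NN) =
      Ideal.span ({𝔱, b} : Set NN) := by
    rw [sup_comm]; exact (Ideal.span_insert 𝔱 {b}).symm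
  rw [hbt] at L2
  have hbe : Ideal.span ({b} : Set NN) ⊔ Ideal.span ({𝔢} : Set NN) =
      Ideal.span ({𝔢} : Set NN) ⊔ Ideal.span ({𝔱 ^ m'} : Set NN) := by
    apply le_antisymm
    · refine sup_le ?_ le_sup_left
      rw [Ideal.span_le, Set.singleton_subset_iff]
      have : b = (c * υ') * 𝔱 ^ m' + (-(a * υ')) * 𝔢 := by
        conv_lhs => rw [hb]
        ring
      rw [this]
      exact Ideal.add_mem _
        (Ideal.mul_mem_left _ _ (Submodule.mem_sup_right (Ideal.mem_span_singleton_self _)))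
        (Ideal.mul_mem_left _ _ (Submodule.mem_sup_left (Ideal.mem_span_singleton_self _)))
    · refine sup_le le_sup_right ?_
      rw [Ideal.span_le, Set.singleton_subset_iff]
      have : 𝔱 ^ m' = (c' * υ) * b + (c' * a) * 𝔢 := by rw [htm]; ring
      rw [this]
      exact Ideal.add_mem _
        (Ideal.mul_mem_left _ _ (Submodule.mem_sup_left (Ideal.mem_span_singleton_self _)))
        (Ideal.mul_mem_left _ _ (Submodule.mem_sup_right (Ideal.mem_span_singleton_self _)))
  have L3 := length_sup_pow (Ideal.span ({𝔢} : Set NN)) 𝔱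
    (reg_mod_prime hpe (e_not_dvd_t π hπ)) m'
  have het : Ideal.span ({𝔢} : Set NN) ⊔ Ideal.span ({𝔱} : Set NN) =
      Ideal.span ({𝔱, 𝔢} : Set NN) := by
    rw [sup_comm]; exact span_t_sup_span_e π hπ
  rw [het, length_quot_span_te π hπ, mul_one] at L3
  rw [hbae, L2, hbe, L3] at L1
  -- L1 : m' * L = length (b ⊔ a) + m'
  rw [L0, add_right_comm, ← L1]
  push_cast
  ring

end node

end Groth.Agent.Lib.Lead.NodeB
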