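import Mathlib
import Groth.Prelude.Def_W4bk4grossh111Obs

/-!
# Matrix coefficients of a rational module of an affine group scheme over a field (lead)

`T` an affine object of `Over (Spec k)`: a *universal point* `u : pt k B ⟶ T` (one whose underlying
morphism of schemes is an isomorphism) exists, every point factors through it by an algebra map, and
evaluation at it identifies global functions on `T` with `B`.  For a rational `G`-module `M`,
`a ∈ M` and a linear form `l` on `M` this produces the matrix coefficient `x ↦ l (x • a)` as a global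
function on `G`; it is right `H`-invariant when `a` is `H`-invariant.  Consequence (`main`): a rational
point of `G` fixing all right-`H`-invariant functions fixes all `H`-invariant vectors.
-/

set_option autoImplicit false
universe u
open CategoryTheory MonoidalCategory CartesianMonoidalCategory MonObj GrpObj AlgebraicGeometry
open scoped TensorProduct

namespace Groth.Agent.Lib.Lead.ObsFix

open VecGrp

section Points

variable {k : Type u} [CommRing k]

/-- evaluation of a global function at a point -/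
noncomputable def evalAt {T : Over (Spec (CommRingCat.of k))} {B : Type u} [CommRing B] [Algebra k B]
    (x : pt k B ⟶ T) : Γ(T.left, ⊤) →+* B :=
  (Scheme.ΓSpecIso (CommRingCat.of B)).hom.hom.comp x.left.appTop.hom

lemma evalAt_apply {T : Over (Spec (CommRingCat.of k))} {B : Type u} [CommRing B] [Algebra k B]
    (x : pt k B ⟶ T) (f : Γ(T.left, ⊤)) :
    evalAt x f = (Scheme.ΓSpecIso (CommRingCat.of B)).hom (x.left.appTop f) := rfl

lemma evalAt_comp {T T' : Over (Spec (CommRingCat.of k))} {B : Type u} [CommRing B] [Algebra k B]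
    (x : pt k B ⟶ T) (m : T ⟶ T') (f : Γ(T'.left, ⊤)) :
    evalAt (x ≫ m) f = evalAt x (m.left.appTop f) := by
  rw [evalAt_apply, evalAt_apply]
  congr 1

lemma evalAt_ptMap_comp {T : Over (Spec (CommRingCat.of k))} {B B' : Type u} [CommRing B] [Algebra k B]
    [CommRing B'] [Algebra k B'] (φ : B →ₐ[k] B') (x : pt k B ⟶ T) (f : Γ(T.left, ⊤)) :
    evalAt (ptMap φ ≫ x) f = φ (evalAt x f) := by
  rw [evalAt_apply, evalAt_apply]
  change (Scheme.ΓSpecIso (CommRingCat.of B')).hom
    (((Spec.map (CommRingCat.ofHom φ.toRingHom)) ≫ x.left).appTop f) = _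
  rw [Scheme.Hom.comp_appTop]
  have := Scheme.ΓSpecIso_naturality (CommRingCat.ofHom φ.toRingHom)
  exact congrArg (fun h => h.hom (x.left.appTop f)) this

lemma evalAt_bijective {T : Over (Spec (CommRingCat.of k))} {B : Type u} [CommRing B] [Algebra k B]
    (u : pt k B ⟶ T) [IsIso u.left] : Function.Bijective (evalAt u) := by
  have : IsIso (u.left.appTop) := inferInstanceAs (IsIso (Scheme.Γ.map u.left.op))
  have h1 : Function.Bijective (u.left.appTop).hom :=
    ConcreteCategory.bijective_of_isIso (u.left.appTop)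
  have h2 : Function.Bijective (Scheme.ΓSpecIso (CommRingCat.of B)).hom.hom :=
    ConcreteCategory.bijective_of_isIso (Scheme.ΓSpecIso (CommRingCat.of B)).hom
  exact h2.comp h1

/-- a universal point of an affine `T` -/
theorem exists_univ (T : Over (Spec (CommRingCat.of k))) [IsAffine T.left] :
    ∃ (B : Type u) (_ : CommRing B) (_ : Algebra k B) (u : pt k B ⟶ T), IsIso u.left := by
  let ψ : CommRingCat.of k ⟶ Γ(T.left, ⊤) := Spec.preimage (T.left.isoSpec.inv ≫ T.hom)
  let _ : Algebra k Γ(T.left, ⊤) := ψ.hom.toAlgebra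
  have hψ : Spec.map ψ = T.left.isoSpec.inv ≫ T.hom := Spec.map_preimage _
  refine ⟨Γ(T.left, ⊤), inferInstance, inferInstance, Over.homMk T.left.isoSpec.inv ?_, ?_⟩
  · exact hψ.symm
  · change IsIso T.left.isoSpec.inv
    infer_instance

/-- every point factors through a universal point -/
theorem exists_fac {T : Over (Spec (CommRingCat.of k))} {B B' : Type u} [CommRing B] [Algebra k B]
    [CommRing B'] [Algebra k B'] (u : pt k B ⟶ T) [IsIso u.left] (x : pt k B' ⟶ T) :
    ∃ φ : B →ₐ[k] B', x = ptMap φ ≫ u := by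
  let ψ : CommRingCat.of B ⟶ CommRingCat.of B' := Spec.preimage (x.left ≫ inv u.left)
  have hψ : Spec.map ψ = x.left ≫ inv u.left := Spec.map_preimage _
  have hu : u.left ≫ T.hom = Spec.map (CommRingCat.ofHom (algebraMap k B)) := Over.w u
  have hx : x.left ≫ T.hom = Spec.map (CommRingCat.ofHom (algebraMap k B')) := Over.w x
  have h1 : Spec.map (CommRingCat.ofHom (algebraMap k B) ≫ ψ) =
      Spec.map (CommRingCat.ofHom (algebraMap k B')) := by
    rw [Spec.map_comp, hψ, Category.assoc, ← hu, IsIso.inv_hom_id_assoc, hx]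
  have h2 : CommRingCat.ofHom (algebraMap k B) ≫ ψ = CommRingCat.ofHom (algebraMap k B') :=
    Spec.map_injective h1
  let φ : B →ₐ[k] B' :=
    { ψ.hom with
      commutes' := fun r => congrArg (fun h => h.hom r) h2 }
  refine ⟨φ, ?_⟩
  ext1
  change x.left = Spec.map (CommRingCat.ofHom φ.toRingHom) ≫ u.left
  have : CommRingCat.ofHom φ.toRingHom = ψ := rfl
  rw [this, hψ]
  simp

end Points

section Coef

variable {k : Type u} [CommRing k] {M : Type u} [AddCommGroup M] [Module k M]

/-- `b ⊗ m ↦ l m • b` -/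
noncomputable def coef (l : M →ₗ[k] k) (B : Type u) [CommRing B] [Algebra k B] : B ⊗[k] M →ₗ[k] B :=
  (TensorProduct.rid k B).toLinearMap ∘ₗ (l.lTensor B)

lemma coef_tmul (l : M →ₗ[k] k) (B : Type u) [CommRing B] [Algebra k B] (b : B) (m : M) :
    coef l B (b ⊗ₜ[k] m) = l m • b := by
  simp [coef]

lemma coef_Wmap (l : M →ₗ[k] k) {B B' : Type u} [CommRing B] [Algebra k B] [CommRing B'] [Algebra k B']
    (φ : B →ₐ[k] B') (z : B ⊗[k] M) : coef l B' (Wmap (M := M) φ z) = φ (coef l B z) := by
  induction z using TensorProduct.induction_on with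
  | zero => simp
  | tmul b m => rw [Wmap_tmul, coef_tmul, coef_tmul, map_smul]
  | add x y hx hy => rw [map_add, map_add, hx, hy, map_add, map_add]

end Coef

section Main

variable {k : Type u} [Field k]
variable {G H : Over (Spec (CommRingCat.of k))} [GrpObj G] [GrpObj H]
variable {M : Type u} [AddCommGroup M] [Module k M] (ρ : VecGrp.GMod G M)

lemma coef_orbit_natural (l : M →ₗ[k] k) (a : M) {B B' : Type u} [CommRing B] [Algebra k B]
    [CommRing B'] [Algebra k B'] (φ : B →ₐ[k] B') (u : pt k B ⟶ G) :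
    φ (coef l B (ρ.ρ B u ((1 : B) ⊗ₜ[k] a))) =
      coef l B' (ρ.ρ B' (ptMap φ ≫ u) ((1 : B') ⊗ₜ[k] a)) := by
  rw [← coef_Wmap, ρ.naturality φ u, Wmap_tmul, map_one]

/-- the matrix coefficient `x ↦ l (x • a)` as a global function on `G` -/
theorem exists_coefFn [IsAffine G.left] (l : M →ₗ[k] k) (a : M) :
    ∃ F : Γ(G.left, ⊤), ∀ (B : Type u) [CommRing B] [Algebra k B] (x : pt k B ⟶ G),
      evalAt x F = coef l B (ρ.ρ B x ((1 : B) ⊗ₜ[k] a)) := by
  obtain ⟨A, _, _, u, hu⟩ := exists_univ G
  obtain ⟨F, hF⟩ := (evalAt_bijective u).2 (coef l A (ρ.ρ A u ((1 : A) ⊗ₜ[k] a)))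
  refine ⟨F, fun B _ _ x => ?_⟩
  obtain ⟨φ, rfl⟩ := exists_fac u x
  rw [evalAt_ptMap_comp, hF, coef_orbit_natural]

omit [GrpObj H] in
theorem isRTransInv_of_fixed [IsAffine G.left] [IsAffine H.left] (i : H ⟶ G) (l : M →ₗ[k] k) (a : M)
    (ha : a ∈ ρ.fixedUnder i) (F : Γ(G.left, ⊤))
    (hF : ∀ (B : Type u) [CommRing B] [Algebra k B] (x : pt k B ⟶ G),
      evalAt x F = coef l B (ρ.ρ B x ((1 : B) ⊗ₜ[k] a))) :
    AGF.IsRTransInv i F := by
  unfold AGF.IsRTransInv
  have ha' : ∀ (B : Type u) [CommRing B] [Algebra k B] (h : pt k B ⟶ H),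
      ρ.ρ B (h ≫ i) ((1 : B) ⊗ₜ[k] a) = (1 : B) ⊗ₜ[k] a := ha
  have : IsAffine (G ⊗ H).left := by
    change IsAffine (Limits.pullback G.hom H.hom)
    infer_instance
  obtain ⟨B, _, _, p, hp⟩ := exists_univ (G ⊗ H)
  apply (evalAt_bijective p).1
  rw [← evalAt_comp, ← evalAt_comp, hF, hF]
  congr 1
  have e : p ≫ (G ◁ i) ≫ μ[G] = (p ≫ fst G H) * ((p ≫ snd G H) ≫ i) := by
    rw [Hom.mul_def, ← Category.assoc]
    congr 1
    apply CartesianMonoidalCategory.hom_ext <;> simp
  rw [e, map_mul, LinearEquiv.mul_apply, ha' B (p ≫ snd G H)]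

lemma coef_eq_lid (l : M →ₗ[k] k) (z : k ⊗[k] M) : coef l k z = l (TensorProduct.lid k M z) := by
  induction z using TensorProduct.induction_on with
  | zero => simp
  | tmul c m => rw [coef_tmul, TensorProduct.lid_tmul, map_smul, smul_eq_mul, smul_eq_mul, mul_comm]
  | add x y hx hy => rw [map_add, map_add, map_add, hx, hy]

lemma eq_of_coef_eq (z₁ z₂ : k ⊗[k] M) (h : ∀ l : M →ₗ[k] k, coef l k z₁ = coef l k z₂) : z₁ = z₂ := by
  apply (TensorProduct.lid k M).injective
  rw [← sub_eq_zero]
  apply (Module.forall_dual_apply_eq_zero_iff k _).mp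
  intro l
  have := h l
  rw [coef_eq_lid, coef_eq_lid] at this
  rw [map_sub, this, sub_self]

omit [GrpObj H] in
/-- a rational point fixing every right-`H`-invariant function fixes every `H`-invariant vector -/
theorem main [IsAffine G.left] [IsAffine H.left] (i : H ⟶ G) (g : pt k k ⟶ G)
    (hg : ∀ f : Γ(G.left, ⊤), AGF.IsRTransInv i f → AGF.IsRTransInv g f) (a : M)
    (ha : a ∈ ρ.fixedUnder i) :
    ρ.ρ k g ((1 : k) ⊗ₜ[k] a) = (1 : k) ⊗ₜ[k] a := by
  apply eq_of_coef_eq
  intro l
  obtain ⟨F, hF⟩ := exists_coefFn ρ l a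
  have h1 := hg F (isRTransInv_of_fixed ρ i l a ha F hF)
  unfold AGF.IsRTransInv at h1
  let s : pt k k ⟶ G ⊗ pt k k := lift (1 : pt k k ⟶ G) (𝟙 _)
  have h2 := congrArg (evalAt s) h1
  rw [← evalAt_comp, ← evalAt_comp, hF, hF] at h2
  have e1 : s ≫ (G ◁ g) ≫ μ[G] = g := by
    have : s ≫ (G ◁ g) = lift (1 : pt k k ⟶ G) g := by
      apply CartesianMonoidalCategory.hom_ext <;> simp [s]
    rw [← Category.assoc, this, ← Hom.mul_def, _root_.one_mul]
  have e2 : s ≫ fst G (pt k k) = 1 := by simp [s]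
  rw [e1, e2, map_one] at h2
  exact h2

end Main

end Groth.Agent.Lib.Lead.ObsFix
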