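import Mathlib
import Groth.Agent.Lib.Lead.ObsFix
import Groth.Agent.Lib.Helper22.SmoothRed

/-!
# Rational points of reduced affine schemes of finite type over an algebraically closed field (lead)

* `eq_zero_of_forall_algHom`: Nullstellensatz form: in a reduced finitely generated algebra over an
  algebraically closed field an element killed by all `k`-points is zero.
* `eq_of_forall_evalAt`: global functions on a reduced affine `T` locally of finite type over `k`
  are determined by their values at rational points.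
* `isRTransInv_iff`: right invariance of a function under a rational point, tested on rational points.
* `exists_finset`: finitely many right `H`-invariant functions cut out the observable hull on
  rational points.
-/

set_option autoImplicit false
universe u
open CategoryTheory MonoidalCategory CartesianMonoidalCategory MonObj GrpObj AlgebraicGeometry
open scoped TensorProduct

namespace Groth.Agent.Lib.Lead.ObsFin

open VecGrp Groth.Agent.Lib.Lead.ObsFix

theorem eq_zero_of_forall_algHom {k B : Type u} [Field k] [IsAlgClosed k] [CommRing B] [Algebra k B]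
    [Algebra.FiniteType k B] [IsReduced B] (b : B) (h : ∀ φ : B →ₐ[k] k, φ b = 0) : b = 0 := by
  by_contra hb
  have hJR : IsJacobsonRing B := isJacobsonRing_of_finiteType (A := k)
  have hJ : (⊥ : Ideal B).jacobson = ⊥ := hJR.out Ideal.isRadical_bot
  have hb' : b ∉ (⊥ : Ideal B).jacobson := by rw [hJ]; simpa using hb
  rw [Ideal.jacobson, Ideal.mem_sInf] at hb'
  push Not at hb'
  obtain ⟨m, ⟨-, hm⟩, hbm⟩ := hb'
  let _ : Field (B ⧸ m) := Ideal.Quotient.field m
  have hft : Algebra.FiniteType k (B ⧸ m) :=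
    Algebra.FiniteType.of_surjective (Ideal.Quotient.mkₐ k m) (Ideal.Quotient.mkₐ_surjective k m)
  have hfin : Module.Finite k (B ⧸ m) := finite_of_finite_type_of_isJacobsonRing k (B ⧸ m)
  have hbij : Function.Bijective (algebraMap k (B ⧸ m)) :=
    IsAlgClosed.algebraMap_bijective_of_isIntegral
  let e : k ≃ₐ[k] (B ⧸ m) := AlgEquiv.ofBijective (Algebra.ofId k (B ⧸ m)) hbij
  let φ : B →ₐ[k] k := (e.symm : (B ⧸ m) →ₐ[k] k).comp (Ideal.Quotient.mkₐ k m)
  have h1 : e.symm (Ideal.Quotient.mk m b) = 0 := h φ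
  have h2 : Ideal.Quotient.mk m b = 0 := by
    have := congrArg e h1
    rwa [AlgEquiv.apply_symm_apply, map_zero] at this
  exact hbm (Ideal.Quotient.eq_zero_iff_mem.mp h2)

section Sch

variable {k : Type u} [Field k] [IsAlgClosed k]

omit [IsAlgClosed k] in
theorem finiteType_of_univ {T : Over (Spec (CommRingCat.of k))} [LocallyOfFiniteType T.hom]
    {B : Type u} [CommRing B] [Algebra k B] (u : pt k B ⟶ T) [IsIso u.left] :
    Algebra.FiniteType k B := by
  have hw : u.left ≫ T.hom = Spec.map (CommRingCat.ofHom (algebraMap k B)) := Over.w u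
  rw [← RingHom.finiteType_algebraMap]
  have h1 : LocallyOfFiniteType (Spec.map (CommRingCat.ofHom (algebraMap k B))) := by
    rw [← hw]; infer_instance
  exact (HasRingHomProperty.Spec_iff (P := @LocallyOfFiniteType)).mp h1

theorem eq_of_forall_evalAt {T : Over (Spec (CommRingCat.of k))} [IsAffine T.left]
    [LocallyOfFiniteType T.hom] [IsReduced T.left] (f₁ f₂ : Γ(T.left, ⊤))
    (h : ∀ y : pt k k ⟶ T, evalAt y f₁ = evalAt y f₂) : f₁ = f₂ := by
  obtain ⟨B, _, _, u, hu⟩ := exists_univ T
  have hft : Algebra.FiniteType k B := finiteType_of_univ u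
  have hred : _root_.IsReduced B := by
    have : IsReduced (Spec (CommRingCat.of B)) := isReduced_of_isOpenImmersion u.left
    exact (affine_isReduced_iff (CommRingCat.of B)).mp this
  apply (evalAt_bijective u).1
  rw [← sub_eq_zero, ← map_sub]
  apply eq_zero_of_forall_algHom (k := k)
  intro φ
  have := h (ptMap φ ≫ u)
  rw [evalAt_ptMap_comp, evalAt_ptMap_comp] at this
  rw [map_sub, map_sub, this, sub_self]

end Sch

section Grp

variable {k : Type u} [Field k]
variable {G : Over (Spec (CommRingCat.of k))} [GrpObj G]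

lemma isIso_pt_hom : IsIso (pt k k).hom := by
  change IsIso (Spec.map (𝟙 (CommRingCat.of k)))
  rw [Spec.map_id]
  infer_instance

lemma endo_eq_id (e : pt k k ⟶ pt k k) : e = 𝟙 _ := by
  ext1
  have h : e.left ≫ (pt k k).hom = (pt k k).hom := Over.w e
  have := isIso_pt_hom (k := k)
  exact (cancel_mono (pt k k).hom).mp (by rw [h]; simp)

theorem evalAt_mul_of_isRTransInv (g : pt k k ⟶ G) (f : Γ(G.left, ⊤)) (h : AGF.IsRTransInv g f)
    (x : pt k k ⟶ G) : evalAt (x * g) f = evalAt x f := by
  unfold AGF.IsRTransInv at h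
  let s : pt k k ⟶ G ⊗ pt k k := lift x (𝟙 _)
  have h2 := congrArg (evalAt s) h
  rw [← evalAt_comp, ← evalAt_comp] at h2
  have e1 : s ≫ (G ◁ g) ≫ μ[G] = x * g := by
    have : s ≫ (G ◁ g) = lift x g := by
      apply CartesianMonoidalCategory.hom_ext <;> simp [s]
    rw [← Category.assoc, this, ← Hom.mul_def]
  have e2 : s ≫ fst G (pt k k) = x := by simp [s]
  rwa [e1, e2] at h2

theorem isRTransInv_of_forall [IsAlgClosed k] [IsAffine G.left] [LocallyOfFiniteType G.hom]
    [IsReduced G.left] (g : pt k k ⟶ G) (f : Γ(G.left, ⊤))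
    (h : ∀ x : pt k k ⟶ G, evalAt (x * g) f = evalAt x f) : AGF.IsRTransInv g f := by
  unfold AGF.IsRTransInv
  have hiso := isIso_pt_hom (k := k)
  have : IsAffine (G ⊗ pt k k).left := by
    change IsAffine (Limits.pullback G.hom (pt k k).hom)
    infer_instance
  have : IsIso (fst G (pt k k)).left := by
    change IsIso (Limits.pullback.fst G.hom (pt k k).hom)
    infer_instance
  have : IsReduced (G ⊗ pt k k).left := isReduced_of_isOpenImmersion (fst G (pt k k)).left
  have : LocallyOfFiniteType (G ⊗ pt k k).hom := by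
    have e : (G ⊗ pt k k).hom = (fst G (pt k k)).left ≫ G.hom := (Over.w (fst G (pt k k))).symm
    rw [e]; infer_instance
  apply eq_of_forall_evalAt
  intro y
  rw [← evalAt_comp, ← evalAt_comp]
  have hy : y ≫ snd G (pt k k) = 𝟙 _ := endo_eq_id _
  have e1 : y ≫ (G ◁ g) ≫ μ[G] = (y ≫ fst G (pt k k)) * g := by
    rw [Hom.mul_def, ← Category.assoc]
    congr 1
    apply CartesianMonoidalCategory.hom_ext
    · simp
    · simp [reassoc_of% hy]
  rw [e1]
  exact h _

/-- a function `c` with `c(g) = f(x g) - f(x)` on rational points -/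
theorem exists_diffFn [IsAffine G.left] (x : pt k k ⟶ G) (f : Γ(G.left, ⊤)) :
    ∃ c : Γ(G.left, ⊤), ∀ g : pt k k ⟶ G, evalAt g c = evalAt (x * g) f - evalAt x f := by
  obtain ⟨A, _, _, u, hu⟩ := exists_univ G
  let xA : pt k A ⟶ G := ptMap (Algebra.ofId k A) ≫ x
  obtain ⟨c, hc⟩ := (evalAt_bijective u).2 (evalAt (xA * u) f - algebraMap k A (evalAt x f))
  refine ⟨c, fun g => ?_⟩
  obtain ⟨φ, rfl⟩ := exists_fac u g
  rw [evalAt_ptMap_comp, hc, map_sub, ← evalAt_ptMap_comp, MonObj.comp_mul, AlgHom.commutes]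
  have : ptMap φ ≫ xA = x := by
    change ptMap φ ≫ ptMap (Algebra.ofId k A) ≫ x = x
    rw [← Category.assoc, endo_eq_id (ptMap φ ≫ ptMap (Algebra.ofId k A)), Category.id_comp]
  rw [this]
  rfl

theorem exists_finset [IsAlgClosed k] [IsAffine G.left] [LocallyOfFiniteType G.hom]
    [IsReduced G.left] {H : Over (Spec (CommRingCat.of k))} (i : H ⟶ G) :
    ∃ s : Finset Γ(G.left, ⊤), (∀ f ∈ s, AGF.IsRTransInv i f) ∧
      ∀ g : pt k k ⟶ G, (∀ f ∈ s, AGF.IsRTransInv g f) →
        ∀ f : Γ(G.left, ⊤), AGF.IsRTransInv i f → AGF.IsRTransInv g f := by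
  classical
  have hN : IsNoetherianRing Γ(G.left, ⊤) := by
    obtain ⟨A, _, _, u, hu⟩ := exists_univ G
    have hft : Algebra.FiniteType k A := finiteType_of_univ u
    have : IsNoetherianRing A := Algebra.FiniteType.isNoetherianRing k A
    exact isNoetherianRing_of_ringEquiv A (RingEquiv.ofBijective (evalAt u) (evalAt_bijective u)).symm
  let S : Set Γ(G.left, ⊤) := {c | ∃ (f : Γ(G.left, ⊤)) (x : pt k k ⟶ G), AGF.IsRTransInv i f ∧
    ∀ g : pt k k ⟶ G, evalAt g c = evalAt (x * g) f - evalAt x f}
  obtain ⟨S', hS'sub, hS'span⟩ :=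
    (Submodule.fg_span_iff_fg_span_finset_subset (R := Γ(G.left, ⊤)) S).mp
      (IsNoetherian.noetherian _)
  have hch : ∀ c ∈ S', ∃ (f : Γ(G.left, ⊤)) (x : pt k k ⟶ G), AGF.IsRTransInv i f ∧
      ∀ g : pt k k ⟶ G, evalAt g c = evalAt (x * g) f - evalAt x f := fun c hc => hS'sub hc
  choose! F X hF1 hF2 using hch
  refine ⟨S'.image F, ?_, ?_⟩
  · intro f hf
    obtain ⟨c, hc, rfl⟩ := Finset.mem_image.mp hf
    exact hF1 c hc
  · intro g hg f hf
    apply isRTransInv_of_forall
    intro x
    obtain ⟨c, hc⟩ := exists_diffFn x f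
    have hcS : c ∈ S := ⟨f, x, hf, hc⟩
    have hmem : c ∈ Submodule.span Γ(G.left, ⊤) (S' : Set Γ(G.left, ⊤)) := by
      rw [← hS'span]; exact Submodule.subset_span hcS
    have hker : Submodule.span Γ(G.left, ⊤) (S' : Set Γ(G.left, ⊤)) ≤ RingHom.ker (evalAt g) := by
      rw [Submodule.span_le]
      intro c' hc'
      rw [SetLike.mem_coe, RingHom.mem_ker, hF2 c' hc',
        evalAt_mul_of_isRTransInv g (F c') (hg _ (Finset.mem_image_of_mem F hc')) (X c'), sub_self]
    have := hker hmem
    rw [RingHom.mem_ker, hc, sub_eq_zero] at this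
    exact this

end Grp

end Groth.Agent.Lib.Lead.ObsFin
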