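import Mathlib

/-!
# Polars of squarefree polynomials over an algebraically closed field

* `not_irreducible_of_pderiv_eq_zero`: a polynomial all of whose partial derivatives vanish is not
  irreducible (it is a constant in characteristic zero and a `p`-th power in characteristic `p`).
* `exists_polar_isRelPrime`: for squarefree `f` there is a linear combination of the partial
  derivatives of `f` which is coprime to `f`.
-/

namespace Groth.Agent.Lib.Lead.Polar

open MvPolynomial

universe u v
variable {σ : Type v} {k : Type u} [Field k]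

theorem totalDegree_pderiv_lt (q : MvPolynomial σ k) (i : σ) (hne : pderiv i q ≠ 0) :
    (pderiv i q).totalDegree < q.totalDegree := by
  classical
  have hsup : (pderiv i q).support.Nonempty := by
    rwa [Finset.nonempty_iff_ne_empty, Ne, support_eq_empty]
  obtain ⟨m, hm, hmeq⟩ := Finset.exists_mem_eq_sup _ hsup (fun s => s.sum fun _ e => e)
  have h1 : coeff m (pderiv i q) ≠ 0 := mem_support_iff.mp hm
  rw [coeff_pderiv] at h1
  have h2 : coeff (m + Finsupp.single i 1) q ≠ 0 := left_ne_zero_of_mul h1
  have h3 := le_totalDegree (mem_support_iff.mpr h2)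
  have h4 : ((m + Finsupp.single i 1).sum fun _ e => e) = (m.sum fun _ e => e) + 1 := by
    rw [Finsupp.sum_add_index' (fun _ => rfl) (fun _ _ _ => rfl), Finsupp.sum_single_index rfl]
  have h5 : (pderiv i q).totalDegree = m.sum fun _ e => e := hmeq
  omega

theorem cast_eq_zero_of_pderiv_eq_zero (q : MvPolynomial σ k) (h : ∀ i, pderiv i q = 0)
    (m : σ →₀ ℕ) (hm : m ∈ q.support) (i : σ) : ((m i : ℕ) : k) = 0 := by
  classical
  by_cases hmi : m i = 0
  · rw [hmi, Nat.cast_zero]
  · have h1 := coeff_pderiv (i := i) q (m - Finsupp.single i 1)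
    have h2 : m - Finsupp.single i 1 + Finsupp.single i 1 = m := by
      ext j
      by_cases hj : j = i
      · subst hj
        simp only [Finsupp.coe_add, Finsupp.coe_tsub, Pi.add_apply, Pi.sub_apply,
          Finsupp.single_eq_same]
        omega
      · simp only [Finsupp.coe_add, Finsupp.coe_tsub, Pi.add_apply, Pi.sub_apply,
          Finsupp.single_apply, if_neg (Ne.symm hj), Nat.sub_zero, add_zero]
    rw [h i, coeff_zero, h2] at h1
    have h3 : ((((m - Finsupp.single i 1 : σ →₀ ℕ) i : ℕ) : k)) + 1 = ((m i : ℕ) : k) := by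
      have : (m - Finsupp.single i 1 : σ →₀ ℕ) i + 1 = m i := by
        simp only [Finsupp.coe_tsub, Pi.sub_apply, Finsupp.single_eq_same]
        omega
      exact_mod_cast congrArg (Nat.cast (R := k)) this
    rw [h3] at h1
    have h4 : coeff m q ≠ 0 := mem_support_iff.mp hm
    rcases mul_eq_zero.mp h1.symm with h | h
    · exact absurd h h4
    · exact h

theorem exists_pow_eq_of_pderiv_eq_zero [IsAlgClosed k] (p : ℕ) [hp : Fact p.Prime] [CharP k p]
    (q : MvPolynomial σ k) (h : ∀ i, pderiv i q = 0) : ∃ r : MvPolynomial σ k, r ^ p = q := by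
  classical
  have hdiv : ∀ m ∈ q.support, ∀ i, p ∣ m i := fun m hm i =>
    (CharP.cast_eq_zero_iff k p (m i)).mp (cast_eq_zero_of_pderiv_eq_zero q h m hm i)
  choose r hr using fun a : k => IsAlgClosed.exists_pow_nat_eq a hp.out.pos
  refine ⟨∑ m ∈ q.support, monomial (m.mapRange (· / p) (by simp)) (r (coeff m q)), ?_⟩
  rw [sum_pow_char]
  conv_rhs => rw [q.as_sum]
  refine Finset.sum_congr rfl fun m hm => ?_
  have hd : p • Finsupp.mapRange (· / p) (by simp) m = m := by
    ext i
    simp only [Finsupp.smul_apply, Finsupp.mapRange_apply, smul_eq_mul]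
    exact Nat.mul_div_cancel' (hdiv m hm i)
  rw [monomial_pow, hr, hd]

theorem not_irreducible_of_pderiv_eq_zero [IsAlgClosed k] (q : MvPolynomial σ k)
    (h : ∀ i, pderiv i q = 0) : ¬ Irreducible q := by
  classical
  intro hirr
  obtain ⟨p, hp⟩ := CharP.exists k
  rcases CharP.char_is_prime_or_zero k p with hpp | hp0
  · have := Fact.mk hpp
    obtain ⟨r, hr⟩ := exists_pow_eq_of_pderiv_eq_zero p q h
    rw [← hr] at hirr
    exact not_irreducible_pow hpp.one_lt.ne' hirr
  · subst hp0
    have : CharZero k := CharP.charP_to_charZero k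
    have hsup : ∀ m ∈ q.support, m = 0 := by
      intro m hm
      ext i
      have := cast_eq_zero_of_pderiv_eq_zero q h m hm i
      simpa using this
    have hq : q = C (coeff 0 q) := by
      ext m
      rw [coeff_C]
      split_ifs with h0
      · rw [h0]
      · by_contra hne
        exact h0 (hsup m (mem_support_iff.mpr hne)).symm
    rw [hq] at hirr
    by_cases ha : coeff 0 q = 0
    · rw [ha, C_0] at hirr
      exact not_irreducible_zero hirr
    · exact hirr.not_isUnit ((isUnit_iff_ne_zero.mpr ha).map C)

/-- The polar of `f` with respect to `c`. -/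
noncomputable def polar [Fintype σ] (f : MvPolynomial σ k) (c : σ → k) : MvPolynomial σ k :=
  ∑ i, C (c i) * pderiv i f

theorem polar_add [Fintype σ] (f : MvPolynomial σ k) (a b : σ → k) :
    polar f (a + b) = polar f a + polar f b := by
  unfold polar
  rw [← Finset.sum_add_distrib]
  refine Finset.sum_congr rfl fun i _ => ?_
  rw [Pi.add_apply, C_add, add_mul]

theorem polar_smul [Fintype σ] (f : MvPolynomial σ k) (a : k) (c : σ → k) :
    polar f (a • c) = C a * polar f c := by
  unfold polar
  rw [Finset.mul_sum]
  refine Finset.sum_congr rfl fun i _ => ?_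
  rw [Pi.smul_apply, smul_eq_mul, C_mul, mul_assoc]

theorem polar_zero [Fintype σ] (f : MvPolynomial σ k) : polar f 0 = 0 := by
  unfold polar
  simp

theorem polar_single [Fintype σ] [DecidableEq σ] (f : MvPolynomial σ k) (i : σ) :
    polar f (Pi.single i (1 : k)) = pderiv i f := by
  unfold polar
  rw [Finset.sum_eq_single i]
  · rw [Pi.single_eq_same, C_1, one_mul]
  · intro j _ hj
    rw [Pi.single_eq_of_ne hj, C_0, zero_mul]
  · intro hi
    exact absurd (Finset.mem_univ i) hi

theorem eval_polar [Fintype σ] (f : MvPolynomial σ k) (c x : σ → k)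
    (h : ∀ i, eval x (pderiv i f) = 0) : eval x (polar f c) = 0 := by
  unfold polar
  rw [map_sum]
  refine Finset.sum_eq_zero fun i _ => ?_
  rw [map_mul, h i, mul_zero]

theorem polar_isHomogeneous [Fintype σ] (f : MvPolynomial σ k) (c : σ → k) {n : ℕ}
    (hf : f.IsHomogeneous n) : (polar f c).IsHomogeneous (n - 1) := by
  unfold polar
  refine IsHomogeneous.sum _ _ _ fun i _ => ?_
  have := (isHomogeneous_C σ (c i)).mul (hf.pderiv (i := i))
  rwa [zero_add] at this

/-- The subspace of directions whose polar is divisible by `q`. -/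
noncomputable def polarSub [Fintype σ] (f q : MvPolynomial σ k) : Submodule k (σ → k) where
  carrier := {c | q ∣ polar f c}
  add_mem' := by
    intro a b ha hb
    show q ∣ _
    rw [polar_add]
    exact dvd_add ha hb
  zero_mem' := by
    show q ∣ _
    rw [polar_zero]
    exact dvd_zero _
  smul_mem' := by
    intro a c hc
    show q ∣ _
    rw [polar_smul]
    exact Dvd.dvd.mul_left hc _

theorem mem_polarSub [Fintype σ] (f q : MvPolynomial σ k) (c : σ → k) :
    c ∈ polarSub f q ↔ q ∣ polar f c := Iff.rfl

theorem polarSub_ne_top [Fintype σ] [IsAlgClosed k] (f q : MvPolynomial σ k)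
    (hred : Squarefree f) (hqirr : Irreducible q) (hqf : q ∣ f) : polarSub f q ≠ ⊤ := by
  classical
  intro htop
  obtain ⟨h, hfh⟩ := hqf
  have hqh : ¬ q ∣ h := by
    rintro ⟨h', hh'⟩
    have : q * q ∣ f := ⟨h', by rw [hfh, hh']; ring⟩
    exact hqirr.not_isUnit (hred q this)
  have hall : ∀ i, q ∣ pderiv i f := by
    intro i
    have : Pi.single i (1 : k) ∈ polarSub f q := by rw [htop]; trivial
    rw [mem_polarSub, polar_single] at this
    exact this
  have hqq : ∀ i, q ∣ pderiv i q := by
    intro i
    have h1 := hall i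
    rw [hfh, pderiv_mul] at h1
    have h2 : q ∣ pderiv i q * h := (dvd_add_left (dvd_mul_right q _)).mp h1
    have hprime : Prime q := UniqueFactorizationMonoid.irreducible_iff_prime.mp hqirr
    exact (hprime.dvd_or_dvd h2).resolve_right hqh
  have hzero : ∀ i, pderiv i q = 0 := by
    intro i
    by_contra hne
    have h1 := totalDegree_pderiv_lt q i hne
    obtain ⟨s, hs⟩ := hqq i
    have hs0 : s ≠ 0 := by
      rintro rfl
      rw [mul_zero] at hs
      exact hne hs
    have h2 := totalDegree_mul_of_isDomain hqirr.ne_zero hs0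
    rw [← hs] at h2
    omega
  exact not_irreducible_of_pderiv_eq_zero q hzero hqirr

/-- For squarefree `f` over an algebraically closed field there is a polar coprime to `f`. -/
theorem exists_polar_isRelPrime [Fintype σ] [IsAlgClosed k] (f : MvPolynomial σ k)
    (hred : Squarefree f) : ∃ c : σ → k, IsRelPrime f (polar f c) := by
  classical
  have hf0 : f ≠ 0 := hred.ne_zero
  let S := (UniqueFactorizationMonoid.factors f).toFinset
  let W : S → Submodule k (σ → k) := fun q => polarSub f q.1
  have hW : ∀ q : S, W q ≠ ⊤ := by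
    rintro ⟨q, hq⟩
    have hq' := Multiset.mem_toFinset.mp hq
    exact polarSub_ne_top f q hred (UniqueFactorizationMonoid.irreducible_of_factor q hq')
      (UniqueFactorizationMonoid.dvd_of_mem_factors hq')
  obtain ⟨c, hc⟩ := Submodule.exists_forall_notMem_of_forall_ne_top W hW
  refine ⟨c, ?_⟩
  intro d hdf hdg
  by_contra hdu
  have hd0 : d ≠ 0 := by
    rintro rfl
    exact hf0 (zero_dvd_iff.mp hdf)
  obtain ⟨q, hq, hqd⟩ := WfDvdMonoid.exists_irreducible_factor hdu hd0
  obtain ⟨q', hq', hass⟩ :=
    UniqueFactorizationMonoid.exists_mem_factors_of_dvd hf0 hq (hqd.trans hdf)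
  have : c ∈ W ⟨q', Multiset.mem_toFinset.mpr hq'⟩ := by
    show q' ∣ _
    exact hass.symm.dvd.trans (hqd.trans hdg)
  exact hc _ this

end Groth.Agent.Lib.Lead.Polar
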