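import Mathlib
import Groth.Prelude.Def_W4c2arithlefschetzNode

/-!
# Fixed-point ideals of automorphisms of `B[[t]]`, `B` a DVR (lead)

* `fixIdeal_eq`: for a ring automorphism `σ` of `B[[t]]` with `σ b - b ∈ (π^j)` for `b ∈ B` and
  `σ π = π + γ π^j`, `γ` a unit: `fixIdeal σ = (π^j, σ t - t)` (Nakayama).
* `length_Ipf`: `length B[[t]]/(π^n, f) = n * length k[[t]]/(f mod π)` when `π ∤ f`.
-/

set_option autoImplicit false
universe u

namespace Groth.Agent.Lib.Lead.PowSerFix

open PowerSeries

theorem mem_fixIdeal {A : Type u} [Ring A] (σ : A → A) (x : A) : σ x - x ∈ ArLef.fixIdeal σ :=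
  Ideal.subset_span ⟨x, rfl⟩

variable {B : Type u} [CommRing B] [IsDomain B] [IsDiscreteValuationRing B]

theorem algebraMap_eq_C (b : B) : algebraMap B (PowerSeries B) b = C b := by
  rw [PowerSeries.algebraMap_apply, Algebra.algebraMap_self_apply]

/-- the ideal `(π^n, f)` of `B[[t]]` -/
noncomputable abbrev Ipf (π : B) (f : PowerSeries B) (n : ℕ) : Ideal (PowerSeries B) :=
  Ideal.span {(C π ^ n : PowerSeries B), f}

theorem fixIdeal_eq (π : B) (j : ℕ) (γ : B) (hγ : IsUnit γ) (σ : PowerSeries B ≃+* PowerSeries B)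
    (hσB : ∀ b : B, σ (C b) - C b ∈ Ideal.span {(C π ^ j : PowerSeries B)})
    (hσπ : σ (C π) = C (π + γ * π ^ j)) :
    ArLef.fixIdeal σ = Ideal.span {(C π ^ j : PowerSeries B), σ X - X} := by
  apply le_antisymm
  · have hFG : (ArLef.fixIdeal σ).FG := IsNoetherian.noetherian _
    refine Submodule.le_of_le_smul_of_le_jacobson_bot (I := Ideal.span {(X : PowerSeries B)}) hFG
      ?_ ?_
    · rw [Ideal.span_le, Set.singleton_subset_iff, SetLike.mem_coe, Ideal.mem_jacobson_bot]
      intro y
      rw [PowerSeries.isUnit_iff_constantCoeff, map_add, map_mul, PowerSeries.constantCoeff_X,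
        zero_mul, zero_add, map_one]
      exact isUnit_one
    · have hmem : ∀ r : PowerSeries B, σ r - r ∈
          Ideal.span {(C π ^ j : PowerSeries B), σ X - X} ⊔
            Ideal.span {(X : PowerSeries B)} • ArLef.fixIdeal σ := by
        intro r
        obtain ⟨s, b, hr⟩ : ∃ (s : PowerSeries B) (b : B), r = X * s + C b :=
          ⟨_, _, PowerSeries.eq_X_mul_shift_add_const r⟩
        have key : σ r - r = ((σ (C b) - C b) + σ s * (σ X - X)) + X * (σ s - s) := by
          rw [hr, map_add, map_mul]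
          ring
        rw [key]
        refine Submodule.add_mem _ (Submodule.mem_sup_left ?_) (Submodule.mem_sup_right ?_)
        · refine Ideal.add_mem _ ?_ (Ideal.mul_mem_left _ _ (Ideal.subset_span (by simp)))
          have h1 : Ideal.span {(C π ^ j : PowerSeries B)} ≤
              Ideal.span {(C π ^ j : PowerSeries B), σ X - X} :=
            Ideal.span_mono (by simp)
          exact h1 (hσB b)
        · exact Submodule.smul_mem_smul (Ideal.subset_span (Set.mem_singleton _))
            (mem_fixIdeal σ s)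
      exact Ideal.span_le.mpr (by rintro _ ⟨r, rfl⟩; exact hmem r)
  · rw [Ideal.span_le]
    intro x hx
    simp only [Set.mem_insert_iff, Set.mem_singleton_iff] at hx
    rcases hx with rfl | rfl
    · have h1 : C γ * C π ^ j = σ (C π) - C π := by
        rw [hσπ, map_add, map_mul, map_pow]; ring
      have h2 : C γ * C π ^ j ∈ ArLef.fixIdeal σ := by rw [h1]; exact mem_fixIdeal σ _
      exact (Ideal.unit_mul_mem_iff_mem _ (hγ.map (C (R := B)))).mp h2
    · exact mem_fixIdeal σ _

section len

variable (π : B) (hπ : Irreducible π)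
include hπ

theorem map_C_pi : PowerSeries.map (IsLocalRing.residue B) (C π) = 0 := by
  rw [PowerSeries.map_C]
  have : IsLocalRing.residue B π = 0 := by
    rw [IsLocalRing.residue_eq_zero_iff, hπ.maximalIdeal_eq]
    exact Ideal.mem_span_singleton_self π
  rw [this, map_zero]

theorem C_dvd_of_map_eq_zero (x : PowerSeries B)
    (hx : PowerSeries.map (IsLocalRing.residue B) x = 0) : C π ∣ x := by
  have h : ∀ n, ∃ q, PowerSeries.coeff n x = π * q := by
    intro n
    have h1 : IsLocalRing.residue B (PowerSeries.coeff n x) = 0 := by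
      have := congrArg (PowerSeries.coeff n) hx
      rwa [PowerSeries.coeff_map, map_zero] at this
    rw [IsLocalRing.residue_eq_zero_iff, hπ.maximalIdeal_eq, Ideal.mem_span_singleton'] at h1
    obtain ⟨q, hq⟩ := h1
    exact ⟨q, by rw [← hq, mul_comm]⟩
  choose q hq using h
  refine ⟨PowerSeries.mk q, ?_⟩
  ext n
  rw [PowerSeries.coeff_C_mul, PowerSeries.coeff_mk, hq]

theorem C_dvd_iff (x : PowerSeries B) :
    C π ∣ x ↔ PowerSeries.map (IsLocalRing.residue B) x = 0 :=
  ⟨fun ⟨w, hw⟩ => by rw [hw, map_mul, map_C_pi π hπ, zero_mul], C_dvd_of_map_eq_zero π hπ x⟩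

theorem C_dvd_of_dvd_mul (b f : PowerSeries B) (hf : ¬ C π ∣ f) (h : C π ∣ b * f) : C π ∣ b := by
  rw [C_dvd_iff π hπ] at h hf ⊢
  rw [map_mul] at h
  rcases mul_eq_zero.mp h with h1 | h1
  · exact h1
  · exact absurd h1 hf

theorem C_pi_ne_zero : (C π : PowerSeries B) ≠ 0 :=
  (map_ne_zero_iff _ PowerSeries.C_injective).mpr hπ.ne_zero

theorem length_step (f : PowerSeries B) (hf : ¬ C π ∣ f) (n : ℕ) :
    Module.length (PowerSeries B) (PowerSeries B ⧸ Ipf π f (n + 1)) =
      Module.length (PowerSeries B) (PowerSeries B ⧸ Ipf π f n) +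
        Module.length (PowerSeries B) (PowerSeries B ⧸ Ipf π f 1) := by
  have h1 : Ipf π f n ≤ Submodule.comap
      (LinearMap.lsmul (PowerSeries B) (PowerSeries B) (C π)) (Ipf π f (n + 1)) := by
    intro x hx
    obtain ⟨a, b, rfl⟩ := Ideal.mem_span_pair.mp hx
    rw [Submodule.mem_comap]
    show C π • (a * C π ^ n + b * f) ∈ _
    refine Ideal.mem_span_pair.mpr ⟨a, C π * b, ?_⟩
    rw [smul_eq_mul]; ring
  have h2 : Ipf π f (n + 1) ≤ Ipf π f 1 := by
    rw [Ideal.span_le]
    intro x hx
    simp only [Set.mem_insert_iff, Set.mem_singleton_iff] at hx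
    rcases hx with rfl | rfl
    · exact Ideal.mem_span_pair.mpr ⟨C π ^ n, 0, by ring⟩
    · exact Ideal.subset_span (by simp)
  let φ : (PowerSeries B ⧸ Ipf π f n) →ₗ[PowerSeries B] (PowerSeries B ⧸ Ipf π f (n + 1)) :=
    Submodule.mapQ _ _ (LinearMap.lsmul (PowerSeries B) (PowerSeries B) (C π)) h1
  let ψ : (PowerSeries B ⧸ Ipf π f (n + 1)) →ₗ[PowerSeries B] (PowerSeries B ⧸ Ipf π f 1) :=
    Submodule.factor h2
  have hφ : Function.Injective φ := by
    rw [injective_iff_map_eq_zero]
    intro z hz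
    obtain ⟨x, rfl⟩ := Submodule.mkQ_surjective _ z
    have hz' : (Ipf π f (n + 1)).mkQ (C π • x) = 0 := hz
    rw [Submodule.mkQ_apply, Submodule.Quotient.mk_eq_zero, smul_eq_mul] at hz'
    obtain ⟨a, b, hab⟩ := Ideal.mem_span_pair.mp hz'
    have hdvd : C π ∣ b * f := ⟨x - a * C π ^ n, by linear_combination hab⟩
    obtain ⟨b', rfl⟩ := C_dvd_of_dvd_mul π hπ b f hf hdvd
    have hx : x = a * C π ^ n + b' * f := by
      apply mul_left_cancel₀ (C_pi_ne_zero π hπ)
      linear_combination (-1 : PowerSeries B) * hab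
    rw [Submodule.mkQ_apply, Submodule.Quotient.mk_eq_zero, hx]
    exact Ideal.mem_span_pair.mpr ⟨a, b', rfl⟩
  have hψ : Function.Surjective ψ := by
    intro w
    obtain ⟨x, rfl⟩ := Submodule.mkQ_surjective _ w
    exact ⟨(Ipf π f (n + 1)).mkQ x, rfl⟩
  have H : Function.Exact φ ψ := by
    intro y
    constructor
    · intro hy
      obtain ⟨x, rfl⟩ := Submodule.mkQ_surjective _ y
      have hy' : (Ipf π f 1).mkQ x = 0 := hy
      rw [Submodule.mkQ_apply, Submodule.Quotient.mk_eq_zero] at hy'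
      obtain ⟨a, b, rfl⟩ := Ideal.mem_span_pair.mp hy'
      refine ⟨(Ipf π f n).mkQ a, ?_⟩
      show (Ipf π f (n + 1)).mkQ (C π • a) = (Ipf π f (n + 1)).mkQ (a * C π ^ 1 + b * f)
      rw [Submodule.mkQ_apply, Submodule.mkQ_apply, Submodule.Quotient.eq]
      have : C π • a - (a * C π ^ 1 + b * f) = (-b) * f := by rw [smul_eq_mul]; ring
      rw [this]
      exact Ideal.mul_mem_left _ _ (Ideal.subset_span (by simp))
    · rintro ⟨z, rfl⟩
      obtain ⟨w, rfl⟩ := Submodule.mkQ_surjective _ z
      show (Ipf π f 1).mkQ (C π • w) = 0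
      rw [Submodule.mkQ_apply, Submodule.Quotient.mk_eq_zero]
      exact Ideal.mem_span_pair.mpr ⟨w, 0, by rw [smul_eq_mul]; ring⟩
  exact Module.length_eq_add_of_exact φ ψ hφ hψ H

theorem length_Ipf (f : PowerSeries B) (hf : ¬ C π ∣ f) (n : ℕ) :
    Module.length (PowerSeries B) (PowerSeries B ⧸ Ipf π f n) =
      (n : ℕ∞) * Module.length (PowerSeries B) (PowerSeries B ⧸ Ipf π f 1) := by
  induction n with
  | zero =>
    have h1 : Ipf π f 0 = ⊤ := by
      rw [Ideal.eq_top_iff_one]
      exact Ideal.subset_span (by simp)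
    have hs : Subsingleton (PowerSeries B ⧸ Ipf π f 0) := Ideal.Quotient.subsingleton_iff.mpr h1
    rw [Module.length_eq_zero_iff.mpr hs, Nat.cast_zero, zero_mul]
  | succ n ih => rw [length_step π hπ f hf n, ih, Nat.cast_succ, add_mul, one_mul]

theorem length_Ipf_one (f : PowerSeries B) :
    Module.length (PowerSeries B) (PowerSeries B ⧸ Ipf π f 1) =
      Module.length (PowerSeries (IsLocalRing.ResidueField B))
        (PowerSeries (IsLocalRing.ResidueField B) ⧸
          Ideal.span {PowerSeries.map (IsLocalRing.residue B) f}) := by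
  let g : PowerSeries B →ₗ[PowerSeries B] (PowerSeries (IsLocalRing.ResidueField B) ⧸
      Ideal.span {PowerSeries.map (IsLocalRing.residue B) f}) :=
    (Ideal.Quotient.mkₐ (PowerSeries B)
      (Ideal.span {PowerSeries.map (IsLocalRing.residue B) f})).toLinearMap.comp
      (Algebra.linearMap (PowerSeries B) (PowerSeries (IsLocalRing.ResidueField B)))
  have hg_apply : ∀ x, g x = Ideal.Quotient.mk _ (PowerSeries.map (IsLocalRing.residue B) x) :=
    fun x => rfl
  have hρ : Function.Surjective (PowerSeries.map (IsLocalRing.residue B)) :=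
    PowerSeries.map_surjective _ IsLocalRing.residue_surjective
  have hg : Function.Surjective g := by
    intro y
    obtain ⟨y', rfl⟩ := Ideal.Quotient.mk_surjective y
    obtain ⟨x, rfl⟩ := hρ y'
    exact ⟨x, rfl⟩
  have hker : LinearMap.ker g = Ipf π f 1 := by
    ext x
    rw [LinearMap.mem_ker, hg_apply, Ideal.Quotient.eq_zero_iff_mem, Ideal.mem_span_singleton']
    constructor
    · rintro ⟨y', hy'⟩
      obtain ⟨y, rfl⟩ := hρ y'
      have h0 : PowerSeries.map (IsLocalRing.residue B) (x - y * f) = 0 := by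
        rw [map_sub, map_mul, hy', sub_self]
      obtain ⟨w, hw⟩ := C_dvd_of_map_eq_zero π hπ _ h0
      exact Ideal.mem_span_pair.mpr ⟨w, y, by rw [pow_one]; linear_combination (-1 : PowerSeries B) * hw⟩
    · intro hx
      obtain ⟨a, b, rfl⟩ := Ideal.mem_span_pair.mp hx
      exact ⟨PowerSeries.map (IsLocalRing.residue B) b, by
        rw [map_add, map_mul, map_mul, map_pow, map_C_pi π hπ, pow_one, mul_zero, zero_add]⟩
  have e1 : (PowerSeries B ⧸ Ipf π f 1) ≃ₗ[PowerSeries B] (PowerSeries B ⧸ LinearMap.ker g) :=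
    Submodule.quotEquivOfEq _ _ hker.symm
  have e2 := LinearMap.quotKerEquivOfSurjective g hg
  rw [(e1.trans e2).length_eq]
  exact Module.length_eq_of_surjective hρ

theorem length_Ipf' (f : PowerSeries B) (hf : ¬ C π ∣ f) (n : ℕ) :
    Module.length (PowerSeries B) (PowerSeries B ⧸ Ideal.span {(C π ^ n : PowerSeries B), f}) =
      (n : ℕ∞) * Module.length (PowerSeries (IsLocalRing.ResidueField B))
        (PowerSeries (IsLocalRing.ResidueField B) ⧸
          Ideal.span {PowerSeries.map (IsLocalRing.residue B) f}) := by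
  rw [← length_Ipf_one π hπ f]
  exact length_Ipf π hπ f hf n

end len

end Groth.Agent.Lib.Lead.PowSerFix
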