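import Mathlib
import Groth.Prelude
import Groth.Agent.Lib.Helper21.RMb
import Groth.Agent.Lib.Helper27.ProjDescB

/-!
# S7943: a projective scheme over a DVR `O_L` (with `L/K` algebraic) is defined over `O_L ∩ K'`
for a finite subextension `K'/K` (lead)

Assembly: `O_L` is the directed union of the subrings `O_L ∩ K'` (`K'` finite over `K`);
helper27's `ProjDescB.exists_projective_descent` descends the closed subscheme of `P^n` to a stage,
helper21's `RMb.isDVR_range_inf` shows that the stage ring is a DVR.
-/

set_option autoImplicit false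
set_option linter.style.haveILetI false
universe u
open CategoryTheory CategoryTheory.Limits AlgebraicGeometry IntermediateField

namespace Groth.Agent.Lib.Lead.Proj7943

section
variable (OL L : Type u) [CommRing OL] [IsDomain OL] [Field L] [Algebra OL L] [IsFractionRing OL L]

/-- `O_L ≃ range (O_L → L)`. -/
noncomputable def eRange : OL ≃+* (algebraMap OL L).range :=
  RingEquiv.ofBijective (algebraMap OL L).rangeRestrict
    ⟨fun a b h => IsFractionRing.injective OL L (congrArg Subtype.val h),
      (algebraMap OL L).rangeRestrict_surjective⟩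

theorem eRange_coe (a : OL) : ((eRange OL L a : (algebraMap OL L).range) : L) = algebraMap OL L a := rfl

/-- the section `O_L ∩ K' → O_L`. -/
noncomputable def phi (S : Subring L) : ↥((algebraMap OL L).range ⊓ S) →+* OL :=
  (eRange OL L).symm.toRingHom.comp (Subring.inclusion inf_le_left)

theorem algebraMap_phi (S : Subring L) (x : ↥((algebraMap OL L).range ⊓ S)) :
    algebraMap OL L (phi OL L S x) = (x : L) := by
  have h : eRange OL L (phi OL L S x) = Subring.inclusion inf_le_left x := by
    simp [phi]
  have := congrArg (fun y : (algebraMap OL L).range => (y : L)) h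
  simpa [eRange_coe] using this

theorem phi_injective (S : Subring L) : Function.Injective (phi OL L S) := by
  intro x y h
  apply Subtype.ext
  rw [← algebraMap_phi OL L S x, ← algebraMap_phi OL L S y, h]

end

set_option maxHeartbeats 1000000 in
theorem main (OK OL K L : Type u) [CommRing OK] [IsDomain OK] [IsDiscreteValuationRing OK]
    [CommRing OL] [IsDomain OL] [IsDiscreteValuationRing OL] [Field K] [Field L]
    [Algebra OK K] [IsFractionRing OK K] [Algebra OL L] [IsFractionRing OL L]
    [Algebra OK OL] [Algebra K L] [Algebra OK L] [IsScalarTower OK OL L] [IsScalarTower OK K L]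
    (hinj : Function.Injective (algebraMap OK OL)) (hloc : IsLocalHom (algebraMap OK OL))
    [Algebra.IsAlgebraic K L]
    {X : Scheme.{u}} (p : X ⟶ Spec (CommRingCat.of OL)) (hp : Neron.IsProjectiveOver OL (Over.mk p)) :
    ∃ (K' : IntermediateField K L) (_ : FiniteDimensional K K')
      (φ : ↥((algebraMap OL L).range ⊓ K'.toSubring) →+* OL)
      (_ : ∀ x : ↥((algebraMap OL L).range ⊓ K'.toSubring), algebraMap OL L (φ x) = (x : L))
      (_ : IsDiscreteValuationRing ↥((algebraMap OL L).range ⊓ K'.toSubring))
      (X' : Scheme.{u}) (p' : X' ⟶ Spec (CommRingCat.of ↥((algebraMap OL L).range ⊓ K'.toSubring)))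
      (_ : Neron.IsProjectiveOver ↥((algebraMap OL L).range ⊓ K'.toSubring) (Over.mk p'))
      (e : X ≅ pullback p' (Spec.map (CommRingCat.ofHom φ))),
      e.hom ≫ pullback.snd p' (Spec.map (CommRingCat.ofHom φ)) = p := by
  classical
  let ι := {K' : IntermediateField K L // FiniteDimensional K K'}
  haveI : Nonempty ι := ⟨⟨⊥, inferInstance⟩⟩
  haveI : IsDirected ι (· ≤ ·) := ⟨fun a b => by
    haveI := a.2
    haveI := b.2
    exact ⟨⟨a.1 ⊔ b.1, inferInstance⟩, (le_sup_left : a.1 ≤ a.1 ⊔ b.1), (le_sup_right : b.1 ≤ a.1 ⊔ b.1)⟩⟩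
  let R : ι → Type u := fun i => ↥((algebraMap OL L).range ⊓ i.1.toSubring)
  let φ : ∀ i : ι, R i →+* OL := fun i => phi OL L i.1.toSubring
  have hφ : ∀ i, Function.Injective (φ i) := fun i => phi_injective OL L i.1.toSubring
  have hmono : ∀ i j : ι, i ≤ j → ∃ ψ : R i →+* R j, (φ j).comp ψ = φ i := by
    intro i j hij
    have hle : (algebraMap OL L).range ⊓ i.1.toSubring ≤ (algebraMap OL L).range ⊓ j.1.toSubring :=
      inf_le_inf_left _ (fun x hx => hij hx)
    refine ⟨Subring.inclusion hle, ?_⟩
    ext x
    apply IsFractionRing.injective OL L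
    show algebraMap OL L (phi OL L j.1.toSubring (Subring.inclusion hle x)) =
      algebraMap OL L (phi OL L i.1.toSubring x)
    rw [algebraMap_phi, algebraMap_phi]
    rfl
  have hcov : ∀ a : OL, ∃ i : ι, a ∈ (φ i).range := by
    intro a
    have hint : IsIntegral K (algebraMap OL L a) := Algebra.IsIntegral.isIntegral _
    haveI : FiniteDimensional K K⟮algebraMap OL L a⟯ := IntermediateField.adjoin.finiteDimensional hint
    refine ⟨⟨K⟮algebraMap OL L a⟯, inferInstance⟩, ?_⟩
    let x : R ⟨K⟮algebraMap OL L a⟯, inferInstance⟩ :=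
      ⟨algebraMap OL L a, ⟨⟨a, rfl⟩, IntermediateField.mem_adjoin_simple_self K _⟩⟩
    refine ⟨x, ?_⟩
    apply IsFractionRing.injective OL L
    exact algebraMap_phi OL L _ x
  obtain ⟨i, X', p', hp', e, he⟩ :=
    Groth.Agent.Lib.Helper27.ProjDescB.exists_projective_descent R φ hφ hmono hcov p hp
  exact ⟨i.1, i.2, φ i, algebraMap_phi OL L i.1.toSubring,
    Groth.Agent.Lib.Helper21.RMb.isDVR_range_inf OK OL K L hinj hloc i.1, X', p', hp', e, he⟩

end Groth.Agent.Lib.Lead.Proj7943
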