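import Mathlib
import Groth.Prelude.Def_KRR
import Groth.Agent.Lib.Helper13.PtFibre
import Groth.Agent.Lib.Helper17.PbEpi
import Groth.Agent.Lib.Helper17.LocFreeRank
import Groth.Agent.Lib.Helper17.LocFreeOps
import Groth.Agent.Lib.Helper17.LocConstRank
import Groth.Agent.Lib.Helper3.LocFreeCrit

/-!
# Modules on a one-point scheme: maps into an invertible module (lead)

* `IsPt.nonempty_iso_free`: on a one-point scheme a finite locally free module of rank `n` is free.
* `IsPt.eq_zero_of_not_epi`: a map to an invertible module on a one-point scheme is zero or epi.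
* `pullbackCongr_hom_app`, `comp_candidate`, `candidate_eq`: pseudofunctor coherence for the
  pullback of modules, in the form used by the universal property of a projective bundle.
-/

set_option autoImplicit false
set_option linter.style.haveILetI false
universe u
open CategoryTheory CategoryTheory.Limits AlgebraicGeometry Opposite TopologicalSpace

namespace Groth.Agent.Lib.Lead.ProjBdA

open Groth.Agent.Lib.Helper13.PtEval Groth.Agent.Lib.Helper13.PtFibre

section Pt

variable {Z : Scheme.{u}}

/-- on a one-point scheme a locally free module of rank `n` is free -/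
theorem IsPt.nonempty_iso_free (hZ : IsPt Z) {L : Z.Modules} {n : ℕ}
    (hL : FlatMod.IsFinLocFreeOfRank n L) : Nonempty (L ≅ FlatMod.freeMod Z n) := by
  obtain ⟨z⟩ := hZ.nonempty
  obtain ⟨U, hzU, ⟨e⟩⟩ := hL z
  obtain rfl := hZ.eq_top U z hzU
  have hkj : Z.topIso.inv ≫ (⊤ : Z.Opens).ι = 𝟙 Z := Scheme.toIso_inv_ι Z
  exact ⟨(Scheme.Modules.pullbackId Z).symm.app L ≪≫
    (Scheme.Modules.pullbackCongr hkj.symm).app L ≪≫
    ((Scheme.Modules.pullbackComp Z.topIso.inv (⊤ : Z.Opens).ι).app L).symm ≪≫
    (Scheme.Modules.pullback Z.topIso.inv).mapIso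
      ((Scheme.Modules.restrictFunctorIsoPullback (⊤ : Z.Opens).ι).app L).symm ≪≫
    (Scheme.Modules.pullback Z.topIso.inv).mapIso e ≪≫
    Groth.Agent.Lib.Helper17.LocFreeRank.pullbackFreeModIso Z.topIso.inv n⟩

/-- a morphism to an invertible module on a one-point scheme is zero or an epimorphism -/
theorem IsPt.eq_zero_of_not_epi (hZ : IsPt Z) {M L : Z.Modules}
    (hL : FlatMod.IsFinLocFreeOfRank 1 L) (ψ : M ⟶ L) (h : ¬ Epi ψ) : ψ = 0 := by
  obtain ⟨e⟩ := IsPt.nonempty_iso_free hZ hL
  have hfin : Module.Finite (Coh.Γtop Z) (L.val.obj (op ⊤)) :=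
    finite_of_iso e.symm (finite_freeMod Z 1)
  have hrk : Module.finrank (Coh.Γtop Z) (L.val.obj (op ⊤)) = 1 := by
    rw [finrank_eq_of_iso e, hZ.finrank_freeMod]
  have hS : (ShortComplex.mk (kernel.ι (cokernel.π ψ)) (cokernel.π ψ)
      (kernel.condition (cokernel.π ψ))).ShortExact :=
    ShortComplex.ShortExact.mk' (ShortComplex.exact_of_f_is_kernel _ (kernelIsKernel _))
      inferInstance inferInstance
  obtain ⟨hK, hC, hadd⟩ := hZ.dimFn.ses _ hS hfin
  have hadd' : ((Module.finrank (Coh.Γtop Z) (L.val.obj (op ⊤)) : ℕ) : ℤ) =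
      ((Module.finrank (Coh.Γtop Z)
          ((kernel (cokernel.π ψ) : Z.Modules).val.obj (op ⊤)) : ℕ) : ℤ) +
        ((Module.finrank (Coh.Γtop Z) ((cokernel ψ : Z.Modules).val.obj (op ⊤)) : ℕ) : ℤ) := hadd
  by_cases h0 : Module.finrank (Coh.Γtop Z) ((cokernel ψ : Z.Modules).val.obj (op ⊤)) = 0
  · exfalso
    apply h
    have hsub : Subsingleton ((cokernel ψ : Z.Modules).val.obj (op ⊤)) := by
      letI := hZ.isField.toField
      haveI : Module.Finite (Coh.Γtop Z) ((cokernel ψ : Z.Modules).val.obj (op ⊤)) := hC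
      exact (Module.finrank_eq_zero_iff_of_free (Coh.Γtop Z) _).1 h0
    exact Preadditive.epi_of_isZero_cokernel ψ (IsPt.isZero_of_subsingleton hZ _ hsub)
  · have h1 : Module.finrank (Coh.Γtop Z) (L.val.obj (op ⊤)) =
        Module.finrank (Coh.Γtop Z) ((cokernel ψ : Z.Modules).val.obj (op ⊤)) := by omega
    haveI : IsIso (cokernel.π ψ) := IsPt.isIso_of_epi_of_finrank_eq hZ (cokernel.π ψ) hfin h1
    rw [← cancel_mono (cokernel.π ψ), cokernel.condition, zero_comp]

end Pt

section Coherence

variable {X P PB Z : Scheme.{u}}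

theorem pullbackCongr_hom_app {f g : Z ⟶ X} (hf : f = g) (E : X.Modules) :
    (Scheme.Modules.pullbackCongr hf).hom.app E = eqToHom (by rw [hf]) := by
  subst hf
  simp [Scheme.Modules.pullbackCongr]

theorem pullbackCongr_inv_app {f g : Z ⟶ X} (hf : f = g) (E : X.Modules) :
    (Scheme.Modules.pullbackCongr hf).inv.app E = eqToHom (by rw [hf]) := by
  subst hf
  simp [Scheme.Modules.pullbackCongr]

theorem comp_candidate (h : Z ⟶ PB) (c : PB ⟶ P) (π : P ⟶ X) (E : X.Modules) (O1 : P.Modules)
    (q : (Scheme.Modules.pullback π).obj E ⟶ O1) :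
    (Scheme.Modules.pullbackComp (h ≫ c) π).inv.app E ≫ (Scheme.Modules.pullback (h ≫ c)).map q ≫
      (Scheme.Modules.pullbackComp h c).inv.app O1 =
    (Scheme.Modules.pullbackCongr (Category.assoc h c π)).hom.app E ≫
      (Scheme.Modules.pullbackComp h (c ≫ π)).inv.app E ≫
      (Scheme.Modules.pullback h).map ((Scheme.Modules.pullbackComp c π).inv.app E ≫
        (Scheme.Modules.pullback c).map q) := by
  have hnat := (Scheme.Modules.pullbackComp h c).inv.naturality q
  have hassoc := congrArg (fun t => t.app E) (Scheme.Modules.pseudofunctor_associativity h c π)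
  simp only [NatTrans.comp_app, Functor.whiskerRight_app, Functor.whiskerLeft_app,
    Functor.associator_hom_app, Functor.comp_obj, Category.id_comp, eqToHom_app] at hassoc
  have hAB : (Scheme.Modules.pullbackComp h (c ≫ π)).inv.app E ≫
      (Scheme.Modules.pullback h).map ((Scheme.Modules.pullbackComp c π).inv.app E) =
      ((Scheme.Modules.pullbackComp h (c ≫ π)).inv.app E ≫
      (Scheme.Modules.pullback h).map ((Scheme.Modules.pullbackComp c π).inv.app E) ≫
        (Scheme.Modules.pullbackComp h c).hom.app ((Scheme.Modules.pullback π).obj E) ≫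
          (Scheme.Modules.pullbackComp (h ≫ c) π).hom.app E) ≫
      (Scheme.Modules.pullbackComp (h ≫ c) π).inv.app E ≫
        (Scheme.Modules.pullbackComp h c).inv.app ((Scheme.Modules.pullback π).obj E) := by
    simp only [Category.assoc, Iso.hom_inv_id_app_assoc, Iso.hom_inv_id_app]
    exact (Category.comp_id _).symm
  rw [hassoc] at hAB
  rw [pullbackCongr_hom_app, Functor.map_comp, hnat, reassoc_of% hAB, eqToHom_trans_assoc,
    eqToHom_refl, Category.id_comp]
  rfl

theorem candidate_eq (h : Z ⟶ PB) (c : PB ⟶ P) (π : P ⟶ X) (x : Z ⟶ P)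
    (hg : h ≫ (c ≫ π) = x ≫ π) (hg1 : (h ≫ c) ≫ π = x ≫ π)
    {E B : X.Modules} (gE : E ⟶ B) {O1 : P.Modules} {O1B : PB.Modules}
    (q : (Scheme.Modules.pullback π).obj E ⟶ O1)
    (qB : (Scheme.Modules.pullback (c ≫ π)).obj B ⟶ O1B)
    (ec : (Scheme.Modules.pullback c).obj O1 ≅ O1B)
    (hcq : (Scheme.Modules.pullbackComp c π).inv.app E ≫ (Scheme.Modules.pullback c).map q ≫
      ec.hom = (Scheme.Modules.pullback (c ≫ π)).map gE ≫ qB)
    {L : Z.Modules} (e : (Scheme.Modules.pullback h).obj O1B ≅ L)
    (t : (Scheme.Modules.pullback x).obj ((Scheme.Modules.pullback π).obj B) ⟶ L)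
    (θ : (Scheme.Modules.pullback x).obj O1 ⟶ L)
    (he : (Scheme.Modules.pullbackCongr hg).inv.app B ≫
      (Scheme.Modules.pullbackComp h (c ≫ π)).inv.app B ≫
      (Scheme.Modules.pullback h).map qB ≫ e.hom =
        (Scheme.Modules.pullbackComp x π).inv.app B ≫ t)
    (ht : (Scheme.Modules.pullback x).map ((Scheme.Modules.pullback π).map gE) ≫ t =
      (Scheme.Modules.pullback x).map q ≫ θ) :
    (Scheme.Modules.pullbackCongr hg1).inv.app E ≫
      (Scheme.Modules.pullbackComp (h ≫ c) π).inv.app E ≫
      (Scheme.Modules.pullback (h ≫ c)).map q ≫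
        ((Scheme.Modules.pullbackComp h c).inv.app O1 ≫ (Scheme.Modules.pullback h).map ec.hom ≫
          e.hom) =
    (Scheme.Modules.pullbackComp x π).inv.app E ≫ (Scheme.Modules.pullback x).map q ≫ θ := by
  have h1 := comp_candidate h c π E O1 q
  have h2 : (Scheme.Modules.pullback h).map ((Scheme.Modules.pullbackComp c π).inv.app E ≫
        (Scheme.Modules.pullback c).map q) ≫ (Scheme.Modules.pullback h).map ec.hom =
      (Scheme.Modules.pullback h).map ((Scheme.Modules.pullback (c ≫ π)).map gE) ≫
        (Scheme.Modules.pullback h).map qB := by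
    rw [← Functor.map_comp, ← Functor.map_comp, Category.assoc, hcq]
  have h3 := (Scheme.Modules.pullbackComp h (c ≫ π)).inv.naturality gE
  have h4 := (Scheme.Modules.pullbackCongr hg).hom.naturality gE
  have h5 := (Scheme.Modules.pullbackComp x π).inv.naturality gE
  have he' : (Scheme.Modules.pullbackComp h (c ≫ π)).inv.app B ≫
      (Scheme.Modules.pullback h).map qB ≫ e.hom =
      (Scheme.Modules.pullbackCongr hg).hom.app B ≫
        (Scheme.Modules.pullbackComp x π).inv.app B ≫ t := by
    rw [← he, Iso.hom_inv_id_app_assoc]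
  calc _ = (Scheme.Modules.pullbackCongr hg1).inv.app E ≫
        ((Scheme.Modules.pullbackComp (h ≫ c) π).inv.app E ≫
          (Scheme.Modules.pullback (h ≫ c)).map q ≫
          (Scheme.Modules.pullbackComp h c).inv.app O1) ≫
        (Scheme.Modules.pullback h).map ec.hom ≫ e.hom := by
        simp only [Category.assoc]
    _ = (Scheme.Modules.pullbackCongr hg1).inv.app E ≫
        (Scheme.Modules.pullbackCongr (Category.assoc h c π)).hom.app E ≫
        (Scheme.Modules.pullbackComp h (c ≫ π)).inv.app E ≫
        ((Scheme.Modules.pullback h).map ((Scheme.Modules.pullbackComp c π).inv.app E ≫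
          (Scheme.Modules.pullback c).map q) ≫ (Scheme.Modules.pullback h).map ec.hom) ≫
        e.hom := by
        rw [h1]
        simp only [Category.assoc]
    _ = (Scheme.Modules.pullbackCongr hg1).inv.app E ≫
        (Scheme.Modules.pullbackCongr (Category.assoc h c π)).hom.app E ≫
        ((Scheme.Modules.pullbackComp h (c ≫ π)).inv.app E ≫
          (Scheme.Modules.pullback h).map ((Scheme.Modules.pullback (c ≫ π)).map gE)) ≫
        (Scheme.Modules.pullback h).map qB ≫ e.hom := by
        rw [h2]
        simp only [Category.assoc]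
    _ = (Scheme.Modules.pullbackCongr hg1).inv.app E ≫
        (Scheme.Modules.pullbackCongr (Category.assoc h c π)).hom.app E ≫
        (Scheme.Modules.pullback (h ≫ c ≫ π)).map gE ≫
        ((Scheme.Modules.pullbackComp h (c ≫ π)).inv.app B ≫
        (Scheme.Modules.pullback h).map qB ≫ e.hom) := by
        rw [← Functor.comp_map, ← h3]
        simp only [Category.assoc]
    _ = (Scheme.Modules.pullbackCongr hg1).inv.app E ≫
        (Scheme.Modules.pullbackCongr (Category.assoc h c π)).hom.app E ≫
        ((Scheme.Modules.pullback (h ≫ c ≫ π)).map gE ≫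
          (Scheme.Modules.pullbackCongr hg).hom.app B) ≫
        (Scheme.Modules.pullbackComp x π).inv.app B ≫ t := by
        rw [he']
        simp only [Category.assoc]
    _ = ((Scheme.Modules.pullbackCongr hg1).inv.app E ≫
        (Scheme.Modules.pullbackCongr (Category.assoc h c π)).hom.app E ≫
        (Scheme.Modules.pullbackCongr hg).hom.app E) ≫
        ((Scheme.Modules.pullback (x ≫ π)).map gE ≫
        (Scheme.Modules.pullbackComp x π).inv.app B) ≫ t := by
        rw [h4]
        simp only [Category.assoc]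
    _ = ((Scheme.Modules.pullbackComp x π).inv.app E ≫
          (Scheme.Modules.pullback x).map ((Scheme.Modules.pullback π).map gE)) ≫ t := by
        rw [h5, pullbackCongr_inv_app, pullbackCongr_hom_app, pullbackCongr_hom_app,
          eqToHom_trans, eqToHom_trans, eqToHom_refl, Category.id_comp]
        rfl
    _ = _ := by
        rw [Category.assoc, ht]

end Coherence

end Groth.Agent.Lib.Lead.ProjBdA
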