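import Mathlib
import Groth.Prelude.Def_KRR
import Groth.Agent.Lib.Lead.ProjBdA

/-!
# Complement of a projective sub-bundle: the fibrewise statement (lead)

`epi_fibre`: for `0 → A → E → B → 0` and `c : P(B) → P(E)` the sub-bundle, at a point of `P(E)`
outside the image of `c` the composite `π^*A → π^*E → O(1)` is surjective on the fibre.
-/

set_option autoImplicit false
set_option linter.style.haveILetI false
universe u
open CategoryTheory CategoryTheory.Limits AlgebraicGeometry Opposite TopologicalSpace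

namespace Groth.Agent.Lib.Lead.ProjBdB

open Groth.Agent.Lib.Helper13.PtEval Groth.Agent.Lib.Helper13.PtFibre
open Groth.Agent.Lib.Lead.ProjBdA

theorem epi_fibre {X P PB : Scheme.{u}} (S : ShortComplex X.Modules) (hS : S.ShortExact)
    (π : P ⟶ X) (O1 : P.Modules) (q : (Scheme.Modules.pullback π).obj S.X₂ ⟶ O1)
    (hP : KRR.IsProjBundle π S.X₂ O1 q)
    (c : PB ⟶ P) (O1B : PB.Modules) (qB : (Scheme.Modules.pullback (c ≫ π)).obj S.X₃ ⟶ O1B)
    (hPB : KRR.IsProjBundle (c ≫ π) S.X₃ O1B qB)
    (ec : (Scheme.Modules.pullback c).obj O1 ≅ O1B)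
    (hcq : (Scheme.Modules.pullbackComp c π).inv.app S.X₂ ≫ (Scheme.Modules.pullback c).map q ≫
      ec.hom = (Scheme.Modules.pullback (c ≫ π)).map S.g ≫ qB)
    {Z : Scheme.{u}} (hZ : IsPt Z) (x : Z ⟶ P) (z : Z) (hxz : x z ∉ Set.range c) :
    Epi ((Scheme.Modules.pullback x).map ((Scheme.Modules.pullback π).map S.f ≫ q)) := by
  by_contra hne
  have hL : FlatMod.IsFinLocFreeOfRank 1 ((Scheme.Modules.pullback x).obj O1) :=
    Groth.Agent.Lib.Helper17.LocFreeRank.isFinLocFreeOfRank_pullback x O1 1 hP.invertible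
  have h0 := IsPt.eq_zero_of_not_epi hZ hL _ hne
  have hcok : IsColimit ((CokernelCofork.ofπ S.g S.zero).map
      (Scheme.Modules.pullback π ⋙ Scheme.Modules.pullback x)) :=
    CokernelCofork.mapIsColimit _ hS.gIsCokernel
      (Scheme.Modules.pullback π ⋙ Scheme.Modules.pullback x)
  have hzero : (Scheme.Modules.pullback π ⋙ Scheme.Modules.pullback x).map S.f ≫
      (Scheme.Modules.pullback x).map q = 0 := by
    rw [Functor.comp_map, ← Functor.map_comp]
    exact h0
  obtain ⟨t, ht'⟩ : ∃ t : (Scheme.Modules.pullback x).obj ((Scheme.Modules.pullback π).obj S.X₃) ⟶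
      (Scheme.Modules.pullback x).obj O1,
      (Scheme.Modules.pullback x).map ((Scheme.Modules.pullback π).map S.g) ≫ t =
        (Scheme.Modules.pullback x).map q :=
    ⟨_, (CokernelCofork.IsColimit.desc' hcok ((Scheme.Modules.pullback x).map q) hzero).2⟩
  haveI : Epi q := hP.epi
  haveI : Epi ((Scheme.Modules.pullback x).map q) := inferInstance
  haveI : Epi t := epi_of_epi_fac ht'
  obtain ⟨h, ⟨hg, e, he⟩, -⟩ := hPB.univ Z (x ≫ π) ((Scheme.Modules.pullback x).obj O1) hL
    ((Scheme.Modules.pullbackComp x π).inv.app S.X₃ ≫ t) (epi_comp _ _)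
  have hs : Epi ((Scheme.Modules.pullbackComp x π).inv.app S.X₂ ≫
      (Scheme.Modules.pullback x).map q) := epi_comp _ _
  have huniq : h ≫ c = x := by
    refine (hP.univ Z (x ≫ π) ((Scheme.Modules.pullback x).obj O1) hL
      ((Scheme.Modules.pullbackComp x π).inv.app S.X₂ ≫ (Scheme.Modules.pullback x).map q)
      hs).unique (y₁ := h ≫ c) (y₂ := x)
      ⟨(Category.assoc h c π).trans hg, (Scheme.Modules.pullbackComp h c).symm.app O1 ≪≫
        (Scheme.Modules.pullback h).mapIso ec ≪≫ e, ?_⟩ ⟨rfl, Iso.refl _, ?_⟩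
    · have := candidate_eq h c π x hg ((Category.assoc h c π).trans hg) S.g q qB ec hcq e t
        (𝟙 _) he (by rw [ht', Category.comp_id])
      simpa using this
    · simp [pullbackCongr_inv_app]
  apply hxz
  rw [← huniq]
  exact ⟨h z, rfl⟩

end Groth.Agent.Lib.Lead.ProjBdB
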