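import Mathlib
import Groth.Agent.Lib.Helper6.WHFinite

/-!
# The (weak) projective dimension theorem

Over an algebraically closed field, `m` forms of positive degrees in `N > m` variables have a
common nontrivial zero (`exists_common_zero`).  Proof: otherwise the polynomial ring is a finite
module over the subalgebra generated by the forms (Nullstellensatz + graded Nakayama), hence has
transcendence degree at most `m`.
-/

namespace Groth.Agent.Lib.Lead.ProjDim

open MvPolynomial Cardinal
open Groth.Agent.Lib.Helper6.WHFinite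

universe u
variable {k : Type u} [Field k] {N m : ℕ}

lemma exists_pow_mem [IsAlgClosed k] (Ψ : Fin m → MvPolynomial (Fin N) k)
    (h0 : ∀ z : Fin N → k, (∀ l, eval z (Ψ l) = 0) → z = 0) :
    ∃ M, ∀ i, (X i : MvPolynomial (Fin N) k) ^ M ∈ Ideal.span (Set.range Ψ) := by
  classical
  obtain ⟨I, hI⟩ : ∃ I, I = Ideal.span (Set.range Ψ) := ⟨_, rfl⟩
  have hrad : ∀ i, ∃ m', (X i : MvPolynomial (Fin N) k) ^ m' ∈ I := by
    intro i
    have h1 : (X i : MvPolynomial (Fin N) k) ∈ vanishingIdeal k (zeroLocus k I) := by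
      rw [mem_vanishingIdeal_iff]
      intro x hx
      rw [mem_zeroLocus_iff] at hx
      have hx0 : x = 0 := by
        apply h0
        intro l
        have := hx (Ψ l) (by rw [hI]; exact Ideal.subset_span ⟨l, rfl⟩)
        simpa using this
      rw [hx0]
      simp
    rw [vanishingIdeal_zeroLocus_eq_radical] at h1
    exact Ideal.mem_radical_iff.1 h1
  choose Mi hMi using hrad
  refine ⟨Finset.univ.sup Mi, fun i => ?_⟩
  have hle : Mi i ≤ Finset.univ.sup Mi := Finset.le_sup (Finset.mem_univ i)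
  have h2 : (X i : MvPolynomial (Fin N) k) ^ (Finset.univ.sup Mi)
      = X i ^ (Finset.univ.sup Mi - Mi i) * X i ^ (Mi i) := by
    rw [← pow_add]
    congr 1
    omega
  rw [h2, ← hI]
  exact I.mul_mem_left _ (hMi i)

lemma monomial_mem' (w : Fin N → ℕ) (Ψ : Fin m → MvPolynomial (Fin N) k) (δ : Fin m → ℕ)
    (hδ : ∀ l, 0 < δ l) (hΨ : ∀ l, IsWeightedHomogeneous w (Ψ l) (δ l)) (M : ℕ)
    (hM : ∀ i, (X i : MvPolynomial (Fin N) k) ^ M ∈ Ideal.span (Set.range Ψ))
    (T : Submodule k (MvPolynomial (Fin N) k))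
    (hTbox : ∀ β : Fin N →₀ ℕ, (∀ i, β i < M) → monomial β (1 : k) ∈ T)
    (hTΨ : ∀ (q : MvPolynomial (Fin N) k) (l : Fin m), q ∈ T → q * Ψ l ∈ T) :
    ∀ n : ℕ, ∀ d : Fin N →₀ ℕ, Finsupp.weight w d = n → monomial d (1 : k) ∈ T := by
  classical
  intro n
  induction n using Nat.strong_induction_on with
  | _ n ih =>
    intro d hd
    by_cases hbox : ∀ i, d i < M
    · exact hTbox d hbox
    · push Not at hbox
      obtain ⟨i, hi⟩ := hbox
      obtain ⟨d', hd'⟩ : ∃ d', d' = d - Finsupp.single i M := ⟨_, rfl⟩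
      have hle : Finsupp.single i M ≤ d := by
        rw [Finsupp.single_le_iff]
        exact hi
      have hdd : d = d' + Finsupp.single i M := by
        rw [hd', tsub_add_cancel_of_le hle]
      have hmono : monomial d (1 : k) = monomial d' 1 * X i ^ M := by
        rw [X_pow_eq_monomial, monomial_mul, ← hdd, one_mul]
      have hwt : Finsupp.weight w d = Finsupp.weight w d' + M * w i := by
        rw [hdd, map_add]
        congr 1
        simp [Finsupp.weight_apply]
      have hX : IsWeightedHomogeneous w ((X i : MvPolynomial (Fin N) k) ^ M) (M * w i) := by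
        have := (isWeightedHomogeneous_X k w i).pow M
        simpa using this
      obtain ⟨h, hh1, hh2, hrep⟩ := exists_homog_rep w Ψ δ hΨ _ _ hX (hM i)
      rw [hmono, hrep, Finset.mul_sum]
      apply Submodule.sum_mem
      intro l _
      have h3 : monomial d' (1 : k) * (h l * Ψ l) = (monomial d' 1 * h l) * Ψ l := by ring
      rw [h3]
      apply hTΨ
      by_cases hl : δ l ≤ M * w i
      · apply mem_of_monomials w T _ (Finsupp.weight w d' + (M * w i - δ l))
          ((isWeightedHomogeneous_monomial w d' 1 rfl).mul (hh1 l hl))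
        intro β hβ
        have := hδ l
        exact ih _ (by omega) β hβ
      · rw [hh2 l hl, mul_zero]
        exact T.zero_mem

/-- If the forms `Ψ l` (of positive degrees) have no common nontrivial zero, the polynomial ring is
a finite module over the subalgebra they generate. -/
theorem finite_over_adjoin [IsAlgClosed k] (Ψ : Fin m → MvPolynomial (Fin N) k) (δ : Fin m → ℕ)
    (hδ : ∀ l, 0 < δ l) (hΨ : ∀ l, (Ψ l).IsHomogeneous (δ l))
    (h0 : ∀ z : Fin N → k, (∀ l, eval z (Ψ l) = 0) → z = 0) :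
    Module.Finite (Algebra.adjoin k (Set.range Ψ)) (MvPolynomial (Fin N) k) := by
  classical
  obtain ⟨M, hM⟩ := exists_pow_mem Ψ h0
  let B : Finset (MvPolynomial (Fin N) k) := (Finset.univ : Finset (Fin N → Fin M)).image
      (fun f => monomial (Finsupp.equivFunOnFinite.symm (fun i => ((f i : Fin M) : ℕ))) (1 : k))
  let TA : Submodule (Algebra.adjoin k (Set.range Ψ)) (MvPolynomial (Fin N) k) :=
    Submodule.span (Algebra.adjoin k (Set.range Ψ)) (↑B)
  let T : Submodule k (MvPolynomial (Fin N) k) := TA.restrictScalars k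
  have hTbox : ∀ β : Fin N →₀ ℕ, (∀ i, β i < M) → monomial β (1 : k) ∈ T := by
    intro β hβ
    rw [Submodule.restrictScalars_mem]
    apply Submodule.subset_span
    rw [Finset.mem_coe, Finset.mem_image]
    refine ⟨fun i => ⟨β i, hβ i⟩, Finset.mem_univ _, ?_⟩
    congr 1
    ext i
    simp
  have hTΨ : ∀ (q : MvPolynomial (Fin N) k) (l : Fin m), q ∈ T → q * Ψ l ∈ T := by
    intro q l hq
    rw [Submodule.restrictScalars_mem] at hq ⊢
    have hΨA : Ψ l ∈ Algebra.adjoin k (Set.range Ψ) := Algebra.subset_adjoin ⟨l, rfl⟩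
    have h1 : (⟨Ψ l, hΨA⟩ : ↥(Algebra.adjoin k (Set.range Ψ))) • q ∈ TA := TA.smul_mem _ hq
    have h2 : (⟨Ψ l, hΨA⟩ : ↥(Algebra.adjoin k (Set.range Ψ))) • q = q * Ψ l := by
      rw [Subalgebra.smul_def, smul_eq_mul, mul_comm]
    rw [← h2]
    exact h1
  have hmon := monomial_mem' (1 : Fin N → ℕ) Ψ δ hδ hΨ M hM T hTbox hTΨ
  have htop : ∀ q : MvPolynomial (Fin N) k, q ∈ TA := by
    intro q
    rw [← Submodule.restrictScalars_mem k TA]
    rw [q.as_sum]
    apply Submodule.sum_mem
    intro β _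
    have h2 : monomial β (coeff β q) = coeff β q • monomial β (1 : k) := by
      rw [smul_monomial, smul_eq_mul, mul_one]
    rw [h2]
    exact T.smul_mem _ (hmon _ β rfl)
  refine ⟨⟨B, ?_⟩⟩
  rw [eq_top_iff]
  intro q _
  exact htop q

/-- **Projective dimension theorem (weak form).** Over an algebraically closed field, `m` forms of
positive degrees in `N > m` variables have a common nontrivial zero. -/
theorem exists_common_zero [IsAlgClosed k] (Ψ : Fin m → MvPolynomial (Fin N) k) (δ : Fin m → ℕ)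
    (hδ : ∀ l, 0 < δ l) (hΨ : ∀ l, (Ψ l).IsHomogeneous (δ l)) (hmN : m < N) :
    ∃ z : Fin N → k, z ≠ 0 ∧ ∀ l, eval z (Ψ l) = 0 := by
  classical
  by_contra hcon
  have h0 : ∀ z : Fin N → k, (∀ l, eval z (Ψ l) = 0) → z = 0 := by
    intro z hz
    by_contra hne
    exact hcon ⟨z, hne, hz⟩
  haveI := finite_over_adjoin Ψ δ hδ hΨ h0
  haveI : Algebra.IsIntegral (Algebra.adjoin k (Set.range Ψ)) (MvPolynomial (Fin N) k) :=
    Algebra.IsIntegral.of_finite _ _
  haveI : Algebra.IsAlgebraic (Algebra.adjoin k (Set.range Ψ)) (MvPolynomial (Fin N) k) :=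
    Algebra.IsIntegral.isAlgebraic
  have h1 := Algebra.IsAlgebraic.trdeg_le_cardinalMk k (Set.range Ψ)
    (A := MvPolynomial (Fin N) k)
  have h2 := MvPolynomial.trdeg_of_isDomain (ι := Fin N) (S := k)
  rw [Cardinal.mk_fin, Cardinal.lift_natCast] at h2
  have h3 : #(Set.range Ψ) ≤ (m : Cardinal.{u}) := by
    have := Cardinal.mk_range_le_lift (f := Ψ)
    simpa using this
  rw [h2] at h1
  have h4 : (N : Cardinal.{u}) ≤ (m : Cardinal.{u}) := h1.trans h3
  have h5 : N ≤ m := by exact_mod_cast h4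
  omega

end Groth.Agent.Lib.Lead.ProjDim
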