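import Mathlib
import Groth.Agent.Lib.Lead.ProjTop

/-!
# Dimension theory of closed subsets of projective space

`coheight_spec`: for a point `x` of `P^n` (a relevant homogeneous prime `P`), the coheight of `x` in
the poset of points (= dimension of its closure) is `dim k[x_0..x_n]/P - 1`.
`quot_dims`: dimension bookkeeping for minimal primes over `P + (s)`.
`component_data`: irreducible components of closed subsets correspond to minimal points.
-/

set_option autoImplicit false

namespace Groth.Agent.Lib.Lead.ProjTop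

open MvPolynomial AlgebraicGeometry TopologicalSpace

universe u

variable (k : Type u) [Field k] (n : ℕ)

/-- dimension bookkeeping for a minimal prime `Q` over `P + (s)`. -/
theorem quot_dims (P Q : Ideal (SR k n)) [hP : P.IsPrime] (s : Set (SR k n)) (hs : s.Finite)
    (hQ : Q ∈ (Ideal.span s ⊔ P).minimalPrimes) :
    ∃ m c : ℕ, ringKrullDim (SR k n ⧸ Q) = (c : WithBot ℕ∞) ∧
      ringKrullDim (SR k n ⧸ P) = ((m + c : ℕ) : WithBot ℕ∞) ∧ m ≤ s.ncard ∧
      (Q ≠ P → 1 ≤ m) := by
  classical
  have hQP : P ≤ Q := le_sup_right.trans hQ.1.2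
  haveI hQp : Q.IsPrime := hQ.1.1
  let φ : SR k n →+* SR k n ⧸ P := Ideal.Quotient.mk P
  have hφ : Function.Surjective φ := Ideal.Quotient.mk_surjective
  haveI : IsDomain (SR k n ⧸ P) := Ideal.Quotient.isDomain P
  haveI : Algebra.FiniteType k (SR k n ⧸ P) :=
    Algebra.FiniteType.of_surjective (Ideal.Quotient.mkₐ k P) (Ideal.Quotient.mkₐ_surjective k P)
  have hker : RingHom.ker φ = P := Ideal.mk_ker
  haveI hq : (Q.map φ).IsPrime :=
    Ideal.map_isPrime_of_surjective hφ (by rw [hker]; exact hQP)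
  have hqmin : Q.map φ ∈ ((Ideal.span s).map φ).minimalPrimes := by
    rw [Ideal.minimalPrimes_map_of_surjective hφ, hker]
    exact ⟨Q, hQ, rfl⟩
  rw [Ideal.map_span] at hqmin
  have hht : (Q.map φ).height ≤ ((φ '' s).ncard : ℕ∞) :=
    Ideal.height_le_card_of_mem_minimalPrimes_span (hs.image φ) hqmin
  obtain ⟨d, hd, -⟩ := Groth.Agent.Lib.Helper12.DimFT.exists_dim_eq_trdeg k (SR k n ⧸ P)
  let y : PrimeSpectrum (SR k n ⧸ P) := ⟨Q.map φ, hq⟩
  have hfin : Order.height y < ⊤ := by
    have h1 := Order.height_le_krullDim y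
    have h2 : Order.krullDim (PrimeSpectrum (SR k n ⧸ P)) = d := hd
    rw [h2] at h1
    have h3 : (Order.height y : ℕ∞) ≤ d := by exact_mod_cast h1
    exact lt_of_le_of_lt h3 (ENat.coe_lt_top d)
  obtain ⟨m, hm⟩ := ENat.ne_top_iff_exists.mp hfin.ne
  have hsum := Groth.Agent.Lib.Helper12.DimFT.height_add_coheight k (SR k n ⧸ P) d hd m y hm.symm
  have hcofin : Order.coheight y ≠ ⊤ := by
    intro htop
    rw [htop] at hsum
    simp at hsum
  obtain ⟨c, hc⟩ := ENat.ne_top_iff_exists.mp hcofin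
  rw [← hm, ← hc] at hsum
  have hmc : m + c = d := by exact_mod_cast hsum
  have hdimQ : ringKrullDim (SR k n ⧸ Q) = (c : WithBot ℕ∞) := by
    rw [← ringKrullDim_eq_of_ringEquiv (DoubleQuot.quotQuotEquivQuotOfLE hQP)]
    have h1 := Groth.Agent.Lib.Helper12.DimFT.ringKrullDim_quotient_eq_coheight y
    rw [← hc] at h1
    exact h1
  refine ⟨m, c, hdimQ, by rw [hd, hmc], ?_, ?_⟩
  · have h1 : (m : ℕ∞) ≤ ((φ '' s).ncard : ℕ∞) := by
      rw [hm, ← PrimeSpectrum.height_eq_orderHeight]
      exact hht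
    have h2 : m ≤ (φ '' s).ncard := by exact_mod_cast h1
    exact h2.trans (Set.ncard_image_le hs)
  · intro hne
    have hqbot : Q.map φ ≠ ⊥ := by
      intro h0
      rw [Ideal.map_eq_bot_iff_le_ker, hker] at h0
      exact hne (le_antisymm h0 hQP)
    haveI : (⊥ : Ideal (SR k n ⧸ P)).IsPrime := Ideal.isPrime_bot
    have hlt : (⊥ : Ideal (SR k n ⧸ P)) < Q.map φ := bot_lt_iff_ne_bot.2 hqbot
    have h1 := Ideal.height_add_one_le_of_lt_of_isPrime hlt
    have h2 : (1 : ℕ∞) ≤ (Q.map φ).height := le_trans le_add_self h1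
    have h3 : (1 : ℕ∞) ≤ (m : ℕ∞) := by
      rw [hm, ← PrimeSpectrum.height_eq_orderHeight]
      exact h2
    exact_mod_cast h3

lemma mIrr_isMaximal : (mIrr k n).asIdeal.IsMaximal :=
  RingHom.ker_isMaximal_of_surjective (constantCoeff : SR k n →+* k)
    (fun a => ⟨C a, constantCoeff_C _ a⟩)

/-- a prime with positive-dimensional quotient is relevant. -/
lemma not_irr_le_of_dim (Q : Ideal (SR k n)) [hQ : Q.IsPrime]
    (h : ringKrullDim (SR k n ⧸ Q) ≠ 0) :
    ¬ (HomogeneousIdeal.irrelevant (CohB1.polyGrading n k)).toIdeal ≤ Q := by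
  intro hle
  have hm : (mIrr k n).asIdeal ≤ Q := by
    intro a ha
    apply hle
    have ha' : constantCoeff a = 0 := (RingHom.mem_ker).1 ha
    rw [constantCoeff_eq] at ha'
    apply (HomogeneousIdeal.mem_irrelevant_iff _ a).2
    rw [GradedRing.proj_apply, decompose_zero_eq, ha', map_zero]
  have hmax := mIrr_isMaximal k n
  have hQm : Q = (mIrr k n).asIdeal := (hmax.eq_of_le hQ.ne_top hm).symm
  apply h
  rw [hQm]
  exact ringKrullDim_eq_zero_of_isField
    ((Ideal.Quotient.maximal_ideal_iff_isField_quotient _).1 hmax)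

lemma dim_quot_pr (x : PS k n) :
    ringKrullDim (SR k n ⧸ x.asHomogeneousIdeal.toIdeal) =
      (Order.coheight (pr k n x) : WithBot ℕ∞) :=
  Groth.Agent.Lib.Helper12.DimFT.ringKrullDim_quotient_eq_coheight (pr k n x)

lemma coheight_pr_finite (x : PS k n) : ∃ e : ℕ, Order.coheight (pr k n x) = (e : ℕ∞) := by
  have hsum := height_add_coheight k n (pr k n x)
  have hle : Order.coheight (pr k n x) ≤ ((n + 1 : ℕ) : ℕ∞) := by
    rw [← hsum]
    exact le_add_self
  have hne : Order.coheight (pr k n x) ≠ ⊤ := ne_top_of_le_ne_top (ENat.coe_ne_top _) hle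
  obtain ⟨e, he⟩ := ENat.ne_top_iff_exists.mp hne
  exact ⟨e, he.symm⟩

theorem coheight_upper (x : PS k n) :
    Order.coheight x + 1 ≤ Order.coheight (pr k n x) := by
  obtain ⟨e, he⟩ := coheight_pr_finite k n x
  have he1 : 1 ≤ e := by
    have h0 := Order.coheight_add_one_le (pr_lt k n x)
    rw [he] at h0
    have h1 : (1 : ℕ∞) ≤ (e : ℕ∞) := le_trans le_add_self h0
    exact_mod_cast h1
  rw [he]
  have hle : Order.coheight x ≤ ((e - 1 : ℕ) : ℕ∞) := by
    rw [Order.coheight_le_iff]
    intro p hp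
    have hrel : (p.map (pr k n) (pr_strictMono k n)).last < mIrr k n := pr_lt k n p.last
    obtain ⟨q, hq⟩ : ∃ q : LTSeries (PrimeSpectrum (SR k n)),
        q = (p.map (pr k n) (pr_strictMono k n)).snoc (mIrr k n) hrel := ⟨_, rfl⟩
    have hqhead : q.head = pr k n p.head := by rw [hq, RelSeries.head_snoc]; rfl
    have hqlen : q.length = p.length + 1 := by
      rw [hq, RelSeries.snoc_length, LTSeries.map_length]
    have hlen : (q.length : ℕ∞) ≤ Order.coheight (pr k n x) :=
      Order.length_le_coheight (by rw [hqhead]; exact (pr_le_iff k n _ _).2 hp)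
    rw [he, hqlen] at hlen
    have h2 : p.length + 1 ≤ e := by exact_mod_cast hlen
    have h3 : p.length ≤ e - 1 := by omega
    exact_mod_cast h3
  calc Order.coheight x + 1 ≤ ((e - 1 : ℕ) : ℕ∞) + 1 := by gcongr
    _ = (e : ℕ∞) := by
      have : e - 1 + 1 = e := by omega
      exact_mod_cast this

theorem coheight_lower : ∀ (e : ℕ) (x : PS k n), Order.coheight (pr k n x) = (e : ℕ∞) →
    (e : ℕ∞) ≤ Order.coheight x + 1 := by
  intro e
  induction e with
  | zero =>
    intro x _
    simp
  | succ e ih =>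
    intro x hx
    rcases Nat.eq_zero_or_pos e with rfl | hepos
    · simp
    obtain ⟨i, hi⟩ := exists_X_notMem k n x
    have hJle : Ideal.span ({X i} : Set (SR k n)) ⊔ x.asHomogeneousIdeal.toIdeal ≤
        (mIrr k n).asIdeal := by
      refine sup_le ?_ (pr_lt k n x).le
      rw [Ideal.span_le, Set.singleton_subset_iff]
      exact (RingHom.mem_ker).2 (constantCoeff_X _ i)
    haveI : (mIrr k n).asIdeal.IsPrime := (mIrr k n).isPrime
    obtain ⟨Q, hQmin, -⟩ := Ideal.exists_minimalPrimes_le hJle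
    haveI hQp : Q.IsPrime := hQmin.1.1
    obtain ⟨m, c, hcQ, hcP, hm1, hmpos⟩ := quot_dims k n x.asHomogeneousIdeal.toIdeal Q
      ({X i} : Set (SR k n)) (Set.finite_singleton _) hQmin
    have hXQ : (X i : SR k n) ∈ Q := hQmin.1.2 (le_sup_left (a := Ideal.span ({X i} : Set (SR k n)))
      (Ideal.subset_span rfl))
    have hPQ : x.asHomogeneousIdeal.toIdeal ≤ Q := le_sup_right.trans hQmin.1.2
    have hne : Q ≠ x.asHomogeneousIdeal.toIdeal := by
      intro h
      rw [h] at hXQ
      exact hi hXQ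
    have hm1' : m ≤ 1 := by rwa [Set.ncard_singleton] at hm1
    have hmeq : m = 1 := le_antisymm hm1' (hmpos hne)
    have hdimP := dim_quot_pr k n x
    rw [hx, hcP, hmeq] at hdimP
    have hce : c = e := by
      have h1 : 1 + c = e + 1 := by exact_mod_cast hdimP
      omega
    have hQh : Q.IsHomogeneous (CohB1.polyGrading n k) := by
      refine isHomogeneous_of_mem_minimalPrimes k n _ Q ?_ hQmin
      refine Ideal.IsHomogeneous.sup ?_ x.asHomogeneousIdeal.isHomogeneous
      apply Ideal.homogeneous_span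
      intro a ha
      rw [Set.mem_singleton_iff] at ha
      subst ha
      exact ⟨1, isHomogeneous_X k i⟩
    have hQdim : ringKrullDim (SR k n ⧸ Q) ≠ 0 := by
      rw [hcQ, hce]
      have : e ≠ 0 := by omega
      exact_mod_cast this
    obtain ⟨y, hy⟩ := exists_pt_of_prime k n Q hQp hQh (not_irr_le_of_dim k n Q hQdim)
    have hxy : x < y := by
      refine lt_of_le_not_ge ?_ ?_
      · intro a ha
        show a ∈ y.asHomogeneousIdeal.toIdeal
        rw [hy]
        exact hPQ ha
      · intro hyx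
        apply hi
        have h1 : (X i : SR k n) ∈ y.asHomogeneousIdeal.toIdeal := by rw [hy]; exact hXQ
        exact hyx h1
    have hycoh : Order.coheight (pr k n y) = (e : ℕ∞) := by
      have h1 := dim_quot_pr k n y
      rw [hy, hcQ, hce] at h1
      have h2 : (e : ℕ∞) = Order.coheight (pr k n y) := by exact_mod_cast h1
      exact h2.symm
    have h1 := ih y hycoh
    have h2 := Order.coheight_add_one_le hxy
    calc ((e + 1 : ℕ) : ℕ∞) = (e : ℕ∞) + 1 := by push_cast; rfl
      _ ≤ Order.coheight y + 1 + 1 := by gcongr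
      _ ≤ Order.coheight x + 1 := by gcongr

/-- the coheight of a point of `P^n` is one less than the dimension of the quotient by its prime. -/
theorem coheight_spec (x : PS k n) : ∃ c : ℕ, Order.coheight x = (c : ℕ∞) ∧
    ringKrullDim (SR k n ⧸ x.asHomogeneousIdeal.toIdeal) = ((c + 1 : ℕ) : WithBot ℕ∞) := by
  obtain ⟨e, he⟩ := coheight_pr_finite k n x
  have h1 := coheight_upper k n x
  have h2 := coheight_lower k n e x he
  rw [he] at h1
  have hne : Order.coheight x ≠ ⊤ := by
    intro htop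
    rw [htop] at h1
    simp at h1
  obtain ⟨c, hc⟩ := ENat.ne_top_iff_exists.mp hne
  rw [← hc] at h1 h2
  have h1' : c + 1 ≤ e := by exact_mod_cast h1
  have h2' : e ≤ c + 1 := by exact_mod_cast h2
  refine ⟨c, hc.symm, ?_⟩
  rw [dim_quot_pr, he]
  have : e = c + 1 := by omega
  exact_mod_cast this

/-! ### topological dimension of irreducible closed sets and of components -/

theorem topDim_Ici (x : PS k n) :
    topologicalKrullDim ↥(Set.Ici x) = (Order.coheight x : WithBot ℕ∞) := by
  have hc : IsClosed (Set.Ici x) := by rw [← closure_singleton_eq]; exact isClosed_closure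
  rw [topDim_closed k n _ hc, Order.coheight_eq_krullDim_Ici]

theorem topDim_irreducible (X : Set (PS k n)) (x0 : PS k n)
    (hx : closure ({x0} : Set (PS k n)) = X) :
    topologicalKrullDim ↥X = (Order.coheight x0 : WithBot ℕ∞) := by
  rw [closure_singleton_eq] at hx
  subst hx
  exact topDim_Ici k n x0

/-- an irreducible component of a closed subset `W` of `P^n` is the closure of a minimal point of
`W`, and its dimension is the coheight of that point. -/
theorem component_data (W : Set (PS k n)) (hW : IsClosed W) (C : Set ↥W)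
    (hC : C ∈ irreducibleComponents ↥W) :
    ∃ y : PS k n, y ∈ W ∧ (∀ y' ∈ W, y' ≤ y → y' = y) ∧
      topologicalKrullDim ↥C = (Order.coheight y : WithBot ℕ∞) := by
  haveI := quasiSober_PS k n
  haveI : QuasiSober ↥W := hW.isClosedEmbedding_subtypeVal.quasiSober
  have hCirr : IsIrreducible C := hC.1
  have hCcl : IsClosed C := isClosed_of_mem_irreducibleComponents C hC
  obtain ⟨c, hc⟩ : ∃ c : ↥W, closure ({c} : Set ↥W) = C :=
    ⟨hCirr.genericPoint, by rw [hCirr.genericPoint_closure_eq, hCcl.closure_eq]⟩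
  have hmemC : ∀ w : ↥W, w ∈ C ↔ c.1 ≤ w.1 := by
    intro w
    rw [← hc]
    exact mem_closure_sub k n W w c
  refine ⟨c.1, c.2, ?_, ?_⟩
  · intro y' hy' hle
    have hD : IsIrreducible (closure ({(⟨y', hy'⟩ : ↥W)} : Set ↥W)) :=
      isIrreducible_singleton.closure
    have hCD : C ≤ closure ({(⟨y', hy'⟩ : ↥W)} : Set ↥W) := by
      rw [← hc]
      exact closure_minimal
        (Set.singleton_subset_iff.2 ((mem_closure_sub k n W c ⟨y', hy'⟩).2 hle)) isClosed_closure
    have hDC := hC.2 hD hCD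
    have hc'C : (⟨y', hy'⟩ : ↥W) ∈ C := hDC (subset_closure rfl)
    have h2 : c.1 ≤ y' := (hmemC ⟨y', hy'⟩).1 hc'C
    exact le_antisymm hle h2
  · have hup : ∀ z : PS k n, c.1 ≤ z → z ∈ W :=
      fun z hz => mem_of_le_of_isClosed k n hW c.2 hz
    let e : ↥C ≃ₜ ↥(Set.Ici c.1) :=
      { toFun := fun w => ⟨w.1.1, (hmemC w.1).1 w.2⟩
        invFun := fun z => ⟨⟨z.1, hup z.1 z.2⟩, (hmemC _).2 z.2⟩
        left_inv := fun w => Subtype.ext (Subtype.ext rfl)
        right_inv := fun z => Subtype.ext rfl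
        continuous_toFun := (continuous_subtype_val.comp continuous_subtype_val).subtype_mk _
        continuous_invFun := (continuous_subtype_val.subtype_mk _).subtype_mk _ }
    rw [IsHomeomorph.topologicalKrullDim_eq e e.isHomeomorph, topDim_Ici]

/-- minimal points of `V(x0) ∩ V(s)` are minimal primes over `(s) + x0`. -/
theorem minimal_point_ideal (x0 : PS k n) (s : Set (SR k n))
    (hs : (Ideal.span s).IsHomogeneous (CohB1.polyGrading n k)) (y : PS k n)
    (hy : y ∈ Set.Ici x0 ∩ ProjectiveSpectrum.zeroLocus (CohB1.polyGrading n k) s)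
    (hmin : ∀ y' ∈ Set.Ici x0 ∩ ProjectiveSpectrum.zeroLocus (CohB1.polyGrading n k) s,
      y' ≤ y → y' = y) :
    y.asHomogeneousIdeal.toIdeal ∈
      (Ideal.span s ⊔ x0.asHomogeneousIdeal.toIdeal).minimalPrimes := by
  have hJ : Ideal.span s ⊔ x0.asHomogeneousIdeal.toIdeal ≤ y.asHomogeneousIdeal.toIdeal :=
    sup_le ((mem_zeroLocus_iff k n s y).1 hy.2) (fun a ha => hy.1 ha)
  obtain ⟨Q', hQ'min, hQ'le⟩ := Ideal.exists_minimalPrimes_le hJ
  have hQ'h := isHomogeneous_of_mem_minimalPrimes k n _ Q'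
    (hs.sup x0.asHomogeneousIdeal.isHomogeneous) hQ'min
  have hQ'p : Q'.IsPrime := hQ'min.1.1
  have hirr : ¬ (HomogeneousIdeal.irrelevant (CohB1.polyGrading n k)).toIdeal ≤ Q' :=
    fun h => y.not_irrelevant_le (fun a ha => hQ'le (h ha))
  obtain ⟨y', hy'⟩ := exists_pt_of_prime k n Q' hQ'p hQ'h hirr
  have hy'W : y' ∈ Set.Ici x0 ∩ ProjectiveSpectrum.zeroLocus (CohB1.polyGrading n k) s := by
    constructor
    · intro a ha
      show a ∈ y'.asHomogeneousIdeal.toIdeal
      rw [hy']
      exact hQ'min.1.2 (le_sup_right (a := Ideal.span s) ha)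
    · rw [mem_zeroLocus_iff, hy']
      exact le_sup_left.trans hQ'min.1.2
  have hle : y' ≤ y := by
    intro a ha
    have ha' : a ∈ y'.asHomogeneousIdeal.toIdeal := ha
    rw [hy'] at ha'
    exact hQ'le ha'
  have heq := hmin y' hy'W hle
  rw [← heq, hy']
  exact hQ'min

end Groth.Agent.Lib.Lead.ProjTop
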