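import Mathlib
import Groth.Prelude.Def_W4c4chowquasisplitNorm
import Groth.Agent.Lib.Helper11.BddLib2

/-!
# The Chow group of zero-cycles of the spectrum of a field (lead)

`CH_0(Spec k) = ℤ`, push-forward along `Spec F → Spec k` multiplies by `[F : k]`, and the norm
subgroup `QsChow.ptNormSubgroup k K` is the image of the subgroup of `ℤ` generated by the degrees of
the finite intermediate fields different from `k`.
-/

set_option autoImplicit false
set_option linter.style.haveILetI false
universe u
open CategoryTheory Limits AlgebraicGeometry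

namespace Groth.Agent.Lib.Lead.PtChow

/-- residue degree of `Spec F → Spec k` is `[F : k]` -/
theorem residueDegree_spec_field (k F : Type u) [Field k] [Field F] [Algebra k F]
    (z : Spec (CommRingCat.of F)) :
    (Spec.map (CommRingCat.ofHom (algebraMap k F))).residueDegree z = Module.finrank k F := by
  set q := Spec.map (CommRingCat.ofHom (algebraMap k F)) with hq
  let evF : F →+* (Spec (CommRingCat.of F)).residueField z :=
    ((Scheme.ΓSpecIso (CommRingCat.of F)).inv ≫ (Spec (CommRingCat.of F)).Γevaluation z).hom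
  let evK : k →+* (Spec (CommRingCat.of k)).residueField (q z) :=
    ((Scheme.ΓSpecIso (CommRingCat.of k)).inv ≫ (Spec (CommRingCat.of k)).Γevaluation (q z)).hom
  have hnat : (q.residueFieldMap z).hom.comp evK = evF.comp (algebraMap k F) := by
    have h1 := Scheme.Γevaluation_naturality q z
    have h2 := Scheme.ΓSpecIso_inv_naturality (CommRingCat.ofHom (algebraMap k F))
    have h3 : ((Scheme.ΓSpecIso (CommRingCat.of k)).inv ≫
        (Spec (CommRingCat.of k)).Γevaluation (q z)) ≫ q.residueFieldMap z =
        CommRingCat.ofHom (algebraMap k F) ≫ ((Scheme.ΓSpecIso (CommRingCat.of F)).inv ≫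
          (Spec (CommRingCat.of F)).Γevaluation z) := by
      rw [Category.assoc, h1, ← Category.assoc, ← h2, Category.assoc]
    exact congr(($h3).hom)
  letI a1 : Algebra ((Spec (CommRingCat.of k)).residueField (q z))
      ((Spec (CommRingCat.of F)).residueField z) := (q.residueFieldMap z).hom.toAlgebra
  let i : k ≃+* (Spec (CommRingCat.of k)).residueField (q z) :=
    RingEquiv.ofBijective evK
      ⟨evK.injective, Groth.Agent.Lib.Helper11.BddLib.ev_surjective k (q z)⟩
  let j : F ≃+* (Spec (CommRingCat.of F)).residueField z :=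
    RingEquiv.ofBijective evF
      ⟨evF.injective, Groth.Agent.Lib.Helper11.BddLib.ev_surjective F z⟩
  have := Algebra.finrank_eq_of_equiv_equiv (R₀ := k) (S₀ := F)
    (R₁ := (Spec (CommRingCat.of k)).residueField (q z))
    (S₁ := (Spec (CommRingCat.of F)).residueField z) i j
    (RingHom.ext fun r => congr($hnat r))
  exact this.symm

section Pt

variable (k : Type u) [Field k]

instance : Finite ↥(Spec (CommRingCat.of k)) := Finite.of_subsingleton

/-- the cycle on the point with coefficient `m` -/
noncomputable def cyc (m : ℤ) : AlgebraicCycle (Spec (CommRingCat.of k)) ℤ where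
  toFun := fun _ => m
  supportWithinDomain' := Set.subset_univ _
  supportLocallyFiniteWithinDomain' := fun _ _ => ⟨Set.univ, Filter.univ_mem, Set.toFinite _⟩

@[simp] theorem cyc_apply (m : ℤ) (x : ↥(Spec (CommRingCat.of k))) : cyc k m x = m := rfl

theorem eq_cyc (β : AlgebraicCycle (Spec (CommRingCat.of k)) ℤ) : β = cyc k (β default) := by
  ext x
  rw [Subsingleton.elim x default]
  rfl

theorem mem_Zk (β : AlgebraicCycle (Spec (CommRingCat.of k)) ℤ) :
    β ∈ Cyc.Zk (Spec (CommRingCat.of k)) (fun _ => 0) 0 := fun _ hx => absurd rfl hx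

/-- `ℤ → Z_0(Spec k)` -/
noncomputable def ψ : ℤ →+ ↥(ChowOps.zk (Spec (CommRingCat.of k)) (fun _ => 0) 0) where
  toFun m := ⟨cyc k m, mem_Zk k _⟩
  map_zero' := Subtype.ext (by ext; rfl)
  map_add' a b := Subtype.ext (by ext; rfl)

/-- `ℤ → CH_0(Spec k)` -/
noncomputable def Φ : ℤ →+ ChowOps.CH (Spec (CommRingCat.of k)) (fun _ => 0) 0 :=
  (ChowOps.clHom (Spec (CommRingCat.of k)) (fun _ => 0) 0).comp (ψ k)

theorem cl_eq_Φ (β : AlgebraicCycle (Spec (CommRingCat.of k)) ℤ)
    (h : β ∈ Cyc.Zk (Spec (CommRingCat.of k)) (fun _ => 0) 0) :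
    ChowOps.cl β h = Φ k (β default) := by
  unfold ChowOps.cl Φ
  show _ = (ChowOps.clHom (Spec (CommRingCat.of k)) (fun _ => 0) 0) (ψ k (β default))
  congr 1
  exact Subtype.ext (eq_cyc k β)

theorem Φ_surjective : Function.Surjective (Φ k) := by
  intro c
  obtain ⟨⟨β, hβ⟩, rfl⟩ := QuotientAddGroup.mk_surjective c
  exact ⟨β default, (cl_eq_Φ k β hβ).symm⟩

theorem ratTriv_eq_bot : ChowOps.ratTriv (Spec (CommRingCat.of k)) (fun _ => 0) 0 = ⊥ := by
  rw [eq_bot_iff]
  unfold ChowOps.ratTriv
  rw [AddSubgroup.closure_le]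
  rintro a ⟨ι, ξ, f, h1, -, -, h4⟩
  haveI : IsEmpty ι := ⟨fun i => by have := h1 i; simp at this⟩
  show a = 0
  apply Subtype.ext
  ext x
  rw [h4 x, finsum_of_isEmpty]
  rfl

theorem Φ_injective : Function.Injective (Φ k) := by
  rw [injective_iff_map_eq_zero]
  intro m hm
  have h1 : ψ k m ∈ ChowOps.ratTriv (Spec (CommRingCat.of k)) (fun _ => 0) 0 :=
    (QuotientAddGroup.eq_zero_iff _).mp hm
  rw [ratTriv_eq_bot, AddSubgroup.mem_bot] at h1
  have h2 : (ψ k m : AlgebraicCycle (Spec (CommRingCat.of k)) ℤ) default = 0 := by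
    rw [h1]; rfl
  exact h2

theorem Φ_bijective : Function.Bijective (Φ k) := ⟨Φ_injective k, Φ_surjective k⟩

/-- push-forward along `Spec F → Spec k` multiplies by the degree -/
theorem map_spec_field (F : Type u) [Field F] [Algebra k F]
    (α : AlgebraicCycle (Spec (CommRingCat.of F)) ℤ) :
    AlgebraicCycle.map (Spec.map (CommRingCat.ofHom (algebraMap k F)))
      (fun _ => (0 : ℤ)) (fun _ => (0 : ℤ)) α = cyc k (α default * Module.finrank k F) := by
  classical
  ext x
  simp only [AlgebraicCycle.map, Function.locallyFinsupp.map_apply]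
  rw [finsum_mem_def, finsum_eq_single _ default]
  · rw [Set.indicator_of_mem (show (default : ↥(Spec (CommRingCat.of F))) ∈
      (Spec.map (CommRingCat.ofHom (algebraMap k F))) ⁻¹' {x} from Subsingleton.elim _ _)]
    have hc : AlgebraicCycle.mapCoeff (Spec.map (CommRingCat.ofHom (algebraMap k F)))
        (fun _ => (0 : ℤ)) (fun _ => (0 : ℤ)) default = Module.finrank k F := by
      unfold AlgebraicCycle.mapCoeff
      rw [if_pos rfl]
      exact residueDegree_spec_field k F default
    rw [hc]
    rfl
  · intro z hz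
    exact absurd (Subsingleton.elim z default) hz

end Pt

section Norm

variable (k : Type u) [Field k] (K : Type u) [Field K] [Algebra k K]

/-- the degrees (and their multiples) of the finite intermediate fields different from `k` -/
def degSet : Set ℤ :=
  {m | ∃ (F : IntermediateField k K), FiniteDimensional k F ∧ F ≠ ⊥ ∧
    ∃ a : ℤ, m = a * (Module.finrank k F : ℤ)}

theorem ptNormSubgroup_eq :
    QsChow.ptNormSubgroup k K = (AddSubgroup.closure (degSet k K)).map (Φ k) := by
  rw [AddMonoidHom.map_closure]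
  unfold QsChow.ptNormSubgroup
  congr 1
  ext c
  constructor
  · rintro ⟨F, hF, hne, α, h, rfl⟩
    refine ⟨α default * (Module.finrank k F : ℤ), ⟨F, hF, hne, α default, rfl⟩, ?_⟩
    rw [cl_eq_Φ, map_spec_field]
    rfl
  · rintro ⟨m, ⟨F, hF, hne, a, rfl⟩, rfl⟩
    refine ⟨F, hF, hne, cyc (↥F) a, mem_Zk k _, ?_⟩
    rw [cl_eq_Φ, map_spec_field]
    rfl

end Norm

/-- a subgroup of `ℤ` containing `N / q^{v_q(N)}` for every prime `q` is everything -/
theorem one_mem_of_ordCompl (T : AddSubgroup ℤ) (N : ℕ) (hN : N ≠ 0)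
    (h : ∀ q : ℕ, q.Prime → ((N / q ^ N.factorization q : ℕ) : ℤ) ∈ T) : (1 : ℤ) ∈ T := by
  let I : Ideal ℤ := AddSubgroup.toIntSubmodule T
  have hI : ∀ x, x ∈ I ↔ x ∈ T := fun x => Iff.rfl
  obtain ⟨g, hg⟩ : ∃ g : ℤ, I = Ideal.span {g} :=
    ⟨_, (Ideal.span_singleton_generator I).symm⟩
  by_cases h1 : g.natAbs = 1
  · rw [← hI, hg, Ideal.mem_span_singleton]
    exact Int.natAbs_dvd_natAbs.mp (by rw [h1]; exact one_dvd _)
  · exfalso
    have hq := Nat.minFac_prime h1
    have hdq := (hI _).mpr (h _ hq)
    rw [hg, Ideal.mem_span_singleton] at hdq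
    have h2 : g.natAbs ∣ N / (Nat.minFac g.natAbs) ^ N.factorization (Nat.minFac g.natAbs) := by
      have := Int.natAbs_dvd_natAbs.mpr hdq
      rwa [Int.natAbs_natCast] at this
    exact Nat.not_dvd_ordCompl hq hN ((Nat.minFac_dvd _).trans h2)

/-- the fixed field of a subgroup of the Galois group of `L/k`, as an intermediate field of `K/k` -/
theorem exists_subfield_degree (k K : Type u) [Field k] [Field K] [Algebra k K]
    (L : IntermediateField k K) [FiniteDimensional k L] [IsGalois k L]
    (H : Subgroup (L ≃ₐ[k] L)) :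
    ∃ F : IntermediateField k K, FiniteDimensional k F ∧
      Module.finrank k F * Nat.card H = Module.finrank k L := by
  let E : IntermediateField k L := IntermediateField.fixedField H
  have h1 : Module.finrank E L = Nat.card H := IntermediateField.finrank_fixedField_eq_card H
  have h2 : Module.finrank k E * Module.finrank E L = Module.finrank k L :=
    Module.finrank_mul_finrank k E L
  let e := IntermediateField.liftAlgEquiv E
  refine ⟨IntermediateField.lift E, ?_, ?_⟩
  · exact LinearEquiv.finiteDimensional e.toLinearEquiv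
  · rw [← e.toLinearEquiv.finrank_eq, ← h1, h2]

end Groth.Agent.Lib.Lead.PtChow
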