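import Mathlib
import Groth.Agent.Lib.Helper12.IntegralDim

/-! Counting ring homomorphisms from finitely generated `ℤ`-algebras to finite fields, part 1:
the "finite over a polynomial ring up to inverting `N`" predicate and the resulting point count;
Noether normalization in positive characteristic. -/

set_option autoImplicit false
universe u v

namespace Groth.Agent.Lib.Lead.PtCount

open MvPolynomial

/-- `B` is, after inverting `N`, generated as a module by `e` elements over the subring generated
by `s` elements. -/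
def FinOver (B : Type*) [CommRing B] (s e : ℕ) (N : ℤ) : Prop :=
  ∃ (y : Fin s → B) (c : Fin e → B), ∀ b : B, ∃ (k : ℕ) (a : Fin e → MvPolynomial (Fin s) ℤ),
    (N : B) ^ k * b = ∑ j, aeval y (a j) * c j

theorem map_aeval_int {B F : Type*} [CommRing B] [CommRing F] (φ : B →+* F) {σ : Type*}
    (y : σ → B) (p : MvPolynomial σ ℤ) :
    φ (aeval y p) = aeval (fun i => φ (y i)) p := by
  induction p using MvPolynomial.induction_on with
  | C n => simp
  | add p q hp hq => simp [hp, hq]
  | mul_X p i hp => simp [hp]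

theorem finOver_apply {B F : Type*} [CommRing B] [CommRing F] {s e : ℕ} {N : ℤ}
    {y : Fin s → B} {c : Fin e → B} {b : B} {k : ℕ} {a : Fin e → MvPolynomial (Fin s) ℤ}
    (h : (N : B) ^ k * b = ∑ j, aeval y (a j) * c j) (φ : B →+* F) :
    (N : F) ^ k * φ b = ∑ j, aeval (fun i => φ (y i)) (a j) * φ (c j) := by
  have := congrArg φ h
  rw [map_mul, map_pow, map_intCast, map_sum] at this
  rw [this]
  refine Finset.sum_congr rfl fun j _ => ?_
  rw [map_mul, map_aeval_int]

theorem finite_hom_of_finOver {B : Type*} [CommRing B] {s e : ℕ} {N : ℤ} (h : FinOver B s e N)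
    (F : Type*) [Field F] [Finite F] (hN : (N : F) ≠ 0) : Finite (B →+* F) := by
  obtain ⟨y, c, hb⟩ := h
  let Ψ : (B →+* F) → (Fin s → F) × (Fin e → F) :=
    fun φ => (fun i => φ (y i), fun j => φ (c j))
  refine Finite.of_injective Ψ ?_
  intro φ ψ hφψ
  have h1 : ∀ i, φ (y i) = ψ (y i) := fun i => congrFun (congrArg Prod.fst hφψ) i
  have h2 : ∀ j, φ (c j) = ψ (c j) := fun j => congrFun (congrArg Prod.snd hφψ) j
  ext b
  obtain ⟨k, a, hka⟩ := hb b
  have e1 := finOver_apply hka φ
  have e2 := finOver_apply hka ψ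
  have : (N : F) ^ k * φ b = (N : F) ^ k * ψ b := by
    rw [e1, e2]; simp only [h1, h2]
  exact mul_left_cancel₀ (pow_ne_zero k hN) this

theorem card_hom_le_of_finOver {B : Type*} [CommRing B] {s e : ℕ} {N : ℤ} (h : FinOver B s e N)
    (F : Type*) [Field F] [Finite F] (hN : (N : F) ≠ 0) :
    Nat.card (B →+* F) ≤ e * Nat.card F ^ s := by
  classical
  have := finite_hom_of_finOver h F hN
  obtain ⟨y, c, hb⟩ := h
  haveI : Fintype (B →+* F) := Fintype.ofFinite _
  haveI : Fintype F := Fintype.ofFinite _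
  let Ψ : (B →+* F) → (Fin s → F) := fun φ i => φ (y i)
  have hfib : ∀ v ∈ (Finset.univ : Finset (B →+* F)).image Ψ,
      ((Finset.univ : Finset (B →+* F)).filter (fun φ => Ψ φ = v)).card ≤ e := by
    intro v _
    have hli : LinearIndependent F
        (fun φ : {φ : B →+* F // Ψ φ = v} => fun j : Fin e => φ.1 (c j)) := by
      have hmon : LinearIndependent F
          (fun φ : {φ : B →+* F // Ψ φ = v} => ((φ.1 : B →* F) : B → F)) := by
        refine (linearIndependent_monoidHom B F).comp
          (fun φ : {φ : B →+* F // Ψ φ = v} => (φ.1 : B →* F)) ?_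
        intro φ ψ hφψ
        exact Subtype.ext (RingHom.coe_monoidHom_injective hφψ)
      rw [linearIndependent_iff'] at hmon ⊢
      intro t g hg φ hφ
      refine hmon t g ?_ φ hφ
      funext b
      obtain ⟨k, a, hka⟩ := hb b
      have hsum : ∀ j : Fin e, ∑ φ ∈ t, g φ * φ.1 (c j) = 0 := by
        intro j
        have := congrFun hg j
        simpa [Finset.sum_apply] using this
      have hφb : ∀ φ : {φ : B →+* F // Ψ φ = v},
          (N : F) ^ k * φ.1 b = ∑ j, aeval v (a j) * φ.1 (c j) := by
        intro φ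
        have := finOver_apply hka φ.1
        rw [this]
        have hv : (fun i => φ.1 (y i)) = v := φ.2
        rw [hv]
      have hz : (N : F) ^ k * (∑ φ ∈ t, g φ * φ.1 b) = 0 := by
        calc (N : F) ^ k * (∑ φ ∈ t, g φ * φ.1 b)
            = ∑ φ ∈ t, g φ * ((N : F) ^ k * φ.1 b) := by
              rw [Finset.mul_sum]; refine Finset.sum_congr rfl fun φ _ => by ring
          _ = ∑ φ ∈ t, g φ * ∑ j, aeval v (a j) * φ.1 (c j) := by
              refine Finset.sum_congr rfl fun φ _ => by rw [hφb φ]
          _ = ∑ j, aeval v (a j) * ∑ φ ∈ t, g φ * φ.1 (c j) := by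
              simp only [Finset.mul_sum]
              rw [Finset.sum_comm]
              refine Finset.sum_congr rfl fun j _ => Finset.sum_congr rfl fun φ _ => by ring
          _ = 0 := by simp [hsum]
      have h0 := (mul_eq_zero.mp hz).resolve_left (pow_ne_zero k hN)
      simpa [Finset.sum_apply] using h0
    have hcard := hli.fintype_card_le_finrank
    rw [Module.finrank_fin_fun, Fintype.card_subtype] at hcard
    exact hcard
  calc Nat.card (B →+* F) = (Finset.univ : Finset (B →+* F)).card := by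
        rw [Nat.card_eq_fintype_card, Finset.card_univ]
    _ ≤ e * ((Finset.univ : Finset (B →+* F)).image Ψ).card :=
        Finset.card_le_mul_card_image _ _ hfib
    _ ≤ e * Nat.card F ^ s := by
        refine Nat.mul_le_mul_left _ ?_
        calc ((Finset.univ : Finset (B →+* F)).image Ψ).card
            ≤ (Finset.univ : Finset (Fin s → F)).card := Finset.card_le_card (Finset.subset_univ _)
          _ = Nat.card F ^ s := by
            rw [Finset.card_univ, Fintype.card_fun, Fintype.card_fin, Nat.card_eq_fintype_card]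

theorem finOver_of_subsingleton (C : Type*) [CommRing C] [Subsingleton C] : FinOver C 0 0 1 :=
  ⟨Fin.elim0, Fin.elim0, fun _ => ⟨0, Fin.elim0, Subsingleton.elim _ _⟩⟩

theorem exists_finOver_of_prime_eq_zero {C : Type u} [CommRing C] [Algebra.FiniteType ℤ C]
    (p : ℕ) (hp : p.Prime) (hpC : (p : C) = 0) (d : ℕ) (hd : ringKrullDim C ≤ d) :
    ∃ s e, s ≤ d ∧ FinOver C s e 1 := by
  rcases subsingleton_or_nontrivial C with hC | hC
  · exact ⟨0, 0, Nat.zero_le _, finOver_of_subsingleton C⟩
  haveI : Fact p.Prime := ⟨hp⟩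
  haveI : CharP C p := by
    have := CharP.ringChar_of_prime_eq_zero hp hpC
    exact this ▸ ringChar.charP C
  letI : Algebra (ZMod p) C := ZMod.algebra C p
  haveI : Algebra.FiniteType (ZMod p) C :=
    Algebra.FiniteType.of_restrictScalars_finiteType ℤ (ZMod p) C
  obtain ⟨s, g, hinj, hfin⟩ := exists_finite_inj_algHom_of_fg (ZMod p) C
  letI : Algebra (MvPolynomial (Fin s) (ZMod p)) C := g.toRingHom.toAlgebra
  haveI : Module.Finite (MvPolynomial (Fin s) (ZMod p)) C := hfin
  haveI : Algebra.IsIntegral (MvPolynomial (Fin s) (ZMod p)) C := Algebra.IsIntegral.of_finite _ _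
  have hdim : ((s : ℕ) : WithBot ℕ∞) ≤ ringKrullDim C := by
    rw [← Groth.Agent.Lib.Helper12.ringKrullDim_mvPolynomial_field (ZMod p) s]
    exact Groth.Agent.Lib.Helper12.ringKrullDim_le_of_isIntegral_of_injective hinj
  have hsd : s ≤ d := by exact_mod_cast hdim.trans hd
  obtain ⟨e, c, hc⟩ := Module.Finite.exists_fin (R := MvPolynomial (Fin s) (ZMod p)) (M := C)
  refine ⟨s, e, hsd, fun i => g (X i), c, fun b => ?_⟩
  have hbmem : b ∈ Submodule.span (MvPolynomial (Fin s) (ZMod p)) (Set.range c) := by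
    rw [hc]; trivial
  obtain ⟨a', ha'⟩ := (Submodule.mem_span_range_iff_exists_fun _).mp hbmem
  have hsurj : Function.Surjective (MvPolynomial.map (Int.castRingHom (ZMod p)) :
      MvPolynomial (Fin s) ℤ → MvPolynomial (Fin s) (ZMod p)) :=
    MvPolynomial.map_surjective _ (ZMod.intCast_surjective)
  choose a ha using fun j => hsurj (a' j)
  have key : ∀ q : MvPolynomial (Fin s) ℤ,
      g (MvPolynomial.map (Int.castRingHom (ZMod p)) q) = aeval (fun i => g (X i)) q := by
    intro q
    induction q using MvPolynomial.induction_on with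
    | C n => simp
    | add p q hp hq => simp [hp, hq]
    | mul_X q i hq => simp [hq]
  refine ⟨0, a, ?_⟩
  rw [pow_zero, one_mul, ← ha']
  refine Finset.sum_congr rfl fun j _ => ?_
  rw [← key, ha j, Algebra.smul_def]
  rfl

theorem finiteType_int_quotient {B : Type*} [CommRing B] [Algebra.FiniteType ℤ B] (I : Ideal B) :
    @Algebra.FiniteType ℤ (B ⧸ I) _ _ (Ring.toIntAlgebra _) := by
  letI : Algebra ℤ (B ⧸ I) := Ring.toIntAlgebra _
  exact Algebra.FiniteType.of_surjective ((Ideal.Quotient.mk I).toIntAlgHom)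
    Ideal.Quotient.mk_surjective

theorem exists_card_hom_le_of_prime {B : Type u} [CommRing B] [Algebra.FiniteType ℤ B] (r : ℕ)
    (hr : ringKrullDim B ≤ r) (p : ℕ) (hp : p.Prime) :
    ∃ e : ℕ, ∀ (F : Type v) [Field F] [Finite F] [CharP F p],
      Nat.card (B →+* F) ≤ e * Nat.card F ^ r := by
  let I : Ideal B := Ideal.span {(p : B)}
  haveI : @Algebra.FiniteType ℤ (B ⧸ I) _ _ (Ring.toIntAlgebra _) := finiteType_int_quotient I
  have hpC : ((p : ℕ) : B ⧸ I) = 0 := by
    have : (Ideal.Quotient.mk I (p : B)) = 0 :=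
      Ideal.Quotient.eq_zero_iff_mem.mpr (Ideal.subset_span rfl)
    simpa using this
  have hdim : ringKrullDim (B ⧸ I) ≤ r := (ringKrullDim_quotient_le I).trans hr
  obtain ⟨s, e, hsr, hfo⟩ := exists_finOver_of_prime_eq_zero p hp hpC r hdim
  refine ⟨e, fun F _ _ _ => ?_⟩
  have hN : ((1 : ℤ) : F) ≠ 0 := by simp
  have := finite_hom_of_finOver hfo F hN
  have h1 := card_hom_le_of_finOver hfo F hN
  have hker : ∀ φ : B →+* F, ∀ a ∈ I, φ a = 0 := by
    intro φ a ha
    obtain ⟨t, rfl⟩ := Ideal.mem_span_singleton'.mp ha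
    rw [map_mul, map_natCast, CharP.cast_eq_zero F p, mul_zero]
  let Λ : (B →+* F) → (B ⧸ I →+* F) := fun φ => Ideal.Quotient.lift I φ (hker φ)
  have hΛ : Function.Injective Λ := by
    intro φ ψ h
    ext b
    have := DFunLike.congr_fun h (Ideal.Quotient.mk I b)
    simpa [Λ] using this
  calc Nat.card (B →+* F) ≤ Nat.card (B ⧸ I →+* F) := Nat.card_le_card_of_injective Λ hΛ
    _ ≤ e * Nat.card F ^ s := h1
    _ ≤ e * Nat.card F ^ r := Nat.mul_le_mul_left _ (Nat.pow_le_pow_right Nat.card_pos hsr)

theorem exists_card_hom_le_of_lt {B : Type u} [CommRing B] [Algebra.FiniteType ℤ B] (r : ℕ)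
    (hr : ringKrullDim B ≤ r) (P₀ : ℕ) :
    ∃ e : ℕ, ∀ p, p < P₀ → p.Prime → ∀ (F : Type v) [Field F] [Finite F] [CharP F p],
      Nat.card (B →+* F) ≤ e * Nat.card F ^ r := by
  induction P₀ with
  | zero => exact ⟨0, fun p hp => absurd hp (Nat.not_lt_zero _)⟩
  | succ n ih =>
    obtain ⟨e, he⟩ := ih
    by_cases hn : n.Prime
    · obtain ⟨e', he'⟩ := exists_card_hom_le_of_prime.{u, v} r hr n hn
      refine ⟨e + e', fun p hp hpp F _ _ _ => ?_⟩
      rcases Nat.lt_succ_iff_lt_or_eq.mp hp with h | rfl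
      · exact (he p h hpp F).trans (Nat.mul_le_mul_right _ (Nat.le_add_right _ _))
      · exact (he' F).trans (Nat.mul_le_mul_right _ (Nat.le_add_left _ _))
    · refine ⟨e, fun p hp hpp F _ _ _ => ?_⟩
      rcases Nat.lt_succ_iff_lt_or_eq.mp hp with h | rfl
      · exact he p h hpp F
      · exact absurd hpp hn

end Groth.Agent.Lib.Lead.PtCount
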