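import Mathlib
import Groth.Agent.Lib.Lead.PtCount1
import Groth.Agent.Lib.Helper6.FtIntPoints

/-! Counting points, part 2: generic Noether normalization for finitely generated `ℤ`-domains of
characteristic zero. -/

set_option autoImplicit false
universe u v

namespace Groth.Agent.Lib.Lead.PtCount

open MvPolynomial

/-- Clearing denominators in an integral equation over `ℚ[X]`. -/
theorem exists_int_mul_isIntegralElem {s : ℕ} {B' : Type v} [CommRing B'] [Algebra ℚ B']
    (g₂ : MvPolynomial (Fin s) ℚ →ₐ[ℚ] B') (hint : g₂.IsIntegral) (x : B') :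
    ∃ n : ℤ, n ≠ 0 ∧
      (g₂.toRingHom.comp (MvPolynomial.map (algebraMap ℤ ℚ))).IsIntegralElem ((n : B') * x) := by
  letI : Algebra (MvPolynomial (Fin s) ℤ) (MvPolynomial (Fin s) ℚ) :=
    MvPolynomial.algebraMvPolynomial
  letI : Algebra (MvPolynomial (Fin s) ℚ) B' := g₂.toRingHom.toAlgebra
  letI : Algebra (MvPolynomial (Fin s) ℤ) B' :=
    (g₂.toRingHom.comp (algebraMap (MvPolynomial (Fin s) ℤ) (MvPolynomial (Fin s) ℚ))).toAlgebra
  haveI : IsScalarTower (MvPolynomial (Fin s) ℤ) (MvPolynomial (Fin s) ℚ) B' :=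
    IsScalarTower.of_algebraMap_eq (fun _ => rfl)
  haveI : IsLocalization ((nonZeroDivisors ℤ).map (C (σ := Fin s)))
      (MvPolynomial (Fin s) ℚ) := MvPolynomial.isLocalization (nonZeroDivisors ℤ) ℚ
  have hx : IsIntegral (MvPolynomial (Fin s) ℚ) x := hint x
  obtain ⟨⟨m, hm⟩, hmx⟩ := IsIntegral.exists_multiple_integral_of_isLocalization
    ((nonZeroDivisors ℤ).map (C (σ := Fin s))) x hx
  obtain ⟨n, hn, rfl⟩ := hm
  refine ⟨n, nonZeroDivisors.ne_zero hn, ?_⟩
  have e1 : (⟨C n, ⟨n, hn, rfl⟩⟩ : (nonZeroDivisors ℤ).map (C (σ := Fin s))) • x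
      = (n : B') * x := by
    rw [Submonoid.smul_def, Algebra.smul_def]
    congr 1
    show g₂ (MvPolynomial.map (algebraMap ℤ ℚ) (C n)) = (n : B')
    rw [MvPolynomial.map_C, eq_intCast, map_intCast (C : ℚ →+* MvPolynomial (Fin s) ℚ),
      map_intCast]
  rw [e1] at hmx
  exact hmx

/-- Rescaling the variables keeps integrality. -/
theorem isIntegral_comp_scale {s : ℕ} {B' : Type v} [CommRing B'] [Algebra ℚ B']
    (g : MvPolynomial (Fin s) ℚ →ₐ[ℚ] B') (hint : g.IsIntegral) (n : Fin s → ℤ)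
    (hn : ∀ i, n i ≠ 0) :
    (g.comp (aeval fun i => C ((n i : ℤ) : ℚ) * X i)).IsIntegral := by
  set σ : MvPolynomial (Fin s) ℚ →ₐ[ℚ] MvPolynomial (Fin s) ℚ :=
    aeval fun i => C ((n i : ℤ) : ℚ) * X i with hσ
  set τ : MvPolynomial (Fin s) ℚ →ₐ[ℚ] MvPolynomial (Fin s) ℚ :=
    aeval fun i => C (((n i : ℤ) : ℚ)⁻¹) * X i with hτ
  have hστ : σ.comp τ = AlgHom.id ℚ _ := by
    apply MvPolynomial.algHom_ext
    intro i
    have hni : ((n i : ℤ) : ℚ) ≠ 0 := by exact_mod_cast hn i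
    simp only [AlgHom.comp_apply, hσ, hτ, aeval_X, map_mul, aeval_C, AlgHom.id_apply,
      MvPolynomial.algebraMap_eq]
    rw [← mul_assoc, ← C_mul, inv_mul_cancel₀ hni, C_1, one_mul]
  have hsurj : Function.Surjective σ := fun x =>
    ⟨τ x, by rw [← AlgHom.comp_apply, hστ]; rfl⟩
  have h1 : σ.toRingHom.IsIntegral := RingHom.isIntegral_of_surjective _ hsurj
  exact RingHom.IsIntegral.trans _ _ h1 hint

/-- Module generators from integrality of (multiples of) ring generators. -/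
theorem exists_gens_of_integral {R D : Type*} [CommRing R] [CommRing D] [Algebra R D]
    (S : Finset D) (hS : Algebra.adjoin ℤ (S : Set D) = ⊤) (N : ℤ)
    (hN : ∀ β ∈ S, IsIntegral R ((N : D) * β)) :
    ∃ (e : ℕ) (c : Fin e → D), ∀ b : D, ∃ (k : ℕ) (a : Fin e → R),
      (N : D) ^ k * b = ∑ j, a j • c j := by
  classical
  let T : Set D := (fun β => (N : D) * β) '' (S : Set D)
  have hTfin : T.Finite := (S.finite_toSet).image _
  have hTint : ∀ x ∈ T, IsIntegral R x := by
    rintro _ ⟨β, hβ, rfl⟩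
    exact hN β hβ
  have hfg : (Algebra.adjoin R T).toSubmodule.FG := fg_adjoin_of_finite hTfin hTint
  obtain ⟨e, c, hc⟩ := Submodule.fg_iff_exists_fin_generating_family.mp hfg
  refine ⟨e, c, fun b => ?_⟩
  have hNmem : ∀ m : ℤ, (m : D) ∈ Algebra.adjoin R T := by
    intro m
    have : (m : D) = algebraMap R D (m : R) := (map_intCast _ m).symm
    rw [this]
    exact Subalgebra.algebraMap_mem _ _
  have hb : ∃ k : ℕ, (N : D) ^ k * b ∈ Algebra.adjoin R T := by
    have hbS : b ∈ Algebra.adjoin ℤ (S : Set D) := by rw [hS]; trivial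
    induction hbS using Algebra.adjoin_induction with
    | mem x hx => exact ⟨1, by rw [pow_one]; exact Algebra.subset_adjoin ⟨x, hx, rfl⟩⟩
    | algebraMap m => exact ⟨0, by rw [pow_zero, one_mul]; simpa using hNmem m⟩
    | add x y _ _ hx hy =>
      obtain ⟨k₁, h₁⟩ := hx
      obtain ⟨k₂, h₂⟩ := hy
      refine ⟨k₁ + k₂, ?_⟩
      have : (N : D) ^ (k₁ + k₂) * (x + y) =
          (N : D) ^ k₂ * ((N : D) ^ k₁ * x) + (N : D) ^ k₁ * ((N : D) ^ k₂ * y) := by ring
      rw [this]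
      exact add_mem (mul_mem (pow_mem (hNmem N) _) h₁) (mul_mem (pow_mem (hNmem N) _) h₂)
    | mul x y _ _ hx hy =>
      obtain ⟨k₁, h₁⟩ := hx
      obtain ⟨k₂, h₂⟩ := hy
      refine ⟨k₁ + k₂, ?_⟩
      have : (N : D) ^ (k₁ + k₂) * (x * y) = ((N : D) ^ k₁ * x) * ((N : D) ^ k₂ * y) := by ring
      rw [this]
      exact mul_mem h₁ h₂
  obtain ⟨k, hk⟩ := hb
  have hk' : (N : D) ^ k * b ∈ Submodule.span R (Set.range c) := by rw [hc]; exact hk
  obtain ⟨a, ha⟩ := (Submodule.mem_span_range_iff_exists_fun R).mp hk'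
  exact ⟨k, a, ha.symm⟩

theorem exists_finOver_of_charZero (D : Type u) [CommRing D] [IsDomain D] [CharZero D]
    [Algebra.FiniteType ℤ D] (r : ℕ) (hr : ringKrullDim D ≤ r) :
    ∃ s e : ℕ, ∃ N : ℤ, N ≠ 0 ∧ s + 1 ≤ r ∧ FinOver D s e N := by
  classical
  let L := FractionRing D
  let ι : D →+* L := algebraMap D L
  have hι : Function.Injective ι := IsFractionRing.injective D L
  haveI : CharZero L := (RingHom.charZero_iff hι).mp inferInstance
  obtain ⟨S, hS⟩ := (Algebra.FiniteType.out : (⊤ : Subalgebra ℤ D).FG)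
  let B' : Subalgebra ℚ L := Algebra.adjoin ℚ (ι '' (S : Set D))
  have hmem : ∀ b : D, ι b ∈ B' := by
    intro b
    have hb : b ∈ Algebra.adjoin ℤ (S : Set D) := by rw [hS]; trivial
    induction hb using Algebra.adjoin_induction with
    | mem x hx => exact Algebra.subset_adjoin ⟨x, hx, rfl⟩
    | algebraMap n =>
      have : ι (algebraMap ℤ D n) = algebraMap ℚ L (n : ℚ) := by simp
      rw [this]
      exact Subalgebra.algebraMap_mem _ _
    | add x y _ _ hx hy => rw [map_add]; exact add_mem hx hy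
    | mul x y _ _ hx hy => rw [map_mul]; exact mul_mem hx hy
  have hden : ∀ x : L, x ∈ B' → ∃ n : ℤ, n ≠ 0 ∧ ∃ b : D, (n : L) * x = ι b := by
    intro x hx
    induction hx using Algebra.adjoin_induction with
    | mem x hx =>
      obtain ⟨b, _, rfl⟩ := hx
      exact ⟨1, one_ne_zero, b, by simp⟩
    | algebraMap q =>
      refine ⟨(q.den : ℤ), Int.natCast_ne_zero.mpr q.den_ne_zero, (q.num : D), ?_⟩
      have h1 : (q.den : ℚ) * q = q.num := Rat.den_mul_eq_num q
      have h2 : algebraMap ℚ L ((q.den : ℚ) * q) = algebraMap ℚ L (q.num : ℚ) := by rw [h1]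
      rw [map_mul, map_natCast, map_intCast] at h2
      rw [map_intCast, Int.cast_natCast]
      exact h2
    | add x y _ _ hx hy =>
      obtain ⟨n, hn, b, hb⟩ := hx
      obtain ⟨m, hm, c, hc⟩ := hy
      refine ⟨n * m, mul_ne_zero hn hm, (m : D) * b + (n : D) * c, ?_⟩
      rw [map_add, map_mul, map_mul, map_intCast, map_intCast, ← hb, ← hc, Int.cast_mul]
      ring
    | mul x y _ _ hx hy =>
      obtain ⟨n, hn, b, hb⟩ := hx
      obtain ⟨m, hm, c, hc⟩ := hy
      refine ⟨n * m, mul_ne_zero hn hm, b * c, ?_⟩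
      rw [map_mul, ← hb, ← hc, Int.cast_mul]
      ring
  let ι' : D →+* B' := ι.codRestrict B' hmem
  have hι' : Function.Injective ι' := fun a b h => hι (congrArg Subtype.val h)
  have hden' : ∀ x : B', ∃ n : ℤ, n ≠ 0 ∧ ∃ b : D, (n : B') * x = ι' b := by
    intro x
    obtain ⟨n, hn, b, hb⟩ := hden x.1 x.2
    refine ⟨n, hn, b, Subtype.ext ?_⟩
    simpa [ι'] using hb
  have hunit : ∀ n : ℤ, n ≠ 0 → IsUnit ((n : B')) := by
    intro n hn
    have hq : ((n : ℚ)) ≠ 0 := by exact_mod_cast hn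
    have h := (IsUnit.mk0 (n : ℚ) hq).map (algebraMap ℚ B')
    simpa using h
  haveI : Algebra.FiniteType ℚ B' :=
    (Subalgebra.fg_iff_finiteType B').mp ⟨S.image ι, by rw [Finset.coe_image]⟩
  obtain ⟨s, g, hginj, hgint⟩ := exists_integral_inj_algHom_of_fg ℚ B'
  -- the dimension inequality
  have hs1 : s + 1 ≤ r := by
    have h1 : ((s : ℕ) : WithBot ℕ∞) ≤ ringKrullDim B' := by
      letI : Algebra (MvPolynomial (Fin s) ℚ) B' := g.toRingHom.toAlgebra
      haveI : Algebra.IsIntegral (MvPolynomial (Fin s) ℚ) B' := ⟨hgint⟩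
      rw [← Groth.Agent.Lib.Helper12.ringKrullDim_mvPolynomial_field ℚ s]
      exact Groth.Agent.Lib.Helper12.ringKrullDim_le_of_isIntegral_of_injective hginj
    obtain ⟨l, hl⟩ := Order.le_krullDim_iff.mp h1
    let cm : PrimeSpectrum B' → PrimeSpectrum D :=
      fun P => ⟨Ideal.comap ι' P.asIdeal, inferInstance⟩
    have hcm : StrictMono cm := by
      intro P Q hPQ
      have hle : P.asIdeal ≤ Q.asIdeal := hPQ.le
      refine lt_of_le_of_ne (Ideal.comap_mono hle) ?_
      intro heq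
      have heq' : Ideal.comap ι' P.asIdeal = Ideal.comap ι' Q.asIdeal :=
        congrArg PrimeSpectrum.asIdeal heq
      apply hPQ.ne
      apply PrimeSpectrum.ext
      refine le_antisymm hle ?_
      intro x hx
      obtain ⟨n, hn, b, hb⟩ := hden' x
      have h1 : ι' b ∈ Q.asIdeal := hb ▸ Ideal.mul_mem_left _ _ hx
      have h2 : b ∈ Ideal.comap ι' P.asIdeal := heq'.symm ▸ (Ideal.mem_comap.mpr h1)
      have h3 : (n : B') * x ∈ P.asIdeal := hb ▸ (Ideal.mem_comap.mp h2)
      exact (Ideal.unit_mul_mem_iff_mem _ (hunit n hn)).mp h3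
    have hnotmax : ¬ (Ideal.comap ι' l.last.asIdeal).IsMaximal := by
      intro hmax
      letI : Field (D ⧸ Ideal.comap ι' l.last.asIdeal) := Ideal.Quotient.field _
      haveI : @Algebra.FiniteType ℤ (D ⧸ Ideal.comap ι' l.last.asIdeal) _ _
          (Ring.toIntAlgebra _) := finiteType_int_quotient _
      have hfin : Finite (D ⧸ Ideal.comap ι' l.last.asIdeal) :=
        Groth.Agent.Lib.Helper6.FtInt.finite_of_field_finiteType_int _
      haveI : Fintype (D ⧸ Ideal.comap ι' l.last.asIdeal) := Fintype.ofFinite _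
      have h0 : ((Fintype.card (D ⧸ Ideal.comap ι' l.last.asIdeal) : ℕ) :
          D ⧸ Ideal.comap ι' l.last.asIdeal) = 0 := Nat.cast_card_eq_zero _
      have hcpos : Fintype.card (D ⧸ Ideal.comap ι' l.last.asIdeal) ≠ 0 := Fintype.card_ne_zero
      generalize Fintype.card (D ⧸ Ideal.comap ι' l.last.asIdeal) = q at h0 hcpos
      have h1 : ((q : ℤ) : D) ∈ Ideal.comap ι' l.last.asIdeal := by
        rw [← Ideal.Quotient.eq_zero_iff_mem]
        simpa using h0
      have h2 : (((q : ℤ)) : B') ∈ l.last.asIdeal := by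
        have := Ideal.mem_comap.mp h1
        simpa using this
      exact l.last.isPrime.ne_top
        (Ideal.eq_top_of_isUnit_mem _ h2 (hunit _ (by exact_mod_cast hcpos)))
    obtain ⟨𝔪, h𝔪, hle⟩ := Ideal.exists_le_maximal (Ideal.comap ι' l.last.asIdeal)
      (Ideal.IsPrime.ne_top inferInstance)
    have hlt : (l.map cm hcm).last < (⟨𝔪, h𝔪.isPrime⟩ : PrimeSpectrum D) := by
      rw [LTSeries.last_map]
      refine lt_of_le_of_ne hle ?_
      intro heq
      apply hnotmax
      have : Ideal.comap ι' l.last.asIdeal = 𝔪 := congrArg PrimeSpectrum.asIdeal heq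
      rw [this]
      exact h𝔪
    let l2 := (l.map cm hcm).snoc ⟨𝔪, h𝔪.isPrime⟩ hlt
    have hlen : l2.length = s + 1 := by simp [l2, hl]
    have h2 : ((l2.length : ℕ) : WithBot ℕ∞) ≤ ringKrullDim D := Order.LTSeries.length_le_krullDim l2
    rw [hlen] at h2
    exact_mod_cast h2.trans hr
  -- rescale the variables so that they come from `D`
  choose nn hnn bb hbb using fun i => hden' (g (X i))
  set g₂ := g.comp (aeval fun i => C ((nn i : ℤ) : ℚ) * X i) with hg₂
  have hg₂int : g₂.IsIntegral := isIntegral_comp_scale g hgint nn hnn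
  have hg₂X : ∀ i, g₂ (X i) = ι' (bb i) := by
    intro i
    rw [← hbb i, hg₂, AlgHom.comp_apply, aeval_X, map_mul]
    congr 1
    rw [← MvPolynomial.algebraMap_eq, AlgHom.commutes, map_intCast]
  let ψ : MvPolynomial (Fin s) ℤ →+* D := (aeval bb : MvPolynomial (Fin s) ℤ →ₐ[ℤ] D).toRingHom
  have hφψ : g₂.toRingHom.comp (MvPolynomial.map (algebraMap ℤ ℚ)) = ι'.comp ψ := by
    apply MvPolynomial.ringHom_ext
    · intro n; simp [ψ]
    · intro i
      simp only [RingHom.comp_apply, MvPolynomial.map_X, ψ]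
      show g₂ (X i) = ι' (aeval bb (X i))
      rw [aeval_X, hg₂X]
  have hstar : ∀ β : D, ∃ n : ℤ, n ≠ 0 ∧ ψ.IsIntegralElem ((n : D) * β) := by
    intro β
    obtain ⟨n, hn, P, hPm, hP⟩ := exists_int_mul_isIntegralElem g₂ hg₂int (ι' β)
    refine ⟨n, hn, P, hPm, ?_⟩
    rw [hφψ] at hP
    have : ((n : B') * ι' β) = ι' ((n : D) * β) := by simp
    rw [this, ← Polynomial.hom_eval₂] at hP
    exact hι' (by rw [hP, map_zero])
  choose n hn0 hnint using hstar
  let N : ℤ := ∏ β ∈ S, n β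
  have hN0 : N ≠ 0 := Finset.prod_ne_zero_iff.mpr fun β _ => hn0 β
  letI : Algebra (MvPolynomial (Fin s) ℤ) D := ψ.toAlgebra
  have hNint : ∀ β ∈ S, IsIntegral (MvPolynomial (Fin s) ℤ) ((N : D) * β) := by
    intro β hβ
    obtain ⟨m, hm⟩ := Finset.dvd_prod_of_mem n hβ
    have e1 : (N : D) * β = (m : D) * ((n β : D) * β) := by
      have : N = n β * m := hm
      rw [this]; push_cast; ring
    rw [e1]
    refine IsIntegral.mul ?_ (hnint β)
    have : (m : D) = algebraMap (MvPolynomial (Fin s) ℤ) D (m : MvPolynomial (Fin s) ℤ) :=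
      (map_intCast _ m).symm
    rw [this]
    exact isIntegral_algebraMap
  obtain ⟨e, c, hc⟩ := exists_gens_of_integral (R := MvPolynomial (Fin s) ℤ) S hS N hNint
  refine ⟨s, e, N, hN0, hs1, bb, c, fun b => ?_⟩
  obtain ⟨k, a, hka⟩ := hc b
  refine ⟨k, a, ?_⟩
  rw [hka]
  refine Finset.sum_congr rfl fun j _ => ?_
  rw [Algebra.smul_def]
  rfl

end Groth.Agent.Lib.Lead.PtCount
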