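import Mathlib
import Groth.Agent.Lib.Lead.PtCount2

/-! Counting points, part 3: the ring-level bound for finitely generated `ℤ`-algebras. -/

set_option autoImplicit false
universe u v

namespace Groth.Agent.Lib.Lead.PtCount

/-- Domain case of the bound for large characteristic. -/
theorem exists_bound_domain (D : Type u) [CommRing D] [IsDomain D] [Algebra.FiniteType ℤ D]
    (r : ℕ) (hr : ringKrullDim D ≤ r) :
    ∃ c p₀ : ℕ, ∀ (F : Type v) [Field F] [Finite F] (p : ℕ) [CharP F p], p₀ ≤ p →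
      Nat.card (D →+* F) * Nat.card F ≤ c * Nat.card F ^ r := by
  obtain ⟨ℓ, hℓ⟩ := CharP.exists D
  rcases Nat.eq_zero_or_pos ℓ with h0 | hpos
  · subst h0
    haveI : CharZero D := CharP.charP_to_charZero D
    obtain ⟨s, e, N, hN0, hs1, hfo⟩ := exists_finOver_of_charZero D r hr
    refine ⟨e, N.natAbs + 1, fun F _ _ p _ hp => ?_⟩
    have hNF : (N : F) ≠ 0 := by
      intro h
      have h1 : (p : ℤ) ∣ N := (CharP.intCast_eq_zero_iff F p N).mp h
      have h2 : p ∣ N.natAbs := Int.natCast_dvd.mp h1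
      have h3 := Nat.le_of_dvd (Int.natAbs_pos.mpr hN0) h2
      omega
    have h1 := card_hom_le_of_finOver hfo F hNF
    calc Nat.card (D →+* F) * Nat.card F ≤ (e * Nat.card F ^ s) * Nat.card F :=
          Nat.mul_le_mul_right _ h1
      _ = e * Nat.card F ^ (s + 1) := by rw [pow_succ, mul_assoc]
      _ ≤ e * Nat.card F ^ r :=
          Nat.mul_le_mul_left _ (Nat.pow_le_pow_right Nat.card_pos hs1)
  · refine ⟨0, ℓ + 1, fun F _ _ p _ hp => ?_⟩
    have hempty : IsEmpty (D →+* F) := by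
      refine ⟨fun φ => ?_⟩
      have h1 : (ℓ : F) = 0 := by
        have h : (ℓ : D) = 0 := CharP.cast_eq_zero D ℓ
        have := congrArg φ h
        rw [map_natCast, map_zero] at this
        exact this
      have h2 : p ∣ ℓ := (CharP.cast_eq_zero_iff F p ℓ).mp h1
      have := Nat.le_of_dvd hpos h2
      omega
    rw [Nat.card_of_isEmpty]
    simp

/-- The bound for large characteristic. -/
theorem exists_bound_big (B : Type u) [CommRing B] [Algebra.FiniteType ℤ B] (r : ℕ)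
    (hr : ringKrullDim B ≤ r) :
    ∃ c p₀ : ℕ, ∀ (F : Type v) [Field F] [Finite F] (p : ℕ) [CharP F p], p₀ ≤ p →
      Nat.card (B →+* F) * Nat.card F ≤ c * Nat.card F ^ r := by
  classical
  haveI : IsNoetherianRing B := Algebra.FiniteType.isNoetherianRing ℤ B
  have hfinmin : (minimalPrimes B).Finite := minimalPrimes.finite_of_isNoetherianRing B
  haveI : Fintype (minimalPrimes B) := hfinmin.fintype
  have hdom : ∀ P : minimalPrimes B, ∃ c p₀ : ℕ,
      ∀ (F : Type v) [Field F] [Finite F] (p : ℕ) [CharP F p], p₀ ≤ p →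
      Nat.card (B ⧸ P.1 →+* F) * Nat.card F ≤ c * Nat.card F ^ r := by
    intro P
    haveI : P.1.IsPrime := Ideal.IsMinimalPrime.isPrime P.2
    haveI : @Algebra.FiniteType ℤ (B ⧸ P.1) _ _ (Ring.toIntAlgebra _) :=
      finiteType_int_quotient _
    exact exists_bound_domain (B ⧸ P.1) r ((ringKrullDim_quotient_le P.1).trans hr)
  choose c p₀ hcp using hdom
  refine ⟨∑ P, c P, ∑ P, p₀ P, fun F _ _ p _ hp => ?_⟩
  have hfinQ : ∀ P : minimalPrimes B, Finite (B ⧸ P.1 →+* F) := fun P => by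
    haveI : @Algebra.FiniteType ℤ (B ⧸ P.1) _ _ (Ring.toIntAlgebra _) :=
      finiteType_int_quotient _
    exact Groth.Agent.Lib.Helper6.FtInt.finite_ringHom_of_finiteType_int _ F
  let Θ : (Σ P : minimalPrimes B, (B ⧸ P.1 →+* F)) → (B →+* F) :=
    fun x => x.2.comp (Ideal.Quotient.mk x.1.1)
  have hΘ : Function.Surjective Θ := by
    intro φ
    haveI : (RingHom.ker φ).IsPrime := RingHom.ker_isPrime φ
    obtain ⟨P, hP, hle⟩ := Ideal.exists_minimalPrimes_le
      (show (⊥ : Ideal B) ≤ RingHom.ker φ from bot_le)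
    refine ⟨⟨⟨P, hP⟩, Ideal.Quotient.lift P φ (fun a ha => RingHom.mem_ker.mp (hle ha))⟩, ?_⟩
    ext b
    simp [Θ]
  have h1 : Nat.card (B →+* F) ≤ ∑ P : minimalPrimes B, Nat.card (B ⧸ P.1 →+* F) := by
    calc Nat.card (B →+* F) ≤ Nat.card (Σ P : minimalPrimes B, (B ⧸ P.1 →+* F)) :=
          Nat.card_le_card_of_surjective Θ hΘ
      _ = ∑ P : minimalPrimes B, Nat.card (B ⧸ P.1 →+* F) := Nat.card_sigma
  calc Nat.card (B →+* F) * Nat.card F
      ≤ (∑ P : minimalPrimes B, Nat.card (B ⧸ P.1 →+* F)) * Nat.card F := Nat.mul_le_mul_right _ h1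
    _ = ∑ P : minimalPrimes B, Nat.card (B ⧸ P.1 →+* F) * Nat.card F := Finset.sum_mul _ _ _
    _ ≤ ∑ P : minimalPrimes B, c P * Nat.card F ^ r := Finset.sum_le_sum fun P _ => hcp P F p
        ((Finset.single_le_sum (fun _ _ => Nat.zero_le _) (Finset.mem_univ P)).trans hp)
    _ = (∑ P, c P) * Nat.card F ^ r := (Finset.sum_mul _ _ _).symm

/-- The ring-level point count bound. -/
theorem exists_bound (B : Type u) [CommRing B] [Algebra.FiniteType ℤ B] (r : ℕ)
    (hr : ringKrullDim B ≤ r) :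
    ∃ c p₀ : ℕ, ∀ (F : Type v) [Field F] [Finite F] (p : ℕ) [CharP F p], p.Prime →
      (p₀ ≤ p → Nat.card (B →+* F) * Nat.card F ≤ c * Nat.card F ^ r) ∧
        Nat.card (B →+* F) ≤ c * Nat.card F ^ r := by
  obtain ⟨c, p₀, h1⟩ := exists_bound_big.{u, v} B r hr
  obtain ⟨e, h2⟩ := exists_card_hom_le_of_lt.{u, v} r hr p₀
  refine ⟨c + e, p₀, fun F _ _ p _ hpp =>
    ⟨fun hp => (h1 F p hp).trans (Nat.mul_le_mul_right _ (Nat.le_add_right _ _)), ?_⟩⟩
  rcases le_or_gt p₀ p with hp | hp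
  · have h := h1 F p hp
    have hq : 0 < Nat.card F := Nat.card_pos
    calc Nat.card (B →+* F) ≤ Nat.card (B →+* F) * Nat.card F := Nat.le_mul_of_pos_right _ hq
      _ ≤ c * Nat.card F ^ r := h
      _ ≤ (c + e) * Nat.card F ^ r := Nat.mul_le_mul_right _ (Nat.le_add_right _ _)
  · exact (h2 p hp hpp F).trans (Nat.mul_le_mul_right _ (Nat.le_add_left _ _))

end Groth.Agent.Lib.Lead.PtCount
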