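import Mathlib
import Groth.Agent.Lib.Lead.PtCount3
import Groth.Agent.Lib.Helper6.FtIntPoints

/-! Counting points, part 4: the scheme-level bound for schemes of finite type over `ℤ`. -/

set_option autoImplicit false
universe u

open CategoryTheory AlgebraicGeometry

namespace Groth.Agent.Lib.Lead.PtCount

/-- For `X` of finite type over `ℤ` of dimension `≤ r`: finiteness of `X(F)` and the bounds
`#X(F) ≤ c (#F)^r` for all finite fields `F`, and `#X(F) · #F ≤ c (#F)^r` in large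
characteristic. -/
theorem exists_card_points_le {X : Scheme.{u}}
    (f : X ⟶ Spec (CommRingCat.of (ULift.{u} ℤ))) [LocallyOfFiniteType f] [QuasiCompact f] (r : ℕ)
    (hr : topologicalKrullDim X ≤ r) :
    ∃ c p₀ : ℕ, ∀ (F : Type u) [Field F] [Finite F] (p : ℕ) [CharP F p], p.Prime →
      Finite (Spec (CommRingCat.of F) ⟶ X) ∧
      (p₀ ≤ p → Nat.card (Spec (CommRingCat.of F) ⟶ X) * Nat.card F ≤ c * Nat.card F ^ r) ∧
        Nat.card (Spec (CommRingCat.of F) ⟶ X) ≤ c * Nat.card F ^ r := by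
  classical
  haveI : CompactSpace X := QuasiCompact.compactSpace_of_compactSpace f
  obtain ⟨s, hsfin, hscov⟩ :=
    (isCompact_iff_finite_and_eq_biUnion_affineOpens (U := (⊤ : X.Opens))).mp
      (by simpa using isCompact_univ)
  haveI : Fintype s := hsfin.fintype
  have hA : ∀ U : s, IsAffineOpen (U.1.1 : X.Opens) := fun U => U.1.2
  have hFT : ∀ U : s, Algebra.FiniteType ℤ Γ(X, U.1.1) := fun U =>
    Groth.Agent.Lib.Helper6.FtInt.finiteType_int_sections f U.1.1 U.1.2
  have hdim : ∀ U : s, ringKrullDim Γ(X, U.1.1) ≤ r := by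
    intro U
    rw [← PrimeSpectrum.topologicalKrullDim_eq_ringKrullDim]
    exact ((hA U).fromSpec.isOpenEmbedding.isInducing.topologicalKrullDim_le).trans hr
  have hbound : ∀ U : s, ∃ c p₀ : ℕ,
      ∀ (F : Type u) [Field F] [Finite F] (p : ℕ) [CharP F p], p.Prime →
      (p₀ ≤ p → Nat.card (Γ(X, U.1.1) →+* F) * Nat.card F ≤ c * Nat.card F ^ r) ∧
        Nat.card (Γ(X, U.1.1) →+* F) ≤ c * Nat.card F ^ r := by
    intro U
    have := hFT U
    exact exists_bound.{u, u} Γ(X, U.1.1) r (hdim U)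
  choose c p₀ hcp using hbound
  refine ⟨∑ U, c U, ∑ U, p₀ U, fun F _ _ p _ hp => ?_⟩
  have hfinU : ∀ U : s, Finite (Γ(X, U.1.1) →+* F) := fun U => by
    have := hFT U
    exact Groth.Agent.Lib.Helper6.FtInt.finite_ringHom_of_finiteType_int _ F
  let Θ : (Σ U : s, (Γ(X, U.1.1) →+* F)) → (Spec (CommRingCat.of F) ⟶ X) :=
    fun x => Spec.map (CommRingCat.ofHom x.2) ≫ (hA x.1).fromSpec
  have hΘ : Function.Surjective Θ := by
    intro g
    let pt : Spec (CommRingCat.of F) := (⊥ : PrimeSpectrum F)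
    have hx : g pt ∈ (⊤ : X.Opens) := trivial
    rw [hscov] at hx
    simp only [TopologicalSpace.Opens.mem_iSup] at hx
    obtain ⟨U, hUs, hxU⟩ := hx
    have hU : IsAffineOpen (U : X.Opens) := U.2
    have hrange : Set.range g ⊆ Set.range hU.fromSpec := by
      rw [hU.range_fromSpec]
      rintro _ ⟨y, rfl⟩
      have : y = pt := Subsingleton.elim (α := PrimeSpectrum F) y pt
      rw [this]
      exact hxU
    let lft := IsOpenImmersion.lift hU.fromSpec g hrange
    refine ⟨⟨⟨U, hUs⟩, (Spec.preimage lft).hom⟩, ?_⟩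
    show Spec.map (CommRingCat.ofHom (Spec.preimage lft).hom) ≫ hU.fromSpec = g
    rw [CommRingCat.ofHom_hom, Spec.map_preimage]
    exact IsOpenImmersion.lift_fac hU.fromSpec g hrange
  have hfin : Finite (Spec (CommRingCat.of F) ⟶ X) := Finite.of_surjective Θ hΘ
  have hcard : Nat.card (Spec (CommRingCat.of F) ⟶ X) ≤
      ∑ U : s, Nat.card (Γ(X, U.1.1) →+* F) := by
    calc Nat.card (Spec (CommRingCat.of F) ⟶ X)
        ≤ Nat.card (Σ U : s, (Γ(X, U.1.1) →+* F)) := Nat.card_le_card_of_surjective Θ hΘ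
      _ = ∑ U : s, Nat.card (Γ(X, U.1.1) →+* F) := Nat.card_sigma
  refine ⟨hfin, fun hp₀ => ?_, ?_⟩
  · calc Nat.card (Spec (CommRingCat.of F) ⟶ X) * Nat.card F
        ≤ (∑ U : s, Nat.card (Γ(X, U.1.1) →+* F)) * Nat.card F :=
          Nat.mul_le_mul_right _ hcard
      _ = ∑ U : s, Nat.card (Γ(X, U.1.1) →+* F) * Nat.card F := Finset.sum_mul _ _ _
      _ ≤ ∑ U : s, c U * Nat.card F ^ r := Finset.sum_le_sum fun U _ =>
          ((hcp U F p hp).1 ((Finset.single_le_sum (fun _ _ => Nat.zero_le _)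
            (Finset.mem_univ U)).trans hp₀))
      _ = (∑ U, c U) * Nat.card F ^ r := (Finset.sum_mul _ _ _).symm
  · calc Nat.card (Spec (CommRingCat.of F) ⟶ X)
        ≤ ∑ U : s, Nat.card (Γ(X, U.1.1) →+* F) := hcard
      _ ≤ ∑ U : s, c U * Nat.card F ^ r := Finset.sum_le_sum fun U _ => (hcp U F p hp).2
      _ = (∑ U, c U) * Nat.card F ^ r := (Finset.sum_mul _ _ _).symm

end Groth.Agent.Lib.Lead.PtCount
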