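import Mathlib

/-!
# Generic lemmas for the trace map on differential forms of a `p`-th root extension (part A)

* products of `ι`'s in the exterior algebra, contraction, sign of moving a vector across;
* the quotient `V = E ⧸ ι(m) E` of an exterior algebra and the maps `L₀`, `Ξ`;
* squares vanish in `S ⊗ ⋀ M`;
* lifting a "derivation" along a surjective algebra map.
-/

set_option autoImplicit false
set_option linter.style.haveILetI false

universe u

namespace Groth.Agent.Lib.Lead.PthTrace

open TensorProduct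

section ListProd

variable {R : Type*} [CommRing R] {M : Type*} [AddCommGroup M] [Module R M]

/-- The product `ι (v 0) * ⋯ * ι (v (n-1))`. -/
noncomputable def P (n : ℕ) (v : Fin n → M) : ExteriorAlgebra R M :=
  (List.ofFn fun i => ExteriorAlgebra.ι R (v i)).prod

lemma P_zero (v : Fin 0 → M) : P (R := R) 0 v = 1 := by simp [P]

lemma P_succ (n : ℕ) (v : Fin (n + 1) → M) :
    P (R := R) (n + 1) v = P n (fun i => v i.castSucc) * ExteriorAlgebra.ι R (v (Fin.last n)) := by
  unfold P
  rw [List.ofFn_succ', List.concat_eq_append, List.prod_append, List.prod_singleton]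

lemma ιMulti_eq_P (n : ℕ) (v : Fin n → M) : ExteriorAlgebra.ιMulti R n v = P n v :=
  ExteriorAlgebra.ιMulti_apply v

lemma P_snoc (n : ℕ) (v : Fin n → M) (z : M) :
    P (R := R) (n + 1) (Fin.snoc v z) = P n v * ExteriorAlgebra.ι R z := by
  rw [P_succ]
  simp only [Fin.snoc_castSucc, Fin.snoc_last]

lemma contractRight_P_eq_zero (d : Module.Dual R M) (n : ℕ) (v : Fin n → M)
    (hv : ∀ i, d (v i) = 0) :
    CliffordAlgebra.contractRight (Q := (0 : QuadraticForm R M)) (P n v) d = 0 := by
  induction n with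
  | zero => rw [P_zero]; exact CliffordAlgebra.contractRight_one _ d
  | succ n ih =>
    rw [P_succ, CliffordAlgebra.contractRight_mul_ι, hv, zero_smul, ih _ (fun i => hv _), zero_mul,
      sub_zero]

lemma ι_mul_P (m : M) (n : ℕ) (v : Fin n → M) :
    ExteriorAlgebra.ι R m * P n v = (-1 : R) ^ n • (P n v * ExteriorAlgebra.ι R m) := by
  induction n with
  | zero => simp [P_zero]
  | succ n ih =>
    rw [P_succ, ← mul_assoc, ih, smul_mul_assoc, mul_assoc, mul_assoc]
    have h := ExteriorAlgebra.ι_add_mul_swap (R := R) m (v (Fin.last n))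
    have h' : ExteriorAlgebra.ι R m * ExteriorAlgebra.ι R (v (Fin.last n)) =
        -(ExteriorAlgebra.ι R (v (Fin.last n)) * ExteriorAlgebra.ι R m) := eq_neg_of_add_eq_zero_left h
    rw [h', mul_neg, pow_succ, mul_neg_one, neg_smul, smul_neg]

end ListProd

section Vquot

variable {R : Type*} [CommRing R] {M : Type*} [AddCommGroup M] [Module R M] (m₀ : M)

/-- The right ideal `ι m₀ * E`. -/
noncomputable def W : Submodule R (ExteriorAlgebra R M) :=
  LinearMap.range (LinearMap.mulLeft R (ExteriorAlgebra.ι R m₀))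

/-- `V = E ⧸ ι m₀ E`. -/
abbrev V : Type _ := ExteriorAlgebra R M ⧸ W (R := R) m₀

lemma W_le_comap (m : M) :
    W (R := R) m₀ ≤ (W (R := R) m₀).comap (LinearMap.mulLeft R (ExteriorAlgebra.ι R m)) := by
  rintro _ ⟨e, rfl⟩
  refine ⟨-(ExteriorAlgebra.ι R m * e), ?_⟩
  simp only [LinearMap.mulLeft_apply, mul_neg]
  have h := ExteriorAlgebra.ι_add_mul_swap (R := R) m m₀
  have h' : ExteriorAlgebra.ι R m * ExteriorAlgebra.ι R m₀ =
      -(ExteriorAlgebra.ι R m₀ * ExteriorAlgebra.ι R m) := eq_neg_of_add_eq_zero_left h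
  rw [← mul_assoc, ← mul_assoc, h', neg_mul]

/-- Left multiplication by `ι m` on `V`. -/
noncomputable def L₀fun (m : M) : V (R := R) m₀ →ₗ[R] V (R := R) m₀ :=
  (W (R := R) m₀).mapQ (W (R := R) m₀) (LinearMap.mulLeft R (ExteriorAlgebra.ι R m)) (W_le_comap m₀ m)

lemma L₀fun_mk (m : M) (e : ExteriorAlgebra R M) :
    L₀fun (R := R) m₀ m (Submodule.Quotient.mk e) = Submodule.Quotient.mk (ExteriorAlgebra.ι R m * e) :=
  rfl

/-- `m ↦ (left multiplication by ι m on V)`, as a linear map. -/
noncomputable def L₀ : M →ₗ[R] Module.End R (V (R := R) m₀) where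
  toFun := L₀fun m₀
  map_add' a b := by
    apply LinearMap.ext
    intro x
    obtain ⟨e, rfl⟩ := Submodule.Quotient.mk_surjective _ x
    simp only [L₀fun_mk, LinearMap.add_apply, map_add, add_mul, Submodule.Quotient.mk_add]
  map_smul' r a := by
    apply LinearMap.ext
    intro x
    obtain ⟨e, rfl⟩ := Submodule.Quotient.mk_surjective _ x
    simp only [L₀fun_mk, LinearMap.smul_apply, map_smul, smul_mul_assoc, Submodule.Quotient.mk_smul,
      RingHom.id_apply]

lemma L₀_mk (m : M) (e : ExteriorAlgebra R M) :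
    L₀ (R := R) m₀ m (Submodule.Quotient.mk e) = Submodule.Quotient.mk (ExteriorAlgebra.ι R m * e) :=
  rfl

lemma L₀_self : L₀ (R := R) m₀ m₀ = 0 := by
  apply LinearMap.ext
  intro x
  obtain ⟨e, rfl⟩ := Submodule.Quotient.mk_surjective _ x
  rw [L₀_mk, LinearMap.zero_apply, Submodule.Quotient.mk_eq_zero]
  exact ⟨e, rfl⟩

lemma L₀_sq (m : M) : L₀ (R := R) m₀ m * L₀ (R := R) m₀ m = 0 := by
  apply LinearMap.ext
  intro x
  obtain ⟨e, rfl⟩ := Submodule.Quotient.mk_surjective _ x
  rw [Module.End.mul_apply, L₀_mk, L₀_mk, ← mul_assoc, ExteriorAlgebra.ι_sq_zero, zero_mul]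
  rfl

/-- `[e] ↦ ι m₀ * e`. -/
noncomputable def Ξ : V (R := R) m₀ →ₗ[R] ExteriorAlgebra R M :=
  (W (R := R) m₀).liftQ (LinearMap.mulLeft R (ExteriorAlgebra.ι R m₀)) (by
    rintro _ ⟨e, rfl⟩
    rw [LinearMap.mem_ker]
    simp only [LinearMap.mulLeft_apply]
    rw [← mul_assoc, ExteriorAlgebra.ι_sq_zero, zero_mul])

lemma Ξ_mk (e : ExteriorAlgebra R M) :
    Ξ (R := R) m₀ (Submodule.Quotient.mk e) = ExteriorAlgebra.ι R m₀ * e := rfl

end Vquot

section SquareZero

variable {R : Type*} [CommRing R] (S : Type*) [CommRing S] [Algebra R S]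
  {M : Type*} [AddCommGroup M] [Module R M]

/-- `s ⊗ m ↦ s ⊗ ι m`. -/
noncomputable def J : S ⊗[R] M →ₗ[S] S ⊗[R] ExteriorAlgebra R M :=
  LinearMap.baseChange S (ExteriorAlgebra.ι R)

lemma J_tmul (s : S) (m : M) : J (R := R) S (s ⊗ₜ[R] m) = s ⊗ₜ[R] ExteriorAlgebra.ι R m := rfl

lemma J_anticomm (z z' : S ⊗[R] M) :
    J (R := R) S z * J (R := R) S z' + J (R := R) S z' * J (R := R) S z = 0 := by
  induction z using TensorProduct.induction_on with
  | zero => simp
  | tmul s m =>
    induction z' using TensorProduct.induction_on with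
    | zero => simp
    | tmul s' m' =>
      rw [J_tmul, J_tmul, Algebra.TensorProduct.tmul_mul_tmul, Algebra.TensorProduct.tmul_mul_tmul,
        mul_comm s' s, ← TensorProduct.tmul_add, ExteriorAlgebra.ι_add_mul_swap, TensorProduct.tmul_zero]
    | add a b ha hb =>
      rw [map_add, mul_add, add_mul, add_add_add_comm, ha, hb, add_zero]
  | add a b ha hb =>
    rw [map_add, add_mul, mul_add, add_add_add_comm, ha, hb, add_zero]

lemma J_sq (z : S ⊗[R] M) : J (R := R) S z * J (R := R) S z = 0 := by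
  induction z using TensorProduct.induction_on with
  | zero => simp
  | tmul s m =>
    rw [J_tmul, Algebra.TensorProduct.tmul_mul_tmul, ExteriorAlgebra.ι_sq_zero, TensorProduct.tmul_zero]
  | add a b ha hb =>
    rw [map_add, add_mul, mul_add, mul_add, ha, hb, zero_add, add_zero, J_anticomm]

end SquareZero

section LiftDer

variable {Λ A S N : Type*} [CommRing Λ] [CommRing A] [CommRing S] [Algebra Λ A] [Algebra Λ S]
  [AddCommGroup N] [Module Λ N] [Module S N] [IsScalarTower Λ S N]

omit [IsScalarTower Λ S N] in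
/-- Descend a "derivation along `π`" `δ : A → N` to a derivation of `S`, for `π : A → S` surjective. -/
theorem exists_derivation_of_surjective (π : A →ₐ[Λ] S) (hπ : Function.Surjective π)
    (δ : A →ₗ[Λ] N) (hmul : ∀ a b, δ (a * b) = π a • δ b + π b • δ a)
    (hker : ∀ a, π a = 0 → δ a = 0) :
    ∃ D : Derivation Λ S N, ∀ a, D (π a) = δ a := by
  have hwd : ∀ a b, π a = π b → δ a = δ b := by
    intro a b hab
    have : δ (a - b) = 0 := hker _ (by rw [map_sub, hab, sub_self])
    rwa [map_sub, sub_eq_zero] at this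
  let inv : S → A := Function.surjInv hπ
  have hinv : ∀ s, π (inv s) = s := Function.surjInv_eq hπ
  let D₀ : S →ₗ[Λ] N :=
    { toFun := fun s => δ (inv s)
      map_add' := fun x y => by
        rw [← map_add]
        exact hwd _ _ (by rw [map_add, hinv, hinv, hinv])
      map_smul' := fun c x => by
        rw [RingHom.id_apply, ← map_smul]
        exact hwd _ _ (by rw [map_smul, hinv, hinv]) }
  have hD₀ : ∀ a, D₀ (π a) = δ a := fun a => hwd _ _ (hinv _)
  refine ⟨Derivation.mk' D₀ ?_, hD₀⟩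
  intro x y
  obtain ⟨a, rfl⟩ := hπ x
  obtain ⟨b, rfl⟩ := hπ y
  rw [← map_mul, hD₀, hD₀, hD₀, hmul]

end LiftDer

end Groth.Agent.Lib.Lead.PthTrace
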