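import Groth.Agent.Lib.Lead.PthTraceA

/-!
# The trace map on differential forms of `S = R[x]/(x^p - a)` in characteristic `p` (part B)
-/

set_option autoImplicit false
set_option linter.style.haveILetI false
set_option linter.unusedSectionVars false

universe u

namespace Groth.Agent.Lib.Lead.PthTrace

open Polynomial TensorProduct

section B

variable (p : ℕ) [hp : Fact p.Prime] (Λ R : Type u) [CommRing Λ] [CommRing R] [Algebra Λ R]
  [CharP R p] (a : R)

/-- `S = R[x]/(x^p - a)`. -/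
abbrev SS : Type u := AdjoinRoot (X ^ p - C a : R[X])

include hp in
lemma monic_f : (X ^ p - C a : R[X]).Monic := monic_X_pow_sub_C a hp.out.ne_zero

include hp in
lemma nontrivial_R : Nontrivial R := CharP.nontrivial_of_char_ne_one (R := R) hp.out.ne_one

/-- `Ω_{R/Λ} / (da)`. -/
abbrev Ωbar : Type u := Ω[R⁄Λ] ⧸ Submodule.span R {KaehlerDifferential.D Λ R a}

/-- The quotient map `Ω → Ω / (da)`. -/
noncomputable def mkΩ : Ω[R⁄Λ] →ₗ[R] Ωbar Λ R a := Submodule.mkQ _

lemma mkΩ_da : mkΩ Λ R a (KaehlerDifferential.D Λ R a) = 0 := by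
  rw [mkΩ, Submodule.mkQ_apply, Submodule.Quotient.mk_eq_zero]
  exact Submodule.mem_span_singleton_self _

lemma mkΩ_surjective : Function.Surjective (mkΩ Λ R a) := Submodule.mkQ_surjective _

/-- The quotient map `R[X] → S` as a `Λ`-algebra map. -/
noncomputable def π : R[X] →ₐ[Λ] SS p R a := (AdjoinRoot.mkₐ (X ^ p - C a : R[X])).restrictScalars Λ

lemma π_apply (g : R[X]) : π p Λ R a g = AdjoinRoot.mk (X ^ p - C a : R[X]) g := rfl

lemma π_surjective : Function.Surjective (π p Λ R a) := AdjoinRoot.mk_surjective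

lemma π_monomial (i : ℕ) (r : R) :
    π p Λ R a (monomial i r) = algebraMap R (SS p R a) r * AdjoinRoot.root _ ^ i := by
  rw [π_apply, ← C_mul_X_pow_eq_monomial, map_mul, map_pow, AdjoinRoot.mk_C, AdjoinRoot.mk_X,
    AdjoinRoot.algebraMap_eq]

lemma π_eq_zero_iff (g : R[X]) : π p Λ R a g = 0 ↔ (X ^ p - C a : R[X]) ∣ g := AdjoinRoot.mk_eq_zero

/-! ### The derivation `D₁ : S → S ⊗ Ω̄` -/

/-- `r ↦ x^i ⊗ [dr]`. -/
noncomputable def g₁ (i : ℕ) : R →ₗ[Λ] SS p R a ⊗[R] Ωbar Λ R a where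
  toFun r := (AdjoinRoot.root (X ^ p - C a : R[X]) ^ i) ⊗ₜ[R] mkΩ Λ R a (KaehlerDifferential.D Λ R r)
  map_add' r r' := by rw [map_add, map_add, TensorProduct.tmul_add]
  map_smul' c r := by
    rw [RingHom.id_apply, Derivation.map_smul, LinearMap.map_smul_of_tower, TensorProduct.tmul_smul]

/-- `g ↦ ∑ x^i ⊗ [d g_i]`. -/
noncomputable def δ₁ : R[X] →ₗ[Λ] SS p R a ⊗[R] Ωbar Λ R a := Polynomial.lsum (g₁ p Λ R a)

lemma δ₁_monomial (i : ℕ) (r : R) :
    δ₁ p Λ R a (monomial i r) =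
      (AdjoinRoot.root (X ^ p - C a : R[X]) ^ i) ⊗ₜ[R] mkΩ Λ R a (KaehlerDifferential.D Λ R r) := by
  rw [δ₁, Polynomial.lsum_apply, Polynomial.sum_monomial_index]
  · rfl
  · exact map_zero _

lemma δ₁_mul_monomial (i j : ℕ) (r r' : R) :
    δ₁ p Λ R a (monomial i r * monomial j r') =
      π p Λ R a (monomial i r) • δ₁ p Λ R a (monomial j r') +
        π p Λ R a (monomial j r') • δ₁ p Λ R a (monomial i r) := by
  rw [monomial_mul_monomial, δ₁_monomial, δ₁_monomial, δ₁_monomial, π_monomial, π_monomial,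
    Derivation.leibniz, map_add, map_smul, map_smul, TensorProduct.tmul_add,
    TensorProduct.smul_tmul', TensorProduct.smul_tmul', smul_eq_mul, smul_eq_mul]
  congr 1
  · rw [mul_assoc, ← pow_add, ← Algebra.smul_def, TensorProduct.smul_tmul]
  · rw [mul_assoc, ← pow_add, ← Algebra.smul_def, TensorProduct.smul_tmul, add_comm j i]

lemma δ₁_mul (g h : R[X]) :
    δ₁ p Λ R a (g * h) = π p Λ R a g • δ₁ p Λ R a h + π p Λ R a h • δ₁ p Λ R a g := by
  induction g using Polynomial.induction_on' with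
  | add g₁ g₂ h₁ h₂ =>
    rw [add_mul, map_add, h₁, h₂, map_add, map_add, add_smul, smul_add]
    abel
  | monomial i r =>
    induction h using Polynomial.induction_on' with
    | add k₁ k₂ h₁ h₂ =>
      rw [mul_add, map_add, h₁, h₂, map_add, map_add, add_smul, smul_add]
      abel
    | monomial j r' => exact δ₁_mul_monomial p Λ R a i j r r'

lemma δ₁_f : δ₁ p Λ R a (X ^ p - C a : R[X]) = 0 := by
  have h1 : δ₁ p Λ R a (X ^ p) = 0 :=
    (congrArg (δ₁ p Λ R a) (X_pow_eq_monomial p)).trans (by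
      rw [δ₁_monomial, Derivation.map_one_eq_zero, map_zero, TensorProduct.tmul_zero])
  have h2 : δ₁ p Λ R a (C a) = 0 :=
    (congrArg (δ₁ p Λ R a) (monomial_zero_left (a := a)).symm).trans (by
      rw [δ₁_monomial, mkΩ_da, TensorProduct.tmul_zero])
  rw [map_sub, h1, h2, sub_zero]

lemma δ₁_ker (g : R[X]) (hg : π p Λ R a g = 0) : δ₁ p Λ R a g = 0 := by
  obtain ⟨q, rfl⟩ := (π_eq_zero_iff p Λ R a g).mp hg
  rw [δ₁_mul, δ₁_f, smul_zero, add_zero]
  have : π p Λ R a (X ^ p - C a : R[X]) = 0 := AdjoinRoot.mk_self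
  rw [this, zero_smul]

/-- The derivation `D₁ : S → S ⊗ Ω̄`, `∑ r_i x^i ↦ ∑ x^i ⊗ [d r_i]`. -/
noncomputable def D₁ : Derivation Λ (SS p R a) (SS p R a ⊗[R] Ωbar Λ R a) :=
  Classical.choose (exists_derivation_of_surjective (π p Λ R a) (π_surjective p Λ R a) (δ₁ p Λ R a)
    (δ₁_mul p Λ R a) (δ₁_ker p Λ R a))

lemma D₁_π (g : R[X]) : D₁ p Λ R a (π p Λ R a g) = δ₁ p Λ R a g :=
  Classical.choose_spec (exists_derivation_of_surjective (π p Λ R a) (π_surjective p Λ R a)
    (δ₁ p Λ R a) (δ₁_mul p Λ R a) (δ₁_ker p Λ R a)) g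

lemma D₁_root : D₁ p Λ R a (AdjoinRoot.root _) = 0 := by
  have h : AdjoinRoot.root (X ^ p - C a : R[X]) = π p Λ R a (monomial 1 1) := by
    rw [π_monomial, map_one, one_mul, pow_one]
  rw [h, D₁_π, δ₁_monomial, Derivation.map_one_eq_zero, map_zero, TensorProduct.tmul_zero]

lemma D₁_algebraMap (r : R) :
    D₁ p Λ R a (algebraMap R (SS p R a) r) = 1 ⊗ₜ[R] mkΩ Λ R a (KaehlerDifferential.D Λ R r) := by
  have h : algebraMap R (SS p R a) r = π p Λ R a (monomial 0 r) := by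
    rw [π_monomial, pow_zero, mul_one]
  rw [h, D₁_π, δ₁_monomial, pow_zero]

/-! ### The derivation `D₂ = ∂/∂x : S → S` -/

/-- `g ↦ [g']`. -/
noncomputable def δ₂ : R[X] →ₗ[Λ] SS p R a where
  toFun g := π p Λ R a (derivative g)
  map_add' g h := by rw [map_add, map_add]
  map_smul' c g := by rw [RingHom.id_apply, derivative_smul, map_smul]

lemma δ₂_apply (g : R[X]) : δ₂ p Λ R a g = π p Λ R a (derivative g) := rfl

lemma δ₂_mul (g h : R[X]) :
    δ₂ p Λ R a (g * h) = π p Λ R a g • δ₂ p Λ R a h + π p Λ R a h • δ₂ p Λ R a g := by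
  simp only [δ₂_apply, derivative_mul, map_add, map_mul, smul_eq_mul]
  ring

lemma derivative_f : derivative (X ^ p - C a : R[X]) = 0 := by
  rw [derivative_sub, derivative_C, derivative_X_pow, sub_zero, CharP.cast_eq_zero R p, map_zero,
    zero_mul]

lemma δ₂_ker (g : R[X]) (hg : π p Λ R a g = 0) : δ₂ p Λ R a g = 0 := by
  obtain ⟨q, rfl⟩ := (π_eq_zero_iff p Λ R a g).mp hg
  have : π p Λ R a (X ^ p - C a : R[X]) = 0 := AdjoinRoot.mk_self
  rw [δ₂_apply, derivative_mul, derivative_f, zero_mul, zero_add, map_mul, this, zero_mul]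

/-- The derivation `D₂ = ∂/∂x`. -/
noncomputable def D₂ : Derivation Λ (SS p R a) (SS p R a) :=
  Classical.choose (exists_derivation_of_surjective (π p Λ R a) (π_surjective p Λ R a) (δ₂ p Λ R a)
    (δ₂_mul p Λ R a) (δ₂_ker p Λ R a))

lemma D₂_π (g : R[X]) : D₂ p Λ R a (π p Λ R a g) = δ₂ p Λ R a g :=
  Classical.choose_spec (exists_derivation_of_surjective (π p Λ R a) (π_surjective p Λ R a)
    (δ₂ p Λ R a) (δ₂_mul p Λ R a) (δ₂_ker p Λ R a)) g

lemma D₂_root : D₂ p Λ R a (AdjoinRoot.root _) = 1 := by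
  have h : AdjoinRoot.root (X ^ p - C a : R[X]) = π p Λ R a X := by
    rw [π_apply, AdjoinRoot.mk_X]
  rw [h, D₂_π, δ₂_apply, derivative_X, map_one]

lemma D₂_algebraMap (r : R) : D₂ p Λ R a (algebraMap R (SS p R a) r) = 0 := by
  have h : algebraMap R (SS p R a) r = π p Λ R a (C r) := by
    rw [π_apply, AdjoinRoot.mk_C, AdjoinRoot.algebraMap_eq]
  rw [h, D₂_π, δ₂_apply, derivative_C, map_zero]

/-! ### The linear maps `φ`, `ψ` on `Ω_{S/Λ}` -/

/-- `φ : Ω_S → S ⊗ Ω̄`. -/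
noncomputable def φ : Ω[SS p R a⁄Λ] →ₗ[SS p R a] SS p R a ⊗[R] Ωbar Λ R a :=
  (D₁ p Λ R a).liftKaehlerDifferential

/-- `ψ : Ω_S → S`, the coefficient of `dx`. -/
noncomputable def ψ : Module.Dual (SS p R a) Ω[SS p R a⁄Λ] := (D₂ p Λ R a).liftKaehlerDifferential

lemma φ_D (s : SS p R a) : φ p Λ R a (KaehlerDifferential.D Λ _ s) = D₁ p Λ R a s :=
  Derivation.liftKaehlerDifferential_comp_D _ s

lemma ψ_D (s : SS p R a) : ψ p Λ R a (KaehlerDifferential.D Λ _ s) = D₂ p Λ R a s :=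
  Derivation.liftKaehlerDifferential_comp_D _ s

lemma mem_span_D (η : Ω[R⁄Λ]) : η ∈ Submodule.span R (Set.range (KaehlerDifferential.D Λ R)) := by
  rw [KaehlerDifferential.span_range_derivation]
  trivial

lemma φ_map (η : Ω[R⁄Λ]) :
    φ p Λ R a (KaehlerDifferential.map Λ Λ R (SS p R a) η) = 1 ⊗ₜ[R] mkΩ Λ R a η := by
  induction mem_span_D Λ R η using Submodule.span_induction with
  | mem x hx =>
    obtain ⟨r, rfl⟩ := hx
    rw [KaehlerDifferential.map_D, φ_D, D₁_algebraMap]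
  | zero => simp
  | add x y _ _ hx hy => rw [map_add, map_add, hx, hy, map_add, TensorProduct.tmul_add]
  | smul r x _ hx =>
    rw [map_smul, LinearMap.map_smul_of_tower, hx, map_smul, TensorProduct.tmul_smul]

lemma ψ_map (η : Ω[R⁄Λ]) : ψ p Λ R a (KaehlerDifferential.map Λ Λ R (SS p R a) η) = 0 := by
  induction mem_span_D Λ R η using Submodule.span_induction with
  | mem x hx =>
    obtain ⟨r, rfl⟩ := hx
    rw [KaehlerDifferential.map_D, ψ_D, D₂_algebraMap]
  | zero => simp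
  | add x y _ _ hx hy => rw [map_add, map_add, hx, hy, add_zero]
  | smul r x _ hx => rw [map_smul, LinearMap.map_smul_of_tower, hx, smul_zero]

lemma ψ_dx (s : SS p R a) :
    ψ p Λ R a (s • KaehlerDifferential.D Λ _ (AdjoinRoot.root (X ^ p - C a : R[X]))) = s := by
  rw [map_smul, ψ_D, D₂_root, smul_eq_mul, mul_one]

end B

end Groth.Agent.Lib.Lead.PthTrace
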