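import Groth.Agent.Lib.Lead.PthTraceB

/-!
# The trace map on differential forms of `S = R[x]/(x^p - a)` in characteristic `p` (part C)
-/

set_option autoImplicit false
set_option linter.style.haveILetI false
set_option linter.unusedSectionVars false

universe u

namespace Groth.Agent.Lib.Lead.PthTrace

open Polynomial TensorProduct

section C

variable (p : ℕ) [hp : Fact p.Prime] (Λ R : Type u) [CommRing Λ] [CommRing R] [Algebra Λ R]
  [CharP R p] (a : R)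

/-- `⋀_S Ω_S`. -/
abbrev ES : Type u := ExteriorAlgebra (SS p R a) Ω[SS p R a⁄Λ]
/-- `⋀_R Ω̄`. -/
abbrev EΩ : Type u := ExteriorAlgebra R (Ωbar Λ R a)
/-- `⋀_R Ω_R`. -/
abbrev ER : Type u := ExteriorAlgebra R Ω[R⁄Λ]
/-- `da`. -/
noncomputable abbrev da : Ω[R⁄Λ] := KaehlerDifferential.D Λ R a

/-- The algebra map `⋀_S Ω_S → S ⊗ ⋀_R Ω̄` induced by `φ`. -/
noncomputable def ρS : ES p Λ R a →ₐ[SS p R a] SS p R a ⊗[R] EΩ Λ R a :=
  ExteriorAlgebra.lift (SS p R a)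
    ⟨(J (R := R) (SS p R a)) ∘ₗ φ p Λ R a, fun m => J_sq (SS p R a) (φ p Λ R a m)⟩

lemma ρS_ι (ω : Ω[SS p R a⁄Λ]) :
    ρS p Λ R a (ExteriorAlgebra.ι _ ω) = J (R := R) (SS p R a) (φ p Λ R a ω) :=
  ExteriorAlgebra.lift_ι_apply _ _ _ _

lemma ρS_P (n : ℕ) (η : Fin n → Ω[R⁄Λ]) :
    ρS p Λ R a (P n (fun i => KaehlerDifferential.map Λ Λ R (SS p R a) (η i))) =
      1 ⊗ₜ[R] P n (fun i => mkΩ Λ R a (η i)) := by
  induction n with
  | zero => rw [P_zero, P_zero, map_one]; rfl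
  | succ n ih =>
    rw [P_succ, P_succ, map_mul, ih, ρS_ι, φ_map, J_tmul, Algebra.TensorProduct.tmul_mul_tmul, one_mul]

/-- The coefficient of `x^(p-1)`. -/
noncomputable def coeffS : SS p R a →ₗ[R] R :=
  (Polynomial.lcoeff R (p - 1)) ∘ₗ (AdjoinRoot.modByMonicHom (monic_f p R a))

lemma coeffS_root_pow (i : ℕ) (hi : i < p) :
    coeffS p R a (AdjoinRoot.root _ ^ i) = if i = p - 1 then 1 else 0 := by
  haveI := nontrivial_R p R
  have h : AdjoinRoot.root (X ^ p - C a : R[X]) ^ i = AdjoinRoot.mk _ (X ^ i) := by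
    rw [map_pow, AdjoinRoot.mk_X]
  have hdeg : (X ^ i : R[X]).degree < (X ^ p - C a : R[X]).degree := by
    rw [degree_X_pow, degree_X_pow_sub_C hp.out.pos]
    exact_mod_cast hi
  rw [coeffS, LinearMap.comp_apply, h, AdjoinRoot.modByMonicHom_mk,
    (Polynomial.modByMonic_eq_self_iff (monic_f p R a)).mpr hdeg, Polynomial.lcoeff_apply, coeff_X_pow]
  simp [eq_comm]

/-- `s ⊗ e ↦ coeff(s) • e`. -/
noncomputable def m4 : SS p R a ⊗[R] EΩ Λ R a →ₗ[R] EΩ Λ R a :=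
  (TensorProduct.lid R (EΩ Λ R a)).toLinearMap ∘ₗ LinearMap.rTensor (EΩ Λ R a) (coeffS p R a)

lemma m4_tmul (s : SS p R a) (e : EΩ Λ R a) : m4 p Λ R a (s ⊗ₜ[R] e) = coeffS p R a s • e := by
  simp [m4]

/-- Left multiplication on `V`, descended to `Ω̄`. -/
noncomputable def Lbar : Ωbar Λ R a →ₗ[R] Module.End R (V (R := R) (da Λ R a)) :=
  (Submodule.span R {da Λ R a}).liftQ (L₀ (R := R) (da Λ R a)) (by
    rw [Submodule.span_le, Set.singleton_subset_iff, SetLike.mem_coe, LinearMap.mem_ker]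
    exact L₀_self _)

lemma Lbar_mk (η : Ω[R⁄Λ]) : Lbar Λ R a (mkΩ Λ R a η) = L₀ (R := R) (da Λ R a) η := rfl

lemma Lbar_sq (w : Ωbar Λ R a) : Lbar Λ R a w * Lbar Λ R a w = 0 := by
  obtain ⟨η, rfl⟩ := mkΩ_surjective Λ R a w
  rw [Lbar_mk]
  exact L₀_sq _ η

/-- The action of `⋀_R Ω̄` on `V`. -/
noncomputable def ρ₀ : EΩ Λ R a →ₐ[R] Module.End R (V (R := R) (da Λ R a)) :=
  ExteriorAlgebra.lift R ⟨Lbar Λ R a, Lbar_sq Λ R a⟩

lemma ρ₀_P (n : ℕ) (η : Fin n → Ω[R⁄Λ]) (x : ER Λ R) :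
    ρ₀ Λ R a (P n (fun i => mkΩ Λ R a (η i))) (Submodule.Quotient.mk x) =
      Submodule.Quotient.mk (P n η * x) := by
  induction n generalizing x with
  | zero => rw [P_zero, P_zero, map_one, one_mul]; rfl
  | succ n ih =>
    rw [P_succ, P_succ, map_mul, Module.End.mul_apply, ρ₀, ExteriorAlgebra.lift_ι_apply, Lbar_mk, L₀_mk]
    exact (ih _ _).trans (by rw [mul_assoc])

/-- The core of the trace: contract with `ψ`, apply `φ`, take the `x^(p-1)` coefficient, wedge with `da`. -/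
noncomputable def core : ES p Λ R a →ₗ[R] ER Λ R :=
  (Ξ (R := R) (da Λ R a)) ∘ₗ
  ((LinearMap.applyₗ (Submodule.Quotient.mk (1 : ER Λ R) : V (R := R) (da Λ R a))) ∘ₗ
    (ρ₀ Λ R a).toLinearMap) ∘ₗ
  (m4 p Λ R a) ∘ₗ ((ρS p Λ R a).toLinearMap.restrictScalars R) ∘ₗ
  (((CliffordAlgebra.contractRight
    (Q := (0 : QuadraticForm (SS p R a) Ω[SS p R a⁄Λ]))).flip (ψ p Λ R a)).restrictScalars R)

lemma core_apply (ω : ES p Λ R a) :
    core p Λ R a ω = Ξ (R := R) (da Λ R a) (ρ₀ Λ R a (m4 p Λ R a (ρS p Λ R a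
      (CliffordAlgebra.contractRight (Q := (0 : QuadraticForm (SS p R a) Ω[SS p R a⁄Λ])) ω (ψ p Λ R a))))
      (Submodule.Quotient.mk (1 : ER Λ R))) := rfl

lemma core_smul_P (n : ℕ) (η : Fin n → Ω[R⁄Λ]) (s : SS p R a) :
    core p Λ R a (s • P n (fun i => KaehlerDifferential.map Λ Λ R (SS p R a) (η i))) = 0 := by
  rw [core_apply, LinearMap.map_smul₂,
    contractRight_P_eq_zero _ _ _ (fun i => ψ_map p Λ R a (η i)), smul_zero, map_zero, map_zero,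
    map_zero, LinearMap.zero_apply, map_zero]

lemma core_P_mul_ι (n : ℕ) (η : Fin n → Ω[R⁄Λ]) (s : SS p R a) :
    core p Λ R a (P n (fun i => KaehlerDifferential.map Λ Λ R (SS p R a) (η i)) *
      ExteriorAlgebra.ι _ (s • KaehlerDifferential.D Λ _ (AdjoinRoot.root (X ^ p - C a : R[X])))) =
      coeffS p R a s • (ExteriorAlgebra.ι R (da Λ R a) * P n η) := by
  rw [core_apply, CliffordAlgebra.contractRight_mul_ι,
    contractRight_P_eq_zero _ _ _ (fun i => ψ_map p Λ R a (η i)), zero_mul, sub_zero, ψ_dx, map_smul,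
    ρS_P, TensorProduct.smul_tmul', smul_eq_mul, mul_one, m4_tmul, map_smul, LinearMap.smul_apply,
    ρ₀_P, mul_one, map_smul, Ξ_mk]

/-- Projection of the exterior algebra onto its degree `n` part. -/
noncomputable def projTop (n : ℕ) : ER Λ R →ₗ[R] ↥(⋀[R]^n Ω[R⁄Λ]) :=
  letI : DirectSum.Decomposition (fun i : ℕ => ⋀[R]^i Ω[R⁄Λ]) :=
    (ExteriorAlgebra.gradedAlgebra R Ω[R⁄Λ]).toDecomposition
  (DirectSum.component R ℕ (fun i => ↥(⋀[R]^i Ω[R⁄Λ])) n) ∘ₗ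
    (DirectSum.decomposeLinearEquiv (fun i : ℕ => ⋀[R]^i Ω[R⁄Λ])).toLinearMap

lemma projTop_of_mem (n : ℕ) (x : ER Λ R) (hx : x ∈ ⋀[R]^n Ω[R⁄Λ]) :
    projTop Λ R n x = ⟨x, hx⟩ := by
  letI : DirectSum.Decomposition (fun i : ℕ => ⋀[R]^i Ω[R⁄Λ]) :=
    (ExteriorAlgebra.gradedAlgebra R Ω[R⁄Λ]).toDecomposition
  apply Subtype.ext
  refine Eq.trans ?_ (DirectSum.decompose_of_mem_same (fun i : ℕ => ⋀[R]^i Ω[R⁄Λ]) hx)
  rfl

/-- The trace map. -/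
noncomputable def Tr (t : ℕ) :
    ↥(⋀[SS p R a]^(t + 1) Ω[SS p R a⁄Λ]) →ₗ[R] ↥(⋀[R]^(t + 1) Ω[R⁄Λ]) :=
  (projTop Λ R (t + 1)) ∘ₗ (((-1 : R) ^ t) • core p Λ R a) ∘ₗ
    ((Submodule.subtype (⋀[SS p R a]^(t + 1) Ω[SS p R a⁄Λ])).restrictScalars R)

lemma Tr_apply (t : ℕ) (ω : ↥(⋀[SS p R a]^(t + 1) Ω[SS p R a⁄Λ])) :
    Tr p Λ R a t ω = projTop Λ R (t + 1) (((-1 : R) ^ t) • core p Λ R a (ω : ES p Λ R a)) := rfl

lemma Tr_snoc (t : ℕ) (η : Fin t → Ω[R⁄Λ]) (s : SS p R a) :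
    Tr p Λ R a t (exteriorPower.ιMulti _ (t + 1)
      (Fin.snoc (fun j => KaehlerDifferential.map Λ Λ R (SS p R a) (η j))
        (s • KaehlerDifferential.D Λ _ (AdjoinRoot.root (X ^ p - C a : R[X]))))) =
      coeffS p R a s • exteriorPower.ιMulti R (t + 1) (Fin.snoc η (da Λ R a)) := by
  rw [Tr_apply, exteriorPower.ιMulti_apply_coe, ιMulti_eq_P, P_snoc, core_P_mul_ι, ι_mul_P,
    smul_comm (coeffS p R a s), smul_smul, ← mul_pow, neg_one_mul, neg_neg, one_pow, one_smul,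
    ← P_snoc, ← ιMulti_eq_P, map_smul]
  congr 1
  exact projTop_of_mem Λ R (t + 1) _ (exteriorPower.ιMulti R (t + 1) (Fin.snoc η (da Λ R a))).2

lemma Tr_smul_ιMulti (t : ℕ) (η : Fin (t + 1) → Ω[R⁄Λ]) (s : SS p R a) :
    Tr p Λ R a t (s • exteriorPower.ιMulti _ (t + 1)
      (fun j => KaehlerDifferential.map Λ Λ R (SS p R a) (η j))) = 0 := by
  rw [Tr_apply, Submodule.coe_smul, exteriorPower.ιMulti_apply_coe, ιMulti_eq_P, core_smul_P, smul_zero,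
    map_zero]

end C

end Groth.Agent.Lib.Lead.PthTrace
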