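import Mathlib
import Groth.Prelude
import Groth.Agent.Lib.Helper3.QCLim
import Groth.Agent.Lib.Helper3.AffExt
import Groth.Agent.Lib.Helper3.QCOpen
import Groth.Agent.Lib.Helper13.FTApprox
import Groth.Agent.Lib.Helper13.ModGrothendieck
import Groth.Agent.Lib.Helper25.EpiColim
import Groth.Agent.Lib.Helper26.NoethObj

/-!
# The special adjoint functor theorem for `QCoh(X)`, `X` quasi-compact quasi-separated (lead)

`QCoh(X)` is cocomplete, well-copowered, and has a small separating family (quotients of finite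
direct sums of extensions by zero of structure sheaves of opens which are quasi-coherent); hence
every colimit-preserving functor out of it is a left adjoint.
-/

set_option autoImplicit false
set_option linter.style.haveILetI false
universe u u'

open CategoryTheory CategoryTheory.Limits AlgebraicGeometry TopologicalSpace Opposite
open Scheme.Modules

namespace Groth.Agent.Lib.Lead.QCohSAFT

open Groth.Agent.Lib.Helper3

variable (X : Scheme.{u})

instance : (QCohCat.isQCoh X).IsClosedUnderIsomorphisms where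
  of_iso e h := (SheafOfModules.isQuasicoherent X.ringCatSheaf).prop_of_iso e h

instance : (QCohCat.isQCoh X).ContainsZero where
  exists_zero := by
    obtain ⟨Z, hZ⟩ := HasZeroObject.zero (C := X.Modules)
    exact ⟨Z, hZ, QCOpen.isQuasicoherent_of_isZero hZ⟩

instance : (QCohCat.isQCoh X).IsClosedUnderKernels where
  kernels_le := by
    rintro _ ⟨f, k, hk, hf⟩
    have e : kernel f ≅ k.pt := IsLimit.conePointUniqueUpToIso (limit.isLimit _) hk
    haveI : (_ : X.Modules).IsQuasicoherent := hf.1
    haveI : (_ : X.Modules).IsQuasicoherent := hf.2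
    exact (SheafOfModules.isQuasicoherent X.ringCatSheaf).prop_of_iso e
      (QCProps.isQuasicoherent_kernel f)

instance : (QCohCat.isQCoh X).IsClosedUnderCokernels where
  cokernels_le := by
    rintro _ ⟨f, k, hk, hf⟩
    have e : cokernel f ≅ k.pt := IsColimit.coconePointUniqueUpToIso (colimit.isColimit _) hk
    haveI : (_ : X.Modules).IsQuasicoherent := hf.1
    haveI : (_ : X.Modules).IsQuasicoherent := hf.2
    exact (SheafOfModules.isQuasicoherent X.ringCatSheaf).prop_of_iso e
      (QCProps.isQuasicoherent_cokernel f)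

instance : (QCohCat.isQCoh X).IsClosedUnderBinaryProducts where
  limitsOfShape_le := by
    rintro M ⟨p⟩
    have e : M ≅ (p.diag.obj ⟨WalkingPair.left⟩ ⊞ p.diag.obj ⟨WalkingPair.right⟩ : X.Modules) :=
      IsLimit.conePointsIsoOfNatIso p.isLimit
        (BinaryBiproduct.isLimit (p.diag.obj ⟨WalkingPair.left⟩) (p.diag.obj ⟨WalkingPair.right⟩))
        (diagramIsoPair p.diag)
    haveI : (p.diag.obj ⟨WalkingPair.left⟩).IsQuasicoherent := p.prop_diag_obj _
    haveI : (p.diag.obj ⟨WalkingPair.right⟩).IsQuasicoherent := p.prop_diag_obj _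
    exact (SheafOfModules.isQuasicoherent X.ringCatSheaf).prop_of_iso e.symm
      (QCLim.isQuasicoherent_biprod _ _)

instance : (QCohCat.isQCoh X).IsClosedUnderFiniteProducts :=
  ObjectProperty.IsClosedUnderFiniteProducts.mk'

noncomputable instance abelianQCoh : Abelian (QCohCat.QCoh X) := inferInstance


instance closedColim (J : Type u) [SmallCategory J] :
    (QCohCat.isQCoh X).IsClosedUnderColimitsOfShape J := by
  apply ObjectProperty.IsClosedUnderColimitsOfShape.mk'
  rintro _ ⟨F, hF⟩
  exact QCLim.isQuasicoherent_colimit F hF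

instance hasColimitsQCoh : HasColimitsOfSize.{u, u} (QCohCat.QCoh X) :=
  ⟨fun J _ => inferInstance⟩

variable {X}

/-- the map on subobjects induced by the inclusion `QCoh(X) ⊆ Mod(O_X)` -/
noncomputable def subMap (M : QCohCat.QCoh X) (S : Subobject M) : Subobject M.obj :=
  haveI : Mono S.arrow.hom := Groth.Agent.Lib.Helper26.NoethObj.mono_hom S.arrow
  Subobject.mk S.arrow.hom

theorem subMap_injective (M : QCohCat.QCoh X) : Function.Injective (subMap M) := by
  intro S T hST
  haveI : Mono S.arrow.hom := Groth.Agent.Lib.Helper26.NoethObj.mono_hom S.arrow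
  haveI : Mono T.arrow.hom := Groth.Agent.Lib.Helper26.NoethObj.mono_hom T.arrow
  have h1 : Subobject.mk S.arrow.hom = Subobject.mk T.arrow.hom := hST
  let e := Subobject.isoOfMkEqMk _ _ h1
  have he : e.hom ≫ T.arrow.hom = S.arrow.hom := by
    rw [Subobject.isoOfMkEqMk_hom, Subobject.ofMkLEMk_comp]
  let e' : (S : QCohCat.QCoh X) ≅ (T : QCohCat.QCoh X) := ObjectProperty.isoMk _ e
  refine Subobject.eq_of_comm e' ?_
  apply ObjectProperty.hom_ext
  exact he

instance wellPoweredQCoh : WellPowered.{u} (QCohCat.QCoh X) where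
  subobject_small M := by
    haveI : IsGrothendieckAbelian.{u} X.Modules :=
      Groth.Agent.Lib.Helper13.ModGrothendieck.isGrothendieckAbelian X.ringCatSheaf
    exact small_of_injective (subMap_injective M)

instance wellPoweredQCohOp : WellPowered.{u} (QCohCat.QCoh X)ᵒᵖ := inferInstance

/-! ### The small separating family -/

variable (X) in
/-- the index type of the separating family -/
abbrev Idx : Type (u + 1) :=
  Σ (n : ℕ) (V : Fin n → X.Opens), Subobject (∐ fun k => CxOX.extZeroUnit (V k).ι)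

instance smallIdx : Small.{u} (Idx X) := by
  haveI : IsGrothendieckAbelian.{u} X.Modules :=
    Groth.Agent.Lib.Helper13.ModGrothendieck.isGrothendieckAbelian X.ringCatSheaf
  infer_instance

/-- the module attached to an index -/
noncomputable def obj (a : Idx X) : X.Modules := cokernel a.2.2.arrow

theorem exists_idx {n : ℕ} (V : Fin n → X.Opens) {K : X.Modules}
    (p : (∐ fun k => CxOX.extZeroUnit (V k).ι) ⟶ K) [Epi p] :
    ∃ a : Idx X, Nonempty (obj a ≅ K) := by
  let S : Subobject (∐ fun k => CxOX.extZeroUnit (V k).ι) := Subobject.mk (kernel.ι p)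
  refine ⟨⟨n, V, S⟩, ⟨?_⟩⟩
  have h1 : S.arrow = (Subobject.underlyingIso (kernel.ι p)).hom ≫ kernel.ι p :=
    (Subobject.underlyingIso_hom_comp_eq_mk _).symm
  exact cokernelIsoOfEq h1 ≪≫ cokernelEpiComp _ _ ≪≫
    IsColimit.coconePointUniqueUpToIso (colimit.isColimit (parallelPair (kernel.ι p) 0))
      (Abelian.epiIsCokernelOfKernel (limit.cone (parallelPair p 0)) (limit.isLimit _))

theorem exists_fin_epi [CompactSpace X] (K : X.Modules)
    (hK : SheafOfModules.IsFiniteType (R := X.ringCatSheaf) K) :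
    ∃ (n : ℕ) (V : Fin n → X.Opens) (p : (∐ fun k => CxOX.extZeroUnit (V k).ι) ⟶ K),
      Epi p := by
  classical
  obtain ⟨ι, U, p, hp, -⟩ := Groth.Agent.Lib.Helper25.ExtZeroFlat.main K
  let f : ι → X.Modules := fun i => CxOX.extZeroUnit (U i).ι
  have hc := CoproductsFromFiniteFiltered.isColimitFiniteSubproductsCocone f
  obtain ⟨S₀, hS₀⟩ := (Groth.Agent.Lib.Helper25.EpiColim.main _ _ hc p hK).mp hp
  have hepi := hS₀ S₀ ⟨𝟙 _⟩
  let ε : Fin S₀.card ≃ S₀ := S₀.equivFin.symm
  let g : S₀ → X.Modules := fun x => (Discrete.functor f).obj x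
  refine ⟨S₀.card, fun k => U (ε k).1.as, (Sigma.reindex ε g).hom ≫
    ((CoproductsFromFiniteFiltered.finiteSubcoproductsCocone f).ι.app S₀ ≫ p), ?_⟩
  have h0 : Epi (Sigma.reindex ε g).hom := inferInstance
  exact @epi_comp _ _ _ _ _ _ h0 _ hepi

/-- the separating family -/
noncomputable def sepFam (a : {a : Idx X // QCohCat.isQCoh X (obj a)}) : QCohCat.QCoh X :=
  ⟨obj a.1, a.2⟩

theorem isSeparating [CompactSpace X] [QuasiSeparatedSpace X] :
    (ObjectProperty.ofObj (sepFam (X := X))).IsSeparating := by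
  intro M N f g hfg
  apply ObjectProperty.hom_ext
  haveI : M.obj.IsQuasicoherent := M.property
  refine AffExt.hom_ext_of_affine f.hom g.hom ?_
  intro W c
  obtain ⟨K', m, hm, hK'q, hK'f, y, hy⟩ :=
    Groth.Agent.Lib.Helper13.FTApprox.exists_ft_sub_of_section M.obj W.2 c
  obtain ⟨n, V, p, hp⟩ := exists_fin_epi K' hK'f
  obtain ⟨a, ⟨e⟩⟩ := exists_idx V p
  have haq : QCohCat.isQCoh X (obj a) :=
    (SheafOfModules.isQuasicoherent X.ringCatSheaf).prop_of_iso e.symm hK'q
  obtain ⟨G, hG⟩ : ∃ G : QCohCat.QCoh X, G = sepFam ⟨a, haq⟩ := ⟨_, rfl⟩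
  have hGP : ObjectProperty.ofObj (sepFam (X := X)) G := by
    rw [hG]
    exact ObjectProperty.ofObj_apply _ _
  have hGo : G.obj = obj a := by rw [hG]; rfl
  let h : G ⟶ M := ObjectProperty.homMk (eqToHom hGo ≫ e.hom ≫ m)
  have h1 := hfg G hGP h
  have h2 : (eqToHom hGo ≫ e.hom ≫ m) ≫ f.hom = (eqToHom hGo ≫ e.hom ≫ m) ≫ g.hom :=
    congrArg (fun φ : G ⟶ N => φ.hom) h1
  have h3 : m ≫ f.hom = m ≫ g.hom := by
    rw [Category.assoc, Category.assoc, Category.assoc, Category.assoc] at h2
    exact (cancel_epi e.hom).mp ((cancel_epi (eqToHom hGo)).mp h2)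
  have h4 := congrArg (fun φ : K' ⟶ N.obj => φ.app W.1 y) h3
  rw [← hy]
  exact h4

/-- **Special adjoint functor theorem for `QCoh(X)`**, `X` quasi-compact and quasi-separated. -/
theorem isLeftAdjoint_of_preservesColimits [CompactSpace X] [QuasiSeparatedSpace X]
    {A : Type u'} [Category.{u} A] (F : QCohCat.QCoh X ⥤ A)
    [PreservesColimitsOfSize.{u, u} F] : F.IsLeftAdjoint :=
  isLeftAdjoint_of_preservesColimits_of_isSeparating (isSeparating (X := X)) F

end Groth.Agent.Lib.Lead.QCohSAFT
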