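import Mathlib
import Groth.Prelude.Def_QCohCat
import Groth.Prelude.Def_Coh
import Groth.Agent.Lib.Helper3.QCLim
import Groth.Agent.Lib.Helper3.QCPush
import Groth.Agent.Lib.Helper3.QCExact
import Groth.Agent.Lib.Helper13.ModGrothendieck
import Groth.Agent.Lib.Helper17.ClImmUnit
import Groth.Agent.Lib.Helper17.DevBasic
import Groth.Agent.Lib.Helper17.PbStalk
import Groth.Agent.Lib.Helper2.ClImm.FF
import Groth.Agent.Lib.Helper2.ShriekExt.Shriek

/-!
# The right adjoint of `i_*` on quasi-coherent modules, `i` a closed immersion (lead)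

For a quasi-coherent `F` on `X`, the sum of all quasi-coherent subobjects of `F` lying in the essential
image of `i_*` is again such a subobject `G'`; then `i^* G'` corepresents `H ↦ Hom(i_* H, F)` on
quasi-coherent modules.
-/

set_option autoImplicit false
set_option linter.style.haveILetI false
universe u
open CategoryTheory CategoryTheory.Limits AlgebraicGeometry TopologicalSpace Opposite
open Scheme.Modules

namespace Groth.Agent.Lib.Lead.QCohShriek

open Groth.Agent.Lib.Helper3 Groth.Agent.Lib.Helper2 Groth.Agent.Lib.Helper17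

variable {Z X : Scheme.{u}} (i : Z ⟶ X) [IsClosedImmersion i]

/-- quasi-coherent and in the essential image of `i_*` -/
def K (G : X.Modules) : Prop := G.IsQuasicoherent ∧ (pushforward i).essImage G

lemma K_of_iso {A B : X.Modules} (e : A ≅ B) (hA : K i A) : K i B :=
  ⟨(SheafOfModules.isQuasicoherent X.ringCatSheaf).prop_of_iso e hA.1, hA.2.ofIso e⟩

lemma K_push (H : Z.Modules) [H.IsQuasicoherent] : K i ((pushforward i).obj H) :=
  ⟨QCSec.isQuasicoherent_pushforward i H, (pushforward i).obj_mem_essImage H⟩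

lemma isIso_unit_of_K {G : X.Modules} (hG : K i G) :
    IsIso ((pullbackPushforwardAdjunction i).unit.app G) := by
  haveI := ClImm.full_pushforward i
  haveI := ClImm.faithful_pushforward i
  exact (pullbackPushforwardAdjunction i).isIso_unit_app_iff_mem_essImage.mpr hG.2

lemma K_of_epi {A B : X.Modules} (p : A ⟶ B) [Epi p] (hA : K i A) (hB : B.IsQuasicoherent) :
    K i B := by
  haveI := ClImm.full_pushforward i
  haveI := ClImm.faithful_pushforward i
  haveI := hA.1
  haveI := hB
  refine ⟨hB, (pullbackPushforwardAdjunction i).isIso_unit_app_iff_mem_essImage.mp ?_⟩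
  rw [ClImmUnit.isIso_unit_iff i B]
  have h1 := (ClImmUnit.isIso_unit_iff i A).mp (isIso_unit_of_K i hA)
  exact DevBasic.killed_of_surjective i.ker p
    (fun U => (QCExact.epi_iff_surjective_on_affines p).1 inferInstance U.1 U.2) h1

lemma K_sigma {ι : Type u} (f : ι → X.Modules) (hf : ∀ s, K i (f s)) : K i (∐ f) := by
  haveI : ∀ s, (f s).IsQuasicoherent := fun s => (hf s).1
  refine ⟨QCLim.isQuasicoherent_sigma f, ?_⟩
  haveI : PreservesColimitsOfSize.{u, u} (pushforward i) :=
    (ShriekExt.shriekAdj i).leftAdjoint_preservesColimits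
  let H : ι → Z.Modules := fun s => (hf s).2.witness
  let e1 : (∐ fun s => (pushforward i).obj (H s)) ≅ ∐ f :=
    Sigma.mapIso (fun s => (hf s).2.getIso)
  let e2 : (pushforward i).obj (∐ H) ≅ ∐ fun s => (pushforward i).obj (H s) :=
    PreservesCoproduct.iso (pushforward i) H
  exact ((pushforward i).obj_mem_essImage (∐ H)).ofIso (e2 ≪≫ e1)

/-- the largest quasi-coherent submodule of `F` in the essential image of `i_*` -/
theorem exists_coreflection (F : X.Modules) [F.IsQuasicoherent] :
    ∃ (G' : X.Modules) (k : G' ⟶ F), K i G' ∧ Mono k ∧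
      ∀ N : X.Modules, K i N → ∀ ψ : N ⟶ F, ∃ φ : N ⟶ G', φ ≫ k = ψ := by
  haveI : IsGrothendieckAbelian.{u} X.Modules :=
    Groth.Agent.Lib.Helper13.ModGrothendieck.isGrothendieckAbelian X.ringCatSheaf
  let T := Shrink.{u} (Subobject F)
  let P : T → Subobject F := (equivShrink (Subobject F)).symm
  let I := {t : T // K i (P t : X.Modules)}
  let f : I → X.Modules := fun s => (P s.1 : X.Modules)
  have hf : ∀ s, K i (f s) := fun s => s.2
  have hSig : K i (∐ f) := K_sigma i f hf
  haveI := hSig.1
  let σ : (∐ f : X.Modules) ⟶ F := Sigma.desc (fun s => (P s.1).arrow)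
  have hq : (Abelian.image σ : X.Modules).IsQuasicoherent := QCLim.isQuasicoherent_image σ
  have hG' : K i (Abelian.image σ) := K_of_epi i (Abelian.factorThruImage σ) hSig hq
  refine ⟨Abelian.image σ, Abelian.image.ι σ, hG', inferInstance, ?_⟩
  have key : ∀ (S : Subobject F), K i (S : X.Modules) →
      ∃ c : (S : X.Modules) ⟶ Abelian.image σ, c ≫ Abelian.image.ι σ = S.arrow := by
    intro S hS
    obtain ⟨t, rfl⟩ : ∃ t : T, P t = S :=
      ⟨equivShrink (Subobject F) S, (equivShrink (Subobject F)).symm_apply_apply S⟩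
    refine ⟨Sigma.ι f ⟨t, hS⟩ ≫ Abelian.factorThruImage σ, ?_⟩
    rw [Category.assoc, Abelian.image.fac]
    exact Sigma.ι_desc (fun s : I => (P s.1).arrow) ⟨t, hS⟩
  intro N hN ψ
  haveI := hN.1
  have hq2 : (Abelian.image ψ : X.Modules).IsQuasicoherent := QCLim.isQuasicoherent_image ψ
  have hQ : K i (Abelian.image ψ) := K_of_epi i (Abelian.factorThruImage ψ) hN hq2
  have hS : K i ((Subobject.mk (Abelian.image.ι ψ) : Subobject F) : X.Modules) :=
    K_of_iso i (Subobject.underlyingIso (Abelian.image.ι ψ)).symm hQ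
  obtain ⟨c, hc⟩ := key (Subobject.mk (Abelian.image.ι ψ)) hS
  refine ⟨Abelian.factorThruImage ψ ≫ (Subobject.underlyingIso (Abelian.image.ι ψ)).inv ≫ c, ?_⟩
  rw [Category.assoc, Category.assoc, hc, Subobject.underlyingIso_arrow, Abelian.image.fac]

/-- **corepresentability**: for quasi-coherent `F` on `X` there are a quasi-coherent `R` on `Z` and
`ε : i_* R ⟶ F` through which every `i_* H ⟶ F`, `H` quasi-coherent, factors uniquely. -/
theorem exists_shriek (F : X.Modules) [F.IsQuasicoherent] :
    ∃ (R : Z.Modules) (ε : (pushforward i).obj R ⟶ F), R.IsQuasicoherent ∧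
      ∀ (H : Z.Modules), H.IsQuasicoherent → ∀ ψ : (pushforward i).obj H ⟶ F,
        ∃! g : H ⟶ R, (pushforward i).map g ≫ ε = ψ := by
  obtain ⟨G', k, hG', hk, huniv⟩ := exists_coreflection i F
  haveI := hG'.1
  haveI := hk
  haveI := isIso_unit_of_K i hG'
  haveI := ClImm.full_pushforward i
  haveI := ClImm.faithful_pushforward i
  let u := asIso ((pullbackPushforwardAdjunction i).unit.app G')
  refine ⟨(Scheme.Modules.pullback i).obj G', u.inv ≫ k,
    PbStalk.isQuasicoherent_pullback i G', ?_⟩
  intro H hH ψ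
  haveI := hH
  obtain ⟨φ, hφ⟩ := huniv _ (K_push i H) ψ
  refine ⟨(pushforward i).preimage (φ ≫ u.hom), ?_, ?_⟩
  · show (pushforward i).map ((pushforward i).preimage (φ ≫ u.hom)) ≫ u.inv ≫ k = ψ
    rw [Functor.map_preimage, Category.assoc, Iso.hom_inv_id_assoc, hφ]
  · intro g hg
    apply (pushforward i).map_injective
    rw [Functor.map_preimage]
    have hg' : (pushforward i).map g ≫ u.inv ≫ k = ψ := hg
    haveI : Mono (u.inv ≫ k) := mono_comp _ _
    rw [← cancel_mono (u.inv ≫ k), hg', Category.assoc, Iso.hom_inv_id_assoc, hφ]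

/-- **`i_*` restricted to quasi-coherent modules is a left adjoint.** -/
theorem main :
    ∃ L : QCohCat.QCoh Z ⥤ QCohCat.QCoh X,
      Nonempty (L ⋙ (QCohCat.isQCoh X).ι ≅ (QCohCat.isQCoh Z).ι ⋙ Coh.push i) ∧
        L.IsLeftAdjoint := by
  let L : QCohCat.QCoh Z ⥤ QCohCat.QCoh X :=
    (QCohCat.isQCoh X).lift ((QCohCat.isQCoh Z).ι ⋙ Coh.push i) (fun H => by
      haveI : H.obj.IsQuasicoherent := H.property
      exact QCSec.isQuasicoherent_pushforward i H.obj)
  refine ⟨L, ⟨(QCohCat.isQCoh X).liftCompιIso _ _⟩, ?_⟩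
  rw [isLeftAdjoint_iff_hasTerminal_costructuredArrow]
  intro F
  haveI : F.obj.IsQuasicoherent := F.property
  obtain ⟨R, ε, hR, huniv⟩ := exists_shriek i F.obj
  let R' : QCohCat.QCoh Z := ⟨R, hR⟩
  let ε' : L.obj R' ⟶ F := ObjectProperty.homMk ε
  let T : CostructuredArrow L F := CostructuredArrow.mk ε'
  have hT : IsTerminal T := by
    refine IsTerminal.ofUniqueHom (fun Y => ?_) (fun Y m => ?_)
    · refine CostructuredArrow.homMk
        (ObjectProperty.homMk (huniv Y.left.obj Y.left.property Y.hom.hom).choose) ?_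
      apply ObjectProperty.hom_ext
      exact (huniv Y.left.obj Y.left.property Y.hom.hom).choose_spec.1
    · apply CostructuredArrow.hom_ext
      apply ObjectProperty.hom_ext
      refine (huniv Y.left.obj Y.left.property Y.hom.hom).choose_spec.2 m.left.hom ?_
      have hw := CostructuredArrow.w m
      exact congrArg (fun φ => φ.hom) hw
  exact hT.hasTerminal

end Groth.Agent.Lib.Lead.QCohShriek
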