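/-
Lead library: a central division algebra of dimension 4 over a field with 2 ≠ 0 is a quaternion
algebra; algebras of the form M_m(Q), Q a 4-dimensional division algebra, have period and index 2.
-/
import Mathlib
import Groth.Agent.S0193
import Groth.Agent.S0196
import Groth.Agent.S0198
import Groth.Agent.Lib.Lead.Index
import Groth.Agent.Lib.Lead.PeriodIndex2
import Groth.Agent.Lib.Lead.PeriodIndex3

set_option autoImplicit false
set_option linter.style.haveILetI false

namespace Groth.Agent.Lib.Lead.Quaternion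

universe u v w

open scoped TensorProduct

section core

variable (k : Type u) [Field k] (D : Type v) [DivisionRing D] [Algebra k D]

/-- Pure algebra: from `i, j` with `i² = a`, `ij = -ji`, `i ∉ k`, `j ≠ 0`, `2 ≠ 0`, the elements
`1, i, j, ij` are linearly independent. -/
theorem indep_of_anticomm (h2 : (2 : k) ≠ 0) (i j : D)
    (hi : ∀ r : k, algebraMap k D r ≠ i) (hj : j ≠ 0) (hij : i * j = -(j * i))
    (α β γ δ : k) (h : α • (1 : D) + β • i + γ • j + δ • (i * j) = 0) :
    α = 0 ∧ β = 0 ∧ γ = 0 ∧ δ = 0 := by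
  have hi0 : i ≠ 0 := fun h0 => hi 0 (by rw [map_zero, h0])
  have h1i : ∀ α β : k, α • (1 : D) + β • i = 0 → α = 0 ∧ β = 0 := by
    intro α β hab
    have hβ : β = 0 := by
      by_contra hβ
      apply hi (-α / β)
      have h3 : β • i = -(α • (1 : D)) := eq_neg_of_add_eq_zero_right hab
      rw [Algebra.algebraMap_eq_smul_one]
      calc (-α / β) • (1 : D) = β⁻¹ • (-(α • (1 : D))) := by
            rw [← neg_smul, smul_smul]; congr 1; field_simp
        _ = β⁻¹ • (β • i) := by rw [h3]
        _ = i := by rw [smul_smul, inv_mul_cancel₀ hβ, one_smul]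
    rw [hβ, zero_smul, add_zero] at hab
    rcases smul_eq_zero.1 hab with h | h
    · exact ⟨h, hβ⟩
    · exact absurd h one_ne_zero
  set u : D := α • (1 : D) + β • i with hu
  set w : D := γ • (1 : D) + δ • i with hw
  have hsum : u + w * j = 0 := by
    rw [← h, hu, hw]
    simp only [add_mul, smul_mul_assoc, one_mul]
    abel
  have hiu : i * u = u * i := by
    rw [hu]; simp only [mul_add, add_mul, mul_smul_comm, smul_mul_assoc, mul_one, one_mul]
  have hiw : i * w = w * i := by
    rw [hw]; simp only [mul_add, add_mul, mul_smul_comm, smul_mul_assoc, mul_one, one_mul]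
  have hconj : (u - w * j) * i = 0 := by
    have h1 : i * (u + w * j) = (u - w * j) * i := by
      rw [mul_add, sub_mul, hiu, ← mul_assoc, hiw, mul_assoc w i j, hij, mul_neg, mul_assoc w j i,
        sub_eq_add_neg]
    rw [← h1, hsum, mul_zero]
  have hdiff : u - w * j = 0 := by
    rcases mul_eq_zero.1 hconj with h | h
    · exact h
    · exact absurd h hi0
  have hu0 : u = 0 := by
    have h3 : (2 : k) • u = 0 := by
      have : (2 : k) • u = (u + w * j) + (u - w * j) := by
        rw [two_smul]; abel
      rw [this, hsum, hdiff, add_zero]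
    rcases smul_eq_zero.1 h3 with h | h
    · exact absurd h h2
    · exact h
  have hwj : w * j = 0 := by rw [hu0, zero_add] at hsum; exact hsum
  have hw0 : w = 0 := by
    rcases mul_eq_zero.1 hwj with h | h
    · exact h
    · exact absurd h hj
  obtain ⟨hα, hβ⟩ := h1i α β hu0
  obtain ⟨hγ, hδ⟩ := h1i γ δ hw0
  exact ⟨hα, hβ, hγ, hδ⟩

variable [Algebra.IsCentral k D] [FiniteDimensional k D]

theorem exists_quaternion_equiv (h2 : (2 : k) ≠ 0) (hD : Module.finrank k D = 4) :
    ∃ a b : k, Nonempty (QuaternionAlgebra k a 0 b ≃ₐ[k] D) := by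
  classical
  obtain ⟨L, hLc, hLmax, -⟩ := Groth.Agent.S0198.result k D
  have hdim := Groth.Agent.S0196.result k D L hLc hLmax
  have hL2 : Module.finrank k L = 2 := by
    rw [hD] at hdim
    have h : Module.finrank k L ^ 2 = 2 ^ 2 := by rw [← hdim]; norm_num
    exact Nat.pow_left_injective (n := 2) (by norm_num) h
  haveI : Nontrivial L := Module.nontrivial_of_finrank_pos (R := k) (by rw [hL2]; norm_num)
  -- an element of L outside k
  have hex : ∃ x : L, ∀ r : k, algebraMap k L r ≠ x := by
    by_contra hcon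
    push_neg at hcon
    have h1 : Module.finrank k L = 1 := by
      rw [finrank_eq_one_iff']
      refine ⟨1, one_ne_zero, fun w => ?_⟩
      obtain ⟨r, hr⟩ := hcon w
      exact ⟨r, by rw [← hr, Algebra.algebraMap_eq_smul_one]⟩
    omega
  obtain ⟨x, hx⟩ := hex
  -- quadratic relation
  have hdep : ¬ LinearIndependent k (fun l : Fin 3 => x ^ (l : ℕ)) := by
    intro hli
    have := hli.fintype_card_le_finrank
    rw [hL2] at this
    simp at this
  rw [Fintype.not_linearIndependent_iff] at hdep
  obtain ⟨g, hg, hne⟩ := hdep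
  rw [Fin.sum_univ_three] at hg
  simp only [Fin.val_zero, Fin.val_one, Fin.val_two, pow_zero, pow_one] at hg
  have hg2 : g 2 ≠ 0 := by
    intro h20
    rw [h20, zero_smul, add_zero] at hg
    have hg1 : g 1 = 0 := by
      by_contra h1
      apply hx (-(g 0) / g 1)
      have h3 : g 1 • x = -(g 0 • (1 : L)) := eq_neg_of_add_eq_zero_right hg
      rw [Algebra.algebraMap_eq_smul_one]
      calc (-(g 0) / g 1) • (1 : L) = (g 1)⁻¹ • (-(g 0 • (1 : L))) := by
            rw [← neg_smul, smul_smul]; congr 1; field_simp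
        _ = (g 1)⁻¹ • (g 1 • x) := by rw [h3]
        _ = x := by rw [smul_smul, inv_mul_cancel₀ h1, one_smul]
    rw [hg1, zero_smul, add_zero] at hg
    have hg0 : g 0 = 0 := by
      rcases smul_eq_zero.1 hg with h | h
      · exact h
      · exact absurd h one_ne_zero
    obtain ⟨l, hl⟩ := hne
    fin_cases l
    · exact hl hg0
    · exact hl hg1
    · exact hl h20
  -- x^2 = s x + t
  set s : k := -(g 1) / g 2 with hs
  set t : k := -(g 0) / g 2 with ht
  have hxx : x ^ 2 = s • x + t • (1 : L) := by
    have h3 : g 2 • x ^ 2 = -(g 0 • (1 : L) + g 1 • x) := eq_neg_of_add_eq_zero_right hg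
    calc x ^ 2 = (g 2)⁻¹ • (g 2 • x ^ 2) := by rw [smul_smul, inv_mul_cancel₀ hg2, one_smul]
      _ = (g 2)⁻¹ • (-(g 0 • (1 : L) + g 1 • x)) := by rw [h3]
      _ = s • x + t • (1 : L) := by
        rw [neg_add, smul_add, ← neg_smul, ← neg_smul, smul_smul, smul_smul, hs, ht, add_comm]
        congr 2 <;> field_simp
  have hXX : (x : D) * (x : D) = s • (x : D) + t • (1 : D) := by
    have := congrArg Subtype.val hxx
    rw [sq] at this
    exact this
  have hxD : ∀ r : k, algebraMap k D r ≠ (x : D) := fun r hr => hx r (Subtype.ext hr)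
  -- complete the square
  set c : k := s / 2 with hc
  have hsc : s = 2 * c := by rw [hc]; field_simp
  set i : D := (x : D) - c • (1 : D) with hi_def
  set a : k := t + c ^ 2 with ha
  have hii : i * i = a • (1 : D) := by
    rw [hi_def, sub_mul, mul_sub, mul_sub, hXX, hsc, ha]
    simp only [smul_mul_assoc, mul_smul_comm, one_mul, mul_one]
    module
  have hi : ∀ r : k, algebraMap k D r ≠ i := by
    intro r hr
    apply hxD (r + c)
    rw [map_add, hr, hi_def, Algebra.algebraMap_eq_smul_one]
    abel
  have hi0 : i ≠ 0 := fun h0 => hi 0 (by rw [map_zero, h0])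
  -- a non-commuting element
  have hey : ∃ y : D, i * y ≠ y * i := by
    by_contra hcon
    push_neg at hcon
    have hic : i ∈ Subalgebra.center k D := Subalgebra.mem_center_iff.2 (fun y => (hcon y).symm)
    rw [Algebra.IsCentral.center_eq_bot k D] at hic
    obtain ⟨r, hr⟩ := Algebra.mem_bot.1 hic
    exact hi r hr
  obtain ⟨y, hy⟩ := hey
  set j : D := i * y - y * i with hj_def
  have hj0 : j ≠ 0 := sub_ne_zero.2 hy
  have hsum0 : i * j + j * i = 0 := by
    calc i * j + j * i = (i * i) * y - y * (i * i) := by rw [hj_def]; noncomm_ring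
      _ = 0 := by rw [hii]; simp only [smul_mul_assoc, mul_smul_comm, one_mul, mul_one, sub_self]
  have hij : i * j = -(j * i) := eq_neg_of_add_eq_zero_left hsum0
  have hji : j * i = -(i * j) := by rw [hij, neg_neg]
  have hzero := indep_of_anticomm k D h2 i j hi hj0 hij
  have hli : LinearIndependent k ![(1 : D), i, j, i * j] := by
    rw [Fintype.linearIndependent_iff]
    intro g hg
    rw [Fin.sum_univ_four] at hg
    have h4 := hzero (g 0) (g 1) (g 2) (g 3) (by simpa using hg)
    intro l
    fin_cases l
    · exact h4.1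
    · exact h4.2.1
    · exact h4.2.2.1
    · exact h4.2.2.2
  have hcard : Fintype.card (Fin 4) = Module.finrank k D := by rw [hD]; rfl
  have hspan : Submodule.span k (Set.range ![(1 : D), i, j, i * j]) = ⊤ :=
    hli.span_eq_top_of_card_eq_finrank' hcard
  -- j^2 is central
  set C : Subalgebra k D := Subalgebra.centralizer k ({j * j} : Set D) with hC_def
  have hiC : i ∈ C := by
    rw [hC_def, Subalgebra.mem_centralizer_iff]
    intro z hz
    rw [Set.mem_singleton_iff] at hz
    rw [hz, mul_assoc, hji, mul_neg, ← mul_assoc j i j, hji, neg_mul, neg_neg, mul_assoc]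
  have hjC : j ∈ C := by
    rw [hC_def, Subalgebra.mem_centralizer_iff]
    intro z hz
    rw [Set.mem_singleton_iff] at hz
    rw [hz, mul_assoc]
  have hCall : ∀ d : D, d ∈ C := by
    intro d
    have hd : d ∈ Submodule.span k (Set.range ![(1 : D), i, j, i * j]) := by
      rw [hspan]; exact Submodule.mem_top
    have hle : Submodule.span k (Set.range ![(1 : D), i, j, i * j]) ≤
        Subalgebra.toSubmodule C := by
      rw [Submodule.span_le]
      rintro _ ⟨l, rfl⟩
      fin_cases l
      · exact C.one_mem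
      · exact hiC
      · exact hjC
      · exact C.mul_mem hiC hjC
    exact hle hd
  have hjj : j * j ∈ Subalgebra.center k D := by
    rw [Subalgebra.mem_center_iff]
    intro d
    have := (Subalgebra.mem_centralizer_iff k).1 (hCall d) (j * j) rfl
    exact this.symm
  rw [Algebra.IsCentral.center_eq_bot k D] at hjj
  obtain ⟨b, hb⟩ := Algebra.mem_bot.1 hjj
  let q : QuaternionAlgebra.Basis D a 0 b :=
    { i := i
      j := j
      k := i * j
      i_mul_i := by rw [hii, zero_smul, add_zero]
      j_mul_j := by rw [← hb, Algebra.algebraMap_eq_smul_one]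
      i_mul_j := rfl
      j_mul_i := by rw [zero_smul, zero_sub, hji] }
  let φ : QuaternionAlgebra k a 0 b →ₐ[k] D := q.liftHom
  have hφ : ∀ z, φ z = algebraMap k D z.re + z.imI • i + z.imJ • j + z.imK • (i * j) :=
    fun z => rfl
  have hinj : Function.Injective φ := by
    rw [injective_iff_map_eq_zero]
    intro z hz
    rw [hφ, Algebra.algebraMap_eq_smul_one] at hz
    obtain ⟨h1, h2', h3, h4⟩ := hzero _ _ _ _ hz
    ext
    · exact h1
    · exact h2'
    · exact h3
    · exact h4
  have hfr : Module.finrank k (QuaternionAlgebra k a 0 b) = Module.finrank k D := by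
    rw [QuaternionAlgebra.finrank_eq_four, hD]
  have hsurj : Function.Surjective φ :=
    (LinearMap.injective_iff_surjective_of_finrank_eq_finrank hfr (f := φ.toLinearMap)).1 hinj
  exact ⟨a, b, ⟨AlgEquiv.ofBijective φ ⟨hinj, hsurj⟩⟩⟩

end core

section converse

variable (k : Type u) [Field k] (A : Type v) [Ring A] [Algebra k A] [Algebra.IsCentral k A]
  [IsSimpleRing A] [FiniteDimensional k A]

theorem period_index_of_matrix_equiv (Q : Type w) [DivisionRing Q] [Algebra k Q]
    (hQ : Module.finrank k Q = 4) (m : ℕ) (e : A ≃ₐ[k] Matrix (Fin m) (Fin m) Q) :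
    CSAGal.IsPeriod k A 2 ∧ CSAGal.IsIndex k A 2 := by
  obtain ⟨hm, hc, hf⟩ := Index.div_props k A m Q e
  haveI := hc
  haveI := hf
  obtain ⟨d, hd⟩ := Index.exists_isIndex k A
  have hd2 : d = 2 := by
    obtain ⟨_, m', D, _, _, hm', hD, ⟨e'⟩⟩ := hd
    obtain ⟨_, hc', hf'⟩ := Index.div_props k A m' D e'
    haveI := hc'
    haveI := hf'
    obtain ⟨eD⟩ := Groth.Agent.S0193.result k Q D m m' hm hm'.ne' (e.symm.trans e')
    have h := LinearEquiv.finrank_eq eD.toLinearEquiv
    rw [hQ, hD] at h
    have h' : d ^ 2 = 2 ^ 2 := by rw [← h]; norm_num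
    exact Nat.pow_left_injective (n := 2) (by norm_num) h'
  subst hd2
  refine ⟨?_, hd⟩
  obtain ⟨p, hp⟩ := PeriodIndex.exists_isPeriod k A
  have hdvd := PeriodIndex.period_dvd_index hp hd
  have hp12 : p = 1 ∨ p = 2 := (Nat.dvd_prime Nat.prime_two).1 hdvd
  rcases hp12 with rfl | rfl
  · exfalso
    have hs1 : Curves.Splits k (⨂[k] _ : Fin 1, A) k := hp.2.1
    obtain ⟨h1, h2, h3⟩ := TPow.csa k A 1
    haveI := h1
    haveI := h2
    haveI := h3
    have hsA : Curves.Splits k A k := (BrEq.splits_iff (PeriodIndex.tpow_one_brEq k A)).1 hs1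
    have := Index.dvd_of_isIndex_of_splits hd k hsA
    rw [Module.finrank_self] at this
    omega
  · exact hp

end converse

end Groth.Agent.Lib.Lead.Quaternion
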