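import Mathlib
import Groth.Prelude.Def_Found
import Groth.Agent.Lib.Helper4.NagRed
import Groth.Agent.Lib.Helper11.UHRing

/-!
# Stabilisation of `(C ⊗ B)_red` along the finite subalgebras `C` of a finite field extension
(EGA 0_IV 23.2.x)

`A` a domain, `K'` a finite extension of `Frac A`, `B` a Noetherian flat `A`-algebra such that `B ⧸ q`
is N-2 for every minimal prime `q`.  Then the reduced rings `(C ⊗[A] B)_red`, `C` running through the
finite sub-`A`-algebras of `K'` with fraction field `K'`, are eventually constant (`core`), and if `B`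
is faithfully flat then `Spec A' → Spec C_α` is universally injective (`part3`).
-/

set_option autoImplicit false
set_option linter.style.haveILetI false
set_option linter.unusedSectionVars false
set_option linter.unusedVariables false
set_option maxHeartbeats 800000
universe u

open TensorProduct Function Polynomial
open Groth.Agent.Lib.Helper12.N2 Groth.Agent.Lib.Helper12.NagataLoc
open AlgebraicGeometry

namespace Groth.Agent.Lib.Lead.RedStab

section field

/-- Integral closure of a finite algebra `T` over a Nagata ring `B` in a field which is the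
fraction field of the image of `T`. -/
theorem finite_integralClosure_field' (B : Type u) [CommRing B] [IsNoetherianRing B]
    (T : Type u) [CommRing T] [Algebra B T] [Module.Finite B T]
    (K : Type u) [Field K] [Algebra T K]
    (hN : ∀ (𝔮 : Ideal B) [𝔮.IsPrime],
      𝔮 = RingHom.ker ((algebraMap T K).comp (algebraMap B T)) → CAlg.IsN2 (B ⧸ 𝔮))
    (hK : ∀ x : K, ∃ t₁ t₂ : T, algebraMap T K t₂ ≠ 0 ∧
      x * algebraMap T K t₂ = algebraMap T K t₁) :
    Module.Finite T (integralClosure T K) := by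
  classical
  letI algBK : Algebra B K := ((algebraMap T K).comp (algebraMap B T)).toAlgebra
  haveI : IsScalarTower B T K := IsScalarTower.of_algebraMap_eq (fun _ => rfl)
  haveI hprime : (RingHom.ker (algebraMap B K)).IsPrime := RingHom.ker_isPrime _
  letI algRK : Algebra (B ⧸ RingHom.ker (algebraMap B K)) K :=
    (RingHom.kerLift (algebraMap B K)).toAlgebra
  haveI : IsScalarTower B (B ⧸ RingHom.ker (algebraMap B K)) K :=
    IsScalarTower.of_algebraMap_eq (fun a => rfl)
  have hinj : Injective (algebraMap (B ⧸ RingHom.ker (algebraMap B K)) K) :=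
    RingHom.kerLift_injective _
  have hN2 : N2' (B ⧸ RingHom.ker (algebraMap B K)) :=
    (isN2_iff_N2' _).1 (@hN (RingHom.ker (algebraMap B K)) hprime rfl)
  have hfg : FinGen (B ⧸ RingHom.ker (algebraMap B K)) K := by
    obtain ⟨τ, hτ⟩ := (Module.finite_def.1 (inferInstance : Module.Finite B T))
    have hspan : ∀ t : T, algebraMap T K t ∈
        Submodule.span (B ⧸ RingHom.ker (algebraMap B K))
          ((τ.image (algebraMap T K) : Finset K) : Set K) := by
      intro t
      have ht : t ∈ Submodule.span B (τ : Set T) := by rw [hτ]; trivial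
      have h1 := Submodule.mem_map_of_mem (f := (IsScalarTower.toAlgHom B T K).toLinearMap) ht
      rw [Submodule.map_span] at h1
      have h2 : ((IsScalarTower.toAlgHom B T K).toLinearMap '' (τ : Set T)) =
          ((τ.image (algebraMap T K) : Finset K) : Set K) := by
        rw [Finset.coe_image]; rfl
      rw [h2] at h1
      exact Submodule.span_le_restrictScalars B (B ⧸ RingHom.ker (algebraMap B K)) _ h1
    refine ⟨τ.image (algebraMap T K), fun x => ?_⟩
    obtain ⟨t₁, t₂, ht₂, hx⟩ := hK x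
    have hint : IsIntegral (B ⧸ RingHom.ker (algebraMap B K)) (algebraMap T K t₂) := by
      have h1 : IsIntegral B t₂ := IsIntegral.of_finite B t₂
      have h2 : IsIntegral B (algebraMap T K t₂) := h1.map (IsScalarTower.toAlgHom B T K)
      exact h2.tower_top
    obtain ⟨r, hr0, w, hw, hvw⟩ := Groth.Agent.Lib.Helper4.NagRed.exists_mul_eq_algebraMap (algebraMap T K t₂) ht₂ hint
    have hwT : ∃ t₃ : T, algebraMap T K t₃ = w := by
      let Tb : Subalgebra (B ⧸ RingHom.ker (algebraMap B K)) K :=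
        { (algebraMap T K).range with
          algebraMap_mem' := fun c => by
            obtain ⟨b, rfl⟩ := Ideal.Quotient.mk_surjective c
            exact ⟨algebraMap B T b, rfl⟩ }
      have hle : Algebra.adjoin (B ⧸ RingHom.ker (algebraMap B K)) {algebraMap T K t₂} ≤ Tb :=
        Algebra.adjoin_le (Set.singleton_subset_iff.2 ⟨t₂, rfl⟩)
      exact hle hw
    obtain ⟨t₃, rfl⟩ := hwT
    refine ⟨r, hr0, ?_⟩
    have hrx : r • x = algebraMap T K (t₃ * t₁) := by
      rw [Algebra.smul_def, ← hvw, map_mul, ← hx]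
      ring
    rw [hrx]
    exact hspan _
  have h1 : Module.Finite (B ⧸ RingHom.ker (algebraMap B K))
      (integralClosure (B ⧸ RingHom.ker (algebraMap B K)) K) := hN2 K hinj hfg
  have h2 : Module.Finite B (integralClosure B K) :=
    Groth.Agent.Lib.Helper12.N2Insep.finite_integralClosure_trans B
      (B ⧸ RingHom.ker (algebraMap B K)) K h1
  exact Groth.Agent.Lib.Helper12.NagataCrit.finite_integralClosure_of_finite_base B T K h2


end field

section units


/-- `Q` reduced, a localization (at elements that become units) of a finite algebra `T` over a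
Nagata ring `B`: the integral closure of `T` in `Q` is finite. -/
theorem finite_integralClosure_of_units' (B : Type u) [CommRing B] [IsNoetherianRing B]
    (Q : Type u) [CommRing Q] [Algebra B Q] [IsReduced Q] (T : Subalgebra B Q)
    [Module.Finite B T]
    (hβ : ∀ q : Q, ∃ u : Q, IsUnit u ∧ u ∈ T ∧ u * q ∈ T)
    (hN : ∀ (𝔔 : Ideal Q) [𝔔.IsPrime], 𝔔 ∈ minimalPrimes Q → ∀ (𝔮 : Ideal B) [𝔮.IsPrime],
      𝔮 = 𝔔.comap (algebraMap B Q) → CAlg.IsN2 (B ⧸ 𝔮)) :
    Module.Finite T (integralClosure T Q) := by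
  classical
  haveI : IsNoetherianRing T := Algebra.FiniteType.isNoetherianRing B T
  let M : Submonoid T := Submonoid.comap (algebraMap T Q : T →* Q) (IsUnit.submonoid Q)
  haveI hloc : IsLocalization M Q :=
    { map_units := fun y => y.2
      surj := fun z => by
        obtain ⟨u, hu, huT, huz⟩ := hβ z
        refine ⟨(⟨u * z, huz⟩, ⟨⟨u, huT⟩, hu⟩), ?_⟩
        change z * u = u * z
        exact mul_comm _ _
      exists_of_eq := fun {x y} h => ⟨1, by rw [Subtype.ext h]⟩ }
  haveI : IsNoetherianRing Q := IsLocalization.isNoetherianRing M Q inferInstance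
  haveI : Finite {𝔔 : Ideal Q // 𝔔 ∈ minimalPrimes Q} :=
    (minimalPrimes.finite_of_isNoetherianRing Q).to_subtype
  haveI hpr : ∀ i : {𝔔 : Ideal Q // 𝔔 ∈ minimalPrimes Q}, i.1.IsPrime := fun i => i.2.1.1
  refine Groth.Agent.Lib.Helper12.NagataFin.finite_integralClosure_of_jointly_injective T Q
    (fun 𝔔 : {𝔔 : Ideal Q // 𝔔 ∈ minimalPrimes Q} => FractionRing (Q ⧸ 𝔔.1))
    (fun 𝔔 => IsScalarTower.toAlgHom T Q (FractionRing (Q ⧸ 𝔔.1))) ?_ ?_
  · intro c c' h
    rw [← sub_eq_zero]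
    have hmem : c - c' ∈ sInf (minimalPrimes Q) := by
      rw [Ideal.mem_sInf]
      intro 𝔔 h𝔔
      haveI : 𝔔.IsPrime := h𝔔.1.1
      have h1 : algebraMap Q (FractionRing (Q ⧸ 𝔔)) c = algebraMap Q (FractionRing (Q ⧸ 𝔔)) c' :=
        h ⟨𝔔, h𝔔⟩
      rw [IsScalarTower.algebraMap_apply Q (Q ⧸ 𝔔) (FractionRing (Q ⧸ 𝔔)) c,
        IsScalarTower.algebraMap_apply Q (Q ⧸ 𝔔) (FractionRing (Q ⧸ 𝔔)) c'] at h1
      have h2 := IsFractionRing.injective (Q ⧸ 𝔔) (FractionRing (Q ⧸ 𝔔)) h1
      rw [Ideal.Quotient.algebraMap_eq] at h2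
      exact Ideal.Quotient.eq.1 h2
    have h0 : sInf (minimalPrimes Q) = ⊥ := by
      show sInf (⊥ : Ideal Q).minimalPrimes = ⊥
      rw [Ideal.sInf_minimalPrimes]
      exact nilradical_eq_zero Q
    rw [h0] at hmem
    exact hmem
  · intro 𝔔
    haveI : 𝔔.1.IsPrime := 𝔔.2.1.1
    refine finite_integralClosure_field' B T (FractionRing (Q ⧸ 𝔔.1)) ?_ ?_
    · intro 𝔮 _ h𝔮
      refine hN 𝔔.1 𝔔.2 𝔮 ?_
      rw [h𝔮]
      ext x
      have hx : ((algebraMap T (FractionRing (Q ⧸ 𝔔.1))).comp (algebraMap B T)) x =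
          algebraMap (Q ⧸ 𝔔.1) (FractionRing (Q ⧸ 𝔔.1))
            (Ideal.Quotient.mk 𝔔.1 (algebraMap B Q x)) := rfl
      rw [RingHom.mem_ker, Ideal.mem_comap, hx,
        map_eq_zero_iff _ (IsFractionRing.injective (Q ⧸ 𝔔.1) (FractionRing (Q ⧸ 𝔔.1))),
        Ideal.Quotient.eq_zero_iff_mem]
    intro x
    obtain ⟨a, b, hb, rfl⟩ := IsFractionRing.div_surjective (Q ⧸ 𝔔.1) x
    obtain ⟨qa, rfl⟩ := Ideal.Quotient.mk_surjective a
    obtain ⟨qb, rfl⟩ := Ideal.Quotient.mk_surjective b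
    obtain ⟨ua, hua, huaT, huaq⟩ := hβ qa
    obtain ⟨ub, hub, hubT, hubq⟩ := hβ qb
    let φ : Q →+* FractionRing (Q ⧸ 𝔔.1) :=
      (algebraMap (Q ⧸ 𝔔.1) (FractionRing (Q ⧸ 𝔔.1))).comp (Ideal.Quotient.mk 𝔔.1)
    have hφT : ∀ t : T, algebraMap T (FractionRing (Q ⧸ 𝔔.1)) t = φ (t : Q) := fun t => rfl
    have hφb : φ qb ≠ 0 := by
      intro h
      have h' : Ideal.Quotient.mk 𝔔.1 qb = 0 :=
        (IsFractionRing.injective (Q ⧸ 𝔔.1) (FractionRing (Q ⧸ 𝔔.1))) (by rw [map_zero]; exact h)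
      exact nonZeroDivisors.ne_zero hb h'
    have hφu : ∀ u : Q, IsUnit u → φ u ≠ 0 := fun u hu => (hu.map φ).ne_zero
    refine ⟨⟨ua * qa, huaq⟩ * ⟨ub, hubT⟩, ⟨ub * qb, hubq⟩ * ⟨ua, huaT⟩, ?_, ?_⟩
    · rw [hφT]
      change φ ((ub * qb) * ua) ≠ 0
      rw [map_mul, map_mul]
      exact mul_ne_zero (mul_ne_zero (hφu ub hub) hφb) (hφu ua hua)
    · rw [hφT, hφT]
      change φ qa / φ qb * φ ((ub * qb) * ua) = φ ((ua * qa) * ub)
      rw [map_mul, map_mul, map_mul, map_mul, div_mul_eq_mul_div, div_eq_iff hφb]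
      ring

end units

section minprimes

/-- Going down: along a flat ring map minimal primes contract to minimal primes. -/
theorem comap_mem_minimalPrimes_of_flat {B L : Type*} [CommRing B] [CommRing L] [Algebra B L]
    [Module.Flat B L] {𝔔 : Ideal L} (h𝔔 : 𝔔 ∈ minimalPrimes L) :
    𝔔.comap (algebraMap B L) ∈ minimalPrimes B := by
  haveI : 𝔔.IsPrime := h𝔔.1.1
  refine ⟨⟨inferInstance, bot_le⟩, ?_⟩
  rintro p ⟨hp, -⟩ hle
  haveI := hp
  haveI : 𝔔.LiesOver (𝔔.comap (algebraMap B L)) := ⟨rfl⟩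
  obtain ⟨P, hPQ, hPprime, hPover⟩ :=
    Ideal.exists_ideal_le_liesOver_of_le (p := p) (q := 𝔔.comap (algebraMap B L)) 𝔔 hle
  have h1 : 𝔔 ≤ P := h𝔔.2 ⟨hPprime, bot_le⟩ hPQ
  have h2 : P = 𝔔 := le_antisymm hPQ h1
  have h3 : p = P.under B := hPover.over
  have h4 : 𝔔.under B = p := by rw [← h2]; exact h3.symm
  exact le_of_eq h4

/-- Minimal primes of the reduction are minimal primes. -/
theorem comap_mk_mem_minimalPrimes {L : Type*} [CommRing L] {𝔔 : Ideal (L ⧸ nilradical L)}
    (h𝔔 : 𝔔 ∈ minimalPrimes (L ⧸ nilradical L)) :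
    𝔔.comap (Ideal.Quotient.mk (nilradical L)) ∈ minimalPrimes L := by
  haveI : 𝔔.IsPrime := h𝔔.1.1
  refine ⟨⟨inferInstance, bot_le⟩, ?_⟩
  rintro P ⟨hP, -⟩ hle
  haveI := hP
  have hker : RingHom.ker (Ideal.Quotient.mk (nilradical L)) ≤ P := by
    rw [Ideal.mk_ker]; exact nilradical_le_prime P
  haveI hmp : (P.map (Ideal.Quotient.mk (nilradical L))).IsPrime :=
    Ideal.map_isPrime_of_surjective Ideal.Quotient.mk_surjective hker
  have h1 : P.map (Ideal.Quotient.mk (nilradical L)) ≤ 𝔔 := Ideal.map_le_iff_le_comap.mpr hle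
  have h2 : 𝔔 ≤ P.map (Ideal.Quotient.mk (nilradical L)) := h𝔔.2 ⟨hmp, bot_le⟩ h1
  calc 𝔔.comap (Ideal.Quotient.mk (nilradical L))
      ≤ (P.map (Ideal.Quotient.mk (nilradical L))).comap (Ideal.Quotient.mk (nilradical L)) :=
        Ideal.comap_mono h2
    _ = P ⊔ (⊥ : Ideal (L ⧸ nilradical L)).comap (Ideal.Quotient.mk (nilradical L)) :=
        Ideal.comap_map_of_surjective _ Ideal.Quotient.mk_surjective P
    _ = P := sup_eq_left.mpr (by rw [← RingHom.ker_eq_comap_bot]; exact hker)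

end minprimes

section tensor

variable {A B : Type u} [CommRing A] [CommRing B] [Algebra A B]

/-- Tensoring an injective algebra map with a flat algebra stays injective. -/
theorem map_injective_of_flat [Module.Flat A B] {C C' : Type u} [CommRing C] [CommRing C']
    [Algebra A C] [Algebra A C'] (f : C →ₐ[A] C') (hf : Injective f) :
    Injective (Algebra.TensorProduct.map f (AlgHom.id A B)) := by
  have h := Module.Flat.rTensor_preserves_injective_linearMap (M := B) f.toLinearMap hf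
  have key : (Algebra.TensorProduct.map f (AlgHom.id A B)).toLinearMap =
      LinearMap.rTensor B f.toLinearMap := by
    apply TensorProduct.ext'
    intro c b
    simp
  intro x y hxy
  apply h
  rw [← key]
  exact hxy

variable {K' : Type u} [Field K'] [Algebra A K']

/-- `C ⊗ B → B ⊗ K'`. -/
noncomputable def rho (C : Subalgebra A K') : ↥C ⊗[A] B →ₐ[A] B ⊗[A] K' :=
  (Algebra.TensorProduct.comm A K' B).toAlgHom.comp
    (Algebra.TensorProduct.map C.val (AlgHom.id A B))

theorem rho_tmul (C : Subalgebra A K') (c : C) (b : B) :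
    rho (B := B) C (c ⊗ₜ[A] b) = b ⊗ₜ[A] (c : K') := by
  simp [rho]

theorem rho_injective [Module.Flat A B] (C : Subalgebra A K') : Injective (rho (B := B) C) := by
  have h1 := map_injective_of_flat (B := B) C.val Subtype.val_injective
  intro x y hxy
  apply h1
  apply (Algebra.TensorProduct.comm A K' B).injective
  exact hxy

theorem rho_map {C C' : Subalgebra A K'} (hle : C ≤ C') (x : ↥C ⊗[A] B) :
    rho (B := B) C' (Algebra.TensorProduct.map (Subalgebra.inclusion hle) (AlgHom.id A B) x) =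
      rho C x := by
  induction x using TensorProduct.induction_on with
  | zero => simp
  | tmul c b =>
    rw [Algebra.TensorProduct.map_tmul, rho_tmul, rho_tmul]
    rfl
  | add x y hx hy => rw [map_add, map_add, map_add, hx, hy]

/-- `C ⊗ B → (B ⊗ K')_red`. -/
noncomputable def sigma (C : Subalgebra A K') :
    ↥C ⊗[A] B →+* (B ⊗[A] K') ⧸ nilradical (B ⊗[A] K') :=
  (Ideal.Quotient.mk (nilradical (B ⊗[A] K'))).comp (rho C).toRingHom

theorem sigma_apply (C : Subalgebra A K') (x : ↥C ⊗[A] B) :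
    sigma (B := B) C x = Ideal.Quotient.mk (nilradical (B ⊗[A] K')) (rho C x) := rfl

theorem sigma_map {C C' : Subalgebra A K'} (hle : C ≤ C') (x : ↥C ⊗[A] B) :
    sigma (B := B) C' (Algebra.TensorProduct.map (Subalgebra.inclusion hle) (AlgHom.id A B) x) =
      sigma C x := by
  rw [sigma_apply, sigma_apply, rho_map]

theorem sigma_eq_zero [Module.Flat A B] (C : Subalgebra A K') (y : ↥C ⊗[A] B)
    (h : sigma (B := B) C y = 0) : IsNilpotent y := by
  rw [sigma_apply] at h
  have h1 : rho C y ∈ nilradical (B ⊗[A] K') := Ideal.Quotient.eq_zero_iff_mem.mp h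
  obtain ⟨n, hn⟩ := mem_nilradical.mp h1
  refine ⟨n, rho_injective C ?_⟩
  rw [map_pow, hn, map_zero]

theorem sigma_one_tmul (C : Subalgebra A K') (b : B) :
    sigma (B := B) C ((1 : C) ⊗ₜ[A] b) =
      algebraMap B ((B ⊗[A] K') ⧸ nilradical (B ⊗[A] K')) b := by
  rw [sigma_apply, rho_tmul, ← Ideal.Quotient.mk_algebraMap,
    Algebra.TensorProduct.algebraMap_apply]
  simp

theorem sigma_smul (C : Subalgebra A K') (b : B) (x : ↥C ⊗[A] B) :
    sigma (B := B) C (((1 : C) ⊗ₜ[A] b) * x) = b • sigma C x := by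
  rw [map_mul, sigma_one_tmul, Algebra.smul_def]

/-- The image of `C ⊗ B` in `(B ⊗ K')_red`, as a `B`-submodule. -/
noncomputable def DD (C : Subalgebra A K') :
    Submodule B ((B ⊗[A] K') ⧸ nilradical (B ⊗[A] K')) where
  carrier := Set.range (sigma (B := B) C)
  add_mem' := by
    rintro _ _ ⟨x, rfl⟩ ⟨y, rfl⟩
    exact ⟨x + y, map_add _ _ _⟩
  zero_mem' := ⟨0, map_zero _⟩
  smul_mem' := by
    rintro b _ ⟨x, rfl⟩
    exact ⟨((1 : C) ⊗ₜ[A] b) * x, sigma_smul C b x⟩

theorem mem_DD (C : Subalgebra A K') (q : (B ⊗[A] K') ⧸ nilradical (B ⊗[A] K')) :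
    q ∈ DD (B := B) C ↔ ∃ x, sigma (B := B) C x = q := Iff.rfl

theorem DD_mono {C C' : Subalgebra A K'} (hle : C ≤ C') : DD (B := B) C ≤ DD C' := by
  rintro _ ⟨x, rfl⟩
  exact ⟨_, sigma_map hle x⟩

theorem sigma_isIntegral (C : Subalgebra A K') [Module.Finite A C] (y : ↥C ⊗[A] B) :
    IsIntegral B (sigma (B := B) C y) := by
  induction y using TensorProduct.induction_on with
  | zero => rw [map_zero]; exact isIntegral_zero
  | tmul c b =>
    have h1 : sigma (B := B) C (c ⊗ₜ[A] b) =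
        algebraMap B ((B ⊗[A] K') ⧸ nilradical (B ⊗[A] K')) b *
          (Ideal.Quotient.mkₐ A (nilradical (B ⊗[A] K')))
            ((Algebra.TensorProduct.includeRight : K' →ₐ[A] B ⊗[A] K') (c : K')) := by
      rw [sigma_apply, rho_tmul, ← Ideal.Quotient.mk_algebraMap,
        Algebra.TensorProduct.algebraMap_apply, Ideal.Quotient.mkₐ_eq_mk, ← map_mul,
        Algebra.TensorProduct.includeRight_apply, Algebra.TensorProduct.tmul_mul_tmul]
      simp
    rw [h1]
    refine IsIntegral.mul isIntegral_algebraMap ?_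
    have h2 : IsIntegral A (c : K') := (IsIntegral.of_finite A c).map C.val
    have h3 : IsIntegral A ((Ideal.Quotient.mkₐ A (nilradical (B ⊗[A] K')))
        ((Algebra.TensorProduct.includeRight : K' →ₐ[A] B ⊗[A] K') (c : K'))) :=
      (h2.map _).map _
    exact h3.tower_top
  | add x y hx hy => rw [map_add]; exact hx.add hy

end tensor

section main

variable {A B K' : Type u} [CommRing A] [IsDomain A] [CommRing B] [Algebra A B]
  [Field K'] [Algebra A K'] [Algebra (FractionRing A) K'] [IsScalarTower A (FractionRing A) K']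

theorem algebraMap_ne_zero' (r : A) (hr : r ≠ 0) : algebraMap A K' r ≠ 0 := by
  intro h
  apply hr
  rw [IsScalarTower.algebraMap_apply A (FractionRing A) K'] at h
  have h1 := (map_eq_zero (algebraMap (FractionRing A) K')).mp h
  exact (map_eq_zero_iff _ (IsFractionRing.injective A (FractionRing A))).mp h1

/-- A finite subalgebra spanning `K'` up to denominators in `A`. -/
theorem exists_C0 [FiniteDimensional (FractionRing A) K'] :
    ∃ C₀ : Subalgebra A K', Module.Finite A C₀ ∧ ∀ x : K', ∃ d : A, d ≠ 0 ∧ d • x ∈ C₀ := by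
  classical
  obtain ⟨s, b, hb⟩ := FiniteDimensional.exists_is_basis_integral A (FractionRing A) K'
  refine ⟨Algebra.adjoin A (Set.range b), ?_, ?_⟩
  · exact Algebra.finite_adjoin_of_finite_of_isIntegral (Set.finite_range b)
      (by rintro _ ⟨i, rfl⟩; exact hb i)
  · intro x
    obtain ⟨d, hd⟩ := IsLocalization.exist_integer_multiples_of_finite (nonZeroDivisors A)
      (fun i => b.repr x i)
    refine ⟨d, nonZeroDivisors.ne_zero d.2, ?_⟩
    have hx : (d : A) • x = ∑ i, ((d : A) • b.repr x i) • b i := by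
      conv_lhs => rw [← b.sum_repr x]
      rw [Finset.smul_sum]
      refine Finset.sum_congr rfl fun i _ => ?_
      rw [smul_assoc]
    rw [hx]
    refine Subalgebra.sum_mem _ fun i _ => ?_
    obtain ⟨a, ha⟩ := hd i
    rw [← ha, algebraMap_smul]
    exact Subalgebra.smul_mem _ (Algebra.subset_adjoin (Set.mem_range_self i)) a

/-- The stabilisation statement. -/
theorem core [IsNoetherianRing B] [Module.Flat A B]
    (hJ : ∀ (q : Ideal B) [q.IsPrime], q ∈ minimalPrimes B → CAlg.IsN2 (B ⧸ q))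
    [FiniteDimensional (FractionRing A) K'] :
    ∃ Cα : Subalgebra A K', (Module.Finite A Cα ∧ ∀ x : K', ∃ d : A, d ≠ 0 ∧ d • x ∈ Cα) ∧
      ∀ C : Subalgebra A K', Module.Finite A C → ∀ hle : Cα ≤ C, ∀ y : ↥C ⊗[A] B,
        ∃ x : ↥Cα ⊗[A] B, IsNilpotent
          (Algebra.TensorProduct.map (Subalgebra.inclusion hle) (AlgHom.id A B) x - y) := by
  classical
  obtain ⟨C₀, hC₀fin, hC₀⟩ := exists_C0 (A := A) (K' := K')
  haveI := hC₀fin
  haveI hflatK : Module.Flat A K' := by
    haveI : Module.Flat A (FractionRing A) :=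
      IsLocalization.flat (FractionRing A) (nonZeroDivisors A)
    exact Module.Flat.trans A (FractionRing A) K'
  haveI hred : IsReduced ((B ⊗[A] K') ⧸ nilradical (B ⊗[A] K')) :=
    (Ideal.isRadical_iff_quotient_reduced _).mp
      (by unfold nilradical; exact Ideal.radical_isRadical _)
  let τ₀ : B ⊗[A] ↥C₀ →ₐ[B] (B ⊗[A] K') ⧸ nilradical (B ⊗[A] K') :=
    (Ideal.Quotient.mkₐ B (nilradical (B ⊗[A] K'))).comp
      (Algebra.TensorProduct.map (AlgHom.id B B) C₀.val)
  let T : Subalgebra B ((B ⊗[A] K') ⧸ nilradical (B ⊗[A] K')) := τ₀.range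
  haveI hTfin : Module.Finite B T :=
    Module.Finite.of_surjective τ₀.rangeRestrict.toLinearMap τ₀.rangeRestrict_surjective
  have hden : ∀ ℓ : B ⊗[A] K', ∃ r : A, r ≠ 0 ∧ ∃ z : B ⊗[A] ↥C₀,
      (algebraMap A B r) • ℓ = Algebra.TensorProduct.map (AlgHom.id B B) C₀.val z := by
    intro ℓ
    induction ℓ using TensorProduct.induction_on with
    | zero => exact ⟨1, one_ne_zero, 0, by simp⟩
    | tmul b k =>
      obtain ⟨r, hr, hrk⟩ := hC₀ k
      refine ⟨r, hr, b ⊗ₜ[A] (⟨r • k, hrk⟩ : C₀), ?_⟩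
      rw [Algebra.TensorProduct.map_tmul, TensorProduct.smul_tmul', smul_eq_mul,
        ← Algebra.smul_def, TensorProduct.smul_tmul]
      rfl
    | add ℓ₁ ℓ₂ h₁ h₂ =>
      obtain ⟨r₁, hr₁, z₁, hz₁⟩ := h₁
      obtain ⟨r₂, hr₂, z₂, hz₂⟩ := h₂
      refine ⟨r₁ * r₂, mul_ne_zero hr₁ hr₂,
        (algebraMap A B r₂) • z₁ + (algebraMap A B r₁) • z₂, ?_⟩
      rw [map_add, map_smul, map_smul, ← hz₁, ← hz₂, smul_add, map_mul, mul_smul, mul_smul,
        smul_comm (algebraMap A B r₁) (algebraMap A B r₂) ℓ₁]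
  have hβ : ∀ q : (B ⊗[A] K') ⧸ nilradical (B ⊗[A] K'),
      ∃ u, IsUnit u ∧ u ∈ T ∧ u * q ∈ T := by
    intro q
    obtain ⟨ℓ, rfl⟩ := Ideal.Quotient.mk_surjective q
    obtain ⟨r, hr, z, hz⟩ := hden ℓ
    refine ⟨Ideal.Quotient.mk _ (algebraMap A (B ⊗[A] K') r), ?_, ?_, ?_⟩
    · have h1 : algebraMap A (B ⊗[A] K') r =
          (Algebra.TensorProduct.includeRight : K' →ₐ[A] B ⊗[A] K') (algebraMap A K' r) :=
        (AlgHom.commutes _ r).symm
      rw [h1]
      exact ((IsUnit.mk0 _ (algebraMap_ne_zero' r hr)).map _).map _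
    · rw [IsScalarTower.algebraMap_apply A B (B ⊗[A] K')]
      exact T.algebraMap_mem (algebraMap A B r)
    · rw [← map_mul, IsScalarTower.algebraMap_apply A B (B ⊗[A] K'), ← Algebra.smul_def, hz]
      exact ⟨z, rfl⟩
  have hN : ∀ (𝔔 : Ideal ((B ⊗[A] K') ⧸ nilradical (B ⊗[A] K'))) [𝔔.IsPrime],
      𝔔 ∈ minimalPrimes ((B ⊗[A] K') ⧸ nilradical (B ⊗[A] K')) → ∀ (𝔮 : Ideal B) [𝔮.IsPrime],
      𝔮 = 𝔔.comap (algebraMap B ((B ⊗[A] K') ⧸ nilradical (B ⊗[A] K'))) →
        CAlg.IsN2 (B ⧸ 𝔮) := by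
    intro 𝔔 _ h𝔔 𝔮 _ h𝔮
    apply hJ 𝔮
    rw [h𝔮]
    have h1 := comap_mem_minimalPrimes_of_flat (B := B) (comap_mk_mem_minimalPrimes h𝔔)
    have h2 : 𝔔.comap (algebraMap B ((B ⊗[A] K') ⧸ nilradical (B ⊗[A] K'))) =
        (𝔔.comap (Ideal.Quotient.mk (nilradical (B ⊗[A] K')))).comap
          (algebraMap B (B ⊗[A] K')) := by
      rw [Ideal.comap_comap, Ideal.Quotient.mk_comp_algebraMap]
    rw [h2]
    exact h1
  have hfinT : Module.Finite T (integralClosure T ((B ⊗[A] K') ⧸ nilradical (B ⊗[A] K'))) :=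
    finite_integralClosure_of_units' B _ T hβ hN
  haveI hfinB : Module.Finite B
      (integralClosure B ((B ⊗[A] K') ⧸ nilradical (B ⊗[A] K'))) :=
    Groth.Agent.Lib.Helper12.N2Insep.finite_integralClosure_trans B T _ hfinT
  haveI : IsNoetherian B (integralClosure B ((B ⊗[A] K') ⧸ nilradical (B ⊗[A] K'))) :=
    isNoetherian_of_isNoetherianRing_of_finite B _
  let f : ↥(integralClosure B ((B ⊗[A] K') ⧸ nilradical (B ⊗[A] K'))) →ₗ[B]
      (B ⊗[A] K') ⧸ nilradical (B ⊗[A] K') :=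
    (integralClosure B ((B ⊗[A] K') ⧸ nilradical (B ⊗[A] K'))).val.toLinearMap
  have hDD_le : ∀ C : Subalgebra A K', Module.Finite A C →
      DD (B := B) C ≤ LinearMap.range f := by
    intro C hC q hq
    obtain ⟨y, rfl⟩ := hq
    exact ⟨⟨sigma C y, sigma_isIntegral C y⟩, rfl⟩
  let 𝒮 : Set (Submodule B
      ↥(integralClosure B ((B ⊗[A] K') ⧸ nilradical (B ⊗[A] K')))) :=
    {M | ∃ C : Subalgebra A K', Module.Finite A C ∧ C₀ ≤ C ∧ M = (DD (B := B) C).comap f}
  have h𝒮 : 𝒮.Nonempty := ⟨_, C₀, hC₀fin, le_rfl, rfl⟩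
  obtain ⟨M, ⟨Cα, hαfin, hα0, rfl⟩, hmax⟩ := WellFounded.has_min wellFounded_gt 𝒮 h𝒮
  refine ⟨Cα, ⟨hαfin, fun x => ?_⟩, ?_⟩
  · obtain ⟨d, hd, hdx⟩ := hC₀ x
    exact ⟨d, hd, hα0 hdx⟩
  · intro C hCfin hle y
    have hmem : (DD (B := B) C).comap f ∈ 𝒮 := ⟨C, hCfin, hα0.trans hle, rfl⟩
    have hmono : (DD (B := B) Cα).comap f ≤ (DD (B := B) C).comap f :=
      Submodule.comap_mono (DD_mono hle)
    have heq : (DD (B := B) Cα).comap f = (DD (B := B) C).comap f :=
      eq_of_le_of_not_lt hmono (hmax _ hmem)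
    have hDDeq : DD (B := B) C = DD Cα := by
      calc DD (B := B) C = ((DD (B := B) C).comap f).map f :=
            (Submodule.map_comap_eq_of_le (hDD_le C hCfin)).symm
        _ = ((DD (B := B) Cα).comap f).map f := by rw [heq]
        _ = DD Cα := Submodule.map_comap_eq_of_le (hDD_le Cα hαfin)
    have hy : sigma (B := B) C y ∈ DD (B := B) C := ⟨y, rfl⟩
    rw [hDDeq] at hy
    obtain ⟨x, hx⟩ := hy
    refine ⟨x, sigma_eq_zero C _ ?_⟩
    rw [map_sub, sigma_map hle, hx, sub_self]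

/-- Radiciality of `Spec A' → Spec C_α` in the faithfully flat case. -/
theorem part3 [Module.Flat A B] (Cα : Subalgebra A K') (hfin : Module.Finite A Cα)
    (h2 : ∀ C : Subalgebra A K', Module.Finite A C → ∀ hle : Cα ≤ C, ∀ y : ↥C ⊗[A] B,
      ∃ x : ↥Cα ⊗[A] B, IsNilpotent
        (Algebra.TensorProduct.map (Subalgebra.inclusion hle) (AlgHom.id A B) x - y))
    (hff : Module.FaithfullyFlat A B) (hint : Cα ≤ integralClosure A K') :
    UniversallyInjective
      (Spec.map (CommRingCat.ofHom (Subalgebra.inclusion hint).toRingHom)) := by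
  rw [Groth.Agent.Lib.Helper11.UHRing.universallyInjective_SpecMap_iff]
  intro F _ g₁ g₂ hg
  ext x'
  have hx : IsIntegral A (x' : K') := x'.2
  haveI := hfin
  haveI := hff
  haveI : Module.Finite A (Algebra.adjoin A {(x' : K')}) :=
    Algebra.finite_adjoin_simple_of_isIntegral hx
  haveI hCfin : Module.Finite A ↥(Cα ⊔ Algebra.adjoin A {(x' : K')}) :=
    Subalgebra.finite_sup _ _
  have hle : Cα ≤ Cα ⊔ Algebra.adjoin A {(x' : K')} := le_sup_left
  have hCint : Cα ⊔ Algebra.adjoin A {(x' : K')} ≤ integralClosure A K' :=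
    sup_le hint (Algebra.adjoin_le (by
      intro z hz
      rw [Set.mem_singleton_iff] at hz
      rw [hz]
      exact hx))
  have hxC : (x' : K') ∈ Cα ⊔ Algebra.adjoin A {(x' : K')} :=
    (le_sup_right : Algebra.adjoin A {(x' : K')} ≤ Cα ⊔ Algebra.adjoin A {(x' : K')})
      (Algebra.subset_adjoin rfl)
  letI algF : Algebra A F := (g₁.comp (algebraMap A (integralClosure A K'))).toAlgebra
  have hg' : ∀ c : Cα, g₁ (Subalgebra.inclusion hint c) = g₂ (Subalgebra.inclusion hint c) :=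
    fun c => RingHom.congr_fun hg c
  let γ₁ : ↥(Cα ⊔ Algebra.adjoin A {(x' : K')}) →ₐ[A] F :=
    { toRingHom := g₁.comp (Subalgebra.inclusion hCint).toRingHom
      commutes' := fun a => by
        show g₁ ((Subalgebra.inclusion hCint) (algebraMap A _ a)) =
          g₁ (algebraMap A (integralClosure A K') a)
        rw [AlgHom.commutes] }
  let γ₂ : ↥(Cα ⊔ Algebra.adjoin A {(x' : K')}) →ₐ[A] F :=
    { toRingHom := g₂.comp (Subalgebra.inclusion hCint).toRingHom
      commutes' := fun a => by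
        show g₂ ((Subalgebra.inclusion hCint) (algebraMap A _ a)) =
          g₁ (algebraMap A (integralClosure A K') a)
        rw [AlgHom.commutes]
        have h := hg' (algebraMap A Cα a)
        rw [AlgHom.commutes] at h
        exact h.symm }
  have hG : ∀ t : ↥Cα ⊗[A] B,
      Algebra.TensorProduct.map γ₁ (AlgHom.id A B)
        (Algebra.TensorProduct.map (Subalgebra.inclusion hle) (AlgHom.id A B) t) =
      Algebra.TensorProduct.map γ₂ (AlgHom.id A B)
        (Algebra.TensorProduct.map (Subalgebra.inclusion hle) (AlgHom.id A B) t) := by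
    intro t
    induction t using TensorProduct.induction_on with
    | zero => simp
    | tmul c b =>
      rw [Algebra.TensorProduct.map_tmul, Algebra.TensorProduct.map_tmul,
        Algebra.TensorProduct.map_tmul]
      congr 1
      have e : Subalgebra.inclusion hCint (Subalgebra.inclusion hle c) =
          Subalgebra.inclusion hint c := rfl
      show g₁ (Subalgebra.inclusion hCint (Subalgebra.inclusion hle c)) =
        g₂ (Subalgebra.inclusion hCint (Subalgebra.inclusion hle c))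
      rw [e]
      exact hg' c
    | add x y hx hy => rw [map_add, map_add, map_add, hx, hy]
  obtain ⟨t, ht⟩ := h2 _ hCfin hle
    ((⟨(x' : K'), hxC⟩ : ↥(Cα ⊔ Algebra.adjoin A {(x' : K')})) ⊗ₜ[A] (1 : B))
  have hn1 := ht.map (Algebra.TensorProduct.map γ₁ (AlgHom.id A B))
  have hn2 := ht.map (Algebra.TensorProduct.map γ₂ (AlgHom.id A B))
  rw [map_sub, hG t] at hn1
  rw [map_sub] at hn2
  have e1 : Algebra.TensorProduct.map γ₁ (AlgHom.id A B)
      ((⟨(x' : K'), hxC⟩ : ↥(Cα ⊔ Algebra.adjoin A {(x' : K')})) ⊗ₜ[A] (1 : B)) =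
      (g₁ x') ⊗ₜ[A] (1 : B) := rfl
  have e2 : Algebra.TensorProduct.map γ₂ (AlgHom.id A B)
      ((⟨(x' : K'), hxC⟩ : ↥(Cα ⊔ Algebra.adjoin A {(x' : K')})) ⊗ₜ[A] (1 : B)) =
      (g₂ x') ⊗ₜ[A] (1 : B) := rfl
  rw [e1] at hn1
  rw [e2] at hn2
  have hnil : IsNilpotent (((g₁ x' - g₂ x') ⊗ₜ[A] (1 : B)) : F ⊗[A] B) := by
    have h := (Commute.all _ _).isNilpotent_sub hn2 hn1
    have e : ((g₁ x' - g₂ x') ⊗ₜ[A] (1 : B) : F ⊗[A] B) =
        (Algebra.TensorProduct.map γ₂ (AlgHom.id A B)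
          (Algebra.TensorProduct.map (Subalgebra.inclusion hle) (AlgHom.id A B) t) -
            (g₂ x') ⊗ₜ[A] (1 : B)) -
        (Algebra.TensorProduct.map γ₂ (AlgHom.id A B)
          (Algebra.TensorProduct.map (Subalgebra.inclusion hle) (AlgHom.id A B) t) -
            (g₁ x') ⊗ₜ[A] (1 : B)) := by
      rw [TensorProduct.sub_tmul]
      abel
    rw [e]
    exact h
  by_contra hne
  have hδ : g₁ x' - g₂ x' ≠ 0 := sub_ne_zero.mpr hne
  haveI : Nontrivial (F ⊗[A] B) := inferInstance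
  obtain ⟨n, hn⟩ := hnil
  have hmul : (((g₁ x' - g₂ x') ⊗ₜ[A] (1 : B)) : F ⊗[A] B) *
      ((g₁ x' - g₂ x')⁻¹ ⊗ₜ[A] (1 : B)) = 1 := by
    rw [Algebra.TensorProduct.tmul_mul_tmul, mul_inv_cancel₀ hδ, mul_one]
    rfl
  have h1 : (1 : F ⊗[A] B) = 0 := by
    have h := congrArg (fun w => w ^ n) hmul
    simp only [mul_pow, hn, zero_mul, one_pow] at h
    exact h.symm
  exact one_ne_zero h1

end main

end Groth.Agent.Lib.Lead.RedStab
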