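/-
Lead library: if `x` has separable minimal polynomial then so does every polynomial in `x`
(the monogenic algebra `k[x]` is étale).
-/
import Mathlib
import Groth.Agent.Lib.Lead.RegularExists

set_option autoImplicit false
universe u v w
open TensorProduct Polynomial

namespace Groth.Agent.Lib.Lead.RegularSep

theorem separable_minpoly_aeval_aux {k : Type u} [Field k] {B : Type v} [Ring B] [Algebra k B]
    [FiniteDimensional k B] (K : Type w) [Field K] [Algebra k K] [IsAlgClosed K] (x : B)
    (hsep : (minpoly k x).Separable) (q : k[X]) :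
    (minpoly k (Polynomial.aeval x q)).Separable := by
  classical
  have hint : IsIntegral k x := Algebra.IsIntegral.isIntegral x
  have hpK_sep : ((minpoly k x).map (algebraMap k K)).Separable := hsep.map
  have hpK0 : (minpoly k x).map (algebraMap k K) ≠ 0 := ((minpoly.monic hint).map _).ne_zero
  obtain ⟨S, hS⟩ : ∃ S : Finset K, S = ((minpoly k x).map (algebraMap k K)).roots.toFinset.image
      (fun lam => (q.map (algebraMap k K)).eval lam) := ⟨_, rfl⟩
  have hgsep : (∏ c ∈ S, (X - C c) : K[X]).Separable :=
    (Polynomial.separable_prod_X_sub_C_iff' (f := fun c : K => c) (s := S)).2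
      (fun a _ b _ h => h)
  have hdvd : (minpoly k x).map (algebraMap k K) ∣
      (∏ c ∈ S, (X - C c) : K[X]).comp (q.map (algebraMap k K)) := by
    by_cases hcomp0 : (∏ c ∈ S, (X - C c) : K[X]).comp (q.map (algebraMap k K)) = 0
    · rw [hcomp0]; exact dvd_zero _
    apply (IsAlgClosed.splits _).dvd_of_roots_le_roots hpK0
    rw [Multiset.le_iff_subset (Polynomial.nodup_roots hpK_sep)]
    intro lam hlam
    rw [Polynomial.mem_roots hcomp0, Polynomial.IsRoot.def, Polynomial.eval_comp,
      Polynomial.eval_prod]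
    apply Finset.prod_eq_zero (i := (q.map (algebraMap k K)).eval lam)
    · rw [hS]
      exact Finset.mem_image.2 ⟨lam, Multiset.mem_toFinset.2 hlam, rfl⟩
    · rw [Polynomial.eval_sub, Polynomial.eval_X, Polynomial.eval_C, sub_self]
  have hx0 : Polynomial.aeval ((1 : K) ⊗ₜ[k] x) ((minpoly k x).map (algebraMap k K)) = 0 := by
    rw [Polynomial.aeval_map_algebraMap]
    have h2 := Polynomial.aeval_algHom_apply
      (Algebra.TensorProduct.includeRight : B →ₐ[k] K ⊗[k] B) x (minpoly k x)
    rw [Algebra.TensorProduct.includeRight_apply] at h2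
    rw [h2, minpoly.aeval, map_zero]
  have hy : ((1 : K) ⊗ₜ[k] (Polynomial.aeval x q) : K ⊗[k] B) =
      Polynomial.aeval ((1 : K) ⊗ₜ[k] x) (q.map (algebraMap k K)) := by
    rw [Polynomial.aeval_map_algebraMap]
    have h2 := Polynomial.aeval_algHom_apply
      (Algebra.TensorProduct.includeRight : B →ₐ[k] K ⊗[k] B) x q
    rw [Algebra.TensorProduct.includeRight_apply, Algebra.TensorProduct.includeRight_apply] at h2
    exact h2.symm
  have hg0 : Polynomial.aeval ((1 : K) ⊗ₜ[k] (Polynomial.aeval x q) : K ⊗[k] B)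
      (∏ c ∈ S, (X - C c) : K[X]) = 0 := by
    rw [hy, ← Polynomial.aeval_comp]
    obtain ⟨s, hs⟩ := hdvd
    rw [hs, map_mul, hx0, zero_mul]
  have h1 := RegularExists.minpoly_map_eq K (AlgHom.id K (K ⊗[k] B)) Function.injective_id
    (Polynomial.aeval x q)
  rw [AlgHom.id_apply] at h1
  have h2 : (minpoly K ((1 : K) ⊗ₜ[k] (Polynomial.aeval x q) : K ⊗[k] B)).Separable :=
    hgsep.of_dvd (minpoly.dvd K _ hg0)
  rw [← h1] at h2
  exact (Polynomial.separable_map (algebraMap k K)).1 h2

theorem separable_minpoly_aeval {k : Type u} [Field k] {B : Type v} [Ring B] [Algebra k B]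
    [FiniteDimensional k B] (x : B) (hsep : (minpoly k x).Separable) (q : k[X]) :
    (minpoly k (Polynomial.aeval x q)).Separable :=
  separable_minpoly_aeval_aux (AlgebraicClosure k) x hsep q

theorem isSeparable_adjoin {k : Type u} [Field k] {B : Type v} [Ring B] [Algebra k B]
    [FiniteDimensional k B] (x : B) (hsep : (minpoly k x).Separable) :
    Algebra.IsSeparable k (Algebra.adjoin k ({x} : Set B)) := by
  refine ⟨fun y => ?_⟩
  have hy : (y : B) ∈ (Polynomial.aeval (R := k) x).range := by
    rw [← Algebra.adjoin_singleton_eq_range_aeval]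
    exact y.2
  rw [AlgHom.mem_range] at hy
  obtain ⟨q, hq⟩ := hy
  have h1 := separable_minpoly_aeval x hsep q
  rw [hq] at h1
  have h2 := minpoly.algHom_eq (Algebra.adjoin k ({x} : Set B)).val Subtype.val_injective y
  change (minpoly k y).Separable
  rw [← h2]
  exact h1

end Groth.Agent.Lib.Lead.RegularSep
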