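/-
Lead library: triviality of the Brauer groups of the finite separable extensions of a separable
algebraic extension `F/K` versus triviality of the restriction maps `Br(E) → Br(M)`.

* `splits_of_triv`: a field all of whose central division algebras are trivial splits every CSA,
* `forward`, `backward`: the two implications of S18519.
-/
import Mathlib
import Groth.Agent.Lib.Lead.FinFieldSplit

set_option autoImplicit false
universe u
open scoped TensorProduct

namespace Groth.Agent.Lib.Lead.SepRestr

open Groth.Agent.Lib.Lead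

/-- If every central division algebra over `K'` is trivial then `K'` splits every CSA. -/
theorem splits_of_triv {k : Type u} [Field k] {A : Type u} [Ring A] [Algebra k A]
    [Algebra.IsCentral k A] [IsSimpleRing A] [FiniteDimensional k A]
    (K' : Type u) [Field K'] [Algebra k K']
    (h : ∀ (D : Type u) [DivisionRing D] [Algebra K' D] [Algebra.IsCentral K' D]
      [FiniteDimensional K' D], Module.finrank K' D = 1) : Curves.Splits k A K' := by
  classical
  haveI : Algebra.IsCentral K' (K' ⊗[k] A) := Split.isCentral_baseChange K'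
  haveI : IsSimpleRing (K' ⊗[k] A) := CSA.isSimpleRing_tensor
  haveI : IsArtinianRing (K' ⊗[k] A) := IsArtinianRing.of_finite K' _
  obtain ⟨s, hs, D, _, _, _, ⟨e⟩⟩ :=
    IsSimpleRing.exists_algEquiv_matrix_divisionRing_finite K' (K' ⊗[k] A)
  obtain ⟨hs0, hc, hf⟩ := Index.div_props K' (K' ⊗[k] A) s D e
  haveI := hc
  haveI := hf
  have h1 : Module.finrank K' D = 1 := h D
  have hinj : Function.Injective (Algebra.ofId K' D) := (algebraMap K' D).injective
  have hsurj : Function.Surjective (Algebra.ofId K' D) :=
    (LinearMap.injective_iff_surjective_of_finrank_eq_finrank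
      (f := (Algebra.ofId K' D).toLinearMap) (by rw [Module.finrank_self, h1])).1 hinj
  let eD : K' ≃ₐ[K'] D := AlgEquiv.ofBijective (Algebra.ofId K' D) ⟨hinj, hsurj⟩
  exact ⟨s, hs0, ⟨e.trans eD.symm.mapMatrix⟩⟩

theorem forward (K F : Type u) [Field K] [Field F] [Algebra K F] [Algebra.IsSeparable K F]
    (ha : ∀ (F' : Type u) [Field F'] [Algebra F F'] [FiniteDimensional F F']
        [Algebra.IsSeparable F F']
        (D : Type u) [DivisionRing D] [Algebra F' D] [Algebra.IsCentral F' D]
        [FiniteDimensional F' D], Module.finrank F' D = 1)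
    (E : Type u) [Field E] [Algebra K E] [FiniteDimensional K E] [Algebra.IsSeparable K E]
    (D : Type u) [DivisionRing D] [Algebra E D] [Algebra.IsCentral E D] [FiniteDimensional E D]
    (M : Type u) [Field M] [Algebra K M] [Algebra E M] [Algebra F M] [IsScalarTower K E M]
    [IsScalarTower K F M] :
    ∃ n : ℕ, Nonempty ((M ⊗[E] D) ≃ₐ[M] Matrix (Fin n) (Fin n) M) := by
  classical
  obtain ⟨θ, hθ⟩ := Field.exists_primitive_element K E
  have hθint : IsIntegral K θ := Algebra.IsIntegral.isIntegral θ
  have hadj : Algebra.adjoin K {θ} = ⊤ := by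
    rw [← IntermediateField.adjoin_simple_toSubalgebra_of_isAlgebraic hθint.isAlgebraic, hθ,
      IntermediateField.top_toSubalgebra]
  have hθMK : IsIntegral K (algebraMap E M θ) := hθint.map (IsScalarTower.toAlgHom K E M)
  have hθMF : IsIntegral F (algebraMap E M θ) := hθMK.tower_top
  have hsepK : IsSeparable K (algebraMap E M θ) := by
    have h1 : IsSeparable K θ := Algebra.IsSeparable.isSeparable K θ
    unfold IsSeparable at h1 ⊢
    rwa [minpoly.algebraMap_eq (algebraMap E M).injective]
  have hsepF : IsSeparable F (algebraMap E M θ) := IsSeparable.tower_top F hsepK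
  let F' : IntermediateField F M := IntermediateField.adjoin F {algebraMap E M θ}
  haveI : FiniteDimensional F F' := IntermediateField.adjoin.finiteDimensional hθMF
  haveI : Algebra.IsSeparable F F' :=
    (IntermediateField.isSeparable_adjoin_simple_iff_isSeparable F M).2 hsepF
  have hmem : ∀ e : E, algebraMap E M e ∈ F' := by
    intro e
    have h1 : Algebra.adjoin K {θ} ≤
        (F'.toSubalgebra.restrictScalars K).comap (IsScalarTower.toAlgHom K E M) := by
      refine Algebra.adjoin_le ?_
      intro x hx
      rw [Set.mem_singleton_iff] at hx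
      rw [hx]
      exact IntermediateField.mem_adjoin_simple_self F (algebraMap E M θ)
    have h2 : e ∈ Algebra.adjoin K {θ} := by rw [hadj]; exact Algebra.mem_top
    exact h1 h2
  letI algEF' : Algebra E F' := ((algebraMap E M).codRestrict F' hmem).toAlgebra
  haveI : IsScalarTower E F' M := IsScalarTower.of_algebraMap_eq (fun _ => rfl)
  have hS : Curves.Splits E D F' :=
    splits_of_triv (k := E) (A := D) F' (fun D' _ _ _ _ => ha F' D')
  obtain ⟨n, -, hn⟩ := Split.splits_of_tower (K := F') (K' := M) hS
  exact ⟨n, hn⟩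

theorem backward (K F : Type u) [Field K] [Field F] [Algebra K F] [Algebra.IsSeparable K F]
    (hb : ∀ (E : Type u) [Field E] [Algebra K E] [FiniteDimensional K E]
        [Algebra.IsSeparable K E]
        (D : Type u) [DivisionRing D] [Algebra E D] [Algebra.IsCentral E D]
        [FiniteDimensional E D]
        (M : Type u) [Field M] [Algebra K M] [Algebra E M] [Algebra F M] [IsScalarTower K E M]
        [IsScalarTower K F M],
        ∃ n : ℕ, Nonempty ((M ⊗[E] D) ≃ₐ[M] Matrix (Fin n) (Fin n) M))
    (F' : Type u) [Field F'] [Algebra F F'] [FiniteDimensional F F'] [Algebra.IsSeparable F F']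
    (D₀ : Type u) [DivisionRing D₀] [Algebra F' D₀] [Algebra.IsCentral F' D₀]
    [FiniteDimensional F' D₀] :
    Module.finrank F' D₀ = 1 := by
  classical
  letI algKF' : Algebra K F' := ((algebraMap F F').comp (algebraMap K F)).toAlgebra
  haveI : IsScalarTower K F F' := IsScalarTower.of_algebraMap_eq (fun _ => rfl)
  haveI : Algebra.IsSeparable K F' := Algebra.IsSeparable.trans K F F'
  obtain ⟨n, hn⟩ : ∃ n, n = Module.finrank F' D₀ := ⟨_, rfl⟩
  let b : Module.Basis (Fin n) F' D₀ := (Module.finBasis F' D₀).reindex (finCongr hn.symm)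
  let S : Set F' :=
    (Set.range fun p : Fin n × Fin n × Fin n => b.repr (b p.1 * b p.2.1) p.2.2) ∪
      Set.range (fun l : Fin n => b.repr 1 l)
  have hSfin : S.Finite := (Set.finite_range _).union (Set.finite_range _)
  haveI : Finite S := hSfin.to_subtype
  let E : IntermediateField K F' := IntermediateField.adjoin K S
  haveI : FiniteDimensional K E :=
    IntermediateField.finiteDimensional_adjoin
      (fun x _ => (Algebra.IsSeparable.isSeparable K x).isIntegral)
  have hmul : ∀ i j l, b.repr (b i * b j) l ∈ E := fun i j l =>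
    IntermediateField.subset_adjoin K S (Or.inl ⟨(i, j, l), rfl⟩)
  have hone : ∀ l, b.repr 1 l ∈ E := fun l =>
    IntermediateField.subset_adjoin K S (Or.inr ⟨l, rfl⟩)
  let P : Submodule E D₀ := Submodule.span E (Set.range b)
  have hsmul : ∀ (c : F') (hc : c ∈ E) (d : D₀), c • d = (⟨c, hc⟩ : E) • d := fun _ _ _ => rfl
  have hb_mem : ∀ l, b l ∈ P := fun l => Submodule.subset_span ⟨l, rfl⟩
  have hP1 : (1 : D₀) ∈ P := by
    rw [← b.sum_repr 1]
    refine Submodule.sum_mem _ (fun l _ => ?_)
    rw [hsmul _ (hone l)]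
    exact Submodule.smul_mem _ _ (hb_mem l)
  have hbb : ∀ i j, b i * b j ∈ P := by
    intro i j
    rw [← b.sum_repr (b i * b j)]
    refine Submodule.sum_mem _ (fun l _ => ?_)
    rw [hsmul _ (hmul i j l)]
    exact Submodule.smul_mem _ _ (hb_mem l)
  have hPmul : ∀ x y, x ∈ P → y ∈ P → x * y ∈ P := by
    intro x y hx hy
    have h1 : x * y ∈ P * P := Submodule.mul_mem_mul hx hy
    have h2 : P * P ≤ P := by
      show Submodule.span E (Set.range b) * Submodule.span E (Set.range b) ≤ P
      rw [Submodule.span_mul_span]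
      refine Submodule.span_le.2 ?_
      rintro _ ⟨_, ⟨i, rfl⟩, _, ⟨j, rfl⟩, rfl⟩
      exact hbb i j
    exact h2 h1
  let DE : Subalgebra E D₀ := P.toSubalgebra hP1 hPmul
  let v : Fin n → DE := fun l => ⟨b l, hb_mem l⟩
  have hinjE : Function.Injective fun r : E => r • (1 : F') := by
    intro x y hxy
    have h : algebraMap E F' x = algebraMap E F' y := by
      simpa [Algebra.smul_def] using hxy
    exact (algebraMap E F').injective h
  have hliE : LinearIndependent E (b : Fin n → D₀) :=
    b.linearIndependent.restrict_scalars hinjE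
  have hcomp : (DE.val.toLinearMap : DE → D₀) ∘ v = b := rfl
  have hv : LinearIndependent E v := by
    refine LinearIndependent.of_comp (DE.val.toLinearMap) ?_
    rw [hcomp]
    exact hliE
  have hsp : Submodule.span E (Set.range v) = ⊤ := by
    apply Submodule.map_injective_of_injective (f := DE.val.toLinearMap) Subtype.val_injective
    rw [Submodule.map_span, ← Set.range_comp, Submodule.map_top, hcomp]
    ext y
    constructor
    · intro hy
      exact LinearMap.mem_range.2 ⟨⟨y, hy⟩, rfl⟩
    · intro hy
      obtain ⟨x, rfl⟩ := LinearMap.mem_range.1 hy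
      exact x.2
  let bE : Module.Basis (Fin n) E DE := Module.Basis.mk hv hsp.ge
  haveI : FiniteDimensional E DE := Module.Finite.of_basis bE
  have hfrE : Module.finrank E DE = n := by
    rw [Module.finrank_eq_card_basis bE, Fintype.card_fin]
  let μ : F' ⊗[E] DE →ₐ[F'] D₀ :=
    Algebra.TensorProduct.lift (Algebra.ofId F' D₀) DE.val
      (fun x y => Algebra.commute_algebraMap_left x (y : D₀))
  have hμsurj : Function.Surjective μ := by
    intro d
    refine ⟨∑ l, (b.repr d l) ⊗ₜ[E] v l, ?_⟩
    rw [map_sum]
    conv_rhs => rw [← b.sum_repr d]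
    refine Finset.sum_congr rfl (fun l _ => ?_)
    rw [Algebra.TensorProduct.lift_tmul, Algebra.smul_def]
    rfl
  have hμinj : Function.Injective μ :=
    (LinearMap.injective_iff_surjective_of_finrank_eq_finrank
      (f := μ.toLinearMap) (by rw [Module.finrank_baseChange, hfrE, hn])).2 hμsurj
  let eμ : F' ⊗[E] DE ≃ₐ[F'] D₀ := AlgEquiv.ofBijective μ ⟨hμinj, hμsurj⟩
  haveI : Algebra.IsCentral F' (F' ⊗[E] DE) := Algebra.IsCentral.of_algEquiv F' _ _ eμ.symm
  haveI : IsSimpleRing (F' ⊗[E] DE) :=
    IsSimpleRing.of_ringEquiv eμ.symm.toRingEquiv inferInstance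
  obtain ⟨hcE, hsE⟩ := Split.isCentral_isSimpleRing_of_baseChange (k := E) (A := DE) (K := F')
  haveI := hcE
  haveI := hsE
  haveI : IsArtinianRing DE := IsArtinianRing.of_finite E _
  obtain ⟨r, hr, D₁, _, _, _, ⟨eW⟩⟩ :=
    IsSimpleRing.exists_algEquiv_matrix_divisionRing_finite E DE
  obtain ⟨hr0, hc1, hf1⟩ := Index.div_props E DE r D₁ eW
  haveI := hc1
  haveI := hf1
  obtain ⟨m, ⟨eM⟩⟩ := hb E D₁ F'
  have hm : m ≠ 0 := by
    rintro rfl
    have h1 : Module.finrank E D₁ = 0 ^ 2 := Split.finrank_of_splits_equiv eM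
    have h2 : 0 < Module.finrank E D₁ := Module.finrank_pos
    rw [h1] at h2
    simp at h2
  have hS1 : Curves.Splits E D₁ F' := ⟨m, hm, ⟨eM⟩⟩
  have hS2 : Curves.Splits E (Matrix (Fin r) (Fin r) D₁) F' := Brauer.splits_matrix r hr0 hS1
  haveI : Algebra.IsCentral E (Matrix (Fin r) (Fin r) D₁) := Brauer.isCentral_of_algEquiv' eW
  haveI : IsSimpleRing (Matrix (Fin r) (Fin r) D₁) :=
    IsSimpleRing.of_ringEquiv eW.toRingEquiv inferInstance
  haveI : FiniteDimensional E (Matrix (Fin r) (Fin r) D₁) :=
    Module.Finite.equiv eW.toLinearEquiv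
  have hS3 : Curves.Splits E DE F' := Brauer.splits_of_algEquiv eW hS2
  obtain ⟨s, hs, ⟨eS⟩⟩ := hS3
  let g : D₀ ≃ₐ[F'] Matrix (Fin s) (Fin s) F' := eμ.symm.trans eS
  have hD0 : Module.finrank F' D₀ = s ^ 2 := by
    rw [LinearEquiv.finrank_eq g.toLinearEquiv, Module.finrank_matrix]
    simp [sq]
  have hs1 : s = 1 := by
    by_contra hne
    have h2 : 2 ≤ s := by omega
    let i0 : Fin s := ⟨0, by omega⟩
    let i1 : Fin s := ⟨1, by omega⟩
    have hne01 : i1 ≠ i0 := by
      intro h
      have := congrArg Fin.val h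
      simp [i0, i1] at this
    let N : Matrix (Fin s) (Fin s) F' := Matrix.single i0 i1 1
    have hN2 : N * N = 0 := Matrix.single_mul_single_of_ne (c := (1 : F')) i0 i1 i0 hne01 1
    have hN0 : N ≠ 0 := by
      intro h
      have := congrFun (congrFun h i0) i1
      simp [N] at this
    have hx : g.symm N * g.symm N = 0 := by rw [← map_mul, hN2, map_zero]
    have hx0 : g.symm N = 0 := mul_self_eq_zero.1 hx
    apply hN0
    have := congrArg g hx0
    simpa using this
  rw [hD0, hs1]
  norm_num

end Groth.Agent.Lib.Lead.SepRestr
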