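import Mathlib
import Groth.Agent.Lib.Lead.GenPos

/-!
# Serre's splitting theorem and Bass's cancellation theorem (projective case)

Over a Noetherian ring of Krull dimension `≤ d`, a finitely generated projective module all of
whose local ranks are `≥ d + 1` has a unimodular element (`exists_unimodular_of_rank`), and such
modules can be cancelled from stable isomorphisms (`cancel`, `cancel_free`).
-/

set_option autoImplicit false
universe u

namespace Groth.Agent.Lib.Lead.SerreBass

open Module TensorProduct Groth.Agent.Lib.Lead.GenPos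

variable {R : Type u} [CommRing R]

/-- A presentation of a module as a retract of `R^N`. -/
structure Pres (R : Type u) [CommRing R] (P : Type u) [AddCommGroup P] [Module R P] where
  N : ℕ
  π : (Fin N → R) →ₗ[R] P
  s : P →ₗ[R] (Fin N → R)
  hs : π ∘ₗ s = LinearMap.id

section pres
variable {P : Type u} [AddCommGroup P] [Module R P]

theorem exists_pres (R : Type u) [CommRing R] (P : Type u) [AddCommGroup P] [Module R P]
    [Module.Finite R P] [Module.Projective R P] : Nonempty (Pres R P) := by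
  obtain ⟨n, f, hf⟩ := Module.Finite.exists_fin' R P
  obtain ⟨s, hs⟩ := Module.projective_lifting_property f LinearMap.id hf
  exact ⟨⟨n, f, s, hs⟩⟩

/-- The standard basis vectors. -/
def bv (N : ℕ) (i : Fin N) : Fin N → R := fun j => if i = j then 1 else 0

/-- The columns of the idempotent `s ∘ π`. -/
def Pres.e (pr : Pres R P) (i : Fin pr.N) : Fin pr.N → R := pr.s (pr.π (bv pr.N i))

theorem Pres.πs (pr : Pres R P) (q : P) : pr.π (pr.s q) = q := LinearMap.congr_fun pr.hs q

theorem Pres.sπ (pr : Pres R P) (x : Fin pr.N → R) : pr.s (pr.π x) = ∑ i, x i • pr.e i :=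
  LinearMap.pi_apply_eq_sum_univ (pr.s ∘ₗ pr.π) x

theorem Pres.π_eq_sum (pr : Pres R P) (x : Fin pr.N → R) :
    pr.π x = ∑ i, x i • pr.π (bv pr.N i) :=
  LinearMap.pi_apply_eq_sum_univ pr.π x

theorem Pres.span_e (pr : Pres R P) :
    Submodule.span R (Set.range pr.e) = LinearMap.range pr.s := by
  apply le_antisymm
  · rw [Submodule.span_le]
    rintro _ ⟨i, rfl⟩
    exact ⟨_, rfl⟩
  · rintro _ ⟨q, rfl⟩
    have h1 : pr.s q = ∑ i, (pr.s q) i • pr.e i := by
      conv_lhs => rw [← pr.πs q]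
      exact pr.sπ _
    rw [h1]
    exact Submodule.sum_mem _ (fun i _ => Submodule.smul_mem _ _ (Submodule.subset_span ⟨i, rfl⟩))

theorem Pres.fibre_le_rho (pr : Pres R P) (p : PrimeSpectrum R) :
    finrank p.asIdeal.ResidueField (p.asIdeal.ResidueField ⊗[R] P) ≤ rho p pr.e := by
  classical
  let l : P →ₗ[R] (Fin pr.N → p.asIdeal.ResidueField) := (red p pr.N) ∘ₗ pr.s
  let Φ : p.asIdeal.ResidueField ⊗[R] P →ₗ[p.asIdeal.ResidueField]
      (Fin pr.N → p.asIdeal.ResidueField) := LinearMap.liftBaseChange p.asIdeal.ResidueField l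
  let Ψ : (Fin pr.N → p.asIdeal.ResidueField) →ₗ[p.asIdeal.ResidueField]
      p.asIdeal.ResidueField ⊗[R] P :=
    Fintype.linearCombination p.asIdeal.ResidueField
      (fun i => (1 : p.asIdeal.ResidueField) ⊗ₜ[R] pr.π (bv pr.N i))
  have hΦ : ∀ (x : p.asIdeal.ResidueField) (q : P), Φ (x ⊗ₜ q) = x • l q := fun x q =>
    LinearMap.liftBaseChange_tmul _ _ _ _
  have hΨl : ∀ q : P, Ψ (l q) = (1 : p.asIdeal.ResidueField) ⊗ₜ[R] q := by
    intro q
    show Fintype.linearCombination p.asIdeal.ResidueField _ (l q) = _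
    rw [Fintype.linearCombination_apply]
    have h3 : ∀ i, (l q) i • ((1 : p.asIdeal.ResidueField) ⊗ₜ[R] pr.π (bv pr.N i)) =
        (1 : p.asIdeal.ResidueField) ⊗ₜ[R] ((pr.s q i) • pr.π (bv pr.N i)) := by
      intro i
      show algebraMap R p.asIdeal.ResidueField (pr.s q i) • _ = _
      rw [TensorProduct.smul_tmul', smul_eq_mul, mul_one, Algebra.algebraMap_eq_smul_one,
        TensorProduct.smul_tmul]
    rw [Finset.sum_congr rfl (fun i _ => h3 i), ← TensorProduct.tmul_sum,
      ← pr.π_eq_sum, pr.πs]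
  have hΨΦ : ∀ t, Ψ (Φ t) = t := by
    intro t
    induction t using TensorProduct.induction_on with
    | zero => simp
    | add a b ha hb => rw [map_add, map_add, ha, hb]
    | tmul x q =>
      rw [hΦ, map_smul, hΨl, TensorProduct.smul_tmul', smul_eq_mul, mul_one]
  have hinj : Function.Injective Φ := Function.LeftInverse.injective hΨΦ
  have hrange : LinearMap.range Φ ≤
      Submodule.span p.asIdeal.ResidueField (Set.range fun i => red p pr.N (pr.e i)) := by
    rintro _ ⟨t, rfl⟩
    induction t using TensorProduct.induction_on with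
    | zero => simp
    | add a b ha hb => rw [map_add]; exact Submodule.add_mem _ ha hb
    | tmul x q =>
      rw [hΦ]
      refine Submodule.smul_mem _ _ ?_
      have h4 : pr.s q = ∑ i, (pr.s q) i • pr.e i := by
        conv_lhs => rw [← pr.πs q]
        exact pr.sπ _
      show red p pr.N (pr.s q) ∈ _
      rw [h4, map_sum]
      refine Submodule.sum_mem _ (fun i _ => ?_)
      rw [red_smul]
      exact Submodule.smul_mem _ _ (Submodule.subset_span ⟨i, rfl⟩)
  calc finrank p.asIdeal.ResidueField (p.asIdeal.ResidueField ⊗[R] P)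
      = finrank p.asIdeal.ResidueField (LinearMap.range Φ) :=
        (LinearMap.finrank_range_of_inj hinj).symm
    _ ≤ _ := Submodule.finrank_mono hrange

theorem Pres.rank_le_rho (pr : Pres R P) [Module.Finite R P] [Module.Projective R P]
    (p : PrimeSpectrum R) : Module.rankAtStalk P p ≤ rho p pr.e := by
  rw [Module.rankAtStalk_eq p]
  exact pr.fibre_le_rho p

end pres

/-- A vector of `R^N` which is nonzero modulo every prime is unimodular. -/
theorem exists_dot_eq_one {N : ℕ} (x : Fin N → R)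
    (h : ∀ p : PrimeSpectrum R, ∃ j, x j ∉ p.asIdeal) : ∃ b : Fin N → R, ∑ j, b j * x j = 1 := by
  have htop : Ideal.span (Set.range x) = ⊤ := by
    by_contra hne
    obtain ⟨M, hM, hle⟩ := Ideal.exists_le_maximal _ hne
    obtain ⟨j, hj⟩ := h ⟨M, hM.isPrime⟩
    exact hj (hle (Ideal.subset_span ⟨j, rfl⟩))
  have h1 : (1 : R) ∈ Ideal.span (Set.range x) := by rw [htop]; trivial
  exact Ideal.mem_span_range_iff_exists_fun.1 h1

/-- The linear form `v ↦ ∑ b j * v j`. -/
noncomputable def dotForm {N : ℕ} (b : Fin N → R) : (Fin N → R) →ₗ[R] R :=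
  ∑ j, b j • (LinearMap.proj j : (Fin N → R) →ₗ[R] R)

theorem dotForm_apply {N : ℕ} (b v : Fin N → R) : dotForm b v = ∑ j, b j * v j := by
  simp [dotForm, LinearMap.sum_apply]

theorem coheight_le_of_dim {d : ℕ} (hdim : ringKrullDim R ≤ d) (p : PrimeSpectrum R) :
    Order.coheight p ≤ (d : ℕ∞) := by
  have h1 : ((Order.coheight p : ℕ∞) : WithBot ℕ∞) ≤ ringKrullDim R := Order.coheight_le_krullDim p
  have h2 := h1.trans hdim
  exact_mod_cast h2

section main
variable [IsNoetherianRing R]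

/-- **Serre's splitting theorem**: existence of a unimodular element. -/
theorem exists_unimodular_of_rank (d : ℕ) (hdim : ringKrullDim R ≤ d)
    (P : Type u) [AddCommGroup P] [Module R P] [Module.Finite R P] [Module.Projective R P]
    (hrk : ∀ p : PrimeSpectrum R, d + 1 ≤ Module.rankAtStalk P p) :
    ∃ (q : P) (ψ : P →ₗ[R] R), ψ q = 1 := by
  obtain ⟨pr⟩ := exists_pres R P
  let m : Fin (pr.N + 1) → (Fin pr.N → R) := Fin.cons (α := fun _ => Fin pr.N → R) 0 pr.e
  have hm0 : m 0 = 0 := rfl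
  have hms : (fun i : Fin pr.N => m i.succ) = pr.e := by
    funext i
    exact Fin.cons_succ (α := fun _ => Fin pr.N → R) 0 pr.e i
  have hyp : ∀ p ∈ (Set.univ : Set (PrimeSpectrum R)),
      min ((pr.N + 1 : ℕ) : ℕ∞) (Order.coheight p + 1) ≤ (rho p m : ℕ∞) := by
    intro p _
    have h1 : rho p pr.e ≤ rho p m := by
      apply rho_mono
      intro i
      refine Submodule.subset_span ⟨i.succ, ?_⟩
      show red p pr.N (m i.succ) = _
      rw [← hms]
    have h2 : d + 1 ≤ rho p m := (hrk p).trans ((pr.rank_le_rho p).trans h1)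
    have h3 : Order.coheight p + 1 ≤ ((d + 1 : ℕ) : ℕ∞) := by
      push_cast
      gcongr
      exact coheight_le_of_dim hdim p
    exact (min_le_right _ _).trans (h3.trans (by exact_mod_cast h2))
  obtain ⟨y, hy, hyX⟩ := gp_iter Set.univ (fun _ _ _ _ => Set.mem_univ _) pr.N m hyp
  rw [hms, pr.span_e] at hy
  obtain ⟨q, rfl⟩ := hy
  have hx : ∀ p : PrimeSpectrum R, ∃ j, (pr.s q) j ∉ p.asIdeal := by
    intro p
    obtain ⟨j, hj⟩ := hyX p (Set.mem_univ p)
    rw [hm0, zero_add] at hj
    exact ⟨j, hj⟩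
  obtain ⟨b, hb⟩ := exists_dot_eq_one _ hx
  refine ⟨q, dotForm b ∘ₗ pr.s, ?_⟩
  rw [LinearMap.comp_apply, dotForm_apply, hb]

/-- Bass's lemma: a unimodular element `(p₀, a)` of `P ⊕ R` can be moved to a unimodular element
`p₀ + a y₀` of `P` when the local ranks of `P` exceed the dimension. -/
theorem exists_add_smul_unimodular (d : ℕ) (hdim : ringKrullDim R ≤ d)
    (P : Type u) [AddCommGroup P] [Module R P] [Module.Finite R P] [Module.Projective R P]
    (hrk : ∀ p : PrimeSpectrum R, d + 1 ≤ Module.rankAtStalk P p)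
    (p₀ : P) (a : R) (lam : P →ₗ[R] R) (mu : R) (h : lam p₀ + mu * a = 1) :
    ∃ (y₀ : P) (ψ : P →ₗ[R] R), ψ (p₀ + a • y₀) = 1 := by
  obtain ⟨pr⟩ := exists_pres R P
  let m : Fin (pr.N + 1) → (Fin pr.N → R) :=
    Fin.cons (α := fun _ => Fin pr.N → R) (pr.s p₀) (fun i => a • pr.e i)
  have hm0 : m 0 = pr.s p₀ := rfl
  have hms : (fun i : Fin pr.N => m i.succ) = fun i => a • pr.e i := by
    funext i
    exact Fin.cons_succ (α := fun _ => Fin pr.N → R) (pr.s p₀) (fun i => a • pr.e i) i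
  let X : Set (PrimeSpectrum R) := {p | a ∉ p.asIdeal}
  have hX : ∀ p ∈ X, ∀ q : PrimeSpectrum R, q ≤ p → q ∈ X := fun p hp q hqp haq => hp (hqp haq)
  have hyp : ∀ p ∈ X,
      min ((pr.N + 1 : ℕ) : ℕ∞) (Order.coheight p + 1) ≤ (rho p m : ℕ∞) := by
    intro p hp
    have ha0 : algebraMap R p.asIdeal.ResidueField a ≠ 0 := fun h0 =>
      hp (Ideal.algebraMap_residueField_eq_zero.1 h0)
    have h1 : rho p pr.e ≤ rho p m := by
      apply rho_mono
      intro i
      have h5 : red p pr.N (m i.succ) ∈ Submodule.span p.asIdeal.ResidueField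
          (Set.range fun i => red p pr.N (m i)) := Submodule.subset_span ⟨i.succ, rfl⟩
      have h6 : m i.succ = a • pr.e i := congrFun hms i
      rw [h6, red_smul] at h5
      have h7 := Submodule.smul_mem _ (algebraMap R p.asIdeal.ResidueField a)⁻¹ h5
      rwa [smul_smul, inv_mul_cancel₀ ha0, one_smul] at h7
    have h2 : d + 1 ≤ rho p m := (hrk p).trans ((pr.rank_le_rho p).trans h1)
    have h3 : Order.coheight p + 1 ≤ ((d + 1 : ℕ) : ℕ∞) := by
      push_cast
      gcongr
      exact coheight_le_of_dim hdim p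
    exact (min_le_right _ _).trans (h3.trans (by exact_mod_cast h2))
  obtain ⟨y, hy, hyX⟩ := gp_iter X hX pr.N m hyp
  rw [hms] at hy
  have hsub : Submodule.span R (Set.range fun i => a • pr.e i) ≤
      (Submodule.span R (Set.range pr.e)).map (LinearMap.lsmul R (Fin pr.N → R) a) := by
    rw [Submodule.span_le]
    rintro _ ⟨i, rfl⟩
    exact ⟨pr.e i, Submodule.subset_span ⟨i, rfl⟩, rfl⟩
  obtain ⟨y₁, hy₁, rfl⟩ := hsub hy
  rw [pr.span_e] at hy₁
  obtain ⟨y₀, rfl⟩ := hy₁
  have hxeq : pr.s (p₀ + a • y₀) = m 0 + (LinearMap.lsmul R (Fin pr.N → R) a) (pr.s y₀) := by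
    rw [hm0, map_add, map_smul]
    rfl
  have hx : ∀ p : PrimeSpectrum R, ∃ j, (pr.s (p₀ + a • y₀)) j ∉ p.asIdeal := by
    intro p
    by_cases hap : a ∈ p.asIdeal
    · by_contra hcon
      push Not at hcon
      have hx0 : ∀ j, (pr.s p₀) j ∈ p.asIdeal := by
        intro j
        have h8 := hcon j
        rw [map_add, map_smul, Pi.add_apply, Pi.smul_apply, smul_eq_mul] at h8
        have h9 : a * (pr.s y₀) j ∈ p.asIdeal := Ideal.mul_mem_right _ _ hap
        have h10 := Ideal.sub_mem _ h8 h9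
        rwa [add_sub_cancel_right] at h10
      have hlam : lam p₀ ∈ p.asIdeal := by
        have h11 : lam p₀ = ∑ i, (pr.s p₀) i • lam (pr.π (bv pr.N i)) := by
          conv_lhs => rw [← pr.πs p₀, pr.π_eq_sum, map_sum]
          exact Finset.sum_congr rfl (fun i _ => by rw [map_smul])
        rw [h11]
        exact Ideal.sum_mem _ (fun i _ => Ideal.mul_mem_right _ _ (hx0 i))
      have h1mem : (1 : R) ∈ p.asIdeal := by
        rw [← h]
        exact Ideal.add_mem _ hlam (Ideal.mul_mem_left _ _ hap)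
      exact p.isPrime.ne_top ((Ideal.eq_top_iff_one _).2 h1mem)
    · obtain ⟨j, hj⟩ := hyX p hap
      exact ⟨j, by rw [hxeq]; exact hj⟩
  obtain ⟨b, hb⟩ := exists_dot_eq_one _ hx
  refine ⟨y₀, dotForm b ∘ₗ pr.s, ?_⟩
  rw [LinearMap.comp_apply, dotForm_apply, hb]

end main

/-- An isomorphism `P ⊕ R ≃ P' ⊕ R` fixing `(0, 1)` induces `P ≃ P'`. -/
theorem equiv_of_fix {P P' : Type u} [AddCommGroup P] [Module R P] [AddCommGroup P'] [Module R P']
    (σ : (P × R) ≃ₗ[R] (P' × R)) (h : σ (0, 1) = (0, 1)) : Nonempty (P ≃ₗ[R] P') := by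
  have h' : σ.symm (0, 1) = (0, 1) := by rw [LinearEquiv.symm_apply_eq, h]
  have key : ∀ (A B : Type u) [AddCommGroup A] [Module R A] [AddCommGroup B] [Module R B]
      (σ : (A × R) ≃ₗ[R] (B × R)), σ (0, 1) = (0, 1) →
      ∀ x : A, (σ.symm ((σ (x, 0)).1, 0)).1 = x := by
    intro A B _ _ _ _ σ h x
    have h1 : ((σ (x, 0)).1, (0 : R)) = σ (x, 0) - (σ (x, 0)).2 • σ (0, 1) := by
      rw [h]
      ext <;> simp
    rw [h1, map_sub, map_smul, LinearEquiv.symm_apply_apply, LinearEquiv.symm_apply_apply]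
    simp
  let α : P →ₗ[R] P' := (LinearMap.fst R P' R) ∘ₗ σ.toLinearMap ∘ₗ (LinearMap.inl R P R)
  let β : P' →ₗ[R] P := (LinearMap.fst R P R) ∘ₗ σ.symm.toLinearMap ∘ₗ (LinearMap.inl R P' R)
  refine ⟨LinearEquiv.ofLinear α β ?_ ?_⟩
  · ext y
    simpa [α, β] using key P' P σ.symm h' y
  · ext x
    simpa [α, β] using key P P' σ h x

section main2
variable [IsNoetherianRing R]

theorem cancel_one (d : ℕ) (hdim : ringKrullDim R ≤ d)
    (P P' : Type u) [AddCommGroup P] [Module R P] [Module.Finite R P] [Module.Projective R P]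
    [AddCommGroup P'] [Module R P']
    (hrk : ∀ p : PrimeSpectrum R, d + 1 ≤ Module.rankAtStalk P p)
    (σ : (P × R) ≃ₗ[R] (P' × R)) : Nonempty (P ≃ₗ[R] P') := by
  set p₀ : P := (σ.symm (0, 1)).1 with hp₀
  set a : R := (σ.symm (0, 1)).2 with ha
  have hv : σ (p₀, a) = (0, 1) := by
    rw [hp₀, ha, Prod.mk.eta, LinearEquiv.apply_symm_apply]
  let lam : P →ₗ[R] R := (LinearMap.snd R P' R) ∘ₗ σ.toLinearMap ∘ₗ (LinearMap.inl R P R)
  have hlam : lam p₀ + (σ (0, 1)).2 * a = 1 := by
    have h1 : ((p₀, a) : P × R) = (p₀, 0) + a • ((0, 1) : P × R) := by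
      ext <;> simp
    have h2 := congrArg Prod.snd hv
    rw [h1, map_add, map_smul] at h2
    simp only [Prod.snd_add, Prod.smul_snd, smul_eq_mul] at h2
    rw [mul_comm] at h2
    exact h2
  obtain ⟨y₀, ψ, hψ⟩ := exists_add_smul_unimodular d hdim P hrk p₀ a lam _ hlam
  set p' : P := p₀ + a • y₀ with hp'
  let τ₁ : (P × R) ≃ₗ[R] (P × R) := (LinearEquiv.prodComm R P R).trans
    (((LinearEquiv.refl R R).skewProd (LinearEquiv.refl R P)
      (LinearMap.toSpanSingleton R P y₀)).trans (LinearEquiv.prodComm R R P))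
  let τ₂ : (P × R) ≃ₗ[R] (P × R) :=
    (LinearEquiv.refl R P).skewProd (LinearEquiv.refl R R) ((1 - a) • ψ)
  let τ₃ : (P × R) ≃ₗ[R] (P × R) := (LinearEquiv.prodComm R P R).trans
    (((LinearEquiv.refl R R).skewProd (LinearEquiv.refl R P)
      (LinearMap.toSpanSingleton R P (-p'))).trans (LinearEquiv.prodComm R R P))
  have h1 : τ₁ (p₀, a) = (p', a) := by
    simp [τ₁, hp', LinearMap.toSpanSingleton_apply]
  have h2 : τ₂ (p', a) = (p', 1) := by
    simp [τ₂, hψ]
  have h3 : τ₃ (p', 1) = (0, 1) := by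
    simp [τ₃, LinearMap.toSpanSingleton_apply]
  let τ : (P × R) ≃ₗ[R] (P × R) := τ₁.trans (τ₂.trans τ₃)
  have hτ : τ (p₀, a) = (0, 1) := by
    show τ₃ (τ₂ (τ₁ (p₀, a))) = (0, 1)
    rw [h1, h2, h3]
  have hτ' : τ.symm (0, 1) = (p₀, a) := by rw [LinearEquiv.symm_apply_eq, hτ]
  refine equiv_of_fix (τ.symm.trans σ) ?_
  rw [LinearEquiv.trans_apply, hτ', hv]

theorem cancel (d : ℕ) (hdim : ringKrullDim R ≤ d) :
    ∀ (n : ℕ) (P P' : Type u) [AddCommGroup P] [Module R P] [Module.Finite R P]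
      [Module.Projective R P] [AddCommGroup P'] [Module R P'],
      (∀ p : PrimeSpectrum R, d + 1 ≤ Module.rankAtStalk P p) →
      ((P × (Fin n → R)) ≃ₗ[R] (P' × (Fin n → R))) → Nonempty (P ≃ₗ[R] P') := by
  intro n
  induction n with
  | zero =>
    intro P P' _ _ _ _ _ _ _ e
    exact ⟨(LinearEquiv.prodUnique (R := R) (M := P) (M₂ := Fin 0 → R)).symm.trans
      (e.trans (LinearEquiv.prodUnique (R := R) (M := P') (M₂ := Fin 0 → R)))⟩
  | succ n ih =>
    intro P P' _ _ _ _ _ _ hrk e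
    let c : (Fin (n + 1) → R) ≃ₗ[R] ((Fin n → R) × R) :=
      (Fin.consLinearEquiv R (fun _ : Fin (n + 1) => R)).symm.trans
        (LinearEquiv.prodComm R R (Fin n → R))
    let E₁ : (P × (Fin (n + 1) → R)) ≃ₗ[R] ((P × (Fin n → R)) × R) :=
      (LinearEquiv.prodCongr (LinearEquiv.refl R P) c).trans
        (LinearEquiv.prodAssoc R P (Fin n → R) R).symm
    let E₁' : (P' × (Fin (n + 1) → R)) ≃ₗ[R] ((P' × (Fin n → R)) × R) :=
      (LinearEquiv.prodCongr (LinearEquiv.refl R P') c).trans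
        (LinearEquiv.prodAssoc R P' (Fin n → R) R).symm
    have hrk1 : ∀ p : PrimeSpectrum R, d + 1 ≤ Module.rankAtStalk (P × (Fin n → R)) p := by
      intro p
      rw [Module.rankAtStalk_prod]
      exact (hrk p).trans (Nat.le_add_right _ _)
    obtain ⟨e'⟩ := cancel_one d hdim (P × (Fin n → R)) (P' × (Fin n → R)) hrk1
      (E₁.symm.trans (e.trans E₁'))
    exact ih P P' hrk e'

theorem cancel_free (d : ℕ) (hdim : ringKrullDim R ≤ d)
    (P P' F : Type u) [AddCommGroup P] [Module R P] [Module.Finite R P]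
    [Module.Projective R P] [AddCommGroup P'] [Module R P'] [AddCommGroup F] [Module R F]
    [Module.Free R F] [Module.Finite R F]
    (hrk : ∀ p : PrimeSpectrum R, d + 1 ≤ Module.rankAtStalk P p)
    (e : (P × F) ≃ₗ[R] (P' × F)) : Nonempty (P ≃ₗ[R] P') := by
  let b := (Module.Free.chooseBasis R F).reindex (Fintype.equivFin _)
  let c : F ≃ₗ[R] (Fin (Fintype.card (Module.Free.ChooseBasisIndex R F)) → R) := b.equivFun
  exact cancel d hdim _ P P' hrk
    ((LinearEquiv.prodCongr (LinearEquiv.refl R P) c).symm.trans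
      (e.trans (LinearEquiv.prodCongr (LinearEquiv.refl R P') c)))

/-- Splitting off a free summand of rank `k` when all local ranks are `≥ d + k`. -/
theorem exists_split (d : ℕ) (hdim : ringKrullDim R ≤ d) :
    ∀ (k : ℕ) (P : Type u) [AddCommGroup P] [Module R P] [Module.Finite R P]
      [Module.Projective R P],
      (∀ p : PrimeSpectrum R, d + k ≤ Module.rankAtStalk P p) →
      ∃ (f : (Fin k → R) →ₗ[R] P) (g : P →ₗ[R] (Fin k → R)), g ∘ₗ f = LinearMap.id := by
  intro k
  induction k with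
  | zero =>
    intro P _ _ _ _ _
    exact ⟨0, 0, LinearMap.ext fun x => Subsingleton.elim _ _⟩
  | succ k ih =>
    intro P _ _ _ _ hrk
    obtain ⟨q, ψ, hq⟩ := exists_unimodular_of_rank d hdim P
      (fun p => by have := hrk p; omega)
    -- the splitting `P ≃ R × ker ψ`
    let fwd : P →ₗ[R] (R × LinearMap.ker ψ) :=
      LinearMap.prod ψ (LinearMap.codRestrict (LinearMap.ker ψ)
        (LinearMap.id - (LinearMap.toSpanSingleton R P q) ∘ₗ ψ) (fun x => by
          rw [LinearMap.mem_ker, LinearMap.sub_apply, LinearMap.comp_apply, map_sub,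
            LinearMap.id_apply, LinearMap.toSpanSingleton_apply, map_smul, hq, smul_eq_mul,
            mul_one, sub_self]))
    let bwd : (R × LinearMap.ker ψ) →ₗ[R] P :=
      LinearMap.coprod (LinearMap.toSpanSingleton R P q) (LinearMap.ker ψ).subtype
    have hfb : fwd ∘ₗ bwd = LinearMap.id := by
      apply LinearMap.ext
      rintro ⟨r, y, hy⟩
      have hy' : ψ y = 0 := hy
      apply Prod.ext
      · simp [fwd, bwd, LinearMap.toSpanSingleton_apply, hq, hy']
      · apply Subtype.ext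
        simp [fwd, bwd, LinearMap.toSpanSingleton_apply, hq, hy']
    have hbf : bwd ∘ₗ fwd = LinearMap.id := by
      apply LinearMap.ext
      intro x
      simp [fwd, bwd, LinearMap.toSpanSingleton_apply]
    let ε : P ≃ₗ[R] (R × LinearMap.ker ψ) := LinearEquiv.ofLinear fwd bwd hfb hbf
    haveI : Module.Finite R (LinearMap.ker ψ) :=
      Module.Finite.of_surjective ((LinearMap.snd R R (LinearMap.ker ψ)) ∘ₗ ε.toLinearMap)
        (fun y => ⟨ε.symm (0, y), by simp⟩)
    haveI : Module.Projective R (LinearMap.ker ψ) :=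
      Module.Projective.of_split (R := R) (M := P) ((LinearMap.ker ψ).subtype)
        ((LinearMap.snd R R (LinearMap.ker ψ)) ∘ₗ ε.toLinearMap) (by
          apply LinearMap.ext
          rintro ⟨y, hy⟩
          have hy' : ψ y = 0 := hy
          apply Subtype.ext
          simp [ε, fwd, LinearMap.toSpanSingleton_apply, hy'])
    have hrk' : ∀ p : PrimeSpectrum R, d + k ≤ Module.rankAtStalk (LinearMap.ker ψ) p := by
      intro p
      haveI : Nontrivial R := ⟨⟨0, 1, fun h01 => p.isPrime.ne_top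
        ((Ideal.eq_top_iff_one _).2 (h01 ▸ p.asIdeal.zero_mem))⟩⟩
      have h1 := congrFun (Module.rankAtStalk_eq_of_equiv ε) p
      rw [Module.rankAtStalk_prod] at h1
      simp only [Pi.add_apply, Module.rankAtStalk_self, Pi.one_apply] at h1
      have h2 := hrk p
      omega
    obtain ⟨f', g', hfg'⟩ := ih (LinearMap.ker ψ) hrk'
    have hfg'' : ∀ w, g' (f' w) = w := fun w => LinearMap.congr_fun hfg' w
    let c : (Fin (k + 1) → R) ≃ₗ[R] (R × (Fin k → R)) :=
      (Fin.consLinearEquiv R (fun _ : Fin (k + 1) => R)).symm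
    refine ⟨ε.symm.toLinearMap ∘ₗ (LinearMap.prodMap LinearMap.id f') ∘ₗ c.toLinearMap,
      c.symm.toLinearMap ∘ₗ (LinearMap.prodMap LinearMap.id g') ∘ₗ ε.toLinearMap, ?_⟩
    apply LinearMap.ext
    intro v
    simp only [LinearMap.comp_apply, LinearEquiv.coe_coe, LinearEquiv.apply_symm_apply,
      LinearMap.prodMap_apply, LinearMap.id_apply, hfg'', LinearEquiv.symm_apply_apply]
    rw [Prod.mk.eta, LinearEquiv.symm_apply_apply]

theorem isCompl_ker_range {A B : Type*} [AddCommGroup A] [Module R A] [AddCommGroup B]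
    [Module R B] (f : A →ₗ[R] B) (g : B →ₗ[R] A) (h : g ∘ₗ f = LinearMap.id) :
    IsCompl (LinearMap.ker g) (LinearMap.range f) := by
  have h1 : ∀ v, g (f v) = v := fun v => LinearMap.congr_fun h v
  constructor
  · rw [Submodule.disjoint_def]
    rintro x hx ⟨v, rfl⟩
    have h2 : v = 0 := by
      rw [← h1 v]
      exact hx
    rw [h2, map_zero]
  · rw [Submodule.codisjoint_iff_exists_add_eq]
    intro z
    refine ⟨z - f (g z), f (g z), ?_, ⟨g z, rfl⟩, by abel⟩
    rw [LinearMap.mem_ker, map_sub, h1, sub_self]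

end main2

/-- `(ι → A × B) ≃ (ι → A) × (ι → B)`. -/
def piProd (R : Type u) [CommRing R] (ι : Type*) (A B : Type*) [AddCommGroup A] [Module R A]
    [AddCommGroup B] [Module R B] : (ι → A × B) ≃ₗ[R] (ι → A) × (ι → B) where
  toFun f := (fun i => (f i).1, fun i => (f i).2)
  invFun g := fun i => (g.1 i, g.2 i)
  map_add' _ _ := rfl
  map_smul' _ _ := rfl
  left_inv _ := rfl
  right_inv _ := rfl

end Groth.Agent.Lib.Lead.SerreBass
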