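import Mathlib
import Groth.Agent.Lib.Lead.GenPosMax

/-!
# Serre's splitting proposition over the maximal spectrum

For a module `M` over a ring `R` with Noetherian maximal spectrum, `Vq M x = M(x)/B(x)` is the
quotient of the fibre `M/xM` by the classes of the elements on which all linear forms take values in
`x`.  `main` is Serre's proposition on sections in general position.
-/

set_option autoImplicit false
universe u

namespace Groth.Agent.Lib.Lead.SerreMax

open Module TopologicalSpace Groth.Agent.Lib.Lead.GenPosMax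

variable {R : Type u} [CommRing R] (M : Type u) [AddCommGroup M] [Module R M]

/-- The subspace `B(x)` of `M/xM`. -/
def Bq (x : MaximalSpectrum R) :
    Submodule (R ⧸ x.asIdeal) (M ⧸ (x.asIdeal • ⊤ : Submodule R M)) :=
  Submodule.span (R ⧸ x.asIdeal)
    ((x.asIdeal • ⊤ : Submodule R M).mkQ '' {m : M | ∀ φ : M →ₗ[R] R, φ m ∈ x.asIdeal})

/-- The space `V(x) = M(x)/B(x)`. -/
abbrev Vq (x : MaximalSpectrum R) : Type u := (M ⧸ (x.asIdeal • ⊤ : Submodule R M)) ⧸ Bq M x

/-- The class in `V(x)` of an element of `M`. -/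
def img (x : MaximalSpectrum R) (m : M) : Vq M x :=
  (Bq M x).mkQ ((x.asIdeal • ⊤ : Submodule R M).mkQ m)

theorem img_add (x : MaximalSpectrum R) (m m' : M) :
    img M x (m + m') = img M x m + img M x m' := by
  simp only [img, map_add]

theorem img_smul (x : MaximalSpectrum R) (r : R) (m : M) :
    img M x (r • m) = Ideal.Quotient.mk x.asIdeal r • img M x m := by
  have h1 : (x.asIdeal • ⊤ : Submodule R M).mkQ (r • m) =
      Ideal.Quotient.mk x.asIdeal r • (x.asIdeal • ⊤ : Submodule R M).mkQ m := rfl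
  show (Bq M x).mkQ _ = _ • (Bq M x).mkQ _
  rw [h1, map_smul]

theorem img_sum {ι' : Type*} (x : MaximalSpectrum R) (s : Finset ι') (r : ι' → R) (f : ι' → M) :
    img M x (∑ i ∈ s, r i • f i) =
      ∑ i ∈ s, Ideal.Quotient.mk x.asIdeal (r i) • img M x (f i) := by
  have h := map_sum (AddMonoidHom.mk' (img M x) (img_add M x)) (fun i => r i • f i) s
  simp only [AddMonoidHom.mk'_apply] at h
  rw [h]
  exact Finset.sum_congr rfl (fun i _ => img_smul M x (r i) (f i))

theorem form_mem_of_mem_smul_top (x : MaximalSpectrum R) (m : M)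
    (hm : m ∈ (x.asIdeal • ⊤ : Submodule R M)) (φ : M →ₗ[R] R) : φ m ∈ x.asIdeal := by
  refine Submodule.smul_induction_on hm (fun r hr n _ => ?_) (fun a b ha hb => ?_)
  · rw [map_smul, smul_eq_mul]
    exact Ideal.mul_mem_right _ _ hr
  · rw [map_add]
    exact Ideal.add_mem _ ha hb

theorem img_eq_zero_iff (x : MaximalSpectrum R) (m : M) :
    img M x m = 0 ↔ ∀ φ : M →ₗ[R] R, φ m ∈ x.asIdeal := by
  constructor
  · intro h0
    have h1 : (x.asIdeal • ⊤ : Submodule R M).mkQ m ∈ Bq M x :=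
      (Submodule.Quotient.mk_eq_zero _).1 h0
    have key : ∀ y ∈ Bq M x, ∃ b : M, (∀ φ : M →ₗ[R] R, φ b ∈ x.asIdeal) ∧
        (x.asIdeal • ⊤ : Submodule R M).mkQ b = y := by
      intro y hy
      induction hy using Submodule.span_induction with
      | mem y h =>
        obtain ⟨b, hb, rfl⟩ := h
        exact ⟨b, hb, rfl⟩
      | zero => exact ⟨0, fun φ => by simp, by simp⟩
      | add y₁ y₂ _ _ h₁ h₂ =>
        obtain ⟨b₁, hb₁, rfl⟩ := h₁
        obtain ⟨b₂, hb₂, rfl⟩ := h₂
        exact ⟨b₁ + b₂, fun φ => by rw [map_add]; exact Ideal.add_mem _ (hb₁ φ) (hb₂ φ),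
          map_add _ _ _⟩
      | smul c y _ h =>
        obtain ⟨b, hb, rfl⟩ := h
        obtain ⟨r, rfl⟩ := Ideal.Quotient.mk_surjective c
        exact ⟨r • b, fun φ => by
          rw [map_smul, smul_eq_mul]; exact Ideal.mul_mem_left _ _ (hb φ), rfl⟩
    obtain ⟨b, hb, hbm⟩ := key _ h1
    have h2 : b - m ∈ (x.asIdeal • ⊤ : Submodule R M) := (Submodule.Quotient.eq _).1 hbm
    intro φ
    have h3 := form_mem_of_mem_smul_top M x _ h2 φ
    have h4 : φ m = φ b - φ (b - m) := by rw [map_sub]; ring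
    rw [h4]
    exact Ideal.sub_mem _ (hb φ) h3
  · intro hφ
    have h1 : (x.asIdeal • ⊤ : Submodule R M).mkQ m ∈ Bq M x :=
      Submodule.subset_span ⟨m, hφ, rfl⟩
    exact (Submodule.Quotient.mk_eq_zero _).2 h1

/-- Dual basis lemma: independent classes in `V(x)` are detected by linear forms. -/
theorem exists_dual {ι' : Type*} [Fintype ι'] [DecidableEq ι'] (x : MaximalSpectrum R)
    (vv : ι' → M) (hli : LinearIndependent (R ⧸ x.asIdeal) (fun b => img M x (vv b))) :
    ∃ φ : ι' → (M →ₗ[R] R), ∀ a b, φ a (vv b) - (if a = b then 1 else 0) ∈ x.asIdeal := by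
  classical
  haveI := x.isMaximal
  letI : Field (R ⧸ x.asIdeal) := Ideal.Quotient.field x.asIdeal
  let ρ : (M →ₗ[R] R) → (ι' → R ⧸ x.asIdeal) :=
    fun φ b => Ideal.Quotient.mk x.asIdeal (φ (vv b))
  have hρadd : ∀ φ ψ, ρ (φ + ψ) = ρ φ + ρ ψ := fun φ ψ => by
    funext b; simp [ρ]
  have hρsmul : ∀ (r : R) φ, ρ (r • φ) = Ideal.Quotient.mk x.asIdeal r • ρ φ := fun r φ => by
    funext b; simp [ρ]
  have hρ0 : ρ 0 = 0 := by
    funext b; simp [ρ]
  let U : Submodule (R ⧸ x.asIdeal) (ι' → R ⧸ x.asIdeal) :=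
    Submodule.span (R ⧸ x.asIdeal) (Set.range ρ)
  have hU : U = ⊤ := by
    by_contra hne
    obtain ⟨f, hf0, hUf⟩ := Submodule.exists_le_ker_of_lt_top U (lt_top_iff_ne_top.2 hne)
    let γ : ι' → R ⧸ x.asIdeal := fun b => f (fun j => if b = j then 1 else 0)
    have hfγ : ∀ y : ι' → R ⧸ x.asIdeal, f y = ∑ b, y b * γ b := fun y => by
      rw [LinearMap.pi_apply_eq_sum_univ f y]
      rfl
    choose rr hrr using fun b => Ideal.Quotient.mk_surjective (γ b)
    have hker : ∀ φ : M →ₗ[R] R, φ (∑ b, rr b • vv b) ∈ x.asIdeal := by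
      intro φ
      have h1 : f (ρ φ) = 0 := hUf (Submodule.subset_span ⟨φ, rfl⟩)
      rw [hfγ] at h1
      apply Ideal.Quotient.eq_zero_iff_mem.1
      rw [map_sum, map_sum]
      refine Eq.trans (Finset.sum_congr rfl fun b _ => ?_) h1
      rw [map_smul, smul_eq_mul, map_mul, hrr b, mul_comm]
    have h2 : img M x (∑ b, rr b • vv b) = 0 := (img_eq_zero_iff M x _).2 hker
    rw [img_sum] at h2
    have h3 := Fintype.linearIndependent_iff.1 hli
      (fun b => Ideal.Quotient.mk x.asIdeal (rr b)) h2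
    apply hf0
    refine LinearMap.ext fun y => ?_
    rw [hfγ y, LinearMap.zero_apply]
    refine Finset.sum_eq_zero fun b _ => ?_
    rw [← hrr b, h3 b, mul_zero]
  have key : ∀ y ∈ U, ∃ φ, ρ φ = y := by
    intro y hy
    induction hy using Submodule.span_induction with
    | mem y h =>
      obtain ⟨φ, rfl⟩ := h
      exact ⟨φ, rfl⟩
    | zero => exact ⟨0, hρ0⟩
    | add y₁ y₂ _ _ h₁ h₂ =>
      obtain ⟨φ₁, rfl⟩ := h₁
      obtain ⟨φ₂, rfl⟩ := h₂
      exact ⟨φ₁ + φ₂, hρadd _ _⟩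
    | smul c y _ h =>
      obtain ⟨φ, rfl⟩ := h
      obtain ⟨r, rfl⟩ := Ideal.Quotient.mk_surjective c
      exact ⟨r • φ, hρsmul _ _⟩
  choose φ hφ using fun a : ι' => key (Pi.single a 1) (by rw [hU]; exact Submodule.mem_top)
  refine ⟨φ, fun a b => ?_⟩
  have h1 : Ideal.Quotient.mk x.asIdeal (φ a (vv b)) =
      (Pi.single a 1 : ι' → R ⧸ x.asIdeal) b := congrFun (hφ a) b
  rw [← Ideal.Quotient.eq, h1, Pi.single_apply]
  by_cases hab : a = b
  · subst hab; simp
  · have hba : ¬ b = a := fun h => hab h.symm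
    simp [hab, hba]

variable {M}

/-- The span of the classes of the fixed sections `s`. -/
def Wq (x : MaximalSpectrum R) {h : ℕ} (s : Fin h → M) : Submodule (R ⧸ x.asIdeal) (Vq M x) :=
  Submodule.span (R ⧸ x.asIdeal) (Set.range fun i => img M x (s i))

/-- `V(x)` modulo the fixed sections. -/
abbrev VV {h : ℕ} (s : Fin h → M) (x : MaximalSpectrum R) : Type u := Vq M x ⧸ Wq x s

/-- The class of an element of `M` in `V(x)` modulo the fixed sections. -/
def iot {h : ℕ} (s : Fin h → M) (x : MaximalSpectrum R) (m : M) : VV s x :=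
  (Wq x s).mkQ (img M x m)

theorem iot_add {h : ℕ} (s : Fin h → M) (x : MaximalSpectrum R) (m m' : M) :
    iot s x (m + m') = iot s x m + iot s x m' := by
  simp only [iot, img_add, map_add]

theorem iot_smul {h : ℕ} (s : Fin h → M) (x : MaximalSpectrum R) (r : R) (m : M) :
    iot s x (r • m) = Ideal.Quotient.mk x.asIdeal r • iot s x m := by
  simp only [iot, img_smul, map_smul]

theorem iot_sum {h : ℕ} (s : Fin h → M) {ι' : Type*} (x : MaximalSpectrum R) (t : Finset ι')
    (r : ι' → R) (f : ι' → M) :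
    iot s x (∑ i ∈ t, r i • f i) =
      ∑ i ∈ t, Ideal.Quotient.mk x.asIdeal (r i) • iot s x (f i) := by
  simp only [iot, img_sum, map_sum, map_smul]

theorem span_iot_top {h : ℕ} (s : Fin h → M) {b : ℕ} (gens : Fin b → M)
    (hgens : Submodule.span R (Set.range gens) = ⊤) (x : MaximalSpectrum R) :
    Submodule.span (R ⧸ x.asIdeal) (Set.range fun j => iot s x (gens j)) = ⊤ := by
  rw [eq_top_iff]
  rintro y -
  obtain ⟨y', rfl⟩ := Submodule.Quotient.mk_surjective _ y
  obtain ⟨y'', rfl⟩ := Submodule.Quotient.mk_surjective _ y'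
  obtain ⟨m, rfl⟩ := Submodule.Quotient.mk_surjective _ y''
  have hm : m ∈ Submodule.span R (Set.range gens) := by rw [hgens]; exact Submodule.mem_top
  obtain ⟨cc, rfl⟩ := (Submodule.mem_span_range_iff_exists_fun R).1 hm
  show iot s x (∑ j, cc j • gens j) ∈ _
  rw [iot_sum]
  exact Submodule.sum_mem _ fun j _ =>
    Submodule.smul_mem _ _ (Submodule.subset_span ⟨j, rfl⟩)

theorem rk_ge [Module.Finite R M] {h k : ℕ} (s : Fin h → M) (x : MaximalSpectrum R)
    (H1x : h + k ≤ finrank (R ⧸ x.asIdeal) (Vq M x)) {b : ℕ} (gens : Fin b → M)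
    (hgens : Submodule.span R (Set.range gens) = ⊤) (t₀ : M) :
    k ≤ rk (VV s) (iot s) x (Fin.cons t₀ gens : Fin (b + 1) → M) := by
  have htop : Submodule.span (R ⧸ x.asIdeal)
      (Set.range fun i : Fin (b + 1) => iot s x ((Fin.cons t₀ gens : Fin (b + 1) → M) i)) = ⊤ := by
    rw [eq_top_iff, ← span_iot_top s gens hgens x]
    refine Submodule.span_mono ?_
    rintro _ ⟨j, rfl⟩
    exact ⟨j.succ, by simp⟩
  show k ≤ finrank (R ⧸ x.asIdeal) (Submodule.span (R ⧸ x.asIdeal)
      (Set.range fun i : Fin (b + 1) => iot s x ((Fin.cons t₀ gens : Fin (b + 1) → M) i)))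
  rw [htop, finrank_top]
  have h1 : finrank (R ⧸ x.asIdeal) (VV s x) + finrank (R ⧸ x.asIdeal) (Wq x s) =
      finrank (R ⧸ x.asIdeal) (Vq M x) := by
    haveI := x.isMaximal
    letI : Field (R ⧸ x.asIdeal) := Ideal.Quotient.field x.asIdeal
    exact Submodule.finrank_quotient_add_finrank _
  have h2 : finrank (R ⧸ x.asIdeal) (Wq x s) ≤ h := by
    haveI := x.isMaximal
    letI : Field (R ⧸ x.asIdeal) := Ideal.Quotient.field x.asIdeal
    exact (finrank_range_le_card (R := R ⧸ x.asIdeal) (fun i => img M x (s i))).trans_eq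
      (Fintype.card_fin h)
  omega

/-- Semicontinuity of the rank modulo the fixed sections, away from `F`. -/
theorem closed_rk [Module.Finite R M] {h : ℕ} (s : Fin h → M) (F : Set (MaximalSpectrum R))
    (hF : IsClosed F)
    (H2 : ∀ x : MaximalSpectrum R,
      ¬ LinearIndependent (R ⧸ x.asIdeal) (fun i => img M x (s i)) → x ∈ F)
    (n : ℕ) (mm : Fin n → M) (t : ℕ) :
    IsClosed (F ∪ {x | rk (VV s) (iot s) x mm ≤ t}) := by
  classical
  rw [← isOpen_compl_iff, isOpen_iff_forall_mem_open]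
  intro x₀ hx₀
  have hx₀F : x₀ ∉ F := fun h' => hx₀ (Or.inl h')
  have hx₀r : t + 1 ≤ finrank (R ⧸ x₀.asIdeal) (Submodule.span (R ⧸ x₀.asIdeal)
      (Set.range fun i => iot s x₀ (mm i))) :=
    Nat.succ_le_of_lt (not_le.1 (fun h' => hx₀ (Or.inr h')))
  -- Step A: an independent subfamily of size `t + 1`
  obtain ⟨c', hli'⟩ : ∃ c' : Fin (t + 1) → Fin n,
      LinearIndependent (R ⧸ x₀.asIdeal) (fun a : Fin (t + 1) => iot s x₀ (mm (c' a))) := by
    haveI := x₀.isMaximal
    letI : Field (R ⧸ x₀.asIdeal) := Ideal.Quotient.field x₀.asIdeal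
    haveI : Module.Finite (R ⧸ x₀.asIdeal) (Submodule.span (R ⧸ x₀.asIdeal)
        (Set.range fun i => iot s x₀ (mm i))) := finite_span_range _
    obtain ⟨f, hfmem, -, hfli⟩ := Submodule.exists_fun_fin_finrank_span_eq (R ⧸ x₀.asIdeal)
      (Set.range fun i => iot s x₀ (mm i))
    choose c hc using hfmem
    refine ⟨fun a => c (Fin.castLE hx₀r a), ?_⟩
    have h1 := hfli.comp (Fin.castLE hx₀r) (Fin.castLE_injective _)
    have h2 : (fun a : Fin (t + 1) => iot s x₀ (mm (c (Fin.castLE hx₀r a)))) =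
        f ∘ Fin.castLE hx₀r := funext fun a => hc _
    rw [h2]
    exact h1
  -- Step B: together with `s` they are independent in `V(x₀)`
  let fam : Fin h ⊕ Fin (t + 1) → M := Sum.elim s (fun a => mm (c' a))
  have hsli : LinearIndependent (R ⧸ x₀.asIdeal) (fun i => img M x₀ (s i)) := by
    by_contra hn
    exact hx₀F (H2 x₀ hn)
  have hfam : LinearIndependent (R ⧸ x₀.asIdeal) (fun b => img M x₀ (fam b)) := by
    rw [linearIndependent_sum]
    refine ⟨hsli, LinearIndependent.of_comp (Wq x₀ s).mkQ hli', ?_⟩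
    rw [Submodule.disjoint_def]
    intro y hy1 hy2
    obtain ⟨cc, rfl⟩ := (Submodule.mem_span_range_iff_exists_fun _).1 hy2
    have h0 : (Wq x₀ s).mkQ (∑ a, cc a • img M x₀ (mm (c' a))) = 0 :=
      (Submodule.Quotient.mk_eq_zero _).2 hy1
    rw [map_sum] at h0
    simp only [map_smul] at h0
    have hz := Fintype.linearIndependent_iff.1 hli' cc h0
    simp [hz]
  -- Step C: forms with unit determinant at `x₀`
  obtain ⟨φ, hφ⟩ := exists_dual M x₀ fam hfam
  let A : Matrix (Fin h ⊕ Fin (t + 1)) (Fin h ⊕ Fin (t + 1)) R :=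
    Matrix.of fun a b => φ a (fam b)
  have hAone : (Ideal.Quotient.mk x₀.asIdeal).mapMatrix A = 1 := by
    ext a b
    have h1 := hφ a b
    rw [← Ideal.Quotient.eq] at h1
    show Ideal.Quotient.mk x₀.asIdeal (φ a (fam b)) = (1 : Matrix _ _ _) a b
    rw [h1, Matrix.one_apply]
    split_ifs <;> simp
  have hd : A.det ∉ x₀.asIdeal := by
    intro hmem
    have h1 : Ideal.Quotient.mk x₀.asIdeal A.det = 0 := Ideal.Quotient.eq_zero_iff_mem.2 hmem
    rw [RingHom.map_det, hAone, Matrix.det_one] at h1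
    haveI := x₀.isMaximal
    exact one_ne_zero h1
  have hopen : IsOpen {x : MaximalSpectrum R | A.det ∉ x.asIdeal} :=
    (PrimeSpectrum.basicOpen A.det).isOpen.preimage MaximalSpectrum.toPrimeSpectrum_continuous
  refine ⟨Fᶜ ∩ {x | A.det ∉ x.asIdeal}, ?_, hF.isOpen_compl.inter hopen, ⟨hx₀F, hd⟩⟩
  rintro x ⟨hxF, hxd⟩ hx
  rcases hx with hx | hx
  · exact hxF hx
  · -- Step E: independence persists on the open set
    have hfamx : LinearIndependent (R ⧸ x.asIdeal) (fun b => img M x (fam b)) := by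
      rw [Fintype.linearIndependent_iff]
      intro γ hγ
      choose rr hrr using fun b => Ideal.Quotient.mk_surjective (γ b)
      have h1 : img M x (∑ b, rr b • fam b) = 0 := by
        rw [img_sum]
        simp only [hrr]
        exact hγ
      have h2 := (img_eq_zero_iff M x _).1 h1
      have h3 : ((Ideal.Quotient.mk x.asIdeal).mapMatrix A).mulVec γ = 0 := by
        funext a
        have h5 : Ideal.Quotient.mk x.asIdeal (φ a (∑ b, rr b • fam b)) = 0 :=
          Ideal.Quotient.eq_zero_iff_mem.2 (h2 (φ a))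
        rw [map_sum, map_sum] at h5
        show (∑ b, ((Ideal.Quotient.mk x.asIdeal).mapMatrix A) a b * γ b) = 0
        refine Eq.trans (Finset.sum_congr rfl fun b _ => ?_) h5
        rw [map_smul, smul_eq_mul, map_mul, hrr b, mul_comm]
        rfl
      have hdet : ((Ideal.Quotient.mk x.asIdeal).mapMatrix A).det ≠ 0 := by
        rw [← RingHom.map_det]
        exact fun h0 => hxd (Ideal.Quotient.eq_zero_iff_mem.1 h0)
      haveI := x.isMaximal
      have h4 := Matrix.eq_zero_of_mulVec_eq_zero hdet h3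
      exact fun b => congrFun h4 b
    rw [linearIndependent_sum] at hfamx
    obtain ⟨-, hinr, hdisj⟩ := hfamx
    have hmk : LinearIndependent (R ⧸ x.asIdeal)
        ((Wq x s).mkQ ∘ ((fun b => img M x (fam b)) ∘ Sum.inr)) := by
      refine hinr.map ?_
      rw [Submodule.ker_mkQ]
      exact hdisj.symm
    have hcard := finrank_span_eq_card hmk
    rw [Fintype.card_fin] at hcard
    have hmono : finrank (R ⧸ x.asIdeal) (Submodule.span (R ⧸ x.asIdeal)
        (Set.range ((Wq x s).mkQ ∘ ((fun b => img M x (fam b)) ∘ Sum.inr)))) ≤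
        rk (VV s) (iot s) x mm := by
      haveI := x.isMaximal
      letI : Field (R ⧸ x.asIdeal) := Ideal.Quotient.field x.asIdeal
      haveI : Module.Finite (R ⧸ x.asIdeal) (Submodule.span (R ⧸ x.asIdeal)
          (Set.range fun i => iot s x (mm i))) := finite_span_range _
      refine Submodule.finrank_mono (Submodule.span_mono ?_)
      rintro _ ⟨a, rfl⟩
      exact ⟨c' a, rfl⟩
    have hx' : rk (VV s) (iot s) x mm ≤ t := hx
    omega

/-- A closed subset of the maximal spectrum is cut out by an ideal. -/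
theorem exists_ideal_of_isClosed (F : Set (MaximalSpectrum R)) (hF : IsClosed F) :
    ∃ 𝔞 : Ideal R, (∀ x ∈ F, 𝔞 ≤ x.asIdeal) ∧ ∀ x, x ∉ F → ¬ 𝔞 ≤ x.asIdeal := by
  obtain ⟨t, ht, rfl⟩ := isClosed_induced_iff.1 hF
  obtain ⟨S, rfl⟩ := (PrimeSpectrum.isClosed_iff_zeroLocus t).1 ht
  refine ⟨Ideal.span S, fun x hx => Ideal.span_le.2 hx, fun x hx hle => hx ?_⟩
  exact fun a ha => hle (Ideal.subset_span ha)

/-- Interpolation at finitely many distinct closed points. -/
theorem exists_interp (n : ℕ) (xs : Fin n → MaximalSpectrum R) (hxs : Function.Injective xs)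
    (v : ∀ i : Fin n, M ⧸ ((xs i).asIdeal • ⊤ : Submodule R M)) :
    ∃ t₀ : M, ∀ i, ((xs i).asIdeal • ⊤ : Submodule R M).mkQ t₀ = v i := by
  classical
  choose vt hvt using fun i => Submodule.Quotient.mk_surjective _ (v i)
  have hcop : Pairwise (Function.onFun IsCoprime fun i => (xs i).asIdeal) := by
    intro i j hij
    show IsCoprime (xs i).asIdeal (xs j).asIdeal
    rw [Ideal.isCoprime_iff_sup_eq]
    exact Ideal.IsMaximal.coprime_of_ne (xs i).isMaximal (xs j).isMaximal
      (fun he => hij (hxs (MaximalSpectrum.ext he)))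
  choose e he using fun i : Fin n =>
    Ideal.exists_forall_sub_mem_ideal hcop (fun j => if j = i then (1 : R) else 0)
  refine ⟨∑ i, e i • vt i, fun j => ?_⟩
  rw [← hvt j, Submodule.mkQ_apply, Submodule.Quotient.eq]
  have h1 : ∑ i, e i • vt i - vt j = ∑ i, (e i - if j = i then 1 else 0) • vt i := by
    simp only [sub_smul, Finset.sum_sub_distrib, ite_smul, one_smul, zero_smul,
      Finset.sum_ite_eq, Finset.mem_univ, if_true]
  rw [h1]
  exact Submodule.sum_mem _ fun i _ => Submodule.smul_mem_smul (he i j) Submodule.mem_top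

/-- The weight function `k - codim Z`. -/
noncomputable def gk (k : ℕ) (Z : IrreducibleCloseds (MaximalSpectrum R)) : ℕ∞ :=
  (k : ℕ∞) - Order.coheight Z

theorem gk_step (k : ℕ) (Z Z' : IrreducibleCloseds (MaximalSpectrum R)) (hlt : Z < Z')
    (h1 : 1 ≤ gk k Z) : gk k Z + 1 ≤ gk k Z' := by
  have h2 : Order.coheight Z' + 1 ≤ Order.coheight Z := Order.coheight_add_one_le hlt
  have hck : Order.coheight Z < k := by
    by_contra hge
    have h0 : (k : ℕ∞) - Order.coheight Z = 0 := tsub_eq_zero_of_le (not_lt.1 hge)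
    have h1' : (1 : ℕ∞) ≤ (k : ℕ∞) - Order.coheight Z := h1
    rw [h0] at h1'
    simp at h1'
  obtain ⟨c₀, hc₀⟩ := ENat.ne_top_iff_exists.1 (ne_top_of_lt hck)
  have hc1 : Order.coheight Z' ≠ ⊤ :=
    ne_top_of_lt (lt_of_le_of_lt (le_trans le_self_add h2) hck)
  obtain ⟨c₁, hc₁⟩ := ENat.ne_top_iff_exists.1 hc1
  rw [← hc₀] at hck h2
  rw [← hc₁] at h2
  have hck' : c₀ < k := by exact_mod_cast hck
  have h2' : c₁ + 1 ≤ c₀ := by exact_mod_cast h2
  show (k : ℕ∞) - Order.coheight Z + 1 ≤ (k : ℕ∞) - Order.coheight Z'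
  rw [← hc₀, ← hc₁]
  have h3 : ((k - c₀ + 1 : ℕ) : ℕ∞) ≤ ((k - c₁ : ℕ) : ℕ∞) := by
    exact_mod_cast (by omega : k - c₀ + 1 ≤ k - c₁)
  push_cast at h3
  exact h3

theorem le_coheight_of_gk (k : ℕ) (Z : IrreducibleCloseds (MaximalSpectrum R))
    (h : ¬ 1 ≤ gk k Z) : (k : ℕ∞) ≤ Order.coheight Z := by
  by_contra hlt
  rw [not_le] at hlt
  apply h
  obtain ⟨c₀, hc₀⟩ := ENat.ne_top_iff_exists.1 (ne_top_of_lt hlt)
  show 1 ≤ (k : ℕ∞) - Order.coheight Z
  rw [← hc₀] at hlt ⊢
  have hlt' : c₀ < k := by exact_mod_cast hlt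
  have h3 : (1 : ℕ∞) ≤ ((k - c₀ : ℕ) : ℕ∞) := by exact_mod_cast (by omega : 1 ≤ k - c₀)
  push_cast at h3
  exact h3

end Groth.Agent.Lib.Lead.SerreMax
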