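import Mathlib
import Groth.Agent.Lib.Lead.SerreMax

/-!
# Serre's splitting proposition: the main statement
-/

set_option autoImplicit false
universe u

namespace Groth.Agent.Lib.Lead.SerreMax

open Module TopologicalSpace Groth.Agent.Lib.Lead.GenPosMax

theorem main (R : Type u) [CommRing R] [NoetherianSpace (MaximalSpectrum R)]
    (M : Type u) [AddCommGroup M] [Module R M] [Module.Finite R M]
    (h : ℕ) (s : Fin h → M) (F : Set (MaximalSpectrum R)) (hF : IsClosed F)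
    (n : ℕ) (xs : Fin n → MaximalSpectrum R) (hxs : Function.Injective xs) (hxF : ∀ i, xs i ∈ F)
    (v : ∀ i : Fin n, M ⧸ ((xs i).asIdeal • ⊤ : Submodule R M)) (k : ℕ)
    (H1 : ∀ x : MaximalSpectrum R, h + k ≤ finrank (R ⧸ x.asIdeal) (Vq M x))
    (H2 : ∀ x : MaximalSpectrum R,
      ¬ LinearIndependent (R ⧸ x.asIdeal) (fun i => img M x (s i)) → x ∈ F) :
    ∃ (t : M) (F' : Set (MaximalSpectrum R)), IsClosed F' ∧
      (∀ i : Fin n, img M (xs i) t = (Bq M (xs i)).mkQ (v i)) ∧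
      (∀ x : MaximalSpectrum R,
        ¬ LinearIndependent (R ⧸ x.asIdeal)
          (Fin.snoc (fun i => img M x (s i)) (img M x t)) → x ∈ F ∪ F') ∧
      ∀ Z : IrreducibleCloseds (MaximalSpectrum R), (Z : Set (MaximalSpectrum R)) ⊆ F' →
        (k : ℕ∞) ≤ Order.coheight Z := by
  classical
  obtain ⟨𝔞, h𝔞F, h𝔞⟩ := exists_ideal_of_isClosed F hF
  obtain ⟨b, gens, hgens⟩ := Module.Finite.exists_fin (R := R) (M := M)
  obtain ⟨t₀, ht₀⟩ := exists_interp n xs hxs v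
  have hcl := closed_rk s F hF H2
  have hinit : ∀ Z : IrreducibleCloseds (MaximalSpectrum R),
      ¬ (Z : Set (MaximalSpectrum R)) ⊆ F →
      ∃ x ∈ (Z : Set (MaximalSpectrum R)), x ∉ F ∧ min ((b + 1 : ℕ) : ℕ∞) (gk k Z) ≤
        (rk (VV s) (iot s) x (Fin.cons t₀ gens : Fin (b + 1) → M) : ℕ∞) := by
    intro Z hZF
    obtain ⟨x, hxZ, hxF⟩ := Set.not_subset.1 hZF
    refine ⟨x, hxZ, hxF, ?_⟩
    have h1 : k ≤ rk (VV s) (iot s) x (Fin.cons t₀ gens : Fin (b + 1) → M) :=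
      rk_ge s x (H1 x) gens hgens t₀
    calc min ((b + 1 : ℕ) : ℕ∞) (gk k Z) ≤ gk k Z := min_le_right _ _
      _ ≤ (k : ℕ∞) := tsub_le_self
      _ ≤ _ := by exact_mod_cast h1
  obtain ⟨y, hy, hyZ⟩ := gp_iter (VV s) (iot s) (iot_add s) (iot_smul s) F 𝔞 h𝔞 hcl (gk k)
    (gk_step k) b (Fin.cons t₀ gens : Fin (b + 1) → M) hinit
  have hyZ' : ∀ Z : IrreducibleCloseds (MaximalSpectrum R),
      ¬ (Z : Set (MaximalSpectrum R)) ⊆ F → 1 ≤ gk k Z →
      ∃ x ∈ (Z : Set (MaximalSpectrum R)), x ∉ F ∧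
        1 ≤ rk (VV s) (iot s) x (fun _ : Fin 1 => t₀ + y) := hyZ
  have hC : IsClosed (F ∪ {x | rk (VV s) (iot s) x (fun _ : Fin 1 => t₀ + y) ≤ 0}) := hcl 1 _ 0
  obtain ⟨S, hSf, hSc, hSi, hSU⟩ := NoetherianSpace.exists_finite_set_isClosed_irreducible hC
  have hfin : {c ∈ S | ¬ c ⊆ F}.Finite := hSf.subset (Set.sep_subset _ _)
  refine ⟨t₀ + y, ⋃₀ {c ∈ S | ¬ c ⊆ F}, ?_, ?_, ?_, ?_⟩
  · rw [Set.sUnion_eq_biUnion]
    exact hfin.isClosed_biUnion (fun c hc => hSc c hc.1)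
  · intro i
    have h1 : ((xs i).asIdeal • ⊤ : Submodule R M).mkQ (t₀ + y) = v i := by
      have h2 : ((xs i).asIdeal • ⊤ : Submodule R M).mkQ y = 0 := by
        rw [Submodule.mkQ_apply, Submodule.Quotient.mk_eq_zero]
        exact Submodule.smul_mono_left (h𝔞F _ (hxF i)) hy
      rw [map_add, ht₀ i, h2, add_zero]
    show (Bq M (xs i)).mkQ _ = _
    rw [h1]
  · intro x hx
    by_contra hxn
    rw [Set.mem_union, not_or] at hxn
    obtain ⟨hxF', hxF''⟩ := hxn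
    have hsli : LinearIndependent (R ⧸ x.asIdeal) (fun i => img M x (s i)) := by
      by_contra hn
      exact hxF' (H2 x hn)
    have hmem : img M x (t₀ + y) ∈ Wq x s := by
      by_contra hnm
      apply hx
      haveI := x.isMaximal
      letI : Field (R ⧸ x.asIdeal) := Ideal.Quotient.field x.asIdeal
      exact linearIndependent_finSnoc.2 ⟨hsli, hnm⟩
    have hrk0 : rk (VV s) (iot s) x (fun _ : Fin 1 => t₀ + y) ≤ 0 := by
      have h0 : iot s x (t₀ + y) = 0 := (Submodule.Quotient.mk_eq_zero _).2 hmem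
      have h1 : (Set.range fun _ : Fin 1 => iot s x (t₀ + y)) = {0} := by
        rw [h0]
        exact Set.range_const
      show finrank (R ⧸ x.asIdeal) (Submodule.span (R ⧸ x.asIdeal)
        (Set.range fun _ : Fin 1 => iot s x (t₀ + y))) ≤ 0
      rw [h1, Submodule.span_zero_singleton, finrank_bot]
    have hxC : x ∈ F ∪ {x | rk (VV s) (iot s) x (fun _ : Fin 1 => t₀ + y) ≤ 0} := Or.inr hrk0
    rw [hSU] at hxC
    obtain ⟨c, hcS, hxc⟩ := hxC
    by_cases hcF : c ⊆ F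
    · exact hxF' (hcF hxc)
    · exact hxF'' ⟨c, ⟨hcS, hcF⟩, hxc⟩
  · intro Z hZ
    obtain ⟨c, hcmem, hZc⟩ := isIrreducible_iff_sUnion_isClosed.1 Z.isIrreducible hfin.toFinset
      (fun z hz => hSc z ((hfin.mem_toFinset.1 hz).1))
      (by rw [Set.Finite.coe_toFinset]; exact hZ)
    obtain ⟨hcS, hcF⟩ := hfin.mem_toFinset.1 hcmem
    let Zc : IrreducibleCloseds (MaximalSpectrum R) := ⟨c, hSi c hcS, hSc c hcS⟩
    have hZle : Z ≤ Zc := SetLike.coe_subset_coe.1 hZc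
    have hg0 : ¬ 1 ≤ gk k Zc := by
      intro h1
      obtain ⟨x, hxc, hxF, hx1⟩ := hyZ' Zc hcF h1
      have hxC : x ∈ F ∪ {x | rk (VV s) (iot s) x (fun _ : Fin 1 => t₀ + y) ≤ 0} := by
        rw [hSU]
        exact ⟨c, hcS, hxc⟩
      rcases hxC with h' | h'
      · exact hxF h'
      · have h'' : rk (VV s) (iot s) x (fun _ : Fin 1 => t₀ + y) ≤ 0 := h'
        omega
    exact (le_coheight_of_gk k Zc hg0).trans (Order.coheight_anti hZle)

end Groth.Agent.Lib.Lead.SerreMax
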