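/-
Lead library: comparison maps for spreading out the local splitting of an Azumaya algebra.

* `thetaEquiv`: `B ⊗ (E ⊗ M_r(R)) ≃ₐ[R] M_r(B ⊗ E)`;
* `psiHom B Q : B ⊗ R[X]/(Q) → B[X]/(Q_B)` and its value on the derivative at the root;
* `exists_lam`: `R_p[X]/(P) → R_p ⊗ R[X]/(Q)` if `Q_p` is `P` with roots scaled by a unit `c`;
* `isUnit_tmul_derivative`: `1 ⊗ Q'(root)` is a unit in `R_p ⊗ R[X]/(Q)` if `P` is separable.
-/
import Mathlib
import Groth.Agent.Lib.Lead.SpreadOut

set_option autoImplicit false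

namespace Groth.Agent.Lib.Lead.SplitSpread

open scoped TensorProduct
open Polynomial Groth.Agent.Lib.Lead.SpreadOut

universe u v w

section theta

variable (R : Type u) [CommRing R] (B : Type v) [CommRing B] [Algebra R B] (E : Type w) [CommRing E]
  [Algebra R E] (r : ℕ)

/-- `B ⊗ (E ⊗ M_r(R)) ≃ₐ[R] M_r(B ⊗ E)`. -/
noncomputable def thetaEquiv :
    B ⊗[R] (E ⊗[R] Matrix (Fin r) (Fin r) R) ≃ₐ[R] Matrix (Fin r) (Fin r) (B ⊗[R] E) :=
  (Algebra.TensorProduct.assoc R R R B E (Matrix (Fin r) (Fin r) R)).symm.trans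
    (matrixEquivTensor (Fin r) R (B ⊗[R] E)).symm

end theta

section psi

variable {R : Type u} [CommRing R] (B : Type v) [CommRing B] [Algebra R B] (Q : R[X])

theorem aeval_root_map : Polynomial.aeval (AdjoinRoot.root (Q.map (algebraMap R B))) Q = 0 := by
  have h := Polynomial.aeval_map_algebraMap B (AdjoinRoot.root (Q.map (algebraMap R B))) Q
  rw [← h, AdjoinRoot.aeval_eq, AdjoinRoot.mk_self]

/-- `B ⊗ R[X]/(Q) → B[X]/(Q_B)`. -/
noncomputable def psiHom : B ⊗[R] AdjoinRoot Q →ₐ[B] AdjoinRoot (Q.map (algebraMap R B)) :=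
  Algebra.TensorProduct.lift (Algebra.ofId B (AdjoinRoot (Q.map (algebraMap R B))))
    (AdjoinRoot.liftAlgHom Q (Algebra.ofId R (AdjoinRoot (Q.map (algebraMap R B))))
      (AdjoinRoot.root (Q.map (algebraMap R B))) (by
        have h := aeval_root_map B Q
        rw [Polynomial.aeval_def] at h
        exact h))
    (fun _ _ => Commute.all _ _)

theorem psiHom_tmul_aeval (g : R[X]) :
    psiHom B Q ((1 : B) ⊗ₜ[R] Polynomial.aeval (AdjoinRoot.root Q) g) =
      Polynomial.aeval (AdjoinRoot.root (Q.map (algebraMap R B))) (g.map (algebraMap R B)) := by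
  rw [psiHom, Algebra.TensorProduct.lift_tmul, map_one, one_mul, ← Polynomial.aeval_algHom_apply,
    AdjoinRoot.liftAlgHom_root, Polynomial.aeval_map_algebraMap]

theorem psiHom_derivative :
    psiHom B Q ((1 : B) ⊗ₜ[R] Polynomial.aeval (AdjoinRoot.root Q) (Polynomial.derivative Q)) =
      Polynomial.aeval (AdjoinRoot.root (Q.map (algebraMap R B)))
        (Polynomial.derivative (Q.map (algebraMap R B))) := by
  rw [psiHom_tmul_aeval, Polynomial.derivative_map]

end psi

section lam

variable {R : Type u} [CommRing R] (p : Ideal R) [p.IsPrime]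
  (P : (Localization.AtPrime p)[X]) (Q : R[X]) (c : R)
  (hcu : IsUnit (algebraMap R (Localization.AtPrime p) c))
  (hQ : Q.map (algebraMap R (Localization.AtPrime p)) =
    Polynomial.scaleRoots P (algebraMap R (Localization.AtPrime p) c))

theorem aeval_tmul_root_map :
    Polynomial.aeval ((1 : Localization.AtPrime p) ⊗ₜ[R] AdjoinRoot.root Q)
      (Q.map (algebraMap R (Localization.AtPrime p))) = 0 := by
  rw [Polynomial.aeval_map_algebraMap]
  have h3 := Polynomial.aeval_algHom_apply
    (Algebra.TensorProduct.includeRight : AdjoinRoot Q →ₐ[R] Localization.AtPrime p ⊗[R] AdjoinRoot Q)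
    (AdjoinRoot.root Q) Q
  rw [Algebra.TensorProduct.includeRight_apply] at h3
  rw [h3, AdjoinRoot.aeval_eq, AdjoinRoot.mk_self, map_zero]

include hcu hQ in
theorem exists_lam :
    Nonempty (AdjoinRoot P →ₐ[Localization.AtPrime p] Localization.AtPrime p ⊗[R] AdjoinRoot Q) := by
  obtain ⟨uc, huc⟩ := hcu
  have h0 := aeval_tmul_root_map p Q
  rw [hQ] at h0
  have hy : (1 : Localization.AtPrime p) ⊗ₜ[R] AdjoinRoot.root Q =
      algebraMap (Localization.AtPrime p) (Localization.AtPrime p ⊗[R] AdjoinRoot Q)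
        (algebraMap R (Localization.AtPrime p) c) *
        ((↑uc⁻¹ : Localization.AtPrime p) ⊗ₜ[R] AdjoinRoot.root Q) := by
    rw [← Algebra.smul_def, TensorProduct.smul_tmul', smul_eq_mul, ← huc, Units.mul_inv]
  rw [Polynomial.aeval_def, hy, Polynomial.scaleRoots_eval₂_mul] at h0
  have hu : IsUnit (algebraMap (Localization.AtPrime p) (Localization.AtPrime p ⊗[R] AdjoinRoot Q)
      (algebraMap R (Localization.AtPrime p) c) ^ P.natDegree) := by
    rw [← huc]
    exact (uc.isUnit.map _).pow _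
  have h1 := (hu.mul_right_eq_zero).1 h0
  exact ⟨AdjoinRoot.liftAlgHom P (Algebra.ofId (Localization.AtPrime p)
    (Localization.AtPrime p ⊗[R] AdjoinRoot Q))
    ((↑uc⁻¹ : Localization.AtPrime p) ⊗ₜ[R] AdjoinRoot.root Q) h1⟩

include hcu hQ in
theorem isUnit_tmul_derivative (hPsep : P.Separable) :
    IsUnit ((1 : Localization.AtPrime p) ⊗ₜ[R]
      Polynomial.aeval (AdjoinRoot.root Q) (Polynomial.derivative Q)) := by
  have hsep := separable_scaleRoots P _ hcu hPsep
  rw [← hQ] at hsep
  obtain ⟨a, b, hab⟩ := hsep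
  have h1 := congrArg (Polynomial.aeval ((1 : Localization.AtPrime p) ⊗ₜ[R] AdjoinRoot.root Q)) hab
  rw [map_add, map_mul, map_mul, aeval_tmul_root_map, mul_zero, zero_add, map_one,
    Polynomial.derivative_map, Polynomial.aeval_map_algebraMap] at h1
  have h3 := Polynomial.aeval_algHom_apply
    (Algebra.TensorProduct.includeRight : AdjoinRoot Q →ₐ[R] Localization.AtPrime p ⊗[R] AdjoinRoot Q)
    (AdjoinRoot.root Q) (Polynomial.derivative Q)
  rw [Algebra.TensorProduct.includeRight_apply] at h3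
  rw [h3, Algebra.TensorProduct.includeRight_apply] at h1
  exact IsUnit.of_mul_eq_one_right _ h1

end lam

end Groth.Agent.Lib.Lead.SplitSpread
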