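/-
Lead library: Steinitz' lemma `I ⊕ J ≅ R ⊕ IJ` over a Dedekind domain, and the consequence
`N^n ≅ R^n` for invertible `N` with `[N]^n = 1`.
-/
import Mathlib

set_option autoImplicit false
universe u v w
open TensorProduct

namespace Groth.Agent.Lib.Lead.Steinitz

variable {R : Type u} [CommRing R] [IsDedekindDomain R]

theorem key_ideal (I J : Ideal R) (hI : I ≠ ⊥) (hJ : J ≠ ⊥) :
    Nonempty ((I × J) ≃ₗ[R] (R × ↥(I * J))) := by
  classical
  obtain ⟨c, hcI, hc0⟩ := Submodule.exists_mem_ne_zero_of_ne_bot hI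
  obtain ⟨K, hK⟩ : ∃ K : Ideal R, Ideal.span {c} = I * K :=
    Ideal.dvd_iff_le.2 ((Ideal.span_singleton_le_iff_mem I).2 hcI)
  have hK0 : K ≠ ⊥ := by
    rintro rfl
    rw [Ideal.mul_bot, Ideal.span_singleton_eq_bot] at hK
    exact hc0 hK
  have hKJ0 : K * J ≠ 0 := mul_ne_zero hK0 hJ
  obtain ⟨a, ha⟩ := IsDedekindDomain.exists_sup_span_eq (I := K * J) (J := K)
    Ideal.mul_le_left hKJ0
  have haK : a ∈ K := by
    rw [← ha]
    exact Ideal.mem_sup_right (Ideal.mem_span_singleton_self a)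
  have hdiv : ∀ y ∈ I, ∃ z, c * z = a * y := by
    intro y hy
    have h1 : a * y ∈ Ideal.span {c} := by
      rw [hK, mul_comm a y]
      exact Ideal.mul_mem_mul hy haK
    obtain ⟨z, hz⟩ := Ideal.mem_span_singleton'.1 h1
    exact ⟨z, by rw [← hz, mul_comm]⟩
  choose! g hg using hdiv
  obtain ⟨f, hf⟩ : ∃ f : I →ₗ[R] R, ∀ y : I, c * f y = a * (y : R) := by
    refine ⟨{ toFun := fun y => g (y : R), map_add' := fun y y' => ?_,
              map_smul' := fun r y => ?_ }, fun y => hg _ y.2⟩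
    · apply mul_left_cancel₀ hc0
      rw [hg _ (y + y').2, mul_add, hg _ y.2, hg _ y'.2, Submodule.coe_add, mul_add]
    · apply mul_left_cancel₀ hc0
      rw [hg _ (r • y).2, RingHom.id_apply, smul_eq_mul, mul_left_comm, hg _ y.2,
        Submodule.coe_smul, smul_eq_mul]
      ring
  have hcmem : c ∈ I * (K * J) ⊔ I * Ideal.span {a} := by
    rw [← Ideal.mul_sup, ha, ← hK]
    exact Ideal.mem_span_singleton_self c
  obtain ⟨w, hw, v, hv, hwv⟩ := Submodule.mem_sup.1 hcmem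
  obtain ⟨j₀, hj₀, hj₀w⟩ : ∃ j ∈ J, c * j = w := by
    rw [← mul_assoc, ← hK] at hw
    exact Ideal.mem_span_singleton_mul.1 hw
  obtain ⟨y₀, hy₀, hy₀v⟩ : ∃ y ∈ I, a * y = v := by
    rw [mul_comm] at hv
    exact Ideal.mem_span_singleton_mul.1 hv
  have h1 : f ⟨y₀, hy₀⟩ + j₀ = 1 := by
    apply mul_left_cancel₀ hc0
    rw [mul_add, hf, mul_one, hj₀w, hy₀v, add_comm, hwv]
  obtain ⟨φ, hφ⟩ : ∃ φ : (I × J) →ₗ[R] R, ∀ p : I × J, φ p = f p.1 + (p.2 : R) :=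
    ⟨f.coprod J.subtype, fun p => rfl⟩
  obtain ⟨s, hs⟩ : ∃ s : R →ₗ[R] (I × J), φ ∘ₗ s = LinearMap.id := by
    refine ⟨LinearMap.toSpanSingleton R (I × J) (⟨y₀, hy₀⟩, ⟨j₀, hj₀⟩), ?_⟩
    apply LinearMap.ext_ring
    rw [LinearMap.comp_apply, LinearMap.toSpanSingleton_apply, one_smul, hφ, LinearMap.id_apply]
    exact h1
  have e₁ : (I × J) ≃ₗ[R] (LinearMap.ker φ × R) :=
    (Function.Exact.splitSurjectiveEquiv (LinearMap.exact_subtype_ker_map φ)
      (Submodule.injective_subtype _) ⟨s, hs⟩).1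
  -- the kernel is `I * J`
  have mem_IJ_of : ∀ y : I, f y ∈ J → (y : R) ∈ I * J := by
    intro y hy
    have h2 : (y : R) = (y : R) * j₀ + y₀ * f y := by
      have h3 : (y : R) * f ⟨y₀, hy₀⟩ = y₀ * f y := by
        apply mul_left_cancel₀ hc0
        rw [mul_left_comm, hf, mul_left_comm c, hf]
        ring
      rw [← h3, ← mul_add, add_comm, h1, mul_one]
    rw [h2]
    exact Ideal.add_mem _ (Ideal.mul_mem_mul y.2 hj₀) (Ideal.mul_mem_mul hy₀ hy)
  have f_mem_J_of : ∀ y : I, (y : R) ∈ I * J → f y ∈ J := by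
    intro y hy
    have h2 : a * (y : R) ∈ Ideal.span {c} * J := by
      rw [hK, mul_comm I K, mul_assoc]
      exact Ideal.mul_mem_mul haK hy
    obtain ⟨j', hj', hj'c⟩ := Ideal.mem_span_singleton_mul.1 h2
    have h3 : f y = j' := mul_left_cancel₀ hc0 (by rw [hf, hj'c])
    rw [h3]
    exact hj'
  have hker : ∀ x : LinearMap.ker φ, f (x : I × J).1 = -(((x : I × J).2 : J) : R) := by
    intro x
    have := LinearMap.mem_ker.1 x.2
    rw [hφ] at this
    exact eq_neg_of_add_eq_zero_left this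
  obtain ⟨θ, hθ⟩ : ∃ θ : LinearMap.ker φ →ₗ[R] ↥(I * J),
      ∀ x : LinearMap.ker φ, ((θ x : ↥(I * J)) : R) = (((x : I × J).1 : I) : R) := by
    refine ⟨LinearMap.codRestrict (I * J)
      (I.subtype ∘ₗ (LinearMap.fst R I J) ∘ₗ (LinearMap.ker φ).subtype) (fun x => ?_),
      fun x => rfl⟩
    exact mem_IJ_of (x : I × J).1 (by rw [hker x]; exact J.neg_mem ((x : I × J).2).2)
  have hθinj : Function.Injective θ := by
    intro x x' hxx'
    have h2 : ((x : I × J).1 : I) = (x' : I × J).1 :=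
      Subtype.ext (by rw [← hθ x, ← hθ x', hxx'])
    have h3 : ((x : I × J).2 : J) = (x' : I × J).2 := by
      apply Subtype.ext
      have h4 := hker x
      rw [h2, hker x'] at h4
      exact (neg_injective h4).symm
    exact Subtype.ext (Prod.ext h2 h3)
  have hθsurj : Function.Surjective θ := by
    intro z
    have hzI : (z : R) ∈ I := Ideal.mul_le_left z.2
    have hfz : f ⟨z, hzI⟩ ∈ J := f_mem_J_of ⟨z, hzI⟩ z.2
    refine ⟨⟨(⟨z, hzI⟩, ⟨-f ⟨z, hzI⟩, J.neg_mem hfz⟩), ?_⟩, Subtype.ext ?_⟩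
    · rw [LinearMap.mem_ker, hφ]
      exact add_neg_cancel _
    · rw [hθ]
  exact ⟨e₁ ≪≫ₗ (LinearEquiv.prodCongr (LinearEquiv.ofBijective θ ⟨hθinj, hθsurj⟩)
    (LinearEquiv.refl R R)) ≪≫ₗ (LinearEquiv.prodComm R _ _)⟩

theorem ne_bot_of_invertible (I : Ideal R) [Module.Invertible R I] : I ≠ ⊥ := by
  rintro rfl
  have h : (1 : R) = 0 :=
    eq_of_smul_eq_smul (α := (⊥ : Ideal R)) (fun x => Subsingleton.elim _ _)
  exact one_ne_zero h

theorem key_module (M₁ : Type v) [AddCommGroup M₁] [Module R M₁] [Module.Invertible R M₁]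
    (M₂ : Type w) [AddCommGroup M₂] [Module R M₂] [Module.Invertible R M₂] :
    ∃ (J : Ideal R) (_ : Module.Invertible R J),
      CommRing.Pic.mk R J = CommRing.Pic.mk R M₁ * CommRing.Pic.mk R M₂ ∧
      Nonempty ((M₁ × M₂) ≃ₗ[R] (R × J)) := by
  obtain ⟨I₁, ⟨e₁⟩⟩ := Module.Invertible.exists_linearEquiv_ideal R M₁
  obtain ⟨I₂, ⟨e₂⟩⟩ := Module.Invertible.exists_linearEquiv_ideal R M₂
  haveI : Module.Invertible R I₁ := Module.Invertible.congr e₁
  haveI : Module.Invertible R I₂ := Module.Invertible.congr e₂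
  have em : I₁ ⊗[R] I₂ ≃ₗ[R] ↥(I₁ * I₂) := Submodule.LinearDisjoint.mulMap
    (.of_left_le_one_of_flat I₁ I₂ <| le_top.trans Ideal.one_eq_top.ge)
  haveI : Module.Invertible R ↥(I₁ * I₂) := Module.Invertible.congr em
  obtain ⟨e⟩ := key_ideal I₁ I₂ (ne_bot_of_invertible I₁) (ne_bot_of_invertible I₂)
  refine ⟨I₁ * I₂, inferInstance, ?_, ⟨(LinearEquiv.prodCongr e₁ e₂) ≪≫ₗ e⟩⟩
  rw [CommRing.Pic.mk_eq_mk_iff.2 ⟨e₁⟩, CommRing.Pic.mk_eq_mk_iff.2 ⟨e₂⟩,
    ← CommRing.Pic.mk_tensor]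
  exact CommRing.Pic.mk_eq_mk_iff.2 ⟨em.symm⟩

theorem exists_equiv_succ (N : Type v) [AddCommGroup N] [Module R N] [Module.Invertible R N]
    (n : ℕ) :
    ∃ (J : Ideal R) (_ : Module.Invertible R J),
      CommRing.Pic.mk R J = CommRing.Pic.mk R N ^ (n + 1) ∧
      Nonempty ((Fin (n + 1) → N) ≃ₗ[R] ((Fin n → R) × J)) := by
  induction n with
  | zero =>
    obtain ⟨I, ⟨e⟩⟩ := Module.Invertible.exists_linearEquiv_ideal R N
    haveI : Module.Invertible R I := Module.Invertible.congr e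
    refine ⟨I, inferInstance, ?_, ⟨?_⟩⟩
    · rw [zero_add, pow_one]
      exact (CommRing.Pic.mk_eq_mk_iff.2 ⟨e⟩).symm
    · exact (LinearEquiv.funUnique (Fin 1) R N) ≪≫ₗ e ≪≫ₗ
        (LinearEquiv.uniqueProd (R := R) (M := I) (M₂ := Fin 0 → R)).symm
  | succ n ih =>
    obtain ⟨J, hJ, hcl, ⟨e⟩⟩ := ih
    haveI := hJ
    obtain ⟨J', hJ', hcl', ⟨e'⟩⟩ := key_module (R := R) N J
    refine ⟨J', hJ', ?_, ⟨?_⟩⟩
    · rw [hcl', hcl, ← pow_succ']
    · exact (Fin.consLinearEquiv R (fun _ : Fin (n + 2) => N)).symm ≪≫ₗ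
        (LinearEquiv.prodCongr (LinearEquiv.refl R N) e) ≪≫ₗ
        (LinearEquiv.prodAssoc R N (Fin n → R) J).symm ≪≫ₗ
        (LinearEquiv.prodCongr (LinearEquiv.prodComm R N (Fin n → R)) (LinearEquiv.refl R J)) ≪≫ₗ
        (LinearEquiv.prodAssoc R (Fin n → R) N J) ≪≫ₗ
        (LinearEquiv.prodCongr (LinearEquiv.refl R (Fin n → R)) e') ≪≫ₗ
        (LinearEquiv.prodAssoc R (Fin n → R) R J').symm ≪≫ₗ
        (LinearEquiv.prodCongr ((LinearEquiv.prodComm R (Fin n → R) R) ≪≫ₗ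
          Fin.consLinearEquiv R (fun _ : Fin (n + 1) => R)) (LinearEquiv.refl R J'))

theorem main (N : Type v) [AddCommGroup N] [Module R N] [Module.Invertible R N] (n : ℕ)
    (h : CommRing.Pic.mk R N ^ n = 1) : Nonempty ((Fin n → N) ≃ₗ[R] (Fin n → R)) := by
  cases n with
  | zero => exact ⟨LinearEquiv.ofSubsingleton _ _⟩
  | succ m =>
    obtain ⟨J, hJ, hcl, ⟨e⟩⟩ := exists_equiv_succ (R := R) N m
    haveI := hJ
    rw [h] at hcl
    obtain ⟨eJ⟩ := CommRing.Pic.mk_eq_one_iff.1 hcl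
    exact ⟨e ≪≫ₗ (LinearEquiv.prodCongr (LinearEquiv.refl R (Fin m → R)) eJ) ≪≫ₗ
      (LinearEquiv.prodComm R (Fin m → R) R) ≪≫ₗ
      Fin.consLinearEquiv R (fun _ : Fin (m + 1) => R)⟩

end Groth.Agent.Lib.Lead.Steinitz
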