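/-
Lead library: tensor powers of Azumaya algebras and their splittings.

* `zeroEquiv'`, `succEquiv'`: `⨂^0 A ≅ R`, `⨂^e A ⊗ A ≅ ⨂^(e+1) A` over commutative rings;
* `isAzumaya_tpow`, `rankAtStalk_tpow`;
* `Psi ρ : T ⊗ ⨂^n A → M_{n^n}(T)` induced by `ρ : A → M_n(T)`; `Psi_bijective`, `Psi_map`;
* `span_semiInner`, `eq_zero_of_semiInner`: automorphisms of `M_n(T)` are "semi-inner";
* `Psi_antisym_invariant`: the preimage of the antisymmetrizer does not depend on `ρ`.
-/
import Mathlib
import Groth.Agent.Lib.Lead.KronPerm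
import Groth.Agent.Lib.Lead.AzHom
import Groth.Agent.Lib.Lead.MoritaMat
import Groth.Agent.S19587
import Groth.Agent.S19588

set_option autoImplicit false

namespace Groth.Agent.Lib.Lead.TensorPowerAz

open scoped TensorProduct
open PiTensorProduct Groth.Agent.Lib.Lead.KronPow Groth.Agent.Lib.Lead.KronPerm
open Groth.Agent.Lib.Lead.MoritaEnd Groth.Agent.Lib.Lead.MoritaMat

universe u v w

section tpow

variable (k : Type u) [CommRing k] (A : Type v) [Ring A] [Algebra k A]

/-- `tpow 0 ≅ k`. -/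
noncomputable def zeroEquiv' : (⨂[k] _ : Fin 0, A) ≃ₐ[k] k :=
  AlgEquiv.ofLinearEquiv (isEmptyEquiv (R := k) (s := fun _ : Fin 0 => A) (Fin 0))
    (by rw [PiTensorProduct.one_def, isEmptyEquiv_apply_tprod])
    (by
      refine TPow.map_mul_of_span
        (isEmptyEquiv (R := k) (s := fun _ : Fin 0 => A) (Fin 0)).toLinearMap _
        span_tprod_eq_top ?_
      rintro _ ⟨a, rfl⟩ _ ⟨a', rfl⟩
      rw [tprod_mul_tprod]
      simp only [LinearEquiv.coe_coe, isEmptyEquiv_apply_tprod, mul_one])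

/-- the linear equivalence `tpow e ⊗ A ≃ tpow (e+1)`. -/
noncomputable def succLin' (e : ℕ) : (⨂[k] _ : Fin e, A) ⊗[k] A ≃ₗ[k] ⨂[k] _ : Fin (e + 1), A :=
  ((TensorProduct.congr (LinearEquiv.refl k (⨂[k] _ : Fin e, A))
      (subsingletonEquiv (R := k) (s := fun _ : Fin 1 => A) (0 : Fin 1)).symm).trans
    (tmulEquiv k A)).trans (reindex k (fun _ : Fin e ⊕ Fin 1 => A) finSumFinEquiv)

theorem succLin'_tmul (e : ℕ) (a : Fin e → A) (x : A) :
    succLin' k A e (tprod k a ⊗ₜ[k] x) =
      tprod k (fun i : Fin (e + 1) => Sum.elim a (fun _ : Fin 1 => x) (finSumFinEquiv.symm i)) := by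
  simp only [succLin', LinearEquiv.trans_apply, TensorProduct.congr_tmul, LinearEquiv.refl_apply,
    subsingletonEquiv_symm_apply', tmulEquiv_apply, reindex_tprod]

theorem span_tmul' (e : ℕ) :
    Submodule.span k {t : (⨂[k] _ : Fin e, A) ⊗[k] A | ∃ (a : Fin e → A) (x : A),
      t = tprod k a ⊗ₜ[k] x} = ⊤ := by
  rw [eq_top_iff]
  rintro t -
  induction t using TensorProduct.induction_on with
  | zero => exact Submodule.zero_mem _
  | tmul u x =>
    induction u using PiTensorProduct.induction_on with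
    | smul_tprod r a =>
      rw [← TensorProduct.smul_tmul']
      exact Submodule.smul_mem _ r (Submodule.subset_span ⟨a, x, rfl⟩)
    | add u v hu hv =>
      rw [TensorProduct.add_tmul]
      exact Submodule.add_mem _ hu hv
  | add x y hx hy => exact Submodule.add_mem _ hx hy

/-- `tpow e ⊗ A ≅ tpow (e+1)` as algebras. -/
noncomputable def succEquiv' (e : ℕ) :
    (⨂[k] _ : Fin e, A) ⊗[k] A ≃ₐ[k] ⨂[k] _ : Fin (e + 1), A :=
  AlgEquiv.ofLinearEquiv (succLin' k A e)
    (by
      rw [Algebra.TensorProduct.one_def, PiTensorProduct.one_def, succLin'_tmul,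
        PiTensorProduct.one_def]
      congr 1
      funext i
      rcases finSumFinEquiv.symm i with j | j <;> rfl)
    (by
      refine TPow.map_mul_of_span (succLin' k A e).toLinearMap _ (span_tmul' k A e) ?_
      rintro _ ⟨a, x, rfl⟩ _ ⟨a', x', rfl⟩
      rw [Algebra.TensorProduct.tmul_mul_tmul, tprod_mul_tprod]
      simp only [LinearEquiv.coe_coe, succLin'_tmul, tprod_mul_tprod]
      congr 1
      funext i
      simp only [Pi.mul_apply]
      rcases finSumFinEquiv.symm i with j | j <;> rfl)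

variable [IsAzumaya k A]

theorem isAzumaya_tpow : ∀ e : ℕ, IsAzumaya k (⨂[k] _ : Fin e, A)
  | 0 => IsAzumaya.of_AlgEquiv k _ _ (zeroEquiv' k A).symm
  | e + 1 => by
    haveI := isAzumaya_tpow e
    haveI : IsAzumaya k ((⨂[k] _ : Fin e, A) ⊗[k] A) :=
      Groth.Agent.S19587.result k (⨂[k] _ : Fin e, A) A
    exact IsAzumaya.of_AlgEquiv k _ _ (succEquiv' k A e)

theorem rankAtStalk_tpow (m : ℕ)
    (h : ∀ p : PrimeSpectrum k, Module.rankAtStalk (R := k) A p = m) :
    ∀ (e : ℕ) (p : PrimeSpectrum k),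
      Module.rankAtStalk (R := k) (⨂[k] _ : Fin e, A) p = m ^ e
  | 0, p => by
    haveI := p.nontrivial
    rw [Module.rankAtStalk_eq_of_equiv (zeroEquiv' k A).toLinearEquiv, Module.rankAtStalk_self,
      pow_zero]
    rfl
  | e + 1, p => by
    haveI := isAzumaya_tpow k A e
    rw [← Module.rankAtStalk_eq_of_equiv (succEquiv' k A e).toLinearEquiv,
      Module.rankAtStalk_tensorProduct, Pi.mul_apply, rankAtStalk_tpow m h e p, h p, pow_succ]

end tpow

end Groth.Agent.Lib.Lead.TensorPowerAz
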