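/-
Lead library: Saltman's theorem on tensor powers of Azumaya algebras, given local splittings.

* `exists_antisym`: along a universally injective ("pure") extension `𝕊` splitting `A`, the
  antisymmetrizer descends to an element `s` of `A^{⊗n}`;
* `main_of_family`: given faithfully flat extensions `S p` of the local rings `R_p` and splittings
  `A → M_n(S p)`, the left ideal `E = A^{⊗n} s` is finite projective of rank `n^n` and
  `A^{⊗n} ≅ End_R(E)`.
-/
import Mathlib
import Groth.Agent.Lib.Lead.TensorPowerPsi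
import Groth.Agent.Lib.Lead.PureDescent
import Groth.Agent.Lib.Lead.LeftIdealLocal
import Groth.Agent.S19589

set_option autoImplicit false

namespace Groth.Agent.Lib.Lead.TensorPowerEnd

open scoped TensorProduct
open PiTensorProduct Groth.Agent.Lib.Lead.KronPow Groth.Agent.Lib.Lead.KronPerm
open Groth.Agent.Lib.Lead.TensorPowerAz Groth.Agent.Lib.Lead.TensorPowerPsi
open Groth.Agent.Lib.Lead.PureDescent Groth.Agent.Lib.Lead.LeftIdealLocal

universe u

section

variable {R : Type u} [CommRing R] (A : Type u) [Ring A] [Algebra R A] [IsAzumaya R A] (n : ℕ)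

theorem exists_antisym (hn : 0 < n)
    (hrk : ∀ p : PrimeSpectrum R, Module.rankAtStalk (R := R) A p = n ^ 2)
    (𝕊 : Type u) [CommRing 𝕊] [Algebra R 𝕊]
    (hpure : ∀ (N : Type u) [AddCommGroup N] [Module R N],
      Function.Injective (TensorProduct.mk R 𝕊 N 1))
    (ρS : A →ₐ[R] Matrix (Fin n) (Fin n) 𝕊) :
    ∃ s : ⨂[R] _ : Fin n, A, Psi ρS ((1 : 𝕊) ⊗ₜ[R] s) = antisym 𝕊 n := by
  obtain ⟨x₀, hx₀⟩ := (Psi_bijective hrk ρS).2 (antisym 𝕊 n)
  have hinv : LinearMap.rTensor (⨂[R] _ : Fin n, A)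
      (Algebra.TensorProduct.includeLeft : 𝕊 →ₐ[R] 𝕊 ⊗[R] 𝕊).toLinearMap x₀ =
      LinearMap.rTensor (⨂[R] _ : Fin n, A)
        (Algebra.TensorProduct.includeRight : 𝕊 →ₐ[R] 𝕊 ⊗[R] 𝕊).toLinearMap x₀ := by
    have e1 := Psi_map (Algebra.TensorProduct.includeLeft : 𝕊 →ₐ[R] 𝕊 ⊗[R] 𝕊) ρS x₀
    have e2 := Psi_map (Algebra.TensorProduct.includeRight : 𝕊 →ₐ[R] 𝕊 ⊗[R] 𝕊) ρS x₀
    rw [hx₀, antisym_mapMatrix] at e1 e2
    have e3 := Psi_invariant hn hrk _
      ((Algebra.TensorProduct.includeRight : 𝕊 →ₐ[R] 𝕊 ⊗[R] 𝕊).mapMatrix.comp ρS) _ e1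
    exact (Psi_bijective hrk _).1 (e3.trans e2.symm)
  obtain ⟨s, hs⟩ := exists_of_eq 𝕊 (⨂[R] _ : Fin n, A) x₀ (hpure _) hinv
  exact ⟨s, by rw [← hs, hx₀]⟩

theorem main_of_family (hn : 0 < n)
    (hrk : ∀ p : PrimeSpectrum R, Module.rankAtStalk (R := R) A p = n ^ 2)
    (S : PrimeSpectrum R → Type u) [∀ p, CommRing (S p)] [∀ p, Algebra R (S p)]
    [∀ p, Algebra (Localization.AtPrime p.asIdeal) (S p)]
    [∀ p, IsScalarTower R (Localization.AtPrime p.asIdeal) (S p)]
    [∀ p, Module.FaithfullyFlat (Localization.AtPrime p.asIdeal) (S p)] [∀ p, Nontrivial (S p)]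
    (ρ : ∀ p, A →ₐ[R] Matrix (Fin n) (Fin n) (S p)) :
    ∃ (E : Type u) (_ : AddCommGroup E) (_ : Module R E), Module.Finite R E ∧
      Module.Projective R E ∧
      (∀ p : PrimeSpectrum R, Module.rankAtStalk (R := R) E p = n ^ n) ∧
      Nonempty ((⨂[R] _ : Fin n, A) ≃ₐ[R] Module.End R E) := by
  classical
  haveI hAz : IsAzumaya R (⨂[R] _ : Fin n, A) := isAzumaya_tpow R A n
  have hpure : ∀ (N : Type u) [AddCommGroup N] [Module R N],
      Function.Injective (TensorProduct.mk R (∀ p, S p) N 1) := by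
    intro N _ _
    refine injective_mk_pi S N fun x hx => eq_zero_of_forall_prime (R := R) N x fun p => ?_
    exact tmul_eq_zero_of_faithfullyFlat (Localization.AtPrime p.asIdeal) (S p) N x (hx p)
  obtain ⟨ρS, hρS⟩ : ∃ ρS : A →ₐ[R] Matrix (Fin n) (Fin n) (∀ p, S p),
      ∀ p, (Pi.evalAlgHom R S p).mapMatrix.comp ρS = ρ p := ⟨piMat S ρ, piMat_eval S ρ⟩
  obtain ⟨s, hs⟩ := exists_antisym A n hn hrk (∀ p, S p) hpure ρS
  have hsp : ∀ p, Psi (ρ p) ((1 : S p) ⊗ₜ[R] s) = antisym (S p) n := by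
    intro p
    have h1 := Psi_map (Pi.evalAlgHom R S p) ρS ((1 : ∀ p, S p) ⊗ₜ[R] s)
    rw [hs, antisym_mapMatrix, hρS, LinearMap.rTensor_tmul, AlgHom.toLinearMap_apply,
      map_one] at h1
    exact h1
  have H : ∀ p : PrimeSpectrum R, ∃ (T : Type u) (_ : CommRing T) (_ : Algebra R T)
      (_ : Algebra (Localization.AtPrime p.asIdeal) T)
      (_ : IsScalarTower R (Localization.AtPrime p.asIdeal) T)
      (_ : Module.FaithfullyFlat (Localization.AtPrime p.asIdeal) T) (_ : Nontrivial T)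
      (Ψ : T ⊗[R] (⨂[R] _ : Fin n, A) ≃ₐ[T] Matrix (Fin n → Fin n) (Fin n → Fin n) T)
      (wv : (Fin n → Fin n) → T) (i₀ : Fin n → Fin n),
      wv i₀ = 1 ∧ Ψ (1 ⊗ₜ[R] s) = Matrix.vecMulVec wv wv := by
    intro p
    refine ⟨S p, inferInstance, inferInstance, inferInstance, inferInstance, inferInstance,
      inferInstance, AlgEquiv.ofBijective (Psi (ρ p)) (Psi_bijective hrk (ρ p)), wvec, id,
      wvec_id, ?_⟩
    rw [AlgEquiv.ofBijective_apply, hsp p]
    ext a b
    rw [antisym_eq, Matrix.vecMulVec_apply]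
  obtain ⟨hEfin, hEproj, hErk⟩ := finite_projective_rank s (Fin n → Fin n) H
  haveI := hEfin
  haveI := hEproj
  have hk : kpAlgHom' (J := Fin n) ρS s = antisym (∀ p, S p) n := by
    have h0 := hs
    rwa [Psi_tmul, one_smul] at h0
  haveI hfaith : FaithfulSMul R (LinearMap.range (LinearMap.mulRight R s)) := by
    refine ⟨fun {r₁ r₂} h => ?_⟩
    have h1 := congrArg Subtype.val
      (h ⟨s, ⟨1, by rw [LinearMap.mulRight_apply, one_mul]⟩⟩)
    have h2 : r₁ • s = r₂ • s := h1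
    have h3 : ∀ r : R, Psi ρS ((1 : ∀ p, S p) ⊗ₜ[R] (r • s)) id id =
        algebraMap R (∀ p, S p) r := by
      intro r
      rw [← TensorProduct.smul_tmul, Psi_tmul, hk, Matrix.smul_apply, antisym_eq, wvec_id, mul_one,
        smul_eq_mul, mul_one, Algebra.algebraMap_eq_smul_one]
    have h4 : algebraMap R (∀ p, S p) r₁ = algebraMap R (∀ p, S p) r₂ := by
      rw [← h3, ← h3, h2]
    have h5 : ∀ r : R, (1 : ∀ p, S p) ⊗ₜ[R] r = (algebraMap R (∀ p, S p) r) ⊗ₜ[R] (1 : R) := by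
      intro r
      rw [Algebra.algebraMap_eq_smul_one, TensorProduct.smul_tmul, smul_eq_mul, mul_one]
    apply hpure R
    rw [TensorProduct.mk_apply, TensorProduct.mk_apply, h5, h5, h4]
  haveI : IsAzumaya R (Module.End R (LinearMap.range (LinearMap.mulRight R s))) :=
    Groth.Agent.S19589.result R _
  have hbij : Function.Bijective (act (R := R) s) := by
    refine AzHom.bijective_of_azumaya (B := ⨂[R] _ : Fin n, A)
      (C := Module.End R (LinearMap.range (LinearMap.mulRight R s))) (act (R := R) s) fun p => ?_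
    rw [rankAtStalk_tpow R A (n ^ 2) hrk n p, rankAtStalk_end, hErk p, Fintype.card_fun,
      Fintype.card_fin, ← pow_mul, two_mul, pow_add]
  exact ⟨LinearMap.range (LinearMap.mulRight R s), inferInstance, inferInstance, hEfin, hEproj,
    fun p => by rw [hErk p, Fintype.card_fun, Fintype.card_fin],
    ⟨AlgEquiv.ofBijective _ hbij⟩⟩

end

end Groth.Agent.Lib.Lead.TensorPowerEnd
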