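/-
Lead library: splittings of tensor powers of Azumaya algebras.

* `extHom ρ : T ⊗ B → M_ι(T)` induced by `ρ : B → M_ι(T)`; bijective when `B` is Azumaya of rank
  `(card ι)²` (`extHom_bijective`);
* `Psi ρ : T ⊗ A^{⊗n} → M_{n^n}(T)` induced by `ρ : A → M_n(T)`; `Psi_bijective`, `Psi_map`;
* `span_det_eq_top`: automorphisms of `M_n(T)` are "semi-inner";
* `Psi_invariant`: the preimage of the antisymmetrizer does not depend on `ρ`.
-/
import Mathlib
import Groth.Agent.Lib.Lead.TensorPowerAz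

set_option autoImplicit false

namespace Groth.Agent.Lib.Lead.TensorPowerPsi

open scoped TensorProduct
open PiTensorProduct Groth.Agent.Lib.Lead.KronPow Groth.Agent.Lib.Lead.KronPerm
open Groth.Agent.Lib.Lead.MoritaEnd Groth.Agent.Lib.Lead.MoritaMat
open Groth.Agent.Lib.Lead.TensorPowerAz

universe u v w w'

section ext

variable {R : Type u} [CommRing R] {B : Type v} [Ring B] [Algebra R B] {T : Type w} [CommRing T]
  [Algebra R T] {ι : Type} [Fintype ι] [DecidableEq ι]

/-- The `T`-algebra map `T ⊗ B → M_ι(T)` induced by `ρ : B → M_ι(T)`. -/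
noncomputable def extHom (ρ : B →ₐ[R] Matrix ι ι T) : T ⊗[R] B →ₐ[T] Matrix ι ι T :=
  Algebra.TensorProduct.lift (Algebra.ofId T (Matrix ι ι T)) ρ
    (fun t b => Algebra.commute_algebraMap_left t (ρ b))

theorem extHom_tmul (ρ : B →ₐ[R] Matrix ι ι T) (t : T) (b : B) :
    extHom ρ (t ⊗ₜ[R] b) = t • ρ b := by
  rw [extHom, Algebra.TensorProduct.lift_tmul, Algebra.ofId_apply, ← Algebra.smul_def]

theorem extHom_bijective [IsAzumaya R B] [Nonempty ι] (ρ : B →ₐ[R] Matrix ι ι T)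
    (h : ∀ p : PrimeSpectrum R,
      Module.rankAtStalk (R := R) B p = Fintype.card ι * Fintype.card ι) :
    Function.Bijective (extHom ρ) := by
  haveI : IsAzumaya T (T ⊗[R] B) := Groth.Agent.S19588.result R T B
  haveI : IsAzumaya T (Matrix ι ι T) := IsAzumaya.matrix T ι
  refine AzHom.bijective_of_azumaya (extHom ρ) fun q => ?_
  haveI := q.nontrivial
  have h2 := congrFun (Module.rankAtStalk_eq_finrank_of_free (R := T) (M := Matrix ι ι T)) q
  simp only [Pi.natCast_apply, Nat.cast_id] at h2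
  rw [Module.rankAtStalk_baseChange, h, h2, Module.finrank_matrix, Module.finrank_self, mul_one]

end ext

section psi

variable {R : Type u} [CommRing R] {A : Type v} [Ring A] [Algebra R A] {T : Type w} [CommRing T]
  [Algebra R T] {n : ℕ}

/-- `Ψ_ρ : T ⊗ A^{⊗n} → M_{n^n}(T)`. -/
noncomputable def Psi (ρ : A →ₐ[R] Matrix (Fin n) (Fin n) T) :
    T ⊗[R] (⨂[R] _ : Fin n, A) →ₐ[T] Matrix (Fin n → Fin n) (Fin n → Fin n) T :=
  extHom (kpAlgHom' (J := Fin n) ρ)

theorem Psi_tmul (ρ : A →ₐ[R] Matrix (Fin n) (Fin n) T) (t : T) (b : ⨂[R] _ : Fin n, A) :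
    Psi ρ (t ⊗ₜ[R] b) = t • kpAlgHom' (J := Fin n) ρ b := by
  rw [Psi, extHom_tmul]

theorem Psi_tmul_tprod (ρ : A →ₐ[R] Matrix (Fin n) (Fin n) T) (t : T) (a : Fin n → A) :
    Psi ρ (t ⊗ₜ[R] tprod R a) = t • kp (fun j => ρ (a j)) := by
  rw [Psi_tmul, kpAlgHom'_tprod]

theorem Psi_bijective [IsAzumaya R A]
    (hrk : ∀ p : PrimeSpectrum R, Module.rankAtStalk (R := R) A p = n ^ 2)
    (ρ : A →ₐ[R] Matrix (Fin n) (Fin n) T) : Function.Bijective (Psi ρ) := by
  haveI := isAzumaya_tpow R A n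
  haveI : Nonempty (Fin n → Fin n) := ⟨id⟩
  refine extHom_bijective _ fun p => ?_
  rw [rankAtStalk_tpow R A (n ^ 2) hrk n p, Fintype.card_fun, Fintype.card_fin, ← pow_mul, two_mul,
    pow_add]

theorem kpAlgHom'_map {T' : Type w'} [CommRing T'] [Algebra R T'] (θ : T →ₐ[R] T')
    (ρ : A →ₐ[R] Matrix (Fin n) (Fin n) T) (b : ⨂[R] _ : Fin n, A) :
    kpAlgHom' (J := Fin n) (θ.mapMatrix.comp ρ) b =
      θ.mapMatrix (kpAlgHom' (J := Fin n) ρ b) := by
  have h : (kpAlgHom' (J := Fin n) (θ.mapMatrix.comp ρ)).toLinearMap =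
      (θ.mapMatrix.comp (kpAlgHom' (J := Fin n) ρ)).toLinearMap := by
    refine PiTensorProduct.ext (MultilinearMap.ext fun a => ?_)
    simp only [LinearMap.compMultilinearMap_apply, AlgHom.toLinearMap_apply, kpAlgHom'_tprod,
      AlgHom.comp_apply, AlgHom.mapMatrix_apply]
    exact (kp_map (θ : T →+* T') (fun j => ρ (a j))).symm
  exact LinearMap.congr_fun h b

theorem antisym_mapMatrix {T' : Type w'} [CommRing T'] [Algebra R T'] (θ : T →ₐ[R] T') :
    θ.mapMatrix (antisym T n) = antisym T' n := by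
  rw [AlgHom.mapMatrix_apply]
  exact antisym_map (θ : T →+* T')

theorem Psi_map {T' : Type w'} [CommRing T'] [Algebra R T'] (θ : T →ₐ[R] T')
    (ρ : A →ₐ[R] Matrix (Fin n) (Fin n) T) (x : T ⊗[R] (⨂[R] _ : Fin n, A)) :
    Psi (θ.mapMatrix.comp ρ) (LinearMap.rTensor _ θ.toLinearMap x) = θ.mapMatrix (Psi ρ x) := by
  induction x using TensorProduct.induction_on with
  | zero => simp only [map_zero]
  | tmul t b =>
    rw [LinearMap.rTensor_tmul, AlgHom.toLinearMap_apply, Psi_tmul, Psi_tmul, kpAlgHom'_map]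
    ext f g
    simp only [AlgHom.mapMatrix_apply, Matrix.map_apply, Matrix.smul_apply, smul_eq_mul, map_mul]
  | add x y hx hy => rw [map_add, map_add, map_add, map_add, hx, hy]

end psi

section semiinner

theorem span_det_eq_top {T : Type u} [CommRing T] {n : ℕ} (hn : 0 < n)
    (β : Matrix (Fin n) (Fin n) T ≃ₐ[T] Matrix (Fin n) (Fin n) T) :
    Ideal.span {c : T | ∃ M : Matrix (Fin n) (Fin n) T,
      (∀ N, M * N = β N * M) ∧ c = M.det} = ⊤ := by
  haveI := faithfullyFlat_pi (A := T) hn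
  have hS := span_scalars_eq_top (endAut β)
  have hSn := Ideal.span_pow_eq_top _ hS n
  rw [eq_top_iff, ← hSn, Ideal.span_le]
  rintro _ ⟨a, ⟨l, l', hll'⟩, rfl⟩
  obtain ⟨M, hM⟩ : ∃ M : liftMod β, Matrix.toLinAlgEquiv' M.1 = l.1 := by
    refine ⟨(liftEquiv β).symm l, ?_⟩
    have h1 := (liftEquiv β).apply_symm_apply l
    exact congrArg Subtype.val h1
  have hprod : (Matrix.toLinAlgEquiv' (R := T) (n := Fin n)).symm l'.1 * M.1 =
      a • (1 : Matrix (Fin n) (Fin n) T) := by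
    apply (Matrix.toLinAlgEquiv' (R := T) (n := Fin n)).injective
    rw [map_mul, AlgEquiv.apply_symm_apply, hM, map_smul, map_one]
    refine LinearMap.ext fun x => ?_
    rw [Module.End.mul_apply, hll', LinearMap.smul_apply, Module.End.one_apply]
  have hdet := congrArg Matrix.det hprod
  rw [Matrix.det_mul, Matrix.det_smul, Matrix.det_one, mul_one, Fintype.card_fin] at hdet
  show a ^ n ∈ _
  rw [← hdet]
  exact Ideal.mul_mem_left _ _ (Ideal.subset_span ⟨M.1, (mem_liftMod β M.1).1 M.2, rfl⟩)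

end semiinner

section invariant

variable {R : Type u} [CommRing R] {A : Type v} [Ring A] [Algebra R A] [IsAzumaya R A]
  {T : Type w} [CommRing T] [Algebra R T] {n : ℕ}

/-- The preimage of the antisymmetrizer under `Psi ρ` does not depend on `ρ`. -/
theorem Psi_invariant (hn : 0 < n)
    (hrk : ∀ p : PrimeSpectrum R, Module.rankAtStalk (R := R) A p = n ^ 2)
    (ρ₁ ρ₂ : A →ₐ[R] Matrix (Fin n) (Fin n) T) (y : T ⊗[R] (⨂[R] _ : Fin n, A))
    (hy : Psi ρ₁ y = antisym T n) : Psi ρ₂ y = antisym T n := by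
  haveI : Nonempty (Fin n) := Fin.pos_iff_nonempty.1 hn
  have hrk' : ∀ p : PrimeSpectrum R, Module.rankAtStalk (R := R) A p =
      Fintype.card (Fin n) * Fintype.card (Fin n) := fun p => by
    rw [hrk p, Fintype.card_fin, sq]
  obtain ⟨Φ₁, hΦ₁⟩ : ∃ Φ : T ⊗[R] A ≃ₐ[T] Matrix (Fin n) (Fin n) T, ∀ z, Φ z = extHom ρ₁ z :=
    ⟨AlgEquiv.ofBijective (extHom ρ₁) (extHom_bijective ρ₁ hrk'), fun z => rfl⟩
  obtain ⟨Φ₂, hΦ₂⟩ : ∃ Φ : T ⊗[R] A ≃ₐ[T] Matrix (Fin n) (Fin n) T, ∀ z, Φ z = extHom ρ₂ z :=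
    ⟨AlgEquiv.ofBijective (extHom ρ₂) (extHom_bijective ρ₂ hrk'), fun z => rfl⟩
  obtain ⟨β, hβdef⟩ : ∃ β : Matrix (Fin n) (Fin n) T ≃ₐ[T] Matrix (Fin n) (Fin n) T,
      β = Φ₁.symm.trans Φ₂ := ⟨_, rfl⟩
  have hβ : ∀ a : A, β (ρ₁ a) = ρ₂ a := by
    intro a
    have h1 : Φ₁ (1 ⊗ₜ[R] a) = ρ₁ a := by rw [hΦ₁, extHom_tmul, one_smul]
    have h2 : Φ₂ (1 ⊗ₜ[R] a) = ρ₂ a := by rw [hΦ₂, extHom_tmul, one_smul]
    rw [hβdef, AlgEquiv.trans_apply, ← h1, AlgEquiv.symm_apply_apply, h2]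
  have key : ∀ M : Matrix (Fin n) (Fin n) T, (∀ N, M * N = β N * M) →
      ∀ z : T ⊗[R] (⨂[R] _ : Fin n, A),
        kp (fun _ : Fin n => M) * Psi ρ₁ z = Psi ρ₂ z * kp (fun _ : Fin n => M) := by
    intro M hM z
    induction z using TensorProduct.induction_on with
    | zero => rw [map_zero, map_zero, mul_zero, zero_mul]
    | tmul t b =>
      induction b using PiTensorProduct.induction_on with
      | smul_tprod r a =>
        rw [← TensorProduct.smul_tmul, Psi_tmul_tprod, Psi_tmul_tprod, Matrix.mul_smul,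
          Matrix.smul_mul, kp_mul, kp_mul]
        congr 2
        funext j
        rw [hM (ρ₁ (a j)), hβ]
      | add u v hu hv =>
        rw [TensorProduct.tmul_add, map_add, map_add, mul_add, add_mul, hu, hv]
    | add x y hx hy => rw [map_add, map_add, mul_add, add_mul, hx, hy]
  have hc : ∀ c ∈ {c : T | ∃ M : Matrix (Fin n) (Fin n) T,
      (∀ N, M * N = β N * M) ∧ c = M.det}, c ^ n • (Psi ρ₂ y - antisym T n) = 0 := by
    rintro c ⟨M, hM, rfl⟩
    have h1 := key M hM y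
    rw [hy, kp_mul_antisym] at h1
    have h2 : kp (fun _ : Fin n => M) * kp (fun _ : Fin n => M.adjugate) =
        M.det ^ n • (1 : Matrix (Fin n → Fin n) (Fin n → Fin n) T) := by
      rw [kp_mul]
      have h3 : (fun _ : Fin n => M * M.adjugate) =
          fun j : Fin n => (fun _ : Fin n => M.det) j •
            (fun _ : Fin n => (1 : Matrix (Fin n) (Fin n) T)) j := by
        funext j
        rw [Matrix.mul_adjugate]
      rw [h3, kp_smul (fun _ : Fin n => M.det) (fun _ : Fin n => (1 : Matrix (Fin n) (Fin n) T)),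
        kp_one, Finset.prod_const, Finset.card_univ, Fintype.card_fin]
    have h3 := congrArg (fun X => X * kp (fun _ : Fin n => M.adjugate)) h1
    simp only [mul_assoc, h2, Matrix.mul_smul, mul_one] at h3
    rw [smul_sub, sub_eq_zero]
    exact h3.symm
  have hD := span_det_eq_top hn β
  have hDn := Ideal.span_pow_eq_top _ hD n
  have hall : ∀ t ∈ Ideal.span ((fun x : T => x ^ n) '' {c : T | ∃ M : Matrix (Fin n) (Fin n) T,
      (∀ N, M * N = β N * M) ∧ c = M.det}), t • (Psi ρ₂ y - antisym T n) = 0 := by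
    intro t ht
    induction ht using Submodule.span_induction with
    | mem t ht =>
      obtain ⟨c, hc', rfl⟩ := ht
      exact hc c hc'
    | zero => rw [zero_smul]
    | add x y _ _ hx hy => rw [add_smul, hx, hy, add_zero]
    | smul c x _ hx => rw [smul_eq_mul, mul_smul, hx, smul_zero]
  have h1 := hall 1 (by rw [hDn]; exact Submodule.mem_top)
  rw [one_smul, sub_eq_zero] at h1
  exact h1

end invariant

end Groth.Agent.Lib.Lead.TensorPowerPsi
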