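import Mathlib

/-!
# Weight-one representations of (the points of) a non-degenerate theta group (lead)

`Γ` a group, `ι : kˣ →* Γ` injective with image the centre of `Γ`, `Γ/ι(kˣ)` finite commutative.
* `linearIndependent_rho`: for a weight-one representation on a nonzero space, the operators of
  elements in pairwise distinct cosets are linearly independent (Dedekind).
* `span_range_rho_eq_top`: Burnside.
* `finrank_sq_eq`, `nonempty_equiv`, `exists_irreducible`, `hasW1`.
-/

set_option autoImplicit false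
set_option linter.style.haveILetI false
set_option linter.unusedSectionVars false
set_option linter.unusedVariables false

universe u

namespace Groth.Agent.Lib.Lead.Theta

open scoped MonoidAlgebra commutatorElement
open Representation

section

variable {k : Type u} [Field k] {Γ : Type u} [Group Γ] (ι : kˣ →* Γ)

theorem iota_comm (hcent : ι.range = Subgroup.center Γ) (z : kˣ) (g : Γ) :
    g * ι z = ι z * g := by
  have h : ι z ∈ Subgroup.center Γ := by
    rw [← hcent]; exact MonoidHom.mem_range.mpr ⟨z, rfl⟩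
  exact Subgroup.mem_center_iff.mp h g

theorem exists_comm (hcomm : commutator Γ ≤ ι.range) (g h : Γ) :
    ∃ c : kˣ, ι c = g * h * g⁻¹ * h⁻¹ := by
  have h1 : ⁅g, h⁆ ∈ commutator Γ :=
    Subgroup.commutator_mem_commutator (Subgroup.mem_top g) (Subgroup.mem_top h)
  obtain ⟨c, hc⟩ := MonoidHom.mem_range.mp (hcomm h1)
  exact ⟨c, by rw [hc, commutatorElement_def]⟩

/-- The commutator pairing, with values in `kˣ`. -/
noncomputable def e (hcomm : commutator Γ ≤ ι.range) (g h : Γ) : kˣ :=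
  Classical.choose (exists_comm ι hcomm g h)

theorem e_spec (hcomm : commutator Γ ≤ ι.range) (g h : Γ) :
    ι (e ι hcomm g h) = g * h * g⁻¹ * h⁻¹ :=
  Classical.choose_spec (exists_comm ι hcomm g h)

/-- `g ↦ e(g, h)` as a character of `Γ`. -/
noncomputable def chi (hι : Function.Injective ι) (hcent : ι.range = Subgroup.center Γ)
    (hcomm : commutator Γ ≤ ι.range) (h : Γ) : Γ →* k where
  toFun g := ((e ι hcomm g h : kˣ) : k)
  map_one' := by
    have h1 : e ι hcomm 1 h = 1 := hι (by rw [e_spec, map_one]; group)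
    rw [h1]; rfl
  map_mul' g g' := by
    have h1 : e ι hcomm (g * g') h = e ι hcomm g h * e ι hcomm g' h := hι (by
      rw [map_mul, e_spec, e_spec, e_spec]
      have hc : ∀ x : Γ, x * (g' * h * g'⁻¹ * h⁻¹) = (g' * h * g'⁻¹ * h⁻¹) * x := by
        intro x
        rw [← e_spec ι hcomm g' h]
        exact iota_comm ι hcent _ x
      calc g * g' * h * (g * g')⁻¹ * h⁻¹
          = g * (g' * h * g'⁻¹ * h⁻¹) * h * g⁻¹ * h⁻¹ := by group
        _ = (g' * h * g'⁻¹ * h⁻¹) * g * h * g⁻¹ * h⁻¹ := by rw [hc g]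
        _ = (g' * h * g'⁻¹ * h⁻¹) * (g * h * g⁻¹ * h⁻¹) := by group
        _ = (g * h * g⁻¹ * h⁻¹) * (g' * h * g'⁻¹ * h⁻¹) := (hc _).symm)
    rw [h1, Units.val_mul]

theorem chi_apply (hι : Function.Injective ι) (hcent : ι.range = Subgroup.center Γ)
    (hcomm : commutator Γ ≤ ι.range) (h g : Γ) :
    chi ι hι hcent hcomm h g = ((e ι hcomm g h : kˣ) : k) := rfl

/-- Sums over cosets of a right-invariant function are translation invariant. -/
theorem sum_translate {X : Type*} [AddCommMonoid X] (S : Subgroup Γ) [Fintype (Γ ⧸ S)]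
    (F : Γ → X) (hF : ∀ g : Γ, ∀ s ∈ S, F (g * s) = F g) (γ : Γ) :
    ∑ c : Γ ⧸ S, F (γ * c.out) = ∑ c : Γ ⧸ S, F c.out := by
  refine Fintype.sum_equiv (MulAction.toPerm γ) _ _ (fun c => ?_)
  obtain ⟨h, hh⟩ := QuotientGroup.mk_out_eq_mul S (γ * c.out)
  have h1 : (QuotientGroup.mk (γ * c.out) : Γ ⧸ S) = γ • c := by
    conv_rhs => rw [← QuotientGroup.out_eq' c]
    rfl
  rw [MulAction.toPerm_apply, ← h1, hh, hF _ _ h.2]

section Rep

variable {V : Type*} [AddCommGroup V] [Module k V] (ρ : Representation k Γ V)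

theorem rho_iota (hw : ∀ (z : kˣ) (v : V), ρ (ι z) v = (z : k) • v) (z : kˣ) :
    ρ (ι z) = (z : k) • (1 : Module.End k V) := by
  ext v; simp [hw z v]

theorem rho_mul_comm (hcomm : commutator Γ ≤ ι.range)
    (hw : ∀ (z : kˣ) (v : V), ρ (ι z) v = (z : k) • v) (g h : Γ) :
    ρ g * ρ h = ((e ι hcomm g h : kˣ) : k) • (ρ h * ρ g) := by
  have h1 : g * h = ι (e ι hcomm g h) * (h * g) := by rw [e_spec]; group
  rw [← map_mul, h1, map_mul, rho_iota ι ρ hw, map_mul, smul_mul_assoc, one_mul]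

theorem rho_conj (hcomm : commutator Γ ≤ ι.range)
    (hw : ∀ (z : kˣ) (v : V), ρ (ι z) v = (z : k) • v) (γ g : Γ) :
    ρ γ * ρ g * ρ γ⁻¹ = ((e ι hcomm γ g : kˣ) : k) • ρ g := by
  rw [rho_mul_comm ι ρ hcomm hw γ g, smul_mul_assoc, mul_assoc, ← map_mul, mul_inv_cancel,
    map_one, mul_one]

theorem rho_inv_apply (g : Γ) (v : V) : ρ g⁻¹ (ρ g v) = v := by
  rw [← Module.End.mul_apply, ← map_mul, inv_mul_cancel, map_one, Module.End.one_apply]

/-- Operators of elements in pairwise distinct cosets of the centre are linearly independent. -/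
theorem linearIndependent_rho (hι : Function.Injective ι)
    (hcent : ι.range = Subgroup.center Γ) (hcomm : commutator Γ ≤ ι.range) [Nontrivial V]
    (hw : ∀ (z : kˣ) (v : V), ρ (ι z) v = (z : k) • v)
    {J : Type*} [Finite J] (g : J → Γ) (hg : ∀ i j, (g i)⁻¹ * g j ∈ ι.range → i = j) :
    LinearIndependent k (fun j => ρ (g j)) := by
  classical
  haveI := Fintype.ofFinite J
  rw [Fintype.linearIndependent_iff]
  intro a ha τ
  have hχinj : Function.Injective (fun j => chi ι hι hcent hcomm (g j)) := by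
    intro i j hij
    apply hg
    rw [hcent, Subgroup.mem_center_iff]
    intro γ
    have h1 : ∀ x : Γ, e ι hcomm x (g i) = e ι hcomm x (g j) := by
      intro x
      have h2 := DFunLike.congr_fun hij x
      exact Units.ext h2
    have h3 := congrArg ι (h1 γ⁻¹)
    rw [e_spec, e_spec] at h3
    have h4 : g i * γ * (g i)⁻¹ = g j * γ * (g j)⁻¹ := by
      have e1 : g i * γ * (g i)⁻¹ = γ * (γ⁻¹ * g i * γ⁻¹⁻¹ * (g i)⁻¹) := by group
      have e2 : g j * γ * (g j)⁻¹ = γ * (γ⁻¹ * g j * γ⁻¹⁻¹ * (g j)⁻¹) := by group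
      rw [e1, e2, h3]
    calc γ * ((g i)⁻¹ * g j) = (g i)⁻¹ * (g i * γ * (g i)⁻¹) * g j := by group
      _ = (g i)⁻¹ * (g j * γ * (g j)⁻¹) * g j := by rw [h4]
      _ = (g i)⁻¹ * g j * γ := by group
  have hli := (linearIndependent_monoidHom Γ k).comp
    (fun j => chi ι hι hcent hcomm (g j)) hχinj
  rw [Fintype.linearIndependent_iff] at hli
  obtain ⟨v, hv⟩ := exists_ne (0 : V)
  have hv' : ρ (g τ) v ≠ 0 := by
    intro h0
    apply hv
    rw [← rho_inv_apply ρ (g τ) v, h0, map_zero]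
  obtain ⟨φ, hφ⟩ := Module.Projective.exists_dual_ne_zero k hv'
  have key : ∀ γ : Γ, ∑ j, (a j * φ (ρ (g j) v)) * chi ι hι hcent hcomm (g j) γ = 0 := by
    intro γ
    have h1 : ρ γ * (∑ j, a j • ρ (g j)) * ρ γ⁻¹ = 0 := by rw [ha, mul_zero, zero_mul]
    rw [Finset.mul_sum, Finset.sum_mul] at h1
    have h2 : ∀ j, ρ γ * (a j • ρ (g j)) * ρ γ⁻¹ =
        (a j * ((e ι hcomm γ (g j) : kˣ) : k)) • ρ (g j) := by
      intro j
      rw [mul_smul_comm, smul_mul_assoc, rho_conj ι ρ hcomm hw, smul_smul]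
    simp_rw [h2] at h1
    have h3 := congrArg (fun T : Module.End k V => φ (T v)) h1
    simp only [LinearMap.sum_apply, LinearMap.smul_apply, map_sum, map_smul, smul_eq_mul,
      LinearMap.zero_apply, map_zero] at h3
    calc ∑ j, (a j * φ (ρ (g j) v)) * chi ι hι hcent hcomm (g j) γ
        = ∑ j, a j * ((e ι hcomm γ (g j) : kˣ) : k) * φ (ρ (g j) v) :=
          Finset.sum_congr rfl (fun j _ => by rw [chi_apply]; ring)
      _ = 0 := h3
  have h6 := hli (fun j => a j * φ (ρ (g j) v)) (by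
    funext γ
    simp only [Finset.sum_apply, Pi.smul_apply, Function.comp_apply, smul_eq_mul, Pi.zero_apply]
    exact key γ) τ
  exact (mul_eq_zero.mp h6).resolve_right hφ

/-- Burnside: the operators of an irreducible finite-dimensional representation over an
algebraically closed field span all endomorphisms. -/
theorem span_range_rho_eq_top [IsAlgClosed k] [Module.Finite k V] [hirr : ρ.IsIrreducible] :
    Submodule.span k (Set.range fun g : Γ => ρ g) = ⊤ := by
  classical
  rw [eq_top_iff]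
  intro T _
  haveI : IsSimpleModule k[Γ] ρ.asModule := inferInstance
  have hschur : ∀ φ : Module.End k[Γ] ρ.asModule,
      ∃ c : k, algebraMap k (Module.End k[Γ] ρ.asModule) c = φ :=
    fun φ => (IsSimpleModule.algebraMap_end_bijective_of_isAlgClosed
      (A := k[Γ]) (V := ρ.asModule) k).2 φ
  let T' : Module.End (Module.End k[Γ] ρ.asModule) ρ.asModule :=
    { toFun := fun m => ρ.asModuleEquiv.symm (T (ρ.asModuleEquiv m))
      map_add' := fun x y => by simp only [map_add]
      map_smul' := fun φ m => by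
        obtain ⟨c, rfl⟩ := hschur φ
        simp only [RingHom.id_apply, Module.End.smul_def, Module.algebraMap_end_apply, map_smul] }
  obtain ⟨s, hs⟩ := (Module.Finite.fg_top (R := k) (M := ρ.asModule))
  obtain ⟨r, hr⟩ := jacobson_density T' s
  have hT : T = ρ.asAlgebraHom r := by
    have h1 : (ρ.asModuleEquiv.symm.toLinearMap ∘ₗ T ∘ₗ ρ.asModuleEquiv.toLinearMap) =
        (ρ.asModuleEquiv.symm.toLinearMap ∘ₗ ρ.asAlgebraHom r ∘ₗ
          ρ.asModuleEquiv.toLinearMap) := by
      apply LinearMap.ext_on hs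
      intro m hm
      exact hr m hm
    exact LinearMap.ext fun v => LinearMap.congr_fun h1 v
  rw [hT]
  refine MonoidAlgebra.induction_on (motive := fun r => ρ.asAlgebraHom r ∈
    Submodule.span k (Set.range fun g : Γ => ρ g)) r (fun g => ?_) (fun x y hx hy => ?_)
    (fun c x hx => ?_)
  · rw [asAlgebraHom_of]; exact Submodule.subset_span ⟨g, rfl⟩
  · rw [map_add]; exact Submodule.add_mem _ hx hy
  · rw [map_smul]; exact Submodule.smul_mem _ c hx

theorem span_range_rho_out_eq_top [IsAlgClosed k] [Module.Finite k V] [hirr : ρ.IsIrreducible]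
    (hw : ∀ (z : kˣ) (v : V), ρ (ι z) v = (z : k) • v) :
    Submodule.span k (Set.range fun c : Γ ⧸ ι.range => ρ c.out) = ⊤ := by
  rw [eq_top_iff, ← span_range_rho_eq_top ρ, Submodule.span_le]
  rintro _ ⟨g, rfl⟩
  obtain ⟨h, hh⟩ := QuotientGroup.mk_out_eq_mul ι.range g
  obtain ⟨z, hz⟩ := MonoidHom.mem_range.mp h.2
  have h1 : g = (QuotientGroup.mk g : Γ ⧸ ι.range).out * ι z⁻¹ := by
    rw [hh, map_inv, hz]; group
  have h2 : ρ g = ((z⁻¹ : kˣ) : k) • ρ (QuotientGroup.mk g : Γ ⧸ ι.range).out := by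
    conv_lhs => rw [h1]
    rw [map_mul, rho_iota ι ρ hw, mul_smul_comm, mul_one]
  show ρ g ∈ _
  rw [h2]
  exact Submodule.smul_mem _ _ (Submodule.subset_span ⟨_, rfl⟩)

theorem finrank_sq_eq [IsAlgClosed k] [Module.Finite k V] [hirr : ρ.IsIrreducible]
    (hι : Function.Injective ι) (hcent : ι.range = Subgroup.center Γ)
    (hcomm : commutator Γ ≤ ι.range)
    (hw : ∀ (z : kˣ) (v : V), ρ (ι z) v = (z : k) • v) [Finite (Γ ⧸ ι.range)] :
    Module.finrank k V ^ 2 = Nat.card (Γ ⧸ ι.range) := by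
  classical
  haveI := Fintype.ofFinite (Γ ⧸ ι.range)
  haveI : Nontrivial V := IsSimpleModule.nontrivial k[Γ] ρ.asModule
  have hli := linearIndependent_rho ι ρ hι hcent hcomm hw (fun c : Γ ⧸ ι.range => c.out) (by
    intro i j hij
    rw [← QuotientGroup.out_eq' i, ← QuotientGroup.out_eq' j]
    exact QuotientGroup.eq.mpr hij)
  have hsp := span_range_rho_out_eq_top ι ρ hw
  let b := Module.Basis.mk hli (le_of_eq hsp.symm)
  have h1 := Module.finrank_eq_card_basis b
  have h2 : Module.finrank k (V →ₗ[k] V) = Module.finrank k V * Module.finrank k V :=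
    Module.finrank_linearMap k k V V
  rw [sq, ← h2, Nat.card_eq_fintype_card]
  exact h1

end Rep

section Uniq

variable {V W : Type*} [AddCommGroup V] [Module k V] [AddCommGroup W] [Module k W]
  (ρ : Representation k Γ V) (σ : Representation k Γ W)

/-- The averaged operator `∑_c σ(c) ∘ T₀ ∘ ρ(c)⁻¹` over coset representatives. -/
noncomputable def Av [Fintype (Γ ⧸ ι.range)] (T₀ : V →ₗ[k] W) : V →ₗ[k] W :=
  ∑ c : Γ ⧸ ι.range, σ c.out ∘ₗ T₀ ∘ₗ ρ (c.out)⁻¹

theorem Av_apply [Fintype (Γ ⧸ ι.range)] (T₀ : V →ₗ[k] W) (v : V) :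
    Av ι ρ σ T₀ v = ∑ c : Γ ⧸ ι.range, σ c.out (T₀ (ρ (c.out)⁻¹ v)) := by
  simp only [Av, LinearMap.sum_apply, LinearMap.comp_apply]

theorem Av_equivariant [Fintype (Γ ⧸ ι.range)]
    (hwρ : ∀ (z : kˣ) (v : V), ρ (ι z) v = (z : k) • v)
    (hwσ : ∀ (z : kˣ) (w : W), σ (ι z) w = (z : k) • w)
    (T₀ : V →ₗ[k] W) (γ : Γ) (v : V) :
    Av ι ρ σ T₀ (ρ γ v) = σ γ (Av ι ρ σ T₀ v) := by
  rw [Av_apply, Av_apply, map_sum]
  let F : Γ → W := fun g => σ g (T₀ (ρ (g⁻¹ * γ) v))
  have hF : ∀ g : Γ, ∀ s ∈ ι.range, F (g * s) = F g := by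
    rintro g _ ⟨z, rfl⟩
    show σ (g * ι z) (T₀ (ρ ((g * ι z)⁻¹ * γ) v)) = σ g (T₀ (ρ (g⁻¹ * γ) v))
    have e1 : (g * ι z)⁻¹ * γ = ι z⁻¹ * (g⁻¹ * γ) := by rw [mul_inv_rev, map_inv, mul_assoc]
    have e2 : ρ ((g * ι z)⁻¹ * γ) v = ((z⁻¹ : kˣ) : k) • ρ (g⁻¹ * γ) v := by
      rw [e1, map_mul, Module.End.mul_apply, hwρ]
    have e3 : σ (g * ι z) = σ g * σ (ι z) := map_mul _ _ _
    rw [e2, map_smul, e3, Module.End.mul_apply, hwσ, smul_smul, ← Units.val_mul, mul_inv_cancel,
      Units.val_one, one_smul]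
  have h1 := sum_translate ι.range F hF γ
  calc ∑ c : Γ ⧸ ι.range, σ c.out (T₀ (ρ (c.out)⁻¹ (ρ γ v)))
      = ∑ c : Γ ⧸ ι.range, F c.out := by
        refine Finset.sum_congr rfl fun c _ => ?_
        show _ = σ c.out (T₀ (ρ ((c.out)⁻¹ * γ) v))
        rw [map_mul, Module.End.mul_apply]
    _ = ∑ c : Γ ⧸ ι.range, F (γ * c.out) := h1.symm
    _ = ∑ c : Γ ⧸ ι.range, σ γ (σ c.out (T₀ (ρ (c.out)⁻¹ v))) := by
        refine Finset.sum_congr rfl fun c _ => ?_
        show σ (γ * c.out) (T₀ (ρ ((γ * c.out)⁻¹ * γ) v)) = _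
        have e2 : (γ * c.out)⁻¹ * γ = (c.out)⁻¹ := by group
        rw [e2, map_mul, Module.End.mul_apply]

theorem nonempty_equiv [ρ.IsIrreducible] [σ.IsIrreducible]
    (hι : Function.Injective ι) (hcent : ι.range = Subgroup.center Γ)
    (hcomm : commutator Γ ≤ ι.range)
    (hwρ : ∀ (z : kˣ) (v : V), ρ (ι z) v = (z : k) • v)
    (hwσ : ∀ (z : kˣ) (w : W), σ (ι z) w = (z : k) • w) [Finite (Γ ⧸ ι.range)] :
    Nonempty (Representation.Equiv ρ σ) := by
  classical
  haveI := Fintype.ofFinite (Γ ⧸ ι.range)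
  haveI : Nontrivial V := IsSimpleModule.nontrivial k[Γ] ρ.asModule
  haveI : Nontrivial W := IsSimpleModule.nontrivial k[Γ] σ.asModule
  obtain ⟨w, hw0⟩ := exists_ne (0 : W)
  have hex : ∃ φ : Module.Dual k V, Av ι ρ σ (φ.smulRight w) ≠ 0 := by
    by_contra hcon
    push Not at hcon
    have hli := linearIndependent_rho ι ρ hι hcent hcomm hwρ
      (fun c : Γ ⧸ ι.range => (c.out)⁻¹) (by
        intro i j hij
        rw [inv_inv] at hij
        obtain ⟨z, hz⟩ := MonoidHom.mem_range.mp hij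
        rw [← QuotientGroup.out_eq' i, ← QuotientGroup.out_eq' j]
        refine (QuotientGroup.eq.mpr ?_).symm
        have h1 : i.out = ι z * j.out := by rw [hz]; group
        have h2 : (j.out)⁻¹ * i.out = ι z := by
          rw [h1, ← iota_comm ι hcent z j.out]; group
        rw [h2]; exact MonoidHom.mem_range.mpr ⟨z, rfl⟩)
    rw [Fintype.linearIndependent_iff] at hli
    have h2 : ∀ (ψ : Module.Dual k W) (c : Γ ⧸ ι.range), ψ (σ c.out w) = 0 := by
      intro ψ
      apply hli (fun c => ψ (σ c.out w))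
      ext v
      rw [LinearMap.zero_apply]
      apply (Module.forall_dual_apply_eq_zero_iff k _).mp
      intro φ
      have h3 := congrArg (fun T : V →ₗ[k] W => ψ (T v)) (hcon φ)
      simp only [Av_apply, LinearMap.smulRight_apply, map_sum, map_smul, smul_eq_mul,
        LinearMap.zero_apply, map_zero] at h3
      simp only [LinearMap.sum_apply, LinearMap.smul_apply, map_sum, map_smul, smul_eq_mul]
      rw [← h3]
      exact Finset.sum_congr rfl fun c _ => mul_comm _ _
    have h4 : σ ((QuotientGroup.mk 1 : Γ ⧸ ι.range).out) w = 0 :=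
      (Module.forall_dual_apply_eq_zero_iff k _).mp (fun ψ => h2 ψ _)
    apply hw0
    rw [← rho_inv_apply σ ((QuotientGroup.mk 1 : Γ ⧸ ι.range).out) w, h4, map_zero]
  obtain ⟨φ, hφ⟩ := hex
  let f : IntertwiningMap ρ σ :=
    { toLinearMap := Av ι ρ σ (φ.smulRight w)
      isIntertwining' := fun g => LinearMap.ext fun v =>
        Av_equivariant ι ρ σ hwρ hwσ (φ.smulRight w) g v }
  rcases IsIrreducible.bijective_or_eq_zero f with hb | h0
  · exact ⟨f.ofBijective hb⟩
  · exfalso
    apply hφ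
    have := congrArg IntertwiningMap.toLinearMap h0
    exact this

end Uniq

/-! ### Existence -/

/-- The twisted function space `{f : Γ → k | f (ι z * g) = z f g}`. -/
def twSub : Submodule k (Γ → k) where
  carrier := {f | ∀ (z : kˣ) (g : Γ), f (ι z * g) = (z : k) * f g}
  add_mem' := by
    intro a b ha hb z g
    simp only [Pi.add_apply, ha z g, hb z g, mul_add]
  zero_mem' := by
    intro z g
    simp
  smul_mem' := by
    intro c f hf z g
    simp only [Pi.smul_apply, smul_eq_mul, hf z g]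
    ring

/-- Right translation on the twisted function space. -/
noncomputable def twRep : Representation k Γ (twSub ι) where
  toFun γ :=
    { toFun := fun f => ⟨fun g => f.1 (g * γ), fun z g => by
        show f.1 (ι z * g * γ) = (z : k) * f.1 (g * γ)
        rw [mul_assoc]; exact f.2 z (g * γ)⟩
      map_add' := fun f f' => rfl
      map_smul' := fun c f => rfl }
  map_one' := by
    apply LinearMap.ext; intro f; apply Subtype.ext; funext g
    show f.1 (g * 1) = f.1 g
    rw [mul_one]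
  map_mul' γ γ' := by
    apply LinearMap.ext; intro f; apply Subtype.ext; funext g
    show f.1 (g * (γ * γ')) = f.1 (g * γ * γ')
    rw [mul_assoc]

theorem twRep_weight (hcent : ι.range = Subgroup.center Γ) (z : kˣ) (f : twSub ι) :
    twRep ι (ι z) f = (z : k) • f := by
  apply Subtype.ext; funext g
  show f.1 (g * ι z) = (z : k) * f.1 g
  rw [iota_comm ι hcent z g]; exact f.2 z g

theorem twSub_finite (hcent : ι.range = Subgroup.center Γ) [Finite (Γ ⧸ ι.range)] :
    Module.Finite k (twSub ι) := by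
  let r : twSub ι →ₗ[k] (Γ ⧸ ι.range → k) :=
    { toFun := fun f c => f.1 c.out
      map_add' := fun _ _ => rfl
      map_smul' := fun _ _ => rfl }
  have hr : Function.Injective r := by
    rw [← LinearMap.ker_eq_bot, LinearMap.ker_eq_bot']
    intro f hf
    apply Subtype.ext; funext g
    obtain ⟨h, hh⟩ := QuotientGroup.mk_out_eq_mul ι.range g
    obtain ⟨z, hz⟩ := MonoidHom.mem_range.mp h.2
    have h1 : g = ι z⁻¹ * (QuotientGroup.mk g : Γ ⧸ ι.range).out := by
      rw [hh, ← hz, iota_comm ι hcent z g, map_inv, inv_mul_cancel_left]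
    have h2 : f.1 (QuotientGroup.mk g : Γ ⧸ ι.range).out = 0 := congrFun hf _
    have h3 := f.2 z⁻¹ (QuotientGroup.mk g : Γ ⧸ ι.range).out
    calc f.1 g = f.1 (ι z⁻¹ * (QuotientGroup.mk g : Γ ⧸ ι.range).out) := congrArg f.1 h1
      _ = 0 := by rw [h3, h2, mul_zero]
  exact Module.Finite.of_injective r hr

theorem twSub_nontrivial (hι : Function.Injective ι) : Nontrivial (twSub ι) := by
  classical
  let f₀ : Γ → k := fun g => if g ∈ ι.range then ((Function.invFun ι g : kˣ) : k) else 0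
  have hinv : ∀ w : kˣ, Function.invFun ι (ι w) = w := Function.leftInverse_invFun hι
  have hf₀ : f₀ ∈ twSub ι := by
    intro z g
    by_cases hg : g ∈ ι.range
    · obtain ⟨w, rfl⟩ := MonoidHom.mem_range.mp hg
      have h1 : ι z * ι w ∈ ι.range := MonoidHom.mem_range.mpr ⟨z * w, map_mul ι z w⟩
      simp only [f₀, if_pos hg, if_pos h1]
      rw [← map_mul, hinv, hinv, Units.val_mul]
    · have h1 : ι z * g ∉ ι.range := by
        intro h
        apply hg
        have h2 : g = (ι z)⁻¹ * (ι z * g) := by group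
        rw [h2]
        exact ι.range.mul_mem (ι.range.inv_mem (MonoidHom.mem_range.mpr ⟨z, rfl⟩)) h
      simp only [f₀, if_neg hg, if_neg h1, mul_zero]
  refine ⟨⟨⟨f₀, hf₀⟩, 0, ?_⟩⟩
  intro h
  have h1 : f₀ 1 = 0 := congrFun (congrArg Subtype.val h) 1
  have h2 : (1 : Γ) ∈ ι.range := ι.range.one_mem
  simp only [f₀, if_pos h2] at h1
  rw [← map_one ι, hinv] at h1
  exact one_ne_zero h1

/-- There is a nonzero finite-dimensional weight-one representation of dimension `n`. -/
def HasW1 (n : ℕ) : Prop :=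
  ∃ (V : Type u) (_ : AddCommGroup V) (_ : Module k V) (_ : Module.Finite k V)
    (ρ : Representation k Γ V), Nontrivial V ∧ (∀ (z : kˣ) (v : V), ρ (ι z) v = (z : k) • v) ∧
      Module.finrank k V = n

theorem hasW1 (hι : Function.Injective ι) (hcent : ι.range = Subgroup.center Γ)
    [Finite (Γ ⧸ ι.range)] : ∃ n, HasW1 ι n :=
  ⟨_, twSub ι, inferInstance, inferInstance, twSub_finite ι hcent, twRep ι,
    twSub_nontrivial ι hι, twRep_weight ι hcent, rfl⟩

theorem exists_irreducible (h : ∃ n, HasW1 ι n) :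
    ∃ (V : Type u) (_ : AddCommGroup V) (_ : Module k V) (_ : Module.Finite k V)
      (ρ : Representation k Γ V), ρ.IsIrreducible ∧
        ∀ (z : kˣ) (v : V), ρ (ι z) v = (z : k) • v := by
  classical
  obtain ⟨V, _, _, _, ρ, hnt, hw, hdim⟩ := Nat.find_spec h
  refine ⟨V, inferInstance, inferInstance, inferInstance, ρ, ?_, hw⟩
  haveI := hnt
  refine { exists_pair_ne := ⟨⊥, ⊤, ?_⟩, eq_bot_or_eq_top := ?_ }
  · intro hbt
    obtain ⟨v, hv⟩ := exists_ne (0 : V)
    have h1 : v ∈ (⊤ : Subrepresentation ρ).toSubmodule := Submodule.mem_top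
    rw [← hbt] at h1
    exact hv ((Submodule.mem_bot k).mp h1)
  · intro T
    by_contra hcon
    push Not at hcon
    obtain ⟨hTb, hTt⟩ := hcon
    have hTb' : T.toSubmodule ≠ ⊥ := fun h0 => hTb (Subrepresentation.ext h0)
    have hTt' : T.toSubmodule ≠ ⊤ := fun h0 => hTt (Subrepresentation.ext h0)
    have hlt : Module.finrank k T.toSubmodule < Nat.find h := by
      rw [← hdim]; exact Submodule.finrank_lt hTt'
    apply Nat.find_min h hlt
    refine ⟨T.toSubmodule, inferInstance, inferInstance, inferInstance, T.toRepresentation,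
      ?_, ?_, rfl⟩
    · exact Submodule.nontrivial_iff_ne_bot.mpr hTb'
    · intro z v
      apply Subtype.ext
      show ρ (ι z) v.1 = (z : k) • v.1
      exact hw z v.1

end

end Groth.Agent.Lib.Lead.Theta
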