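import Groth.Agent.Lib.Lead.Theta

/-!
# Weight-one representations of theta groups, II (lead)

Semisimplicity (Maschke by averaging over `Γ/Z`), the decomposition of a weight-one representation
along a level subgroup `H` (`W ≅ ⊕_{Γ/C(H)} W^H`), and the count `[Γ : C(H)] = dim V` for a maximal
level subgroup.
-/

set_option autoImplicit false
set_option linter.style.haveILetI false
set_option linter.unusedSectionVars false
set_option linter.unusedVariables false

universe u

namespace Groth.Agent.Lib.Lead.Theta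

open scoped MonoidAlgebra commutatorElement
open Representation

section

variable {k : Type u} [Field k] {Γ : Type u} [Group Γ] (ι : kˣ →* Γ)

theorem natCast_ne_zero_of_coprime (n : ℕ) (hn : 0 < n) (hcop : n.Coprime (ringExpChar k)) :
    (n : k) ≠ 0 := by
  intro h0
  haveI : CharP k (ringChar k) := ringChar.charP k
  have h1 : ringChar k ∣ n := (CharP.cast_eq_zero_iff k (ringChar k) n).mp h0
  rcases Nat.eq_zero_or_pos (ringChar k) with hp | hp
  · rw [hp, zero_dvd_iff] at h1; omega
  · have h2 : ringExpChar k = ringChar k := by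
      unfold ringExpChar; exact max_eq_left hp
    rw [h2] at hcop
    have h3 : ringChar k ∣ 1 := by
      have h4 := Nat.dvd_gcd h1 (dvd_refl _)
      rwa [hcop.gcd_eq_one] at h4
    exact CharP.ringChar_ne_one (Nat.dvd_one.mp h3)

theorem e_mul_left (hι : Function.Injective ι) (hcent : ι.range = Subgroup.center Γ)
    (hcomm : commutator Γ ≤ ι.range) (g g' h : Γ) :
    e ι hcomm (g * g') h = e ι hcomm g h * e ι hcomm g' h := by
  apply Units.ext
  rw [Units.val_mul]
  exact map_mul (chi ι hι hcent hcomm h) g g'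

theorem e_antisymm (hι : Function.Injective ι) (hcomm : commutator Γ ≤ ι.range) (g h : Γ) :
    e ι hcomm g h * e ι hcomm h g = 1 := by
  apply hι
  rw [map_mul, e_spec, e_spec, map_one]; group

theorem e_eq_one_of_commute (hι : Function.Injective ι) (hcomm : commutator Γ ≤ ι.range)
    (g h : Γ) (hgh : g * h = h * g) : e ι hcomm g h = 1 := by
  apply hι
  rw [e_spec, map_one, hgh]; group

theorem commute_of_e_eq (hcomm : commutator Γ ≤ ι.range) {g g' x : Γ}
    (h : e ι hcomm x⁻¹ g = e ι hcomm x⁻¹ g') : x * (g⁻¹ * g') = g⁻¹ * g' * x := by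
  have h3 := congrArg ι h
  rw [e_spec, e_spec] at h3
  have h4 : g * x * g⁻¹ = g' * x * g'⁻¹ := by
    have e1 : g * x * g⁻¹ = x * (x⁻¹ * g * x⁻¹⁻¹ * g⁻¹) := by group
    have e2 : g' * x * g'⁻¹ = x * (x⁻¹ * g' * x⁻¹⁻¹ * g'⁻¹) := by group
    rw [e1, e2, h3]
  calc x * (g⁻¹ * g') = g⁻¹ * (g * x * g⁻¹) * g' := by group
    _ = g⁻¹ * (g' * x * g'⁻¹) * g' := by rw [h4]
    _ = g⁻¹ * g' * x := by group

/-! ### Maschke -/

section Maschke

variable {W : Type*} [AddCommGroup W] [Module k W] (σ : Representation k Γ W)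

theorem isSemisimple (hw : ∀ (z : kˣ) (w : W), σ (ι z) w = (z : k) • w)
    [Finite (Γ ⧸ ι.range)] (hN : ((Nat.card (Γ ⧸ ι.range) : ℕ) : k) ≠ 0) :
    IsSemisimpleRepresentation σ := by
  classical
  haveI := Fintype.ofFinite (Γ ⧸ ι.range)
  refine ⟨fun T => ?_⟩
  obtain ⟨π₀, hπ₀⟩ :=
    T.toSubmodule.subtype.exists_leftInverse_of_injective (Submodule.ker_subtype _)
  have hwT : ∀ (z : kˣ) (v : T.toSubmodule), T.toRepresentation (ι z) v = (z : k) • v := by
    intro z v; apply Subtype.ext; exact hw z v.1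
  let π : W →ₗ[k] T.toSubmodule := Av ι σ T.toRepresentation π₀
  have hπeq : ∀ (γ : Γ) (w : W), π (σ γ w) = T.toRepresentation γ (π w) :=
    Av_equivariant ι σ T.toRepresentation hw hwT π₀
  have hπT : ∀ x : T.toSubmodule, π x.1 = ((Nat.card (Γ ⧸ ι.range) : ℕ) : k) • x := by
    intro x
    show Av ι σ T.toRepresentation π₀ x.1 = _
    rw [Av_apply]
    have h1 : ∀ c : Γ ⧸ ι.range,
        T.toRepresentation c.out (π₀ (σ (c.out)⁻¹ x.1)) = x := by
      intro c
      have h2 : σ (c.out)⁻¹ x.1 = ((T.toRepresentation (c.out)⁻¹ x : T.toSubmodule) : W) := rfl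
      rw [h2]
      have h3 : π₀ ((T.toRepresentation (c.out)⁻¹ x : T.toSubmodule) : W) =
          T.toRepresentation (c.out)⁻¹ x :=
        LinearMap.congr_fun hπ₀ (T.toRepresentation (c.out)⁻¹ x)
      rw [h3]
      have h4 := rho_inv_apply T.toRepresentation (c.out)⁻¹ x
      rwa [inv_inv] at h4
    rw [Finset.sum_congr rfl (fun c _ => h1 c), Finset.sum_const, Finset.card_univ,
      Nat.card_eq_fintype_card, Nat.cast_smul_eq_nsmul]
  let T' : Subrepresentation σ :=
    { toSubmodule := LinearMap.ker π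
      apply_mem_toSubmodule := fun g v hv => by
        rw [LinearMap.mem_ker] at hv ⊢
        rw [hπeq, hv, map_zero] }
  refine ⟨T', ?_⟩
  rw [isCompl_iff, disjoint_iff, codisjoint_iff]
  constructor
  · apply Subrepresentation.ext
    show T.toSubmodule ⊓ LinearMap.ker π = ⊥
    rw [eq_bot_iff]
    intro x hx
    obtain ⟨hx1, hx2⟩ := Submodule.mem_inf.mp hx
    have h1 := hπT ⟨x, hx1⟩
    have h2 : π x = 0 := hx2
    rw [h2] at h1
    have h3 : (⟨x, hx1⟩ : T.toSubmodule) = 0 := by
      rcases smul_eq_zero.mp h1.symm with h | h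
      · exact absurd h hN
      · exact h
    exact (Submodule.mem_bot k).mpr (congrArg Subtype.val h3)
  · apply Subrepresentation.ext
    show T.toSubmodule ⊔ LinearMap.ker π = ⊤
    rw [eq_top_iff]
    intro w _
    rw [Submodule.mem_sup]
    refine ⟨(((Nat.card (Γ ⧸ ι.range) : ℕ) : k)⁻¹ • π w : T.toSubmodule), Subtype.property _,
      w - (((Nat.card (Γ ⧸ ι.range) : ℕ) : k)⁻¹ • π w : T.toSubmodule), ?_, by abel⟩
    show π (w - _) = 0
    rw [map_sub, hπT, smul_smul, mul_inv_cancel₀ hN, one_smul, sub_self]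

end Maschke

/-! ### Decomposition along a level subgroup -/

section ClaimA

variable {W : Type*} [AddCommGroup W] [Module k W] [Module.Finite k W]
  (σ : Representation k Γ W) (H C : Subgroup Γ)

theorem finrank_eq_card_mul_finrank_invariants (hι : Function.Injective ι)
    (hcent : ι.range = Subgroup.center Γ) (hcomm : commutator Γ ≤ ι.range)
    (hw : ∀ (z : kˣ) (w : W), σ (ι z) w = (z : k) • w)
    (hC : ∀ g, g ∈ C ↔ ∀ x ∈ H, x * g = g * x)
    (hH : H ⊓ ι.range = ⊥) [Finite (Γ ⧸ C)] [Finite H]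
    (hn : ((Nat.card (Γ ⧸ C) : ℕ) : k) ≠ 0) :
    Module.finrank k W =
      Nat.card (Γ ⧸ C) * Module.finrank k (invariants (σ.comp H.subtype)) := by
  classical
  haveI := Fintype.ofFinite (Γ ⧸ C)
  haveI := Fintype.ofFinite H
  have hinvmem : ∀ (u : invariants (σ.comp H.subtype)) (x : H), σ x (u : W) = u :=
    fun u x => (mem_invariants _ _).mp u.2 x
  have hcommu : ∀ (x : H) (g : Γ) (u : invariants (σ.comp H.subtype)),
      σ x (σ g (u : W)) = ((e ι hcomm x g : kˣ) : k) • σ g (u : W) := by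
    intro x g u
    have h1 := rho_mul_comm ι σ hcomm hw (x : Γ) g
    have h2 := LinearMap.congr_fun h1 (u : W)
    rw [Module.End.mul_apply, LinearMap.smul_apply, Module.End.mul_apply, hinvmem u x] at h2
    exact h2
  let Φ : (Γ ⧸ C → invariants (σ.comp H.subtype)) →ₗ[k] W :=
    ∑ c : Γ ⧸ C, σ c.out ∘ₗ (invariants (σ.comp H.subtype)).subtype ∘ₗ LinearMap.proj c
  have hΦ : ∀ u, Φ u = ∑ c : Γ ⧸ C, σ c.out (u c : W) := by
    intro u
    simp only [Φ, LinearMap.sum_apply, LinearMap.comp_apply, LinearMap.proj_apply,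
      Submodule.subtype_apply]
  let ψ : Γ ⧸ C → (H →* k) := fun c => (chi ι hι hcent hcomm c.out).comp H.subtype
  have hψ : ∀ c (x : H), ψ c x = ((e ι hcomm x c.out : kˣ) : k) := fun c x => rfl
  have hψinj : Function.Injective ψ := by
    intro c c' hcc
    rw [← QuotientGroup.out_eq' c, ← QuotientGroup.out_eq' c']
    apply QuotientGroup.eq.mpr
    rw [hC]
    intro x hx
    apply commute_of_e_eq ι hcomm
    have h1 := DFunLike.congr_fun hcc ⟨x⁻¹, H.inv_mem hx⟩
    exact Units.ext h1
  have hinj : Function.Injective Φ := by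
    rw [← LinearMap.ker_eq_bot, LinearMap.ker_eq_bot']
    intro u hu
    have hli := (linearIndependent_monoidHom H k).comp ψ hψinj
    rw [Fintype.linearIndependent_iff] at hli
    have h1 : ∀ c, σ c.out (u c : W) = 0 := by
      intro c
      apply (Module.forall_dual_apply_eq_zero_iff k _).mp
      intro φ
      apply hli (fun c => φ (σ c.out (u c : W)))
      funext x
      simp only [Finset.sum_apply, Pi.smul_apply, Function.comp_apply, smul_eq_mul,
        Pi.zero_apply]
      have h2 : φ (σ x (Φ u)) = 0 := by rw [hu, map_zero, map_zero]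
      rw [hΦ, map_sum, map_sum] at h2
      rw [← h2]
      refine Finset.sum_congr rfl fun c _ => ?_
      rw [hcommu x c.out (u c), map_smul, smul_eq_mul, hψ, mul_comm]
    funext c
    have h4 : (u c : W) = 0 := by
      rw [← rho_inv_apply σ c.out (u c : W), h1 c, map_zero]
    exact Subtype.ext h4
  have hsurj : Function.Surjective Φ := by
    intro w
    have hnC : ((Fintype.card (Γ ⧸ C) : ℕ) : k) ≠ 0 := by
      rw [← Nat.card_eq_fintype_card]; exact hn
    let P : Γ ⧸ C → W := fun c =>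
      ∑ x : H, (((e ι hcomm x c.out)⁻¹ : kˣ) : k) • σ x w
    have hP : ∀ c (y : H), σ y (P c) = ((e ι hcomm y c.out : kˣ) : k) • P c := by
      intro c y
      have h1 : P c = ∑ x : H, (((e ι hcomm ((y * x : H) : Γ) c.out)⁻¹ : kˣ) : k) •
          σ ((y * x : H) : Γ) w :=
        (Equiv.sum_comp (Equiv.mulLeft y)
          (fun x : H => (((e ι hcomm x c.out)⁻¹ : kˣ) : k) • σ x w)).symm
      have h0 : σ y (P c) = ∑ x : H, σ y ((((e ι hcomm x c.out)⁻¹ : kˣ) : k) • σ x w) :=
        map_sum _ _ _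
      rw [h0]
      conv_rhs => rw [h1, Finset.smul_sum]
      refine Finset.sum_congr rfl fun x _ => ?_
      have h2 : e ι hcomm ((y * x : H) : Γ) c.out =
          e ι hcomm y c.out * e ι hcomm x c.out :=
        e_mul_left ι hι hcent hcomm (y : Γ) (x : Γ) c.out
      have h3 : (((e ι hcomm x c.out)⁻¹ : kˣ) : k) =
          ((e ι hcomm y c.out : kˣ) : k) *
            (((e ι hcomm ((y * x : H) : Γ) c.out)⁻¹ : kˣ) : k) := by
        rw [h2, ← Units.val_mul, mul_inv, mul_inv_cancel_left]
      have h4 : σ ((y * x : H) : Γ) w = σ y (σ x w) := by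
        show σ ((y : Γ) * (x : Γ)) w = _
        rw [map_mul, Module.End.mul_apply]
      rw [map_smul, smul_smul, ← h3, h4]
    have hσP : ∀ c : Γ ⧸ C,
        σ c.out (((Fintype.card (Γ ⧸ C) : ℕ) : k)⁻¹ • σ (c.out)⁻¹ (P c)) =
          ((Fintype.card (Γ ⧸ C) : ℕ) : k)⁻¹ • P c := by
      intro c
      rw [map_smul]
      congr 1
      have h5 := rho_inv_apply σ (c.out)⁻¹ (P c)
      rwa [inv_inv] at h5
    let u : Γ ⧸ C → invariants (σ.comp H.subtype) := fun c =>
      ⟨((Fintype.card (Γ ⧸ C) : ℕ) : k)⁻¹ • σ (c.out)⁻¹ (P c), by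
        rw [mem_invariants]
        intro y
        show σ y (((Fintype.card (Γ ⧸ C) : ℕ) : k)⁻¹ • σ (c.out)⁻¹ (P c)) =
          ((Fintype.card (Γ ⧸ C) : ℕ) : k)⁻¹ • σ (c.out)⁻¹ (P c)
        have hinjσ : Function.Injective (σ c.out) := fun a b hab => by
          rw [← rho_inv_apply σ c.out a, hab, rho_inv_apply]
        apply hinjσ
        have h1 := LinearMap.congr_fun (rho_mul_comm ι σ hcomm hw c.out (y : Γ))
          (((Fintype.card (Γ ⧸ C) : ℕ) : k)⁻¹ • σ (c.out)⁻¹ (P c))
        rw [Module.End.mul_apply, LinearMap.smul_apply, Module.End.mul_apply] at h1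
        rw [h1, hσP c, map_smul, hP, smul_smul, smul_smul]
        congr 1
        have h3 := e_antisymm ι hι hcomm c.out (y : Γ)
        have h4 : ((e ι hcomm c.out y : kˣ) : k) * ((e ι hcomm y c.out : kˣ) : k) = 1 := by
          rw [← Units.val_mul, h3, Units.val_one]
        rw [mul_right_comm, h4, one_mul]⟩
    refine ⟨u, ?_⟩
    rw [hΦ]
    have h1 : ∀ c, σ c.out ((u c : invariants (σ.comp H.subtype)) : W) =
        ((Fintype.card (Γ ⧸ C) : ℕ) : k)⁻¹ • P c := fun c => hσP c
    rw [Finset.sum_congr rfl (fun c _ => h1 c), ← Finset.smul_sum]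
    have h2 : ∑ c, P c = ((Fintype.card (Γ ⧸ C) : ℕ) : k) • w := by
      show ∑ c : Γ ⧸ C, ∑ x : H, (((e ι hcomm x c.out)⁻¹ : kˣ) : k) • σ x w = _
      rw [Finset.sum_comm]
      have h3 : ∀ x : H, ∑ c : Γ ⧸ C, (((e ι hcomm x c.out)⁻¹ : kˣ) : k) • σ x w =
          (if x = 1 then ((Fintype.card (Γ ⧸ C) : ℕ) : k) else 0) • σ x w := by
        intro x
        rw [← Finset.sum_smul]
        congr 1
        have h4 : ∀ c : Γ ⧸ C, (((e ι hcomm x c.out)⁻¹ : kˣ) : k) =
            chi ι hι hcent hcomm (x : Γ) c.out := by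
          intro c
          rw [chi_apply]
          congr 1
          exact inv_eq_of_mul_eq_one_left (e_antisymm ι hι hcomm c.out x)
        rw [Finset.sum_congr rfl (fun c _ => h4 c)]
        split_ifs with hx1
        · have h5 : ∀ c : Γ ⧸ C, chi ι hι hcent hcomm (x : Γ) c.out = 1 := by
            intro c
            rw [chi_apply, hx1, Subgroup.coe_one,
              e_eq_one_of_commute ι hι hcomm c.out 1 (by rw [mul_one, one_mul]), Units.val_one]
          rw [Finset.sum_congr rfl (fun c _ => h5 c), Finset.sum_const, Finset.card_univ,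
            nsmul_eq_mul, mul_one]
        · -- nontrivial character
          have hxZ : (x : Γ) ∉ ι.range := by
            intro hxr
            have h6 : (x : Γ) ∈ H ⊓ ι.range := ⟨x.2, hxr⟩
            rw [hH, Subgroup.mem_bot] at h6
            exact hx1 (Subtype.ext h6)
          rw [hcent, Subgroup.mem_center_iff] at hxZ
          push Not at hxZ
          obtain ⟨γ, hγ⟩ := hxZ
          have hγ1 : chi ι hι hcent hcomm (x : Γ) γ ≠ 1 := by
            intro h7
            apply hγ
            rw [chi_apply] at h7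
            have h8 : e ι hcomm γ (x : Γ) = 1 := Units.ext (by rw [h7, Units.val_one])
            have h9 := e_spec ι hcomm γ (x : Γ)
            rw [h8, map_one] at h9
            calc γ * (x : Γ) = (γ * x * γ⁻¹ * (x : Γ)⁻¹) * (x * γ) := by group
              _ = x * γ := by rw [← h9, one_mul]
          have hinv : ∀ g : Γ, ∀ s ∈ C, chi ι hι hcent hcomm (x : Γ) (g * s) =
              chi ι hι hcent hcomm (x : Γ) g := by
            intro g s hs
            rw [map_mul]
            have h10 : chi ι hι hcent hcomm (x : Γ) s = 1 := by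
              rw [chi_apply, e_eq_one_of_commute ι hι hcomm s (x : Γ)
                ((hC s).mp hs x x.2).symm, Units.val_one]
            rw [h10, mul_one]
          have h11 := sum_translate C (fun g => chi ι hι hcent hcomm (x : Γ) g) hinv γ
          simp only [map_mul] at h11
          rw [← Finset.mul_sum] at h11
          have h12 : (chi ι hι hcent hcomm (x : Γ) γ - 1) *
              ∑ c : Γ ⧸ C, chi ι hι hcent hcomm (x : Γ) c.out = 0 := by
            rw [sub_mul, one_mul, h11, sub_self]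
          rcases mul_eq_zero.mp h12 with h13 | h13
          · exact absurd (sub_eq_zero.mp h13) hγ1
          · exact h13
      rw [Finset.sum_congr rfl (fun x _ => h3 x)]
      simp only [ite_smul, zero_smul, Finset.sum_ite_eq', Finset.mem_univ, if_true]
      rw [Subgroup.coe_one, map_one, Module.End.one_apply]
    rw [h2, smul_smul, inv_mul_cancel₀ hnC, one_smul]
  have hbij : Function.Bijective Φ := ⟨hinj, hsurj⟩
  have h1 := (LinearEquiv.ofBijective Φ hbij).finrank_eq
  rw [← h1, Module.finrank_pi_fintype, Finset.sum_const, Finset.card_univ, smul_eq_mul,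
    Nat.card_eq_fintype_card]

/-- The characters `e(·, x)`, `x ∈ H`, are independent functions on `Γ/C`. -/
theorem card_le_card (hι : Function.Injective ι)
    (hcent : ι.range = Subgroup.center Γ) (hcomm : commutator Γ ≤ ι.range)
    (hC : ∀ g, g ∈ C ↔ ∀ x ∈ H, x * g = g * x)
    (hH : H ⊓ ι.range = ⊥) [Finite (Γ ⧸ C)] [Finite H] :
    Nat.card H ≤ Nat.card (Γ ⧸ C) := by
  classical
  haveI := Fintype.ofFinite (Γ ⧸ C)
  haveI := Fintype.ofFinite H
  have hχinj : Function.Injective (fun x : H => chi ι hι hcent hcomm (x : Γ)) := by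
    intro x y hxy
    have h1 : ∀ γ : Γ, γ * ((x : Γ)⁻¹ * y) = (x : Γ)⁻¹ * y * γ := fun γ =>
      commute_of_e_eq ι hcomm (Units.ext (DFunLike.congr_fun hxy γ⁻¹))
    have h2 : (x : Γ)⁻¹ * y ∈ ι.range := by
      rw [hcent, Subgroup.mem_center_iff]; exact h1
    have h3 : (x : Γ)⁻¹ * y ∈ H ⊓ ι.range := ⟨H.mul_mem (H.inv_mem x.2) y.2, h2⟩
    rw [hH, Subgroup.mem_bot] at h3
    exact Subtype.ext (inv_mul_eq_one.mp h3)
  have hli : LinearIndependent k
      (fun x : H => fun c : Γ ⧸ C => chi ι hι hcent hcomm (x : Γ) c.out) := by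
    rw [Fintype.linearIndependent_iff]
    intro a ha
    have hli0 := (linearIndependent_monoidHom Γ k).comp _ hχinj
    rw [Fintype.linearIndependent_iff] at hli0
    apply hli0 a
    funext g
    simp only [Finset.sum_apply, Pi.smul_apply, Function.comp_apply, smul_eq_mul,
      Pi.zero_apply]
    have h1 := congrFun ha (QuotientGroup.mk g : Γ ⧸ C)
    simp only [Finset.sum_apply, Pi.smul_apply, smul_eq_mul, Pi.zero_apply] at h1
    rw [← h1]
    refine Finset.sum_congr rfl fun x _ => ?_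
    congr 1
    obtain ⟨s, hs⟩ := QuotientGroup.mk_out_eq_mul C g
    rw [hs, map_mul]
    have h2 : chi ι hι hcent hcomm (x : Γ) (s : Γ) = 1 := by
      rw [chi_apply, e_eq_one_of_commute ι hι hcomm (s : Γ) (x : Γ)
        ((hC s).mp s.2 x x.2).symm, Units.val_one]
    rw [h2, mul_one]
  have h3 := hli.fintype_card_le_finrank
  rwa [Module.finrank_fintype_fun_eq_card, ← Nat.card_eq_fintype_card,
    ← Nat.card_eq_fintype_card] at h3

theorem card_le_mul (hC : ∀ g, g ∈ C ↔ ∀ x ∈ H, x * g = g * x)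
    (hZH : ∀ s ∈ C, ∃ z : kˣ, ∃ x ∈ H, s = ι z * x) [Finite (Γ ⧸ C)] [Finite H] :
    Nat.card (Γ ⧸ ι.range) ≤ Nat.card (Γ ⧸ C) * Nat.card H := by
  rw [← Nat.card_prod]
  apply Nat.card_le_card_of_surjective
    (fun p : (Γ ⧸ C) × H => (QuotientGroup.mk (p.1.out * (p.2 : Γ)) : Γ ⧸ ι.range))
  intro q
  obtain ⟨g, rfl⟩ := QuotientGroup.mk_surjective q
  obtain ⟨s, hs⟩ := QuotientGroup.mk_out_eq_mul C g
  obtain ⟨z, x, hx, hsx⟩ := hZH s s.2
  refine ⟨((QuotientGroup.mk g : Γ ⧸ C), ⟨x⁻¹, H.inv_mem hx⟩), ?_⟩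
  show (QuotientGroup.mk ((QuotientGroup.mk g : Γ ⧸ C).out * x⁻¹) : Γ ⧸ ι.range) =
    QuotientGroup.mk g
  rw [QuotientGroup.eq, hs, hsx]
  have h1 : (g * (ι z * x) * x⁻¹)⁻¹ * g = ι z⁻¹ := by rw [map_inv]; group
  rw [h1]; exact MonoidHom.mem_range.mpr ⟨_, rfl⟩

end ClaimA

section Max

variable {V : Type*} [AddCommGroup V] [Module k V] [Module.Finite k V]
  (ρ : Representation k Γ V) (H : Subgroup Γ)

theorem mem_ZH_of_commute [IsAlgClosed k]
    (hw : ∀ (z : kˣ) (v : V), ρ (ι z) v = (z : k) • v)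
    [Nontrivial (invariants (ρ.comp H.subtype))]
    (hmax : ∀ H' : Subgroup Γ, H' ⊓ ι.range = ⊥ → H ≤ H' → H' = H)
    (s : Γ) (hs : ∀ x ∈ H, x * s = s * x) : ∃ z : kˣ, ∃ x ∈ H, s = ι z * x := by
  classical
  have hstab : ∀ v ∈ invariants (ρ.comp H.subtype), ρ s v ∈ invariants (ρ.comp H.subtype) := by
    intro v hv
    rw [mem_invariants] at hv ⊢
    intro y
    show ρ y (ρ s v) = ρ s v
    have h1 : ρ y (ρ s v) = ρ s (ρ y v) := by
      rw [← Module.End.mul_apply, ← map_mul, hs y y.2, map_mul, Module.End.mul_apply]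
    rw [h1]; congr 1; exact hv y
  let f : Module.End k (invariants (ρ.comp H.subtype)) := (ρ s).restrict hstab
  obtain ⟨μ, hμ⟩ := Module.End.exists_eigenvalue f
  obtain ⟨v, hv⟩ := hμ.exists_hasEigenvector
  have hv0 : (v : V) ≠ 0 := fun h => hv.2 (Subtype.ext h)
  have hfv : ρ s (v : V) = μ • (v : V) := congrArg Subtype.val hv.apply_eq_smul
  have hμ0 : μ ≠ 0 := by
    rintro rfl
    rw [zero_smul] at hfv
    apply hv0
    rw [← rho_inv_apply ρ s (v : V), hfv, map_zero]
  let H' : Subgroup Γ :=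
    { carrier := {g | ρ g (v : V) = v}
      mul_mem' := fun {a b} ha hb => by
        show ρ (a * b) (v : V) = v
        have ha' : ρ a (v : V) = v := ha
        have hb' : ρ b (v : V) = v := hb
        rw [map_mul, Module.End.mul_apply, hb', ha']
      one_mem' := by
        show ρ 1 (v : V) = v
        rw [map_one, Module.End.one_apply]
      inv_mem' := fun {a} ha => by
        show ρ a⁻¹ (v : V) = v
        have ha' : ρ a (v : V) = v := ha
        have h := rho_inv_apply ρ a (v : V)
        rwa [ha'] at h }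
  have hHH' : H ≤ H' := by
    intro x hx
    show ρ x (v : V) = v
    exact (mem_invariants _ _).mp v.2 ⟨x, hx⟩
  have hH'Z : H' ⊓ ι.range = ⊥ := by
    rw [Subgroup.eq_bot_iff_forall]
    rintro g ⟨hg1, hg2⟩
    obtain ⟨z, rfl⟩ := MonoidHom.mem_range.mp hg2
    have h1 : ρ (ι z) (v : V) = v := hg1
    rw [hw] at h1
    have h2 : ((z : k) - 1) • (v : V) = 0 := by rw [sub_smul, one_smul, h1, sub_self]
    rcases smul_eq_zero.mp h2 with h3 | h3
    · have h4 : z = 1 := Units.ext (by rw [Units.val_one]; exact sub_eq_zero.mp h3)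
      rw [h4, map_one]
    · exact absurd h3 hv0
  have hEq : H' = H := hmax H' hH'Z hHH'
  refine ⟨Units.mk0 μ hμ0, (ι (Units.mk0 μ hμ0))⁻¹ * s, ?_, by group⟩
  rw [← hEq]
  show ρ ((ι (Units.mk0 μ hμ0))⁻¹ * s) (v : V) = v
  rw [← map_inv, map_mul, Module.End.mul_apply, hfv, map_smul, hw, smul_smul,
    Units.val_inv_eq_inv_val, Units.val_mk0, mul_inv_cancel₀ hμ0, one_smul]

end Max

section Final

variable {V W : Type*} [AddCommGroup V] [Module k V] [Module.Finite k V]
  [AddCommGroup W] [Module k W] [Module.Finite k W]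
  (ρ : Representation k Γ V) (σ : Representation k Γ W) (H : Subgroup Γ)

theorem finrank_eq_invariants_mul [IsAlgClosed k] [ρ.IsIrreducible]
    (hι : Function.Injective ι) (hcent : ι.range = Subgroup.center Γ)
    (hcomm : commutator Γ ≤ ι.range)
    (hwρ : ∀ (z : kˣ) (v : V), ρ (ι z) v = (z : k) • v)
    (hwσ : ∀ (z : kˣ) (w : W), σ (ι z) w = (z : k) • w)
    (hH : H ⊓ ι.range = ⊥)
    (hmax : ∀ H' : Subgroup Γ, H' ⊓ ι.range = ⊥ → H ≤ H' → H' = H)
    [Finite (Γ ⧸ ι.range)] (hN : ((Nat.card (Γ ⧸ ι.range) : ℕ) : k) ≠ 0) :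
    Module.finrank k W =
      Module.finrank k (invariants (σ.comp H.subtype)) * Module.finrank k V := by
  classical
  have hC : ∀ g, g ∈ Subgroup.centralizer (H : Set Γ) ↔ ∀ x ∈ H, x * g = g * x :=
    fun g => Subgroup.mem_centralizer_iff
  have hZC : ι.range ≤ Subgroup.centralizer (H : Set Γ) := by
    intro g hg
    rw [hC]
    intro x _
    obtain ⟨z, rfl⟩ := MonoidHom.mem_range.mp hg
    exact iota_comm ι hcent z x
  haveI : (ι.range).FiniteIndex := Subgroup.finiteIndex_of_finite_quotient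
  haveI : (Subgroup.centralizer (H : Set Γ)).FiniteIndex := Subgroup.finiteIndex_of_le hZC
  haveI : Finite (Γ ⧸ Subgroup.centralizer (H : Set Γ)) :=
    Subgroup.finite_quotient_of_finiteIndex
  haveI : Finite H :=
    Finite.of_injective (fun x : H => (QuotientGroup.mk (x : Γ) : Γ ⧸ ι.range)) (by
      intro x y hxy
      have h1 := QuotientGroup.eq.mp hxy
      have h3 : (x : Γ)⁻¹ * y ∈ H ⊓ ι.range := ⟨H.mul_mem (H.inv_mem x.2) y.2, h1⟩
      rw [hH, Subgroup.mem_bot] at h3
      exact Subtype.ext (inv_mul_eq_one.mp h3))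
  have hdvd : Nat.card (Γ ⧸ Subgroup.centralizer (H : Set Γ)) ∣ Nat.card (Γ ⧸ ι.range) := by
    have := Subgroup.index_dvd_of_le hZC
    rwa [Subgroup.index_eq_card, Subgroup.index_eq_card] at this
  have hnC : ((Nat.card (Γ ⧸ Subgroup.centralizer (H : Set Γ)) : ℕ) : k) ≠ 0 := by
    intro h0
    obtain ⟨q, hq⟩ := hdvd
    apply hN
    rw [hq, Nat.cast_mul, h0, zero_mul]
  have hA_W := finrank_eq_card_mul_finrank_invariants ι σ H _ hι hcent hcomm hwσ hC hH hnC
  have hA_V := finrank_eq_card_mul_finrank_invariants ι ρ H _ hι hcent hcomm hwρ hC hH hnC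
  have hd2 := finrank_sq_eq ι ρ hι hcent hcomm hwρ
  haveI : Nontrivial V := IsSimpleModule.nontrivial k[Γ] ρ.asModule
  have hdpos : 0 < Module.finrank k V := Module.finrank_pos
  have hVinv_pos : 0 < Module.finrank k (invariants (ρ.comp H.subtype)) := by
    rcases Nat.eq_zero_or_pos (Module.finrank k (invariants (ρ.comp H.subtype))) with h0 | h0
    · rw [h0, mul_zero] at hA_V; omega
    · exact h0
  haveI : Nontrivial (invariants (ρ.comp H.subtype)) := Module.finrank_pos_iff.mp hVinv_pos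
  have hZH := mem_ZH_of_commute ι ρ H hwρ hmax
  have h4 := card_le_mul ι H (Subgroup.centralizer (H : Set Γ)) hC
    (fun s hs => hZH s ((hC s).mp hs))
  have h5 := card_le_card ι H (Subgroup.centralizer (H : Set Γ)) hι hcent hcomm hC hH
  have hnd : Nat.card (Γ ⧸ Subgroup.centralizer (H : Set Γ)) ≤ Module.finrank k V := by
    rw [hA_V]; exact Nat.le_mul_of_pos_right _ hVinv_pos
  have hdn : Module.finrank k V ≤ Nat.card (Γ ⧸ Subgroup.centralizer (H : Set Γ)) := by
    have h6 : Module.finrank k V ^ 2 ≤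
        Nat.card (Γ ⧸ Subgroup.centralizer (H : Set Γ)) ^ 2 := by
      rw [hd2]
      calc Nat.card (Γ ⧸ ι.range)
          ≤ Nat.card (Γ ⧸ Subgroup.centralizer (H : Set Γ)) * Nat.card H := h4
        _ ≤ Nat.card (Γ ⧸ Subgroup.centralizer (H : Set Γ)) *
            Nat.card (Γ ⧸ Subgroup.centralizer (H : Set Γ)) := Nat.mul_le_mul_left _ h5
        _ = _ := (sq _).symm
    exact (Nat.pow_le_pow_iff_left (by norm_num)).mp h6
  have hEq : Nat.card (Γ ⧸ Subgroup.centralizer (H : Set Γ)) = Module.finrank k V :=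
    le_antisymm hnd hdn
  rw [hA_W, hEq, mul_comm]

end Final

end

end Groth.Agent.Lib.Lead.Theta
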