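/-
Lead library: minimal polynomials of torsion elements of `A^×/K^×` for a central simple algebra
`A` over a field `K` containing all roots of unity.

* `exists_kummer_degree`: all irreducible factors of `X^m - c` over `K` are of the form
  `X^t - b` for one and the same `t`,
* `exists_redCharpoly`: the reduced characteristic polynomial (degree `n`, coefficients in `K`),
  all of whose irreducible factors divide the minimal polynomial.
-/
import Mathlib
import Groth.Agent.Lib.Lead.C1Brauer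
import Groth.Agent.Lib.Lead.Index

set_option autoImplicit false
universe u v
open scoped TensorProduct
open Polynomial

namespace Groth.Agent.Lib.Lead.TorsionMinpoly

open Groth.Agent.Lib.Lead

theorem exists_kummer_degree (K : Type u) [Field K]
    (hK : ∀ n : ℕ, 0 < n → (X ^ n - 1 : K[X]).Splits) (c : K) (hc : c ≠ 0) (m : ℕ)
    (hm : 0 < m) :
    ∃ t : ℕ, 0 < t ∧ ∀ q : K[X], Irreducible q → q ∣ X ^ m - C c →
      ∃ b : K, q * C (q.leadingCoeff⁻¹) = X ^ t - C b := by
  classical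
  obtain ⟨α₀, hα₀⟩ := IsAlgClosed.exists_pow_nat_eq (algebraMap K (AlgebraicClosure K) c) hm
  have hcΩ : algebraMap K (AlgebraicClosure K) c ≠ 0 := (_root_.map_ne_zero _).2 hc
  have hα₀0 : α₀ ≠ 0 := by
    rintro rfl
    rw [zero_pow hm.ne'] at hα₀
    exact hcΩ hα₀.symm
  have hroot : ∀ β : AlgebraicClosure K, β ^ m = algebraMap K (AlgebraicClosure K) c →
      ∃ z : K, z ≠ 0 ∧ β = algebraMap K (AlgebraicClosure K) z * α₀ := by
    intro β hβ
    have h1 : (β / α₀) ^ m = 1 := by rw [div_pow, hβ, hα₀, div_self hcΩ]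
    have h2 : ((X ^ m - 1 : K[X]).map (algebraMap K (AlgebraicClosure K))).IsRoot (β / α₀) := by
      rw [Polynomial.IsRoot.def, Polynomial.eval_map_algebraMap]
      simp [h1]
    have hne : (X ^ m - 1 : K[X]) ≠ 0 := by
      have := Polynomial.X_pow_sub_C_ne_zero hm (1 : K)
      rwa [map_one] at this
    obtain ⟨z, hz⟩ := RingHom.mem_range.1 ((hK m hm).mem_range_of_isRoot hne h2)
    refine ⟨z, ?_, ?_⟩
    · rintro rfl
      rw [map_zero] at hz
      rw [← hz, zero_pow hm.ne'] at h1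
      exact zero_ne_one h1
    · rw [hz, div_mul_cancel₀ _ hα₀0]
  have hex : ∃ j : ℕ, 0 < j ∧ α₀ ^ j ∈ Set.range (algebraMap K (AlgebraicClosure K)) :=
    ⟨m, hm, c, hα₀.symm⟩
  obtain ⟨ht0, b₀, hb₀⟩ := Nat.find_spec hex
  have htmin : ∀ j, 0 < j → α₀ ^ j ∈ Set.range (algebraMap K (AlgebraicClosure K)) →
      Nat.find hex ≤ j := fun j h1 h2 => Nat.find_min' hex ⟨h1, h2⟩
  generalize Nat.find hex = t at ht0 hb₀ htmin
  have htdvd : ∀ j, α₀ ^ j ∈ Set.range (algebraMap K (AlgebraicClosure K)) → t ∣ j := by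
    intro j hj
    have hs : α₀ ^ (j % t) ∈ Set.range (algebraMap K (AlgebraicClosure K)) := by
      obtain ⟨y, hy⟩ := hj
      refine ⟨y / b₀ ^ (j / t), ?_⟩
      rw [map_div₀, map_pow, hy, hb₀, ← pow_mul, eq_comm,
        eq_div_iff (pow_ne_zero _ hα₀0), ← pow_add, Nat.mod_add_div]
    by_contra hnd
    have hpos : 0 < j % t := Nat.pos_of_ne_zero (fun h => hnd (Nat.dvd_of_mod_eq_zero h))
    have h1 := htmin _ hpos hs
    have h2 := Nat.mod_lt j ht0
    omega
  refine ⟨t, ht0, ?_⟩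
  intro q hq hqd
  have hq0 : q ≠ 0 := hq.ne_zero
  have hlc : q.leadingCoeff ≠ 0 := Polynomial.leadingCoeff_ne_zero.2 hq0
  have hq'm : (q * C q.leadingCoeff⁻¹).Monic := Polynomial.monic_mul_leadingCoeff_inv hq0
  have hq'irr : Irreducible (q * C q.leadingCoeff⁻¹) :=
    Polynomial.irreducible_mul_leadingCoeff_inv.2 hq
  have hq'd : q * C q.leadingCoeff⁻¹ ∣ X ^ m - C c := by
    refine dvd_trans ⟨C q.leadingCoeff, ?_⟩ hqd
    rw [mul_assoc, ← C_mul, inv_mul_cancel₀ hlc, C_1, mul_one]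
  generalize q * C q.leadingCoeff⁻¹ = p at hq'm hq'irr hq'd
  have hpdeg : p.degree ≠ 0 := (Polynomial.degree_pos_of_irreducible hq'irr).ne'
  obtain ⟨α, hα⟩ := IsAlgClosed.exists_aeval_eq_zero (AlgebraicClosure K) p hpdeg
  have hpow : ∀ β : AlgebraicClosure K, Polynomial.aeval β p = 0 →
      β ^ m = algebraMap K (AlgebraicClosure K) c := by
    intro β hβ
    obtain ⟨s, hs⟩ := hq'd
    have h1 : Polynomial.aeval β (X ^ m - C c) = 0 := by rw [hs, map_mul, hβ, zero_mul]
    rw [map_sub, map_pow, Polynomial.aeval_X, Polynomial.aeval_C, sub_eq_zero] at h1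
    exact h1
  obtain ⟨z, hz0, hzα⟩ := hroot α (hpow α hα)
  have hpmin : p = minpoly K α := minpoly.eq_of_irreducible_of_monic hq'irr hα hq'm
  have hαt : α ^ t = algebraMap K (AlgebraicClosure K) (z ^ t * b₀) := by
    rw [hzα, mul_pow, map_mul, map_pow, hb₀]
  have hpd : p ∣ X ^ t - C (z ^ t * b₀) := by
    rw [hpmin]
    apply minpoly.dvd
    rw [map_sub, map_pow, Polynomial.aeval_X, Polynomial.aeval_C, hαt, sub_self]
  have hle : p.natDegree ≤ t := by
    have := Polynomial.natDegree_le_of_dvd hpd (Polynomial.X_pow_sub_C_ne_zero ht0 _)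
    rwa [Polynomial.natDegree_X_pow_sub_C] at this
  have hsp : (p.map (algebraMap K (AlgebraicClosure K))).Splits := IsAlgClosed.splits _
  have hmonic : (p.map (algebraMap K (AlgebraicClosure K))).Monic := hq'm.map _
  have hcard : (p.map (algebraMap K (AlgebraicClosure K))).roots.card = p.natDegree := by
    rw [← hsp.natDegree_eq_card_roots, Polynomial.natDegree_map]
  have hcoeff := hsp.coeff_zero_eq_prod_roots_of_monic hmonic
  rw [Polynomial.coeff_map, Polynomial.natDegree_map] at hcoeff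
  have hmult : ∀ S : Multiset (AlgebraicClosure K),
      (∀ β ∈ S, β ^ m = algebraMap K (AlgebraicClosure K) c) →
      ∃ w : K, w ≠ 0 ∧ S.prod = algebraMap K (AlgebraicClosure K) w * α₀ ^ Multiset.card S := by
    intro S
    induction S using Multiset.induction_on with
    | empty => intro _; exact ⟨1, one_ne_zero, by simp⟩
    | cons β S ih =>
      intro hS
      obtain ⟨w, hw0, hw⟩ := ih (fun β' hβ' => hS β' (Multiset.mem_cons_of_mem hβ'))
      obtain ⟨z', hz'0, hz'⟩ := hroot β (hS β (Multiset.mem_cons_self β S))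
      refine ⟨z' * w, mul_ne_zero hz'0 hw0, ?_⟩
      rw [Multiset.prod_cons, Multiset.card_cons, hw, hz', map_mul, pow_succ]
      ring
  obtain ⟨w, hw0, hw⟩ := hmult _ (fun β hβ => by
    rw [Polynomial.mem_roots hmonic.ne_zero, Polynomial.IsRoot.def,
      Polynomial.eval_map_algebraMap] at hβ
    exact hpow β hβ)
  rw [hw, hcard] at hcoeff
  have hδ : α₀ ^ p.natDegree ∈ Set.range (algebraMap K (AlgebraicClosure K)) := by
    refine ⟨(-1) ^ p.natDegree * p.coeff 0 / w, ?_⟩
    have hwΩ : algebraMap K (AlgebraicClosure K) w ≠ 0 := (_root_.map_ne_zero _).2 hw0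
    have hsq : ((-1 : AlgebraicClosure K) ^ p.natDegree) * ((-1) ^ p.natDegree) = 1 := by
      rw [← mul_pow]; simp
    rw [map_div₀, map_mul, map_pow, map_neg, map_one, hcoeff, ← mul_assoc, hsq, one_mul,
      mul_div_cancel_left₀ _ hwΩ]
  have htd : t ∣ p.natDegree := htdvd _ hδ
  have hpos := hq'irr.natDegree_pos
  have hdeg : p.natDegree = t := Nat.le_antisymm hle (Nat.le_of_dvd hpos htd)
  refine ⟨z ^ t * b₀, ?_⟩
  exact (Polynomial.eq_of_monic_of_dvd_of_natDegree_le hq'm
    (Polynomial.monic_X_pow_sub_C _ ht0.ne') hpd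
    (by rw [Polynomial.natDegree_X_pow_sub_C, hdeg])).symm

section red

variable (K : Type u) [Field K]

local notation "Ks" => SeparableClosure K

theorem exists_redCharpoly (A : Type v) [Ring A] [Algebra K A]
    [Algebra.IsCentral K A] [IsSimpleRing A] [FiniteDimensional K A]
    (n : ℕ) (hn : Module.finrank K A = n ^ 2) (x : A) :
    ∃ P : K[X], P.Monic ∧ P.natDegree = n ∧
      ∀ q : K[X], Irreducible q → q ∣ P → q ∣ minpoly K x := by
  classical
  have hn0 : n ≠ 0 := by
    rintro rfl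
    have h0 : 0 < Module.finrank K A := Module.finrank_pos
    rw [hn] at h0
    simp at h0
  obtain ⟨d, hIdx⟩ := Index.exists_isIndex K A
  obtain ⟨k', _, _, hfin, hsep, -, hspl⟩ := Index.exists_field_of_isIndex hIdx
  haveI := hfin
  haveI := hsep
  obtain ⟨n', hn', ⟨φ⟩⟩ := hspl
  have hnn : n' = n := by
    have h1 := Split.finrank_of_splits_equiv φ
    rw [hn] at h1
    exact (Nat.pow_left_injective (n := 2) (by norm_num) h1).symm
  subst hnn
  let ι : k' →ₐ[K] Ks := IsSepClosed.lift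
  let ρ : A →ₐ[K] Matrix (Fin n') (Fin n') Ks := ι.mapMatrix.comp (Brauer.algHomOfSplit φ)
  have hinv : ∀ σ : Ks ≃ₐ[K] Ks,
      (ρ x).charpoly.map (((σ : Ks →ₐ[K] Ks) : Ks →+* Ks)) = (ρ x).charpoly := by
    intro σ
    obtain ⟨U, hU⟩ := RedNorm.exists_conj hn0 ((σ : Ks →ₐ[K] Ks).mapMatrix.comp ρ) ρ
    rw [← Matrix.charpoly_map]
    have h1 : (ρ x).map (((σ : Ks →ₐ[K] Ks) : Ks →+* Ks)) =
        (U : Matrix (Fin n') (Fin n') Ks) * ρ x *
          ((U⁻¹ : (Matrix (Fin n') (Fin n') Ks)ˣ) : Matrix (Fin n') (Fin n') Ks) := hU x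
    rw [h1, Matrix.coe_units_inv, Matrix.charpoly_units_conj]
  have hlift : (ρ x).charpoly ∈ Polynomial.lifts (algebraMap K Ks) := by
    rw [Polynomial.lifts_iff_coeff_lifts]
    intro i
    rw [InfiniteGalois.mem_range_algebraMap_iff_fixed]
    intro σ
    have h2 := congrArg (fun p => p.coeff i) (hinv σ)
    simpa [Polynomial.coeff_map] using h2
  obtain ⟨P, hP⟩ := (Polynomial.mem_lifts _).1 hlift
  have hPm : P.Monic :=
    Polynomial.monic_of_injective (algebraMap K Ks).injective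
      (by rw [hP]; exact Matrix.charpoly_monic _)
  refine ⟨P, hPm, ?_, ?_⟩
  · rw [← Polynomial.natDegree_map (algebraMap K Ks), hP, Matrix.charpoly_natDegree_eq_dim,
      Fintype.card_fin]
  intro q hq hqP
  have hqK0 : q.map (algebraMap K Ks) ≠ 0 :=
    (Polynomial.map_ne_zero_iff (algebraMap K Ks).injective).2 hq.ne_zero
  have hqKnu : ¬ IsUnit (q.map (algebraMap K Ks)) := by
    intro hu
    have h1 := Polynomial.natDegree_eq_zero_of_isUnit hu
    rw [Polynomial.natDegree_map] at h1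
    have := hq.natDegree_pos
    omega
  obtain ⟨q₁, hq₁, hq₁d⟩ := WfDvdMonoid.exists_irreducible_factor hqKnu hqK0
  haveI : Fact (Irreducible q₁) := ⟨hq₁⟩
  have hβq : Polynomial.aeval (AdjoinRoot.root q₁) q = 0 := by
    have h1 : Polynomial.aeval (AdjoinRoot.root q₁) (q.map (algebraMap K Ks)) = 0 := by
      obtain ⟨s, hs⟩ := hq₁d
      rw [hs, map_mul, AdjoinRoot.aeval_eq, AdjoinRoot.mk_self, zero_mul]
    rwa [Polynomial.aeval_map_algebraMap] at h1
  let ρF : A →ₐ[K] Matrix (Fin n') (Fin n') (AdjoinRoot q₁) :=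
    ((IsScalarTower.toAlgHom K Ks (AdjoinRoot q₁)).mapMatrix).comp ρ
  have hchar : (ρF x).charpoly = P.map (algebraMap K (AdjoinRoot q₁)) := by
    have h1 : ρF x = (ρ x).map (algebraMap Ks (AdjoinRoot q₁)) := rfl
    rw [h1, Matrix.charpoly_map, ← hP, Polynomial.map_map, ← IsScalarTower.algebraMap_eq]
  have hroot : (ρF x).charpoly.IsRoot (AdjoinRoot.root q₁) := by
    rw [hchar, Polynomial.IsRoot.def, Polynomial.eval_map_algebraMap]
    obtain ⟨s, hs⟩ := hqP
    rw [hs, map_mul, hβq, zero_mul]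
  have hspec : AdjoinRoot.root q₁ ∈ spectrum (AdjoinRoot q₁) (ρF x) :=
    Matrix.mem_spectrum_iff_isRoot_charpoly.2 hroot
  have hann : Polynomial.aeval (ρF x)
      ((minpoly K x).map (algebraMap K (AdjoinRoot q₁))) = 0 := by
    rw [Polynomial.aeval_map_algebraMap, Polynomial.aeval_algHom_apply, minpoly.aeval, map_zero]
  haveI : Nonempty (Fin n') := ⟨⟨0, Nat.pos_of_ne_zero hn0⟩⟩
  have h3 : Polynomial.eval (AdjoinRoot.root q₁)
      ((minpoly K x).map (algebraMap K (AdjoinRoot q₁))) ∈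
      spectrum (AdjoinRoot q₁) (Polynomial.aeval (ρF x)
        ((minpoly K x).map (algebraMap K (AdjoinRoot q₁)))) :=
    spectrum.subset_polynomial_aeval (ρF x)
      ((minpoly K x).map (algebraMap K (AdjoinRoot q₁))) ⟨AdjoinRoot.root q₁, hspec, rfl⟩
  rw [hann, spectrum.zero_eq, Set.mem_singleton_iff, Polynomial.eval_map_algebraMap] at h3
  have hmin : minpoly K (AdjoinRoot.root q₁) ∣ minpoly K x := minpoly.dvd K _ h3
  obtain ⟨s, hs⟩ := minpoly.dvd K (AdjoinRoot.root q₁) hβq
  rcases hq.isUnit_or_isUnit hs with h | h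
  · exact absurd h (minpoly.not_isUnit K (AdjoinRoot.root q₁))
  · have h4 : q ∣ minpoly K (AdjoinRoot.root q₁) := by
      rw [hs]
      exact (IsUnit.mul_right_dvd h).2 dvd_rfl
    exact dvd_trans h4 hmin

end red

end Groth.Agent.Lib.Lead.TorsionMinpoly
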