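import Mathlib
import Groth.Prelude.Def_Red2
import Groth.Agent.Lib.Helper13.GaGm
import Groth.Agent.Lib.Helper1.AffUnits
import Groth.Agent.Lib.Helper1.DiagGa

/-!
# Morphisms from the additive group to a diagonalisable group over a reduced base (lead)

`eq_one_of_one_comp`: over a reduced base, a morphism of schemes `𝔾_a ⟶ D(M)` which sends the
zero section to the unit section is trivial (the character functions are units of the affine line
over a reduced base, hence constant).
-/

set_option autoImplicit false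
set_option linter.style.haveILetI false
universe u
open CategoryTheory MonoidalCategory CartesianMonoidalCategory MonObj GrpObj AlgebraicGeometry Limits
open Red Groth.Agent.Lib.Helper13 AffineSpace Groth.Agent.Lib.Helper1.DiagGa

namespace Groth.Agent.Lib.Lead.UnipTorus

variable {S : Scheme.{u}} {M : Type} [AddCommGroup M]

theorem isUnit_chiFn {X : Over S} (x : X ⟶ DS S M) (m : Multiplicative M) : IsUnit (chiFn x m) := by
  refine IsUnit.of_mul_eq_one (chiFn x m⁻¹) ?_
  rw [← chiFn_mul_elt, _root_.mul_inv_cancel, chiFn_one]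

theorem chiFn_one_pt {X : Over S} (m : Multiplicative M) : chiFn (1 : X ⟶ DS S M) m = 1 := by
  have h : chiFn ((1 : X ⟶ DS S M) * 1) m = chiFn (1 : X ⟶ DS S M) m * chiFn (1 : X ⟶ DS S M) m :=
    chiFn_mul _ _ _
  have e1 : (1 : X ⟶ DS S M) * 1 = 1 := _root_.mul_one (1 : X ⟶ DS S M)
  rw [e1] at h
  have hu := isUnit_chiFn (1 : X ⟶ DS S M) m
  have h' : chiFn (1 : X ⟶ DS S M) m * chiFn (1 : X ⟶ DS S M) m =
      chiFn (1 : X ⟶ DS S M) m * 1 := by rw [← h, _root_.mul_one]
  exact hu.mul_left_cancel h'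

/-- Over a reduced base a morphism `𝔾_a ⟶ D(M)` preserving the unit section is trivial. -/
theorem eq_one_of_one_comp [IsReduced S] (φ : Ga S ⟶ DS S M)
    (h0 : (1 : 𝟙_ (Over S) ⟶ Ga S) ≫ φ = 1) : φ = 1 := by
  let n : Type u := PUnit.{u+1}
  let A : Over S := Over.mk (𝔸(n; S) ↘ S)
  obtain ⟨α, hα⟩ := exists_gaFn_eq (S := S) (X := A) (coord S PUnit.unit)
  apply pt_ext'
  intro m
  let f := chiFn φ m
  have hf : IsUnit f := isUnit_chiFn φ m
  obtain ⟨v, hv, hpv⟩ := Groth.Agent.Lib.Helper1.AffUnits.units_affineSpace n S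
    (α.left.appTop f) (hf.map α.left.appTop.hom)
  have key : ∀ (X : Over S) (x : X ⟶ Ga S), chiFn (x ≫ φ) m = X.hom.appTop v := by
    intro X x
    let h : X ⟶ A := Over.homMk (homOfVector X.hom (fun _ => gaFn x)) (homOfVector_over _ _)
    have hx : h ≫ α = x := by
      apply gaFn_injective
      rw [gaFn_comp, hα]
      exact homOfVector_appTop_coord _ _ _
    rw [chiFn_comp, ← hx, Over.comp_left, Scheme.Hom.comp_appTop, CommRingCat.comp_apply]
    change h.left.appTop (α.left.appTop f) = _
    rw [← hpv, ← CommRingCat.comp_apply, ← Scheme.Hom.comp_appTop]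
    congr 3
    exact homOfVector_over _ _
  have hv1 : v = 1 := by
    have h1 := key (𝟙_ (Over S)) 1
    rw [h0, chiFn_one_pt] at h1
    have : (𝟙_ (Over S)).hom = 𝟙 S := rfl
    rw [this] at h1
    simpa using h1.symm
  have h2 := key (Ga S) (𝟙 _)
  rw [Category.id_comp, hv1, map_one] at h2
  rw [h2, chiFn_one_pt]

end Groth.Agent.Lib.Lead.UnipTorus
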