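import Mathlib
import Groth.Prelude.Def_Red2
import Groth.Agent.Lib.Helper18.BcComp

/-!
# Homomorphisms of group schemes: faithfulness of fpqc base change and factorisation through
a quotient (lead)

* `map_injective`: base change along a flat surjective quasi-compact morphism is faithful.
* `exists_factor`: a homomorphism killing the kernel of a flat surjective quasi-compact
  homomorphism `q` factors through `q` (as a morphism preserving the unit section).
-/

set_option autoImplicit false
set_option linter.style.haveILetI false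
universe u
open CategoryTheory MonoidalCategory CartesianMonoidalCategory MonObj GrpObj AlgebraicGeometry Limits
open Red

namespace Groth.Agent.Lib.Lead.UnipTorus

variable {S V : Scheme.{u}}

/-- Base change along a flat, surjective, quasi-compact morphism is faithful. -/
theorem map_injective (v : V ⟶ S) [Flat v] [Surjective v] [QuasiCompact v] {A B : Over S}
    (φ φ' : A ⟶ B) (h : (Over.pullback v).map φ = (Over.pullback v).map φ') : φ = φ' := by
  have h1 := (Groth.Agent.Lib.Helper18.isPullback_map_left v φ).w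
  have h2 := (Groth.Agent.Lib.Helper18.isPullback_map_left v φ').w
  rw [h] at h1
  have h3 : pullback.fst A.hom v ≫ φ.left = pullback.fst A.hom v ≫ φ'.left := h1.symm.trans h2
  haveI : EffectiveEpi (pullback.fst A.hom v) := inferInstance
  apply Over.OverMorphism.ext
  exact (cancel_epi (pullback.fst A.hom v)).1 h3

/-- A homomorphism killing the kernel of a flat surjective quasi-compact homomorphism `q` factors
through `q`. -/
theorem exists_factor {N G Q T : Over S} [GrpObj G] [GrpObj Q] [GrpObj T]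
    (i : N ⟶ G) (q : G ⟶ Q) [IsMonHom q] (hker : AlgGrp.IsKernel i q)
    [Flat q.left] [Surjective q.left] [QuasiCompact q.left]
    (h : G ⟶ T) [IsMonHom h] (hi : i ≫ h = 1) :
    ∃ ψ : Q ⟶ T, q ≫ ψ = h ∧ (1 : 𝟙_ (Over S) ⟶ Q) ≫ ψ = 1 := by
  haveI : EffectiveEpi q.left := inferInstance
  have key : ∀ {Z : Scheme.{u}} (g₁ g₂ : Z ⟶ G.left), g₁ ≫ q.left = g₂ ≫ q.left →
      g₁ ≫ h.left = g₂ ≫ h.left := by
    intro Z g₁ g₂ hg
    let Z' : Over S := Over.mk (g₁ ≫ G.hom)
    let x₁ : Z' ⟶ G := Over.homMk g₁ rfl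
    let x₂ : Z' ⟶ G := Over.homMk g₂ (by
      show g₂ ≫ G.hom = g₁ ≫ G.hom
      rw [← Over.w q, ← Category.assoc, ← Category.assoc, hg])
    have hq : x₁ ≫ q = x₂ ≫ q := Over.OverMorphism.ext hg
    let d : Z' ⟶ G := x₁⁻¹ * x₂
    have hd : d ≫ q = toUnit Z' ≫ η[Q] := by
      show (x₁⁻¹ * x₂) ≫ q = _
      rw [MonObj.mul_comp, GrpObj.inv_comp, hq, inv_mul_cancel]
      rfl
    have hn := hker.lift_fst d (toUnit Z') hd
    have hdh : d ≫ h = 1 := by
      rw [← hn, Category.assoc, hi, MonObj.comp_one]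
    have hx : x₁ ≫ h = x₂ ≫ h := by
      have : (x₁ ≫ h)⁻¹ * (x₂ ≫ h) = 1 := by
        rw [← GrpObj.inv_comp, ← MonObj.mul_comp]
        exact hdh
      exact inv_mul_eq_one.1 this
    exact congrArg (fun t => t.left) hx
  let ψl : Q.left ⟶ T.left := EffectiveEpi.desc q.left h.left key
  have hfac : q.left ≫ ψl = h.left := EffectiveEpi.fac q.left h.left key
  have hw : ψl ≫ T.hom = Q.hom := by
    rw [← cancel_epi q.left, ← Category.assoc, hfac, Over.w h, Over.w q]
  let ψ : Q ⟶ T := Over.homMk ψl hw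
  have hqψ : q ≫ ψ = h := Over.OverMorphism.ext hfac
  refine ⟨ψ, hqψ, ?_⟩
  have h1 : (1 : 𝟙_ (Over S) ⟶ Q) = (1 : 𝟙_ (Over S) ⟶ G) ≫ q := (MonObj.one_comp q).symm
  rw [h1, Category.assoc, hqψ, MonObj.one_comp]

end Groth.Agent.Lib.Lead.UnipTorus
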