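import Mathlib
import Groth.Prelude.Def_Red2
import Groth.Agent.Lib.Helper18.BcComp
import Groth.Agent.Lib.Helper1.DiagGa
import Groth.Agent.Lib.Lead.UnipTorusA
import Groth.Agent.Lib.Lead.UnipTorusB

/-!
# Homomorphisms from iterated extensions of additive groups to a torus over a field (lead)
-/

set_option autoImplicit false
set_option linter.style.haveILetI false
universe u
open CategoryTheory MonoidalCategory CartesianMonoidalCategory MonObj GrpObj AlgebraicGeometry Limits
open Red Groth.Agent.Lib.Helper13 Groth.Agent.Lib.Helper1.DiagGa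

namespace Groth.Agent.Lib.Lead.UnipTorus

section Fields

variable {K : CommRingCat.{u}} [Nontrivial K] {k : Type u} [Field k]

theorem flat_of_field (v : Spec K ⟶ Spec (CommRingCat.of k)) : Flat v := by
  rw [← Spec.map_preimage v, HasRingHomProperty.Spec_iff (P := @Flat)]
  unfold RingHom.Flat
  letI := (Spec.preimage v).hom.toAlgebra
  exact inferInstance

theorem surjective_of_field (v : Spec K ⟶ Spec (CommRingCat.of k)) :
    Surjective v := by
  refine ⟨fun x => ?_⟩
  haveI : Subsingleton (Spec (CommRingCat.of k)) :=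
    inferInstanceAs (Subsingleton (PrimeSpectrum k))
  haveI : Nonempty (Spec K) := inferInstanceAs (Nonempty (PrimeSpectrum K))
  exact ⟨Classical.arbitrary _, Subsingleton.elim _ _⟩

end Fields

section Eta

variable {S V : Scheme.{u}}

theorem one_comp_of_eta {G H : Over S} [GrpObj G] [GrpObj H] (ψ : G ⟶ H)
    (h : η[G] ≫ ψ = η[H]) (X : Over S) : (1 : X ⟶ G) ≫ ψ = 1 := by
  rw [Hom.one_def, Category.assoc, h]
  rfl

theorem eta_of_one_comp {G H : Over S} [GrpObj G] [GrpObj H] (ψ : G ⟶ H)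
    (h : (1 : 𝟙_ (Over S) ⟶ G) ≫ ψ = 1) : η[G] ≫ ψ = η[H] := by
  rw [Hom.one_def, Hom.one_def, Category.assoc] at h
  have e : toUnit (𝟙_ (Over S)) = 𝟙 _ := toUnit_unique _ _
  rw [e, Category.id_comp, Category.id_comp] at h
  exact h

theorem eta_map (v : V ⟶ S) {G H : Over S} [GrpObj G] [GrpObj H] (ψ : G ⟶ H)
    (h : η[G] ≫ ψ = η[H]) : η[bc v G] ≫ (Over.pullback v).map ψ = η[bc v H] := by
  have hG : η[bc v G] = Functor.LaxMonoidal.ε (Over.pullback v) ≫ (Over.pullback v).map η[G] := rfl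
  have hH : η[bc v H] = Functor.LaxMonoidal.ε (Over.pullback v) ≫ (Over.pullback v).map η[H] := rfl
  rw [hG, hH, Category.assoc, ← Functor.map_comp, h]

/-- transporting a trivialisation of a torus along a further base change. -/
theorem exists_theta {U' : Scheme.{u}} (j : V ⟶ U') (g : U' ⟶ S) (T : Over S) [GrpObj T]
    (M : Type) [AddCommGroup M] (e₀ : bc g T ⟶ DS U' M) [IsMonHom e₀] [IsIso e₀] :
    ∃ θ : bc (j ≫ g) T ⟶ DS V M, IsIso θ ∧ η[bc (j ≫ g) T] ≫ θ = η[DS V M] := by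
  have hc : j ≫ Limits.IsTerminal.from specULiftZIsTerminal U' =
      Limits.IsTerminal.from specULiftZIsTerminal V := specULiftZIsTerminal.hom_ext _ _
  refine ⟨(Groth.Agent.Lib.Helper18.bcCompIso j g (rfl : j ≫ g = j ≫ g) T).inv ≫
    (Over.pullback j).map e₀ ≫ (Groth.Agent.Lib.Helper18.bcCompIso j
      (Limits.IsTerminal.from specULiftZIsTerminal U') hc (diag (ULift.{u} ℤ) M)).hom,
    inferInstance, ?_⟩
  haveI i1 : IsMonHom (Groth.Agent.Lib.Helper18.bcCompIso j g (rfl : j ≫ g = j ≫ g) T).inv :=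
    Groth.Agent.Lib.Helper18.isMonHom_bcCompIso_inv j g rfl T
  haveI i3 : IsMonHom (Groth.Agent.Lib.Helper18.bcCompIso j
      (Limits.IsTerminal.from specULiftZIsTerminal U') hc (diag (ULift.{u} ℤ) M)).hom :=
    Groth.Agent.Lib.Helper18.isMonHom_bcCompIso_hom j _ hc (diag (ULift.{u} ℤ) M)
  have h1 : η[bc (j ≫ g) T] ≫ (Groth.Agent.Lib.Helper18.bcCompIso j g
      (rfl : j ≫ g = j ≫ g) T).inv = η[bc j (bc g T)] := IsMonHom.one_hom _
  have h2 : η[bc j (bc g T)] ≫ (Over.pullback j).map e₀ = η[bc j (DS U' M)] :=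
    eta_map j e₀ (IsMonHom.one_hom e₀)
  have h3 : η[bc j (DS U' M)] ≫ (Groth.Agent.Lib.Helper18.bcCompIso j
      (Limits.IsTerminal.from specULiftZIsTerminal U') hc (diag (ULift.{u} ℤ) M)).hom =
      η[DS V M] := IsMonHom.one_hom _
  rw [← Category.assoc, ← Category.assoc, h1, h2, h3]

/-- Given a trivialisation of `T` over a reduced fpqc base `V`, unit-preserving morphisms from the
additive group to `T` are trivial. -/
theorem eq_one_of_theta (v : V ⟶ S) [Flat v] [Surjective v] [QuasiCompact v] [IsReduced V]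
    (T : Over S) [GrpObj T] (M : Type) [AddCommGroup M]
    (θ : bc v T ⟶ DS V M) [IsIso θ] (hθ : η[bc v T] ≫ θ = η[DS V M])
    (ψ : Ga S ⟶ T) (hψ : η[Ga S] ≫ ψ = η[T]) : ψ = 1 := by
  have hcompS : v ≫ Limits.IsTerminal.from specULiftZIsTerminal S =
      Limits.IsTerminal.from specULiftZIsTerminal V := specULiftZIsTerminal.hom_ext _ _
  haveI i4 : IsMonHom (Groth.Agent.Lib.Helper18.bcCompIso v
      (Limits.IsTerminal.from specULiftZIsTerminal S) hcompS GaZ).inv :=
    Groth.Agent.Lib.Helper18.isMonHom_bcCompIso_inv v _ hcompS GaZ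
  have hw0 : η[Ga V] ≫ ((Groth.Agent.Lib.Helper18.bcCompIso v
      (Limits.IsTerminal.from specULiftZIsTerminal S) hcompS GaZ).inv ≫
        (Over.pullback v).map ψ ≫ θ) = η[DS V M] := by
    have h1 : η[Ga V] ≫ (Groth.Agent.Lib.Helper18.bcCompIso v
      (Limits.IsTerminal.from specULiftZIsTerminal S) hcompS GaZ).inv = η[bc v (Ga S)] :=
      IsMonHom.one_hom _
    have h2 := eta_map v ψ hψ
    rw [← Category.assoc, ← Category.assoc, h1, h2, hθ]
  have hw := eq_one_of_one_comp _ (one_comp_of_eta _ hw0 _)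
  have hFψ : (Over.pullback v).map ψ = 1 := by
    have h1 : (Over.pullback v).map ψ ≫ θ = 1 := by
      have := congrArg (fun t => (Groth.Agent.Lib.Helper18.bcCompIso v
        (Limits.IsTerminal.from specULiftZIsTerminal S) hcompS GaZ).hom ≫ t) hw
      simp only [Iso.hom_inv_id_assoc] at this
      rw [this, MonObj.comp_one]
    rw [← cancel_mono θ, h1, one_comp_of_eta θ hθ]
  apply map_injective v
  rw [hFψ, pullback_map_one]

end Eta

section Torus

variable {k : Type u} [Field k]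

/-- Over a field, a unit-preserving morphism from the additive group to a torus is trivial. -/
theorem ga_to_torus_eq_one (T : Over (Spec (CommRingCat.of k))) [GrpObj T] (hT : Red.IsTorus T)
    (ψ : Ga (Spec (CommRingCat.of k)) ⟶ T) (hψ : η[Ga (Spec (CommRingCat.of k))] ≫ ψ = η[T]) :
    ψ = 1 := by
  obtain ⟨S', f, hflat, hsurj, -, hloc⟩ := hT
  obtain ⟨s', -⟩ := hsurj.surj (Classical.arbitrary (Spec (CommRingCat.of k)))
  obtain ⟨U, hsU, r, ⟨e⟩⟩ := hloc s'
  haveI : IsIso e.hom.hom.hom := by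
    refine ⟨e.inv.hom.hom, ?_, ?_⟩
    · rw [← Grp.comp_hom_hom, Iso.hom_inv_id, Grp.id_hom_hom]
    · rw [← Grp.comp_hom_hom, Iso.inv_hom_id, Grp.id_hom_hom]
  obtain ⟨θ, hθi, hθ⟩ := exists_theta ((U : Scheme.{u}).fromSpecResidueField ⟨s', hsU⟩)
    (U.ι ≫ f) T (Fin r → ℤ) e.hom.hom.hom
  haveI := hθi
  haveI : Flat ((U : Scheme.{u}).fromSpecResidueField ⟨s', hsU⟩ ≫ U.ι ≫ f) := flat_of_field _
  haveI : Surjective ((U : Scheme.{u}).fromSpecResidueField ⟨s', hsU⟩ ≫ U.ι ≫ f) :=
    surjective_of_field _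
  exact eq_one_of_theta ((U : Scheme.{u}).fromSpecResidueField ⟨s', hsU⟩ ≫ U.ι ≫ f) T
    (Fin r → ℤ) θ hθ ψ hψ

end Torus

end Groth.Agent.Lib.Lead.UnipTorus
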