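import Mathlib
import Groth.Prelude.Def_Red2
import Groth.Agent.Lib.Lead.UnipTorusB
import Groth.Agent.Lib.Lead.UnipTorusC

/-!
# Homomorphisms from iterated extensions of additive groups to a torus over a field (lead)

`hom_to_torus_eq_one`: over a field, a group with a composition series by additive groups has no
non-trivial homomorphism to a torus.
-/

set_option autoImplicit false
set_option linter.style.haveILetI false
universe u
open CategoryTheory MonoidalCategory CartesianMonoidalCategory MonObj GrpObj AlgebraicGeometry Limits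
open Red

namespace Groth.Agent.Lib.Lead.UnipTorus

variable {k : Type u} [Field k]

/-- homomorphisms out of a trivial group are trivial. -/
theorem eq_one_of_isTrivialGrp {S : Scheme.{u}} {G T : Over S} [GrpObj G] [GrpObj T]
    (hG : Red.IsTrivialGrp G) (h : G ⟶ T) [IsMonHom h] : h = 1 := by
  haveI : IsIso G.hom := hG
  have h1 : 𝟙 G = 1 := by
    apply Over.OverMorphism.ext
    rw [← cancel_mono G.hom, Over.w, Over.w]
  rw [← Category.id_comp h, h1, MonObj.one_comp]

theorem hom_to_torus_eq_one
    (T : Over (Spec (CommRingCat.of k))) [GrpObj T] (hT : Red.IsTorus T)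
    (n : ℕ) (Us : Fin (n + 1) → Over (Spec (CommRingCat.of k))) [∀ i, GrpObj (Us i)]
    (h0 : Red.IsTrivialGrp (Us 0)) (haff : IsAffine (Us (Fin.last n)).left)
    (incl : ∀ i : Fin n, Us i.castSucc ⟶ Us i.succ) [∀ i, IsMonHom (incl i)]
    [∀ i, IsClosedImmersion (incl i).left]
    (quot : ∀ i : Fin n, Us i.succ ⟶ Red.Ga (Spec (CommRingCat.of k))) [∀ i, IsMonHom (quot i)]
    [∀ i, Surjective (quot i).left] [∀ i, Flat (quot i).left]
    (hker : ∀ i : Fin n, AlgGrp.IsKernel (incl i) (quot i)) :
    ∀ (i : Fin (n + 1)) (h : Us i ⟶ T) [IsMonHom h], h = 1 := by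
  -- all the groups are affine
  have hall : ∀ i : Fin (n + 1), IsAffine (Us i).left := by
    intro i
    induction i using Fin.reverseInduction with
    | last => exact haff
    | cast i ih =>
      haveI := ih
      exact isAffine_of_isAffineHom (incl i).left
  intro i
  induction i using Fin.induction with
  | zero =>
    intro h _
    exact eq_one_of_isTrivialGrp h0 h
  | succ i ih =>
    intro h _
    have hi : incl i ≫ h = 1 := by
      exact ih (incl i ≫ h)
    haveI := hall i.succ
    haveI : IsAffine (GaZ.{u}).left := inferInstanceAs (IsAffine (Spec _))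
    haveI : IsAffine (Ga (Spec (CommRingCat.of k))).left :=
      inferInstanceAs (IsAffine (pullback GaZ.hom
        (Limits.IsTerminal.from specULiftZIsTerminal (Spec (CommRingCat.of k)))))
    haveI : QuasiCompact (quot i).left := inferInstance
    obtain ⟨ψ, hqψ, hψ1⟩ := exists_factor (incl i) (quot i) (hker i) h hi
    have hψ : ψ = 1 := ga_to_torus_eq_one T hT ψ (eta_of_one_comp ψ hψ1)
    rw [← hqψ, hψ, MonObj.comp_one]

end Groth.Agent.Lib.Lead.UnipTorus
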