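/-
Lib/Lead/Wedderburn3.lean -- central division algebras of degree p ∈ {2,3} over a field of
characteristic p contain an inseparable element (Wedderburn's cyclicity argument).  (lead)
-/
import Mathlib
import Groth.Agent.Lib.Lead.Centralizer
import Groth.Agent.Lib.Lead.SubDivision

set_option autoImplicit false
set_option linter.style.haveILetI false
universe u v
open Polynomial

namespace Groth.Agent.Lib.Lead.Wedderburn3

section identities

variable {K : Type*} [CommRing K] {R : Type*} [Ring R] [Algebra K R]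

/-- the cubic `y³ + a y² + b y + c`. -/
def Fp (a b c : K) (y : R) : R := y * y * y + a • (y * y) + b • y + c • (1 : R)

/-- the quadratic `y² + (x + a) y + (x² + a x + b)`. -/
def G (a b : K) (x y : R) : R :=
  y * y + (x + a • (1 : R)) * y + (x * x + a • x + b • (1 : R))

theorem map_Fp {R' : Type*} [Ring R'] [Algebra K R'] (φ : R →ₐ[K] R') (a b c : K) (y : R) :
    φ (Fp a b c y) = Fp a b c (φ y) := by
  simp only [Fp, map_add, map_mul, map_smul, map_one]

theorem Gw (a b c : K) (u x x₂ w : R) (hw : w = u * x - x * u) (hx₂ : x₂ * w = w * x)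
    (hrel : Fp a b c x = 0) : G a b x x₂ * w = 0 := by
  have hx₂' : ∀ t, x₂ * (w * t) = w * (x * t) := fun t => by rw [← mul_assoc, hx₂, mul_assoc]
  have h3 : x * x * x + a • (x * x) + b • x = -(c • (1 : R)) := by
    unfold Fp at hrel
    exact eq_neg_of_add_eq_zero_left hrel
  have h4 : G a b x x₂ * w =
      u * (x * x * x + a • (x * x) + b • x) - (x * x * x + a • (x * x) + b • x) * u := by
    simp only [G, add_mul, mul_assoc, smul_mul_assoc, one_mul, hx₂, hx₂']
    subst hw
    simp only [mul_add, add_mul, mul_sub, sub_mul, smul_mul_assoc, mul_smul_comm, mul_assoc]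
    module
  rw [h4, h3, mul_neg, neg_mul, mul_smul_comm, smul_mul_assoc, mul_one, one_mul, sub_self]

theorem I2 (a b c : K) (x x₂ : R) :
    (x * x₂ - x₂ * x) * x - x₂ * (x * x₂ - x₂ * x) =
      G a b x x₂ * x - x₂ * G a b x x₂ + Fp a b c x₂ - Fp a b c x := by
  simp only [G, Fp, mul_add, add_mul, mul_sub, sub_mul, smul_mul_assoc, mul_smul_comm, mul_assoc,
    one_mul, mul_one]
  module

theorem I3 (a b : K) (x x₂ : R) :
    (x * x₂ - x₂ * x) * x₂ - (-(a • (1 : R)) - x - x₂) * (x * x₂ - x₂ * x) =
      x * G a b x x₂ - G a b x x₂ * x := by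
  simp only [G, mul_add, add_mul, mul_sub, sub_mul, neg_mul, smul_mul_assoc, mul_smul_comm,
    mul_assoc, one_mul, mul_one]
  module

theorem I4 (a b c : K) (x y : R) (h : y * x = x * y) :
    Fp a b c y - Fp a b c x = (y - x) * G a b x y := by
  have h' : ∀ t, y * (x * t) = x * (y * t) := fun t => by rw [← mul_assoc, h, mul_assoc]
  simp only [Fp, G, mul_add, add_mul, mul_sub, sub_mul, smul_mul_assoc, mul_smul_comm, mul_assoc,
    one_mul, mul_one, h, h']
  module

theorem I5 (a b : K) (x x₂ y : R) (h1 : y * x = x * y) (h2 : y * x₂ = x₂ * y)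
    (h3 : x₂ * x = x * x₂) :
    G a b x y - G a b x x₂ = (y - x₂) * (y + x₂ + x + a • (1 : R)) := by
  simp only [G, mul_add, add_mul, mul_sub, sub_mul, smul_mul_assoc, mul_smul_comm, mul_assoc,
    one_mul, mul_one, h1, h2, h3]
  module

theorem I6 (a b : K) (u x : R) :
    x * (u * x - x * u) + (u * x - x * u) * x + a • (u * x - x * u) =
      u * (x * x + a • x + b • (1 : R)) - (x * x + a • x + b • (1 : R)) * u := by
  simp only [mul_add, add_mul, mul_sub, sub_mul, smul_mul_assoc, mul_smul_comm, mul_assoc,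
    one_mul, mul_one]
  module

theorem Gself (a b : K) (x : R) :
    G a b x x = (3 : K) • (x * x) + ((2 * a) • x + b • (1 : R)) := by
  simp only [G, add_mul, smul_mul_assoc, one_mul]
  module

end identities

section division

variable (K : Type u) [Field K] (A : Type v) [DivisionRing A] [Algebra K A]

/-- conjugation by a nonzero element, as an algebra endomorphism. -/
noncomputable def conj (θ : A) (hθ : θ ≠ 0) : A →ₐ[K] A where
  toFun y := θ * y * θ⁻¹
  map_one' := by simp only [mul_one, mul_inv_cancel₀ hθ]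
  map_mul' y z := by simp only [mul_assoc, inv_mul_cancel_left₀ hθ]
  map_zero' := by simp only [mul_zero, zero_mul]
  map_add' y z := by simp only [mul_add, add_mul]
  commutes' r := by
    show θ * algebraMap K A r * θ⁻¹ = algebraMap K A r
    rw [← Algebra.commutes r θ, mul_assoc, mul_inv_cancel₀ hθ, mul_one]

theorem conj_mul (θ : A) (hθ : θ ≠ 0) (y : A) : conj K A θ hθ y * θ = θ * y := by
  show θ * y * θ⁻¹ * θ = θ * y
  rw [mul_assoc (θ * y), inv_mul_cancel₀ hθ, mul_one]

theorem conj_injective (θ : A) (hθ : θ ≠ 0) : Function.Injective (conj K A θ hθ) :=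
  fun _ _ h => (conj K A θ hθ).toRingHom.injective h

variable [Algebra.IsCentral K A]

theorem mem_range_of_central (z : A) (hz : ∀ u : A, u * z = z * u) :
    z ∈ (algebraMap K A).range := by
  have h1 : z ∈ Subalgebra.center K A := Subalgebra.mem_center_iff.2 hz
  have h2 : z ∈ (⊥ : Subalgebra K A) := Algebra.IsCentral.out h1
  obtain ⟨c, hc⟩ := Algebra.mem_bot.1 h2
  exact RingHom.mem_range.2 ⟨c, hc⟩

variable [FiniteDimensional K A]

theorem rel2 (x : A) (hdeg : (minpoly K x).natDegree = 2) :
    ∃ a b : K, x * x + a • x + b • (1 : A) = 0 := by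
  have hint : IsIntegral K x := Algebra.IsIntegral.isIntegral x
  have h0 : aeval x (minpoly K x) = 0 := minpoly.aeval K x
  rw [aeval_eq_sum_range, hdeg] at h0
  have hlead : (minpoly K x).coeff 2 = 1 := by
    have := (minpoly.monic hint).coeff_natDegree
    rwa [hdeg] at this
  simp only [Finset.sum_range_succ, Finset.sum_range_zero, zero_add, hlead, one_smul, pow_succ,
    pow_zero, one_mul] at h0
  refine ⟨(minpoly K x).coeff 1, (minpoly K x).coeff 0, ?_⟩
  refine Eq.trans ?_ h0
  abel

theorem rel3 (x : A) (hdeg : (minpoly K x).natDegree = 3) :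
    ∃ a b c : K, Fp a b c x = 0 := by
  have hint : IsIntegral K x := Algebra.IsIntegral.isIntegral x
  have h0 : aeval x (minpoly K x) = 0 := minpoly.aeval K x
  rw [aeval_eq_sum_range, hdeg] at h0
  have hlead : (minpoly K x).coeff 3 = 1 := by
    have := (minpoly.monic hint).coeff_natDegree
    rwa [hdeg] at this
  simp only [Finset.sum_range_succ, Finset.sum_range_zero, zero_add, hlead, one_smul, pow_succ,
    pow_zero, one_mul] at h0
  refine ⟨(minpoly K x).coeff 2, (minpoly K x).coeff 1, (minpoly K x).coeff 0, ?_⟩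
  refine Eq.trans ?_ h0
  simp only [Fp]
  abel

variable (p : ℕ) [Fact p.Prime]

theorem exists_not_mem_range (hA : Module.finrank K A = p ^ 2) :
    ∃ x : A, x ∉ (algebraMap K A).range := by
  have hpp : p.Prime := Fact.out
  by_contra h
  push_neg at h
  have h1 : Module.finrank K A = 1 := by
    rw [finrank_eq_one_iff_of_nonzero' (1 : A) one_ne_zero]
    intro w
    obtain ⟨c, hc⟩ := RingHom.mem_range.1 (h w)
    exact ⟨c, by rw [← hc, Algebra.algebraMap_eq_smul_one]⟩
  rw [hA] at h1
  have h2 := hpp.two_le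
  have h3 : 2 ^ 2 ≤ p ^ 2 := Nat.pow_le_pow_left h2 2
  omega

theorem key1 (hA : Module.finrank K A = p ^ 2) (x : A) (hx : x ∉ (algebraMap K A).range) :
    (minpoly K x).natDegree = p ∧ ∀ y : A, x * y = y * x → y ∈ Algebra.adjoin K {x} := by
  classical
  have hpp : p.Prime := Fact.out
  obtain ⟨M, hM⟩ : ∃ M : Subalgebra K A, M = Algebra.adjoin K {x} := ⟨_, rfl⟩
  have hMcomm : ∀ a ∈ M, ∀ b ∈ M, a * b = b * a := by
    intro a ha b hb
    rw [hM] at ha hb
    exact congrArg Subtype.val (mul_comm' (⟨a, ha⟩ : Algebra.adjoin K {x}) ⟨b, hb⟩)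
  haveI : FiniteDimensional K M :=
    Module.Finite.of_injective M.val.toLinearMap Subtype.val_injective
  have hxM : x ∈ M := by rw [hM]; exact Algebra.self_mem_adjoin_singleton K x
  have hmin_eq : minpoly K x = minpoly K (⟨x, hxM⟩ : M) :=
    minpoly.algHom_eq M.val Subtype.val_injective ⟨x, hxM⟩
  haveI : IsSimpleRing M := Groth.Agent.Lib.Lead.SubDivision.isSimpleRing_subalgebra M
  have hmul := Groth.Agent.Lib.Lead.CSA.finrank_eq_mul_centralizer M
  have hMC : M ≤ Subalgebra.centralizer K (M : Set A) := fun a ha =>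
    (Subalgebra.mem_centralizer_iff K).2 (fun b hb => hMcomm b hb a ha)
  haveI : FiniteDimensional K (Subalgebra.centralizer K (M : Set A)) :=
    Module.Finite.of_injective (Subalgebra.centralizer K (M : Set A)).val.toLinearMap
      Subtype.val_injective
  let algM : Algebra K M := inferInstance
  letI fM : Field M := Groth.Agent.Lib.Lead.SubDivision.fieldSub M hMcomm
  have hdf : (minpoly K x).natDegree ∣ Module.finrank K M := by
    rw [hmin_eq]
    exact minpoly.degree_dvd (Algebra.IsIntegral.isIntegral _)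
  letI modMC : Module M (Subalgebra.centralizer K (M : Set A)) :=
    Module.compHom _ (Subalgebra.inclusion hMC).toRingHom
  haveI : IsScalarTower K M (Subalgebra.centralizer K (M : Set A)) := ⟨fun k a c => by
    show (Subalgebra.inclusion hMC (k • a)) * c = k • ((Subalgebra.inclusion hMC a) * c)
    rw [map_smul, smul_mul_assoc]⟩
  have htower : Module.finrank K M * Module.finrank M (Subalgebra.centralizer K (M : Set A)) =
      Module.finrank K (Subalgebra.centralizer K (M : Set A)) :=
    Module.finrank_mul_finrank K M (Subalgebra.centralizer K (M : Set A))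
  have hsqdvd : (Module.finrank K M) ^ 2 ∣ p ^ 2 :=
    ⟨Module.finrank M (Subalgebra.centralizer K (M : Set A)), by
      rw [← hA, hmul, ← htower]; ring⟩
  have hfn : Module.finrank K M ∣ p := (Nat.pow_dvd_pow_iff two_ne_zero).1 hsqdvd
  have hd1 : (minpoly K x).natDegree ≠ 1 := fun h => hx (minpoly.natDegree_eq_one_iff.1 h)
  have hfM : Module.finrank K M = p := by
    rcases (Nat.dvd_prime hpp).1 hfn with h1 | h1
    · exfalso
      rw [h1] at hdf
      exact hd1 (Nat.dvd_one.1 hdf)
    · exact h1
  have hdeg : (minpoly K x).natDegree = p := by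
    rw [hfM] at hdf
    rcases (Nat.dvd_prime hpp).1 hdf with h1 | h1
    · exact absurd h1 hd1
    · exact h1
  have hfC : Module.finrank K (Subalgebra.centralizer K (M : Set A)) = p := by
    rw [hA, hfM, sq] at hmul
    exact (Nat.eq_of_mul_eq_mul_left hpp.pos hmul).symm
  have hCM : M = Subalgebra.centralizer K (M : Set A) :=
    Subalgebra.eq_of_le_of_finrank_eq hMC (hfM.trans hfC.symm)
  refine ⟨hdeg, fun y hy => ?_⟩
  have hy' : y ∈ Subalgebra.centralizer K (M : Set A) := by
    rw [Subalgebra.mem_centralizer_iff]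
    intro m hm
    have hle : Algebra.adjoin K {x} ≤ Subalgebra.centralizer K ({y} : Set A) :=
      Algebra.adjoin_le (by
        intro z hz
        rw [Set.mem_singleton_iff] at hz
        rw [hz]
        exact (Subalgebra.mem_centralizer_iff K).2 (fun g hg => by
          rw [Set.mem_singleton_iff] at hg
          rw [hg]
          exact hy.symm))
    have hm' : m ∈ Subalgebra.centralizer K ({y} : Set A) := hle (hM ▸ hm)
    exact ((Subalgebra.mem_centralizer_iff K).1 hm' y rfl).symm
  rw [← hCM] at hy'
  rw [← hM]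
  exact hy'

theorem comm_trans (hA : Module.finrank K A = p ^ 2) (z : A) (hz : z ∉ (algebraMap K A).range)
    (s t : A) (hs : z * s = s * z) (ht : z * t = t * z) : s * t = t * s := by
  obtain ⟨-, h⟩ := key1 K A p hA z hz
  have hs' := h s hs
  have ht' := h t ht
  exact congrArg Subtype.val (mul_comm' (⟨s, hs'⟩ : Algebra.adjoin K {z}) ⟨t, ht'⟩)

variable [CharP K p]

theorem not_sep_of_pow (hA : Module.finrank K A = p ^ 2) (θ : A)
    (hθ : θ ∉ (algebraMap K A).range) (c : K) (hc : θ ^ p = algebraMap K A c) :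
    ¬ IsSeparable K θ := by
  have hpp : p.Prime := Fact.out
  obtain ⟨hdeg, -⟩ := key1 K A p hA θ hθ
  have hint : IsIntegral K θ := Algebra.IsIntegral.isIntegral θ
  have hdvd : minpoly K θ ∣ X ^ p - C c := by
    apply minpoly.dvd
    rw [map_sub, map_pow, aeval_X, aeval_C, hc, sub_self]
  have heq : minpoly K θ = X ^ p - C c := by
    refine (Polynomial.eq_of_monic_of_dvd_of_natDegree_le (minpoly.monic hint)
      (monic_X_pow_sub_C c hpp.ne_zero) hdvd ?_).symm
    rw [natDegree_X_pow_sub_C, hdeg]
  intro hsep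
  have hsep' : (minpoly K θ).Separable := hsep
  rw [Polynomial.separable_def, heq] at hsep'
  have hder : derivative (X ^ p - C c : K[X]) = 0 := by
    rw [derivative_sub, derivative_C, sub_zero, derivative_X_pow, CharP.cast_eq_zero K p, C_0,
      zero_mul]
  rw [hder, isCoprime_zero_right] at hsep'
  exact minpoly.not_isUnit K θ (by rw [heq]; exact hsep')

end division

section cases

variable (K : Type u) [Field K] (A : Type v) [DivisionRing A] [Algebra K A]
  [Algebra.IsCentral K A] [FiniteDimensional K A]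

theorem case2 [CharP K 2] [Fact (Nat.Prime 2)] (hA : Module.finrank K A = 2 ^ 2)
    (hsep : ∀ v : A, IsSeparable K v) : False := by
  obtain ⟨x, hx⟩ := exists_not_mem_range K A 2 hA
  obtain ⟨hdeg, -⟩ := key1 K A 2 hA x hx
  obtain ⟨a, b, hrel⟩ := rel2 K A x hdeg
  obtain ⟨u, hu⟩ : ∃ u : A, u * x ≠ x * u := by
    by_contra h
    push_neg at h
    exact hx (mem_range_of_central K A x h)
  obtain ⟨w, hw⟩ : ∃ w : A, w = u * x - x * u := ⟨_, rfl⟩
  have hw0 : w ≠ 0 := by rw [hw]; exact sub_ne_zero.2 hu
  have h1 : x * w + w * x + a • w = 0 := by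
    rw [hw, I6 a b u x, hrel, mul_zero, zero_mul, sub_zero]
  have hxw : x * w = -(w * x) - a • w := by
    calc x * w = (x * w + w * x + a • w) - w * x - a • w := by abel
      _ = -(w * x) - a • w := by rw [h1, zero_sub]
  have hww : x * (w * w) = w * w * x := by
    calc x * (w * w) = (x * w) * w := (mul_assoc _ _ _).symm
      _ = (-(w * x) - a • w) * w := by rw [hxw]
      _ = -(w * (x * w)) - a • (w * w) := by
          simp only [sub_mul, neg_mul, mul_assoc, smul_mul_assoc]
      _ = -(w * (-(w * x) - a • w)) - a • (w * w) := by rw [hxw]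
      _ = w * w * x := by
          simp only [mul_sub, mul_neg, mul_smul_comm, mul_assoc]
          abel
  have h2K : (2 : K) = 0 := by
    have := CharP.cast_eq_zero K 2
    exact_mod_cast this
  have hne : w * x ≠ x * w := by
    intro hcomm
    have e1 := h1
    rw [hcomm] at e1
    have e2 : x * w + x * w = 0 := by rw [← two_smul K (x * w), h2K, zero_smul]
    rw [e2, zero_add] at e1
    rcases smul_eq_zero.1 e1 with ha | hw'
    · have hrel' : x * x + b • (1 : A) = 0 := by
        have := hrel
        rw [ha, zero_smul, add_zero] at this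
        exact this
      have hx2 : x ^ 2 = algebraMap K A (-b) := by
        rw [sq, map_neg, Algebra.algebraMap_eq_smul_one]
        exact eq_neg_of_add_eq_zero_left hrel'
      exact not_sep_of_pow K A 2 hA x hx (-b) hx2 (hsep x)
    · exact hw0 hw'
  have hwK : w ∉ (algebraMap K A).range := by
    intro hmem
    obtain ⟨k, hk⟩ := RingHom.mem_range.1 hmem
    apply hne
    rw [← hk]
    exact Algebra.commutes k x
  have hz : w * w ∈ (algebraMap K A).range := by
    by_contra hz
    exact hne (comm_trans K A 2 hA (w * w) hz w x (mul_assoc w w w) hww.symm)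
  obtain ⟨k, hk⟩ := RingHom.mem_range.1 hz
  exact not_sep_of_pow K A 2 hA w hwK k (by rw [sq, hk]) (hsep w)

theorem final3 [CharP K 3] [Fact (Nat.Prime 3)] (hA : Module.finrank K A = 3 ^ 2)
    (hsep : ∀ v : A, IsSeparable K v) (x x₂ θ : A) (a : K)
    (h1 : θ * x = x₂ * θ) (h2 : θ * x₂ = (-(a • (1 : A)) - x - x₂) * θ)
    (hne : θ * x ≠ x * θ) : False := by
  have h3 : θ * (-(a • (1 : A)) - x - x₂) = x * θ := by
    rw [mul_sub, mul_sub, mul_neg, mul_smul_comm, mul_one, h1, h2]
    simp only [sub_mul, neg_mul, smul_mul_assoc, one_mul]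
    abel
  have hcube : θ * θ * θ * x = x * (θ * θ * θ) := by
    calc θ * θ * θ * x = θ * θ * (θ * x) := by simp only [mul_assoc]
      _ = θ * θ * (x₂ * θ) := by rw [h1]
      _ = θ * (θ * x₂) * θ := by simp only [mul_assoc]
      _ = θ * ((-(a • (1 : A)) - x - x₂) * θ) * θ := by rw [h2]
      _ = θ * (-(a • (1 : A)) - x - x₂) * θ * θ := by simp only [mul_assoc]
      _ = x * θ * θ * θ := by rw [h3]
      _ = x * (θ * θ * θ) := by simp only [mul_assoc]
  have hθK : θ ∉ (algebraMap K A).range := by
    intro hmem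
    obtain ⟨k, hk⟩ := RingHom.mem_range.1 hmem
    apply hne
    rw [← hk]
    exact Algebra.commutes k x
  have hz : θ * θ * θ ∈ (algebraMap K A).range := by
    by_contra hz
    exact hne (comm_trans K A 3 hA (θ * θ * θ) hz θ x (by simp only [mul_assoc]) hcube)
  obtain ⟨k, hk⟩ := RingHom.mem_range.1 hz
  have hpow : θ ^ 3 = algebraMap K A k := by
    rw [hk]
    simp only [pow_succ, pow_zero, one_mul]
  exact not_sep_of_pow K A 3 hA θ hθK k hpow (hsep θ)

theorem case3 [CharP K 3] [Fact (Nat.Prime 3)] (hA : Module.finrank K A = 3 ^ 2)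
    (hsep : ∀ v : A, IsSeparable K v) : False := by
  obtain ⟨x, hx⟩ := exists_not_mem_range K A 3 hA
  obtain ⟨hdeg, -⟩ := key1 K A 3 hA x hx
  obtain ⟨a, b, c, hrel⟩ := rel3 K A x hdeg
  obtain ⟨u, hu⟩ : ∃ u : A, u * x ≠ x * u := by
    by_contra h
    push_neg at h
    exact hx (mem_range_of_central K A x h)
  obtain ⟨w, hw⟩ : ∃ w : A, w = u * x - x * u := ⟨_, rfl⟩
  have hw0 : w ≠ 0 := by rw [hw]; exact sub_ne_zero.2 hu
  obtain ⟨x₂, hx₂def⟩ : ∃ x₂ : A, x₂ = conj K A w hw0 x := ⟨_, rfl⟩
  have hx₂w : x₂ * w = w * x := by rw [hx₂def]; exact conj_mul K A w hw0 x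
  have hF₂ : Fp a b c x₂ = 0 := by
    rw [hx₂def, ← map_Fp (conj K A w hw0) a b c x, hrel, map_zero]
  have hG : G a b x x₂ = 0 :=
    (mul_eq_zero.1 (Gw a b c u x x₂ w hw hx₂w hrel)).resolve_right hw0
  have h3K : (3 : K) = 0 := by
    have := CharP.cast_eq_zero K 3
    exact_mod_cast this
  by_cases hcomm : x * x₂ = x₂ * x
  · -- case (a): the conjugate `x₂` lies in `K[x]`
    have hne0 : x₂ ≠ x := by
      intro h
      rw [h] at hG
      have hlin : (2 * a) • x + b • (1 : A) = 0 := by
        rw [Gself a b x, h3K, zero_smul, zero_add] at hG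
        exact hG
      by_cases ha : a = 0
      · rw [ha, mul_zero, zero_smul, zero_add] at hlin
        have hb : b = 0 := by
          rcases smul_eq_zero.1 hlin with hb | h1
          · exact hb
          · exact absurd h1 one_ne_zero
        have e3 : x ^ 3 = x * x * x := by simp only [pow_succ, pow_zero, one_mul]
        have hx3 : x ^ 3 = algebraMap K A (-c) := by
          have := hrel
          unfold Fp at this
          rw [ha, hb, zero_smul, zero_smul, add_zero, add_zero] at this
          rw [map_neg, Algebra.algebraMap_eq_smul_one, e3]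
          exact eq_neg_of_add_eq_zero_left this
        exact not_sep_of_pow K A 3 hA x hx (-c) hx3 (hsep x)
      · have h2 : (2 : K) ≠ 0 := by
          intro h2
          have : (1 : K) = 3 - 2 := by norm_num
          rw [h3K, h2, sub_zero] at this
          exact one_ne_zero this
        have h2a : 2 * a ≠ 0 := mul_ne_zero h2 ha
        apply hx
        refine RingHom.mem_range.2 ⟨-(2 * a)⁻¹ * b, ?_⟩
        have h' : (2 * a) • x = -(b • (1 : A)) := eq_neg_of_add_eq_zero_left hlin
        calc algebraMap K A (-(2 * a)⁻¹ * b) = (2 * a)⁻¹ • (-(b • (1 : A))) := by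
              rw [Algebra.algebraMap_eq_smul_one, smul_neg, smul_smul, neg_mul, neg_smul]
          _ = (2 * a)⁻¹ • ((2 * a) • x) := by rw [h']
          _ = x := by rw [smul_smul, inv_mul_cancel₀ h2a, one_smul]
    have hx₂K : x₂ ∉ (algebraMap K A).range := by
      intro hmem
      obtain ⟨k, hk⟩ := RingHom.mem_range.1 hmem
      apply hne0
      have e : w * x₂ = w * x := by
        rw [← hx₂w, ← hk]
        exact (Algebra.commutes k w).symm
      exact mul_left_cancel₀ hw0 e
    have hne : w * x ≠ x * w := by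
      intro h
      apply hne0
      have e : x₂ * w = x * w := by rw [hx₂w, h]
      exact mul_right_cancel₀ hw0 e
    obtain ⟨y₂, hy₂def⟩ : ∃ y₂ : A, y₂ = conj K A w hw0 x₂ := ⟨_, rfl⟩
    have hy₂w : y₂ * w = w * x₂ := by rw [hy₂def]; exact conj_mul K A w hw0 x₂
    have hFy : Fp a b c y₂ = 0 := by
      rw [hy₂def, ← map_Fp (conj K A w hw0) a b c x₂, hF₂, map_zero]
    have hy₂x₂ : x₂ * y₂ = y₂ * x₂ := by
      have e := congrArg (conj K A w hw0) hcomm
      rw [map_mul, map_mul, ← hx₂def, ← hy₂def] at e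
      exact e
    have hxy₂ : x * y₂ = y₂ * x :=
      comm_trans K A 3 hA x₂ hx₂K x y₂ hcomm.symm hy₂x₂
    have hprod : (y₂ - x) * G a b x y₂ = 0 := by
      rw [← I4 a b c x y₂ hxy₂.symm, hFy, hrel, sub_zero]
    rcases mul_eq_zero.1 hprod with hyx | hGy
    · -- `y₂ = x`: conjugation by `w` would have order two
      have hyx' : y₂ = x := sub_eq_zero.1 hyx
      have hww : w * w * x = x * (w * w) := by
        calc w * w * x = w * (w * x) := mul_assoc _ _ _
          _ = w * (x₂ * w) := by rw [hx₂w]
          _ = (w * x₂) * w := (mul_assoc _ _ _).symm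
          _ = (y₂ * w) * w := by rw [hy₂w]
          _ = x * (w * w) := by rw [hyx', mul_assoc]
      have hwK : w ∉ (algebraMap K A).range := by
        intro hmem
        obtain ⟨k, hk⟩ := RingHom.mem_range.1 hmem
        apply hne
        rw [← hk]
        exact Algebra.commutes k x
      have hz : w * w ∈ (algebraMap K A).range := by
        by_contra hz
        exact hne (comm_trans K A 3 hA (w * w) hz w x (mul_assoc w w w) hww)
      obtain ⟨k, hk⟩ := RingHom.mem_range.1 hz
      obtain ⟨hdegw, -⟩ := key1 K A 3 hA w hwK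
      have hdvd : minpoly K w ∣ X ^ 2 - C k := by
        apply minpoly.dvd
        rw [map_sub, map_pow, aeval_X, aeval_C, sq, hk, sub_self]
      have hle := natDegree_le_of_dvd hdvd (X_pow_sub_C_ne_zero two_pos k)
      rw [natDegree_X_pow_sub_C, hdegw] at hle
      omega
    · have hprod2 : (y₂ - x₂) * (y₂ + x₂ + x + a • (1 : A)) = 0 := by
        rw [← I5 a b x x₂ y₂ hxy₂.symm hy₂x₂.symm hcomm.symm, hGy, hG, sub_zero]
      rcases mul_eq_zero.1 hprod2 with h | h
      · have h0 : y₂ = x₂ := sub_eq_zero.1 h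
        rw [hy₂def] at h0
        have h' : conj K A w hw0 x₂ = conj K A w hw0 x := by rw [h0]; exact hx₂def
        exact hne0 (conj_injective K A w hw0 h')
      · have hy₃ : y₂ = -(a • (1 : A)) - x - x₂ := by
          calc y₂ = (y₂ + x₂ + x + a • (1 : A)) - x₂ - x - a • (1 : A) := by abel
            _ = -(a • (1 : A)) - x - x₂ := by rw [h]; abel
        exact final3 K A hA hsep x x₂ w a hx₂w.symm (by rw [← hy₃]; exact hy₂w.symm) hne
  · -- case (b): Wedderburn's commutator
    obtain ⟨θ, hθ⟩ : ∃ θ : A, θ = x * x₂ - x₂ * x := ⟨_, rfl⟩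
    have hθ0 : θ ≠ 0 := by rw [hθ]; exact sub_ne_zero.2 hcomm
    have h1 : θ * x = x₂ * θ := by
      have e := I2 a b c x x₂
      simp only [hG, hF₂, hrel, zero_mul, mul_zero, sub_zero, add_zero] at e
      rw [← hθ] at e
      exact sub_eq_zero.1 e
    have h2 : θ * x₂ = (-(a • (1 : A)) - x - x₂) * θ := by
      have e := I3 a b x x₂
      simp only [hG, zero_mul, mul_zero, sub_zero] at e
      rw [← hθ] at e
      exact sub_eq_zero.1 e
    have hne : θ * x ≠ x * θ := by
      intro h
      apply hcomm
      have e : x₂ * θ = x * θ := by rw [← h1, h]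
      have : x₂ = x := mul_right_cancel₀ hθ0 e
      rw [this]
    exact final3 K A hA hsep x x₂ θ a h1 h2 hne

end cases

end Groth.Agent.Lib.Lead.Wedderburn3
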