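import Mathlib

/-! A summable majorant for point-count weighted sums. -/

set_option autoImplicit false

namespace Groth.Agent.Lib.Lead.ZCyc

open Finset

/-- The small-characteristic part of the majorant. -/
noncomputable def hw (c r : ℕ) (σ : ℝ) (p n : ℕ) : ℝ :=
  open Classical in
  if p.Prime ∧ n ∈ Set.range (fun m : ℕ => p ^ (m + 1)) then (c : ℝ) * (n : ℝ) ^ ((r : ℝ) - σ) else 0

theorem hw_nonneg (c r : ℕ) (σ : ℝ) (p n : ℕ) : 0 ≤ hw c r σ p n := by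
  unfold hw
  split_ifs
  · exact mul_nonneg (Nat.cast_nonneg _) (Real.rpow_nonneg (Nat.cast_nonneg _) _)
  · exact le_rfl

theorem summable_hw (c r : ℕ) (σ : ℝ) (hσ : (r : ℝ) < σ) (p : ℕ) : Summable (hw c r σ p) := by
  classical
  by_cases hp : p.Prime
  · have hinj : Function.Injective (fun m : ℕ => p ^ (m + 1)) := by
      intro a b hab
      have := Nat.pow_right_injective hp.two_le hab
      omega
    refine (Function.Injective.summable_iff hinj (fun n hn => ?_)).mp ?_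
    · unfold hw
      rw [if_neg (fun h => hn h.2)]
    · set ρ : ℝ := (p : ℝ) ^ ((r : ℝ) - σ) with hρ
      have hp1 : (1 : ℝ) < p := by exact_mod_cast hp.one_lt
      have hρ0 : 0 ≤ ρ := Real.rpow_nonneg (by positivity) _
      have hρ1 : ρ < 1 := Real.rpow_lt_one_of_one_lt_of_neg hp1 (by linarith)
      have hgeo : Summable (fun m : ℕ => (c : ℝ) * (ρ ^ m * ρ)) :=
        ((summable_geometric_of_lt_one hρ0 hρ1).mul_right ρ).mul_left (c : ℝ)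
      refine hgeo.congr (fun m => ?_)
      show (c : ℝ) * (ρ ^ m * ρ) = hw c r σ p (p ^ (m + 1))
      have hpow : (((p ^ (m + 1) : ℕ) : ℝ)) ^ ((r : ℝ) - σ) = ρ ^ (m + 1) := by
        rw [hρ, Nat.cast_pow, ← Real.rpow_natCast_mul (by positivity),
          mul_comm (((m + 1 : ℕ)) : ℝ), Real.rpow_mul_natCast (by positivity)]
      unfold hw
      rw [if_pos ⟨hp, ⟨m, rfl⟩⟩, hpow, pow_succ]
  · have : hw c r σ p = fun _ => 0 := by
      funext n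
      unfold hw
      rw [if_neg (fun h => hp h.1)]
    rw [this]
    exact summable_zero

/-- The majorant. -/
noncomputable def gw (c p₀ r : ℕ) (σ : ℝ) (n : ℕ) : ℝ :=
  (c : ℝ) * (n : ℝ) ^ ((r : ℝ) - 1 - σ) + ∑ p ∈ Finset.range p₀, hw c r σ p n

theorem gw_nonneg (c p₀ r : ℕ) (σ : ℝ) (n : ℕ) : 0 ≤ gw c p₀ r σ n := by
  unfold gw
  refine add_nonneg (mul_nonneg (Nat.cast_nonneg _) (Real.rpow_nonneg (Nat.cast_nonneg _) _))
    (Finset.sum_nonneg fun p _ => hw_nonneg c r σ p n)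

theorem summable_gw (c p₀ r : ℕ) (σ : ℝ) (hσ : (r : ℝ) < σ) : Summable (gw c p₀ r σ) := by
  unfold gw
  refine Summable.add ?_ (summable_sum fun p _ => summable_hw c r σ hσ p)
  exact (Real.summable_nat_rpow.mpr (by linarith)).mul_left (c : ℝ)

/-- Pointwise domination. -/
theorem le_gw (c p₀ r : ℕ) (σ : ℝ) (n π : ℕ) (h1 : π ≤ c * n ^ r)
    (h2 : p₀ ≤ n.minFac → π * n ≤ c * n ^ r) (h3 : π ≠ 0 → IsPrimePow n) :
    (π : ℝ) * (n : ℝ) ^ (-σ) ≤ gw c p₀ r σ n := by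
  by_cases hπ : π = 0
  · rw [hπ]
    simpa using gw_nonneg c p₀ r σ n
  obtain ⟨q, k, hq, hk, hqk⟩ := (isPrimePow_nat_iff n).mp (h3 hπ)
  have hnpos : 0 < n := hqk ▸ pow_pos hq.pos k
  have hx : (0 : ℝ) < (n : ℝ) := by exact_mod_cast hnpos
  have hmin : n.minFac = q := hqk ▸ hq.pow_minFac hk.ne'
  have hxσ : 0 ≤ (n : ℝ) ^ (-σ) := Real.rpow_nonneg hx.le _
  unfold gw
  by_cases hp : p₀ ≤ q
  · have hcast : (π : ℝ) * (n : ℝ) ≤ (c : ℝ) * (n : ℝ) ^ r := by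
      exact_mod_cast h2 (hmin ▸ hp)
    have hb : (π : ℝ) ≤ (c : ℝ) * ((n : ℝ) ^ r * (n : ℝ)⁻¹) := by
      have := mul_le_mul_of_nonneg_right hcast (inv_nonneg.mpr hx.le)
      rwa [mul_assoc, mul_inv_cancel₀ hx.ne', mul_one, mul_assoc] at this
    have e : (n : ℝ) ^ ((r : ℝ) - 1 - σ) = (n : ℝ) ^ r * (n : ℝ)⁻¹ * (n : ℝ) ^ (-σ) := by
      rw [show (r : ℝ) - 1 - σ = (r : ℝ) + (-1) + (-σ) by ring, Real.rpow_add hx,
        Real.rpow_add hx, Real.rpow_neg_one, Real.rpow_natCast]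
    have hsum : 0 ≤ ∑ p ∈ Finset.range p₀, hw c r σ p n :=
      Finset.sum_nonneg fun p _ => hw_nonneg c r σ p n
    calc (π : ℝ) * (n : ℝ) ^ (-σ)
        ≤ (c : ℝ) * ((n : ℝ) ^ r * (n : ℝ)⁻¹) * (n : ℝ) ^ (-σ) :=
          mul_le_mul_of_nonneg_right hb hxσ
      _ = (c : ℝ) * (n : ℝ) ^ ((r : ℝ) - 1 - σ) := by rw [e]; ring
      _ ≤ _ := le_add_of_nonneg_right hsum
  · have hq' : q ∈ Finset.range p₀ := Finset.mem_range.mpr (not_le.mp hp)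
    have hcast : (π : ℝ) ≤ (c : ℝ) * (n : ℝ) ^ r := by exact_mod_cast h1
    have e : (n : ℝ) ^ ((r : ℝ) - σ) = (n : ℝ) ^ r * (n : ℝ) ^ (-σ) := by
      rw [show (r : ℝ) - σ = (r : ℝ) + (-σ) by ring, Real.rpow_add hx, Real.rpow_natCast]
    have hk' : ∃ m : ℕ, k = m + 1 := ⟨k - 1, by omega⟩
    obtain ⟨m, rfl⟩ := hk'
    have hhw : hw c r σ q n = (c : ℝ) * (n : ℝ) ^ ((r : ℝ) - σ) := by
      unfold hw
      rw [if_pos ⟨hq, ⟨m, hqk⟩⟩]
    have hle : hw c r σ q n ≤ ∑ p ∈ Finset.range p₀, hw c r σ p n :=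
      Finset.single_le_sum (f := fun p => hw c r σ p n) (fun p _ => hw_nonneg c r σ p n) hq'
    have h0 : 0 ≤ (c : ℝ) * (n : ℝ) ^ ((r : ℝ) - 1 - σ) :=
      mul_nonneg (Nat.cast_nonneg _) (Real.rpow_nonneg hx.le _)
    calc (π : ℝ) * (n : ℝ) ^ (-σ) ≤ (c : ℝ) * (n : ℝ) ^ r * (n : ℝ) ^ (-σ) :=
          mul_le_mul_of_nonneg_right hcast hxσ
      _ = hw c r σ q n := by rw [hhw, e]; ring
      _ ≤ ∑ p ∈ Finset.range p₀, hw c r σ p n := hle
      _ ≤ _ := le_add_of_nonneg_left h0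

/-- The uniform bound for sums over finite sets. -/
theorem sum_le_tsum_gw (c p₀ r : ℕ) (σ : ℝ) (hσ : (r : ℝ) < σ) (S : Finset ℕ) (π : ℕ → ℕ)
    (h1 : ∀ n, π n ≤ c * n ^ r) (h2 : ∀ n, p₀ ≤ n.minFac → π n * n ≤ c * n ^ r)
    (h3 : ∀ n, π n ≠ 0 → IsPrimePow n) :
    ∑ n ∈ S, (π n : ℝ) * (n : ℝ) ^ (-σ) ≤ ∑' n, gw c p₀ r σ n :=
  (Finset.sum_le_sum fun n _ => le_gw c p₀ r σ n (π n) (h1 n) (h2 n) (h3 n)).trans
    ((summable_gw c p₀ r σ hσ).sum_le_tsum S (fun n _ => gw_nonneg c p₀ r σ n))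

end Groth.Agent.Lib.Lead.ZCyc
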