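import Mathlib

/-! Effective zero-cycles on an abstract set of "closed points" with norms: counting function and
the bound on partial sums of its Dirichlet series. -/

set_option autoImplicit false

namespace Groth.Agent.Lib.Lead.ZCyc

open Finset

variable {P : Type*} (Cl : P → Prop) (Nn : P → ℕ)

/-- Norm of a cycle. -/
noncomputable def nm (α : P →₀ ℕ) : ℕ := α.prod (fun x m => Nn x ^ m)

/-- A cycle: supported on closed points. -/
def IsCyc (α : P →₀ ℕ) : Prop := ∀ x ∈ α.support, Cl x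

/-- Number of cycles of norm `n`. -/
noncomputable def acount (n : ℕ) : ℕ := Nat.card {α : P →₀ ℕ // IsCyc Cl α ∧ nm Nn α = n}

variable {Cl Nn}

theorem nm_add (α β : P →₀ ℕ) : nm Nn (α + β) = nm Nn α * nm Nn β := by
  unfold nm
  exact Finsupp.prod_add_index' (fun _ => pow_zero _) (fun _ _ _ => pow_add _ _ _)

theorem nm_single (x : P) (k : ℕ) : nm Nn (Finsupp.single x k) = Nn x ^ k := by
  unfold nm
  exact Finsupp.prod_single_index (pow_zero _)

theorem nm_zero : nm Nn (0 : P →₀ ℕ) = 1 := by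
  unfold nm
  exact Finsupp.prod_zero_index

theorem nm_pos (h2 : ∀ x, Cl x → 2 ≤ Nn x) {α : P →₀ ℕ} (hα : IsCyc Cl α) : 0 < nm Nn α := by
  unfold nm Finsupp.prod
  refine Finset.prod_pos fun x hx => pow_pos ?_ _
  have := h2 x (hα x hx)
  omega

theorem pow_dvd_nm (α : P →₀ ℕ) {x : P} (hx : x ∈ α.support) : Nn x ^ α x ∣ nm Nn α := by
  unfold nm Finsupp.prod
  exact Finset.dvd_prod_of_mem (fun x => Nn x ^ α x) hx

theorem le_of_mem_support (h2 : ∀ x, Cl x → 2 ≤ Nn x) {α : P →₀ ℕ} (hα : IsCyc Cl α)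
    {x : P} (hx : x ∈ α.support) : Nn x ≤ nm Nn α ∧ α x < nm Nn α := by
  have hpos := nm_pos h2 hα
  have hdvd := pow_dvd_nm (Nn := Nn) α hx
  have hle : Nn x ^ α x ≤ nm Nn α := Nat.le_of_dvd hpos hdvd
  have h2x := h2 x (hα x hx)
  have hαx : α x ≠ 0 := Finsupp.mem_support_iff.mp hx
  constructor
  · calc Nn x = Nn x ^ 1 := (pow_one _).symm
      _ ≤ Nn x ^ α x := Nat.pow_le_pow_right (by omega) (Nat.one_le_iff_ne_zero.mpr hαx)
      _ ≤ nm Nn α := hle
  · calc α x < 2 ^ α x := Nat.lt_two_pow_self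
      _ ≤ Nn x ^ α x := Nat.pow_le_pow_left h2x _
      _ ≤ nm Nn α := hle

/-- Cycles of norm `n < M` restrict injectively to functions on the finite set of points of norm
at most `M`. -/
theorem restrict_spec (h2 : ∀ x, Cl x → 2 ≤ Nn x) {M : ℕ} (T : Finset P)
    (hT : ∀ x, x ∈ T ↔ Cl x ∧ Nn x ≤ M) {α : P →₀ ℕ} (hα : IsCyc Cl α) (hn : nm Nn α < M) :
    α.support ⊆ T ∧ (∀ x, α x < M + 1) ∧ ∏ x : T, Nn x ^ α x = nm Nn α := by
  have hsub : α.support ⊆ T := by
    intro x hx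
    exact (hT x).mpr ⟨hα x hx, ((le_of_mem_support h2 hα hx).1.trans hn.le)⟩
  refine ⟨hsub, fun x => ?_, ?_⟩
  · by_cases hx : x ∈ α.support
    · have := (le_of_mem_support h2 hα hx).2
      omega
    · rw [Finsupp.notMem_support_iff.mp hx]
      omega
  · rw [Finset.prod_coe_sort T (fun x => Nn x ^ α x)]
    unfold nm Finsupp.prod
    refine (Finset.prod_subset hsub fun x _ hx => ?_).symm
    rw [Finsupp.notMem_support_iff.mp hx, pow_zero]

theorem finite_cyc (h2 : ∀ x, Cl x → 2 ≤ Nn x) (hfin : ∀ M, {x | Cl x ∧ Nn x ≤ M}.Finite) (n : ℕ) :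
    Finite {α : P →₀ ℕ // IsCyc Cl α ∧ nm Nn α = n} := by
  classical
  set T : Finset P := (hfin (n + 1)).toFinset with hTdef
  have hT : ∀ x, x ∈ T ↔ Cl x ∧ Nn x ≤ n + 1 := fun x => by simp [hTdef]
  let Φ : {α : P →₀ ℕ // IsCyc Cl α ∧ nm Nn α = n} → (T → Fin (n + 2)) := fun α x =>
    ⟨α.1 x, (restrict_spec h2 T hT α.2.1 (by rw [α.2.2]; omega)).2.1 x⟩
  refine Finite.of_injective Φ ?_
  intro α β h
  apply Subtype.ext
  ext x
  by_cases hx : x ∈ T
  · have := congrFun h ⟨x, hx⟩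
    exact congrArg Fin.val this
  · have h1 := (restrict_spec h2 T hT α.2.1 (by rw [α.2.2]; omega)).1
    have h2' := (restrict_spec h2 T hT β.2.1 (by rw [β.2.2]; omega)).1
    rw [Finsupp.notMem_support_iff.mp (fun h => hx (h1 h)),
      Finsupp.notMem_support_iff.mp (fun h => hx (h2' h))]

/-- The partial sums of the Dirichlet series of the cycle counting function are bounded. -/
theorem sum_range_le (h2 : ∀ x, Cl x → 2 ≤ Nn x) (hfin : ∀ M, {x | Cl x ∧ Nn x ≤ M}.Finite)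
    (σ K : ℝ) (hσ : 0 < σ)
    (hK : ∀ T : Finset P, (∀ x ∈ T, Cl x) → ∑ x ∈ T, ((Nn x : ℝ)) ^ (-σ) ≤ K) (M : ℕ) :
    ∑ n ∈ Finset.range M, (acount Cl Nn n : ℝ) * (n : ℝ) ^ (-σ) ≤
      Real.exp (K / (1 - (2 : ℝ) ^ (-σ))) := by
  classical
  set T : Finset P := (hfin M).toFinset with hTdef
  have hT : ∀ x, x ∈ T ↔ Cl x ∧ Nn x ≤ M := fun x => by simp [hTdef]
  set t : P → ℝ := fun x => ((Nn x : ℝ)) ^ (-σ) with ht
  set t₀ : ℝ := (2 : ℝ) ^ (-σ) with ht₀
  have ht₀1 : t₀ < 1 := Real.rpow_lt_one_of_one_lt_of_neg (by norm_num) (by linarith)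
  have htx : ∀ x ∈ T, 0 ≤ t x ∧ t x ≤ t₀ := by
    intro x hx
    have h2x : (2 : ℝ) ≤ Nn x := by exact_mod_cast h2 x ((hT x).mp hx).1
    refine ⟨Real.rpow_nonneg (by positivity) _, ?_⟩
    exact Real.rpow_le_rpow_of_nonpos (by norm_num) h2x (by linarith)
  let 𝒟 : Finset (T → ℕ) := Fintype.piFinset (fun _ : T => Finset.range (M + 1))
  let Ng : (T → ℕ) → ℕ := fun g => ∏ x : T, Nn x ^ g x
  have hstep1 : ∀ n ∈ Finset.range M,
      acount Cl Nn n ≤ (𝒟.filter (fun g => Ng g = n)).card := by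
    intro n hn
    have hnM : n < M := Finset.mem_range.mp hn
    let Φ : {α : P →₀ ℕ // IsCyc Cl α ∧ nm Nn α = n} → ↥(𝒟.filter (fun g => Ng g = n)) :=
      fun α => ⟨fun x => α.1 x, by
        have hs := restrict_spec h2 T hT α.2.1 (by rw [α.2.2]; exact hnM)
        rw [Finset.mem_filter, Fintype.mem_piFinset]
        refine ⟨fun x => Finset.mem_range.mpr (hs.2.1 x), ?_⟩
        show ∏ x : T, Nn x ^ α.1 x = n
        rw [hs.2.2, α.2.2]⟩
    have hΦ : Function.Injective Φ := by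
      intro α β h
      have h' : (fun x : T => α.1 x) = (fun x : T => β.1 x) := congrArg Subtype.val h
      apply Subtype.ext
      ext x
      by_cases hx : x ∈ T
      · exact congrFun h' ⟨x, hx⟩
      · have h1 := (restrict_spec h2 T hT α.2.1 (by rw [α.2.2]; exact hnM)).1
        have h2' := (restrict_spec h2 T hT β.2.1 (by rw [β.2.2]; exact hnM)).1
        rw [Finsupp.notMem_support_iff.mp (fun h => hx (h1 h)),
          Finsupp.notMem_support_iff.mp (fun h => hx (h2' h))]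
    calc acount Cl Nn n = Nat.card {α : P →₀ ℕ // IsCyc Cl α ∧ nm Nn α = n} := rfl
      _ ≤ Nat.card ↥(𝒟.filter (fun g => Ng g = n)) := Nat.card_le_card_of_injective Φ hΦ
      _ = (𝒟.filter (fun g => Ng g = n)).card := by
        rw [Nat.card_eq_fintype_card, Fintype.card_coe]
  have hφ0 : ∀ n : ℕ, 0 ≤ (n : ℝ) ^ (-σ) := fun n => Real.rpow_nonneg (Nat.cast_nonneg n) _
  have hgeom : ∀ x : T, ∑ j ∈ Finset.range (M + 1), t x ^ j ≤ Real.exp (t x / (1 - t₀)) := by
    intro x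
    obtain ⟨h0, h1⟩ := htx x x.2
    have h1t : 0 < 1 - t x := by linarith
    have hS : (∑ j ∈ Finset.range (M + 1), t x ^ j) * (1 - t x) = 1 - t x ^ (M + 1) :=
      geom_sum_mul_neg _ _
    have hS' : ∑ j ∈ Finset.range (M + 1), t x ^ j ≤ 1 / (1 - t x) := by
      rw [le_div_iff₀ h1t, hS]
      have := pow_nonneg h0 (M + 1)
      linarith
    have h3 : 1 / (1 - t x) = t x / (1 - t x) + 1 := by
      field_simp
      ring
    have h4 : t x / (1 - t x) ≤ t x / (1 - t₀) :=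
      div_le_div_of_nonneg_left h0 (by linarith) (by linarith)
    calc ∑ j ∈ Finset.range (M + 1), t x ^ j ≤ t x / (1 - t x) + 1 := h3 ▸ hS'
      _ ≤ Real.exp (t x / (1 - t x)) := Real.add_one_le_exp _
      _ ≤ Real.exp (t x / (1 - t₀)) := Real.exp_le_exp.mpr h4
  calc ∑ n ∈ Finset.range M, (acount Cl Nn n : ℝ) * (n : ℝ) ^ (-σ)
      ≤ ∑ n ∈ Finset.range M, ((𝒟.filter (fun g => Ng g = n)).card : ℝ) * (n : ℝ) ^ (-σ) := by
        refine Finset.sum_le_sum fun n hn =>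
          mul_le_mul_of_nonneg_right (by exact_mod_cast hstep1 n hn) (hφ0 n)
    _ = ∑ n ∈ Finset.range M, ∑ g ∈ 𝒟.filter (fun g => Ng g = n), ((Ng g : ℕ) : ℝ) ^ (-σ) := by
        refine Finset.sum_congr rfl fun n _ => ?_
        rw [Finset.sum_congr rfl (fun g hg => by rw [(Finset.mem_filter.mp hg).2]),
          Finset.sum_const, nsmul_eq_mul]
    _ = ∑ g ∈ 𝒟.filter (fun g => Ng g ∈ Finset.range M), ((Ng g : ℕ) : ℝ) ^ (-σ) :=
        Finset.sum_fiberwise_eq_sum_filter 𝒟 (Finset.range M) Ng _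
    _ ≤ ∑ g ∈ 𝒟, ((Ng g : ℕ) : ℝ) ^ (-σ) :=
        Finset.sum_le_sum_of_subset_of_nonneg (Finset.filter_subset _ _) (fun g _ _ => hφ0 _)
    _ = ∑ g ∈ 𝒟, ∏ x : T, t x ^ g x := by
        refine Finset.sum_congr rfl fun g _ => ?_
        simp only [Ng, ht]
        push_cast
        rw [← Real.finsetProd_rpow _ _ (fun x _ => by positivity)]
        refine Finset.prod_congr rfl fun x _ => ?_
        rw [← Real.rpow_natCast_mul (by positivity), mul_comm,
          Real.rpow_mul_natCast (by positivity)]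
    _ = ∏ x : T, ∑ j ∈ Finset.range (M + 1), t x ^ j := (Finset.prod_univ_sum _ _).symm
    _ ≤ ∏ x : T, Real.exp (t x / (1 - t₀)) := by
        refine Finset.prod_le_prod (fun x _ => Finset.sum_nonneg fun j _ =>
          pow_nonneg (htx x x.2).1 j) (fun x _ => hgeom x)
    _ = Real.exp (∑ x : T, t x / (1 - t₀)) := (Real.exp_sum _ _).symm
    _ ≤ Real.exp (K / (1 - t₀)) := by
        apply Real.exp_le_exp.mpr
        rw [← Finset.sum_div, Finset.sum_coe_sort T t]
        exact div_le_div_of_nonneg_right (hK T (fun x hx => ((hT x).mp hx).1)) (by linarith)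

end Groth.Agent.Lib.Lead.ZCyc
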