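import Mathlib
import Groth.Agent.Lib.Lead.ZCyc2

/-! The Möbius-type inverse of the cycle counting function (abstract setting). -/

set_option autoImplicit false

namespace Groth.Agent.Lib.Lead.ZCyc

open Finset

variable {P : Type*} {Cl : P → Prop} {Nn : P → ℕ}

/-- Norm of a finite set of points. -/
noncomputable def ns (Nn : P → ℕ) (S : Finset P) : ℕ := ∏ x ∈ S, Nn x

section toggle

variable [DecidableEq P]

/-- Move the point `x` between the cycle and the set. -/
noncomputable def tog (x : P) (w : (P →₀ ℕ) × Finset P) : (P →₀ ℕ) × Finset P :=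
  if x ∈ w.2 then (w.1 + Finsupp.single x 1, w.2.erase x)
  else (w.1 - Finsupp.single x 1, insert x w.2)

/-- The total support. -/
def UU (w : (P →₀ ℕ) × Finset P) : Finset P := w.1.support ∪ w.2

theorem tog_of_mem {x : P} {w : (P →₀ ℕ) × Finset P} (h : x ∈ w.2) :
    tog x w = (w.1 + Finsupp.single x 1, w.2.erase x) := if_pos h

theorem tog_of_notMem {x : P} {w : (P →₀ ℕ) × Finset P} (h : x ∉ w.2) :
    tog x w = (w.1 - Finsupp.single x 1, insert x w.2) := if_neg h

theorem single_le_of_mem {x : P} {w : (P →₀ ℕ) × Finset P} (hx : x ∈ UU w) (h : x ∉ w.2) :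
    Finsupp.single x 1 ≤ w.1 := by
  have hx' : x ∈ w.1.support := by
    rcases Finset.mem_union.mp hx with h1 | h1
    · exact h1
    · exact absurd h1 h
  rw [Finsupp.single_le_iff]
  exact Nat.one_le_iff_ne_zero.mpr (Finsupp.mem_support_iff.mp hx')

theorem UU_tog {x : P} {w : (P →₀ ℕ) × Finset P} (hx : x ∈ UU w) : UU (tog x w) = UU w := by
  ext y
  by_cases hyx : y = x
  · subst hyx
    refine ⟨fun _ => hx, fun _ => ?_⟩
    by_cases h : y ∈ w.2
    · rw [tog_of_mem h]
      refine Finset.mem_union_left _ ?_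
      rw [Finsupp.mem_support_iff, Finsupp.add_apply, Finsupp.single_eq_same]
      omega
    · rw [tog_of_notMem h]
      exact Finset.mem_union_right _ (Finset.mem_insert_self _ _)
  · by_cases h : x ∈ w.2
    · rw [tog_of_mem h]
      have hs : (Finsupp.single x 1 : P →₀ ℕ) y = 0 := by
        rw [Finsupp.single_apply, if_neg (fun h => hyx h.symm)]
      simp only [UU, Finset.mem_union, Finsupp.mem_support_iff, Finsupp.add_apply,
        Finset.mem_erase]
      rw [hs]
      simp [hyx]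
    · rw [tog_of_notMem h]
      have hs : (Finsupp.single x 1 : P →₀ ℕ) y = 0 := by
        rw [Finsupp.single_apply, if_neg (fun h => hyx h.symm)]
      simp only [UU, Finset.mem_union, Finsupp.mem_support_iff, Finsupp.tsub_apply,
        Finset.mem_insert]
      rw [hs]
      simp [hyx]

theorem tog_tog {x : P} {w : (P →₀ ℕ) × Finset P} (hx : x ∈ UU w) : tog x (tog x w) = w := by
  by_cases h : x ∈ w.2
  · rw [tog_of_mem h]
    have h' : x ∉ (w.1 + Finsupp.single x 1, w.2.erase x).2 := Finset.notMem_erase _ _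
    rw [tog_of_notMem h']
    ext : 1
    · exact add_tsub_cancel_right _ _
    · exact Finset.insert_erase h
  · rw [tog_of_notMem h]
    have h' : x ∈ (w.1 - Finsupp.single x 1, insert x w.2).2 := Finset.mem_insert_self _ _
    rw [tog_of_mem h']
    ext : 1
    · exact tsub_add_cancel_of_le (single_le_of_mem hx h)
    · exact Finset.erase_insert h

theorem nm_ns_tog {x : P} {w : (P →₀ ℕ) × Finset P} (hx : x ∈ UU w) :
    nm Nn (tog x w).1 * ns Nn (tog x w).2 = nm Nn w.1 * ns Nn w.2 := by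
  by_cases h : x ∈ w.2
  · rw [tog_of_mem h]
    show nm Nn (w.1 + Finsupp.single x 1) * ns Nn (w.2.erase x) = _
    rw [nm_add, nm_single, pow_one, mul_assoc]
    congr 1
    exact Finset.mul_prod_erase w.2 Nn h
  · rw [tog_of_notMem h]
    show nm Nn (w.1 - Finsupp.single x 1) * ns Nn (insert x w.2) = _
    have e1 : nm Nn w.1 = nm Nn (w.1 - Finsupp.single x 1) * Nn x := by
      conv_lhs => rw [← tsub_add_cancel_of_le (single_le_of_mem hx h)]
      rw [nm_add, nm_single, pow_one]
    have e2 : ns Nn (insert x w.2) = Nn x * ns Nn w.2 := Finset.prod_insert h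
    rw [e1, e2, mul_assoc]

theorem sign_tog (x : P) (w : (P →₀ ℕ) × Finset P) :
    ((-1 : ℂ)) ^ (w.2.card) + ((-1 : ℂ)) ^ ((tog x w).2.card) = 0 := by
  by_cases h : x ∈ w.2
  · rw [tog_of_mem h]
    show (-1 : ℂ) ^ w.2.card + (-1 : ℂ) ^ (w.2.erase x).card = 0
    rw [← Finset.card_erase_add_one h, pow_succ]
    ring
  · rw [tog_of_notMem h]
    show (-1 : ℂ) ^ w.2.card + (-1 : ℂ) ^ (insert x w.2).card = 0
    rw [Finset.card_insert_of_notMem h, pow_succ]
    ring

theorem tog_ne (x : P) (w : (P →₀ ℕ) × Finset P) : tog x w ≠ w := by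
  intro heq
  by_cases h : x ∈ w.2
  · rw [tog_of_mem h] at heq
    have : x ∈ w.2.erase x := by
      have h2 : w.2.erase x = w.2 := congrArg Prod.snd heq
      rw [h2]; exact h
    exact Finset.notMem_erase _ _ this
  · rw [tog_of_notMem h] at heq
    have h2 : insert x w.2 = w.2 := congrArg Prod.snd heq
    exact h (h2 ▸ Finset.mem_insert_self _ _)

theorem isCyc_tog {x : P} {w : (P →₀ ℕ) × Finset P} (hxc : Cl x) (h1 : IsCyc Cl w.1)
    (h2 : ∀ y ∈ w.2, Cl y) :
    IsCyc Cl (tog x w).1 ∧ ∀ y ∈ (tog x w).2, Cl y := by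
  by_cases h : x ∈ w.2
  · rw [tog_of_mem h]
    refine ⟨fun y hy => ?_, fun y hy => h2 y (Finset.mem_of_mem_erase hy)⟩
    have hy' : y ∈ (w.1 + Finsupp.single x 1).support := hy
    rcases Finset.mem_union.mp (Finsupp.support_add hy') with h3 | h3
    · exact h1 y h3
    · have : y = x := by
        have := Finsupp.support_single_subset h3
        simpa using this
      exact this ▸ hxc
  · rw [tog_of_notMem h]
    refine ⟨fun y hy => ?_, fun y hy => ?_⟩
    · have hy' : y ∈ (w.1 - Finsupp.single x 1).support := hy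
      exact h1 y (Finsupp.support_tsub hy')
    · rcases Finset.mem_insert.mp hy with h3 | h3
      · exact h3 ▸ hxc
      · exact h2 y h3

end toggle

/-- Choice of a point of a nonempty finite set. -/
noncomputable def pk (U : Finset P) (h : U.Nonempty) : P := h.choose

theorem pk_mem (U : Finset P) (h : U.Nonempty) : pk U h ∈ U := h.choose_spec

theorem pk_congr {U U' : Finset P} (e : U = U') (h : U.Nonempty) (h' : U'.Nonempty) :
    pk U h = pk U' h' := by
  subst e
  rfl

/-- The indicator cycle of a finite set. -/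
noncomputable def ind (S : Finset P) : P →₀ ℕ := ∑ x ∈ S, Finsupp.single x 1

theorem ind_apply [DecidableEq P] (S : Finset P) (y : P) : ind S y = if y ∈ S then 1 else 0 := by
  unfold ind
  rw [Finsupp.finsetSum_apply]
  simp only [Finsupp.single_apply]
  rw [Finset.sum_ite_eq' S y]

theorem support_ind (S : Finset P) : (ind S).support = S := by
  classical
  ext y
  rw [Finsupp.mem_support_iff, ind_apply]
  by_cases h : y ∈ S <;> simp [h]

theorem nm_ind (S : Finset P) : nm Nn (ind S) = ns Nn S := by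
  classical
  unfold ind ns
  induction S using Finset.induction_on with
  | empty => simp [nm_zero]
  | insert x S hx ih =>
    rw [Finset.sum_insert hx, Finset.prod_insert hx, nm_add, nm_single, pow_one, ih]

variable (Cl Nn)

/-- The set of squarefree cycles (finite sets of closed points) of norm `e`. -/
def sqSet (e : ℕ) : Set (Finset P) := {S | (∀ x ∈ S, Cl x) ∧ ns Nn S = e}

/-- The set of cycles of norm `d`. -/
def cycSet (d : ℕ) : Set (P →₀ ℕ) := {α | IsCyc Cl α ∧ nm Nn α = d}

variable {Cl Nn}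

theorem ns_pos (h2 : ∀ x, Cl x → 2 ≤ Nn x) {S : Finset P} (hS : ∀ x ∈ S, Cl x) :
    0 < ns Nn S := by
  unfold ns
  refine Finset.prod_pos fun x hx => ?_
  have := h2 x (hS x hx)
  omega

theorem finite_cycSet (h2 : ∀ x, Cl x → 2 ≤ Nn x) (hfin : ∀ M, {x | Cl x ∧ Nn x ≤ M}.Finite)
    (d : ℕ) : (cycSet Cl Nn d).Finite := by
  have h : Finite ↑(cycSet Cl Nn d) := finite_cyc h2 hfin d
  exact Set.toFinite _

theorem finite_sqSet (h2 : ∀ x, Cl x → 2 ≤ Nn x) (hfin : ∀ M, {x | Cl x ∧ Nn x ≤ M}.Finite)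
    (e : ℕ) : (sqSet Cl Nn e).Finite := by
  classical
  refine Set.Finite.subset ((hfin e).toFinset.powerset.finite_toSet) ?_
  intro S hS
  rw [Finset.mem_coe, Finset.mem_powerset]
  intro x hx
  rw [Set.Finite.mem_toFinset]
  refine ⟨hS.1 x hx, ?_⟩
  have hpos : 0 < e := hS.2 ▸ ns_pos h2 hS.1
  have hdvd : Nn x ∣ e := hS.2 ▸ Finset.dvd_prod_of_mem Nn hx
  exact Nat.le_of_dvd hpos hdvd

theorem acount_eq_card (h2 : ∀ x, Cl x → 2 ≤ Nn x) (hfin : ∀ M, {x | Cl x ∧ Nn x ≤ M}.Finite)
    (d : ℕ) : acount Cl Nn d = (finite_cycSet h2 hfin d).toFinset.card := by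
  rw [← Nat.card_eq_card_finite_toFinset]
  rfl

/-- The inverse coefficients. -/
noncomputable def bcoef (h2 : ∀ x, Cl x → 2 ≤ Nn x) (hfin : ∀ M, {x | Cl x ∧ Nn x ≤ M}.Finite)
    (e : ℕ) : ℂ := ∑ S ∈ (finite_sqSet h2 hfin e).toFinset, (-1 : ℂ) ^ S.card

theorem norm_bcoef_le (h2 : ∀ x, Cl x → 2 ≤ Nn x) (hfin : ∀ M, {x | Cl x ∧ Nn x ≤ M}.Finite)
    (e : ℕ) : ‖bcoef h2 hfin e‖ ≤ (acount Cl Nn e : ℝ) := by
  classical
  unfold bcoef
  refine (norm_sum_le _ _).trans ?_
  have h1 : ∀ S ∈ (finite_sqSet h2 hfin e).toFinset, ‖(-1 : ℂ) ^ S.card‖ = 1 := by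
    intro S _
    rw [norm_pow, norm_neg, norm_one, one_pow]
  rw [Finset.sum_congr rfl h1, Finset.sum_const, nsmul_eq_mul, mul_one, acount_eq_card h2 hfin]
  have : (finite_sqSet h2 hfin e).toFinset.card ≤ (finite_cycSet h2 hfin e).toFinset.card := by
    refine Finset.card_le_card_of_injOn ind ?_ ?_
    · intro S hS
      have hS' := (Set.Finite.mem_toFinset _).mp (Finset.mem_coe.mp hS)
      rw [Finset.mem_coe, Set.Finite.mem_toFinset]
      refine ⟨fun x hx => hS'.1 x ?_, ?_⟩
      · rw [support_ind] at hx; exact hx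
      · rw [nm_ind]; exact hS'.2
    · intro S _ S' _ h
      have := congrArg Finsupp.support h
      rwa [support_ind, support_ind] at this
  exact_mod_cast this

/-- The convolution identity. -/
theorem conv_eq (h2 : ∀ x, Cl x → 2 ≤ Nn x) (hfin : ∀ M, {x | Cl x ∧ Nn x ≤ M}.Finite)
    (n : ℕ) (hn : n ≠ 0) :
    ∑ p ∈ n.divisorsAntidiagonal, (acount Cl Nn p.1 : ℂ) * bcoef h2 hfin p.2 =
      if n = 1 then 1 else 0 := by
  classical
  -- the finite set of pairs
  let WS : Set ((P →₀ ℕ) × Finset P) :=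
    {w | IsCyc Cl w.1 ∧ (∀ x ∈ w.2, Cl x) ∧ nm Nn w.1 * ns Nn w.2 = n}
  have hWfin : WS.Finite := by
    have hA : (⋃ d ∈ n.divisors, cycSet Cl Nn d).Finite :=
      Set.Finite.biUnion (Finset.finite_toSet _) (fun d _ => finite_cycSet h2 hfin d)
    have hB : (⋃ e ∈ n.divisors, sqSet Cl Nn e).Finite :=
      Set.Finite.biUnion (Finset.finite_toSet _) (fun e _ => finite_sqSet h2 hfin e)
    refine Set.Finite.subset (hA.prod hB) ?_
    intro w hw
    refine Set.mem_prod.mpr ⟨?_, ?_⟩
    · refine Set.mem_biUnion (x := nm Nn w.1) ?_ ⟨hw.1, rfl⟩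
      rw [Finset.mem_coe, Nat.mem_divisors]
      exact ⟨Dvd.intro _ hw.2.2, hn⟩
    · refine Set.mem_biUnion (x := ns Nn w.2) ?_ ⟨hw.2.1, rfl⟩
      rw [Finset.mem_coe, Nat.mem_divisors]
      exact ⟨Dvd.intro_left _ hw.2.2, hn⟩
  set W : Finset ((P →₀ ℕ) × Finset P) := hWfin.toFinset with hWdef
  have hW : ∀ w, w ∈ W ↔ IsCyc Cl w.1 ∧ (∀ x ∈ w.2, Cl x) ∧ nm Nn w.1 * ns Nn w.2 = n :=
    fun w => by rw [hWdef, Set.Finite.mem_toFinset]; rfl
  let F : (P →₀ ℕ) × Finset P → ℂ := fun w => (-1 : ℂ) ^ w.2.card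
  -- step 1: the convolution is the sum of `F` over `W`
  have hstep1 : ∑ p ∈ n.divisorsAntidiagonal, (acount Cl Nn p.1 : ℂ) * bcoef h2 hfin p.2 =
      ∑ w ∈ W, F w := by
    have hmaps : ∀ w ∈ W, (nm Nn w.1, ns Nn w.2) ∈ n.divisorsAntidiagonal := by
      intro w hw
      rw [Nat.mem_divisorsAntidiagonal]
      exact ⟨((hW w).mp hw).2.2, hn⟩
    rw [← Finset.sum_fiberwise_of_maps_to hmaps F]
    refine Finset.sum_congr rfl fun p hp => ?_
    have hfil : W.filter (fun w => (nm Nn w.1, ns Nn w.2) = p) =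
        (finite_cycSet h2 hfin p.1).toFinset ×ˢ (finite_sqSet h2 hfin p.2).toFinset := by
      ext w
      rw [Finset.mem_filter, hW, Finset.mem_product, Set.Finite.mem_toFinset,
        Set.Finite.mem_toFinset]
      constructor
      · rintro ⟨⟨h1, h2', -⟩, h4⟩
        have h5 : nm Nn w.1 = p.1 := congrArg Prod.fst h4
        have h6 : ns Nn w.2 = p.2 := congrArg Prod.snd h4
        exact ⟨⟨h1, h5⟩, ⟨h2', h6⟩⟩
      · rintro ⟨⟨h1, h5⟩, ⟨h2', h6⟩⟩
        refine ⟨⟨h1, h2', ?_⟩, Prod.ext h5 h6⟩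
        rw [h5, h6]
        exact (Nat.mem_divisorsAntidiagonal.mp hp).1
    rw [hfil, Finset.sum_product]
    simp only [F]
    rw [Finset.sum_const, nsmul_eq_mul, ← acount_eq_card h2 hfin]
    rfl
  rw [hstep1]
  by_cases h1 : n = 1
  · -- only the trivial pair
    rw [if_pos h1]
    have hW1 : W = {((0 : P →₀ ℕ), (∅ : Finset P))} := by
      ext w
      rw [hW, Finset.mem_singleton]
      constructor
      · rintro ⟨hc, hs, hprod⟩
        rw [h1] at hprod
        have hnm : nm Nn w.1 = 1 := Nat.eq_one_of_mul_eq_one_right hprod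
        have hns : ns Nn w.2 = 1 := Nat.eq_one_of_mul_eq_one_left hprod
        have e1 : w.1 = 0 := by
          by_contra hne
          obtain ⟨x, hx⟩ := Finsupp.support_nonempty_iff.mpr hne
          have := (le_of_mem_support h2 hc hx).1
          have := h2 x (hc x hx)
          omega
        have e2 : w.2 = ∅ := by
          by_contra hne
          obtain ⟨x, hx⟩ := Finset.nonempty_iff_ne_empty.mpr hne
          have hdvd : Nn x ∣ ns Nn w.2 := Finset.dvd_prod_of_mem Nn hx
          rw [hns] at hdvd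
          have := h2 x (hs x hx)
          have := Nat.le_of_dvd one_pos hdvd
          omega
        exact Prod.ext e1 e2
      · rintro rfl
        refine ⟨fun x hx => by simp at hx, fun x hx => by simp at hx, ?_⟩
        rw [h1]
        show nm Nn (0 : P →₀ ℕ) * ns Nn (∅ : Finset P) = 1
        rw [nm_zero]
        simp [ns]
    rw [hW1, Finset.sum_singleton]
    simp [F]
  · rw [if_neg h1]
    have hne : ∀ w ∈ W, (UU w).Nonempty := by
      intro w hw
      rw [Finset.nonempty_iff_ne_empty]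
      intro hempty
      obtain ⟨-, -, hprod⟩ := (hW w).mp hw
      have e1 : w.1.support = ∅ := by
        have := Finset.union_eq_empty.mp hempty
        exact this.1
      have e2 : w.2 = ∅ := (Finset.union_eq_empty.mp hempty).2
      have e1' : w.1 = 0 := Finsupp.support_eq_empty.mp e1
      rw [e1', e2, nm_zero] at hprod
      apply h1
      rw [← hprod]
      simp [ns]
    have hcl : ∀ w (hw : w ∈ W), Cl (pk (UU w) (hne w hw)) := by
      intro w hw
      obtain ⟨hc, hs, -⟩ := (hW w).mp hw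
      rcases Finset.mem_union.mp (pk_mem (UU w) (hne w hw)) with h | h
      · exact hc _ h
      · exact hs _ h
    have hgmem : ∀ w (hw : w ∈ W), tog (pk (UU w) (hne w hw)) w ∈ W := by
      intro w hw
      obtain ⟨hc, hs, hprod⟩ := (hW w).mp hw
      rw [hW]
      obtain ⟨a1, a2⟩ := isCyc_tog (hcl w hw) hc hs
      exact ⟨a1, a2, (nm_ns_tog (pk_mem _ _)).trans hprod⟩
    refine Finset.sum_involution (fun w hw => tog (pk (UU w) (hne w hw)) w) ?_ ?_ hgmem ?_
    · intro w hw
      exact sign_tog _ w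
    · intro w hw _
      exact tog_ne _ w
    · intro w hw
      have hU : UU (tog (pk (UU w) (hne w hw)) w) = UU w := UU_tog (pk_mem _ _)
      have hpk : pk (UU (tog (pk (UU w) (hne w hw)) w)) (hne _ (hgmem w hw)) =
          pk (UU w) (hne w hw) := pk_congr hU _ _
      show tog (pk (UU (tog (pk (UU w) (hne w hw)) w)) (hne _ (hgmem w hw)))
        (tog (pk (UU w) (hne w hw)) w) = w
      rw [hpk]
      exact tog_tog (pk_mem _ _)

end Groth.Agent.Lib.Lead.ZCyc
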