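import Mathlib
import Groth.Agent.Lib.Lead.PtCount4
import Groth.Agent.Lib.Lead.ZCyc1
import Groth.Agent.Lib.Lead.ZCyc3
import Groth.Agent.Lib.Helper6.FtIntPoints

/-! The Dirichlet series of effective zero-cycles on a scheme of finite type over `ℤ`:
absolute convergence for `Re s > dim` and non-vanishing there. -/

set_option autoImplicit false
universe u

open CategoryTheory AlgebraicGeometry

namespace Groth.Agent.Lib.Lead.ZCyc

open scoped LSeries.notation

section

variable {X : Scheme.{u}} (f : X ⟶ Spec (CommRingCat.of (ULift.{u} ℤ))) [LocallyOfFiniteType f]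

include f in
theorem two_le_card (x : X) (hx : IsClosed ({x} : Set X)) :
    2 ≤ Nat.card (X.residueField x) := by
  have := Groth.Agent.Lib.Helper6.FtInt.finite_residueField_of_isClosed f x hx
  exact Finite.one_lt_card

variable [QuasiCompact f]

include f in
theorem exists_pcount_le (r : ℕ) (hr : topologicalKrullDim X ≤ r) :
    ∃ c p₀ : ℕ, ∀ n : ℕ,
      {x : X | IsClosed ({x} : Set X) ∧ Nat.card (X.residueField x) = n}.Finite ∧
      {x : X | IsClosed ({x} : Set X) ∧ Nat.card (X.residueField x) = n}.ncard ≤ c * n ^ r ∧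
      (p₀ ≤ n.minFac →
        {x : X | IsClosed ({x} : Set X) ∧ Nat.card (X.residueField x) = n}.ncard * n ≤
          c * n ^ r) ∧
      ({x : X | IsClosed ({x} : Set X) ∧ Nat.card (X.residueField x) = n}.ncard ≠ 0 →
        IsPrimePow n) := by
  classical
  obtain ⟨c, p₀, h⟩ := Groth.Agent.Lib.Lead.PtCount.exists_card_points_le f r hr
  refine ⟨c, p₀, fun n => ?_⟩
  set Sn := {x : X | IsClosed ({x} : Set X) ∧ Nat.card (X.residueField x) = n} with hSn
  rcases Set.eq_empty_or_nonempty Sn with hempty | ⟨x₀, hx₀⟩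
  · rw [hempty]
    simp
  let F : Type u := X.residueField x₀
  have hFfin : Finite F := Groth.Agent.Lib.Helper6.FtInt.finite_residueField_of_isClosed f x₀ hx₀.1
  letI : Fintype F := Fintype.ofFinite F
  have hcardF : Nat.card F = n := hx₀.2
  obtain ⟨p, hpF⟩ := CharP.exists F
  have hp : p.Prime := CharP.char_is_prime F p
  obtain ⟨hfinX, hbig, hall⟩ := h F p hp
  have hiso : ∀ x : Sn, Nonempty ((X.residueField x.1) ≃+* F) := by
    intro x
    have : Finite (X.residueField x.1) :=
      Groth.Agent.Lib.Helper6.FtInt.finite_residueField_of_isClosed f x.1 x.2.1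
    letI : Fintype (X.residueField x.1) := Fintype.ofFinite _
    refine ⟨FiniteField.ringEquivOfCardEq ?_⟩
    rw [← Nat.card_eq_fintype_card, ← Nat.card_eq_fintype_card, x.2.2, hcardF]
  let Φ : Sn → (Spec (CommRingCat.of F) ⟶ X) := fun x =>
    Spec.map (CommRingCat.ofHom ((Classical.choice (hiso x)).toRingHom)) ≫
      X.fromSpecResidueField x.1
  have hΦ : Function.Injective Φ := by
    intro x y hxy
    let pt : Spec (CommRingCat.of F) := (⊥ : PrimeSpectrum F)
    have h1 : ∀ z : Sn, (Φ z) pt = z.1 := by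
      intro z
      show (Spec.map (CommRingCat.ofHom ((Classical.choice (hiso z)).toRingHom)) ≫
        X.fromSpecResidueField z.1) pt = z.1
      rw [Scheme.Hom.comp_apply]
      exact Scheme.fromSpecResidueField_apply z.1 _
    apply Subtype.ext
    rw [← h1 x, ← h1 y, hxy]
  have hSfin : Sn.Finite := by
    have : Finite Sn := Finite.of_injective Φ hΦ
    exact Set.toFinite Sn
  have hle : Sn.ncard ≤ Nat.card (Spec (CommRingCat.of F) ⟶ X) := by
    rw [← Nat.card_coe_set_eq]
    exact Nat.card_le_card_of_injective Φ hΦ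
  have hFpos : 0 < Nat.card F := Nat.card_pos
  refine ⟨hSfin, ?_, ?_, ?_⟩
  · rw [← hcardF]
    exact hle.trans hall
  · intro hmin
    obtain ⟨k, -, hk⟩ := FiniteField.card F p
    have hn : n = p ^ (k : ℕ) := by rw [← hcardF, Nat.card_eq_fintype_card, hk]
    have hminp : n.minFac = p := by rw [hn]; exact hp.pow_minFac k.pos.ne'
    rw [hminp] at hmin
    rw [← hcardF]
    exact (Nat.mul_le_mul_right _ hle).trans (hbig hmin)
  · intro _
    rw [← hcardF, Nat.card_eq_fintype_card]
    exact FiniteField.isPrimePow_card F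

end

/-- Main theorem: convergence for `Re s > r` and non-vanishing. -/
theorem main {X : Scheme.{u}} (f : X ⟶ Spec (CommRingCat.of (ULift.{u} ℤ)))
    [LocallyOfFiniteType f] [QuasiCompact f] (r : ℕ) (hr : topologicalKrullDim X ≤ r)
    (a : ℕ → ℂ)
    (ha : ∀ n, a n = (acount (fun x : X => IsClosed ({x} : Set X))
      (fun x : X => Nat.card (X.residueField x)) n : ℂ)) :
    LSeries.abscissaOfAbsConv a ≤ (r : ℝ) ∧ ∀ s : ℂ, (r : ℝ) < s.re → LSeries a s ≠ 0 := by
  classical
  set Cl : X → Prop := fun x => IsClosed ({x} : Set X) with hCl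
  set Nn : X → ℕ := fun x => Nat.card (X.residueField x) with hNn
  have h2 : ∀ x, Cl x → 2 ≤ Nn x := fun x hx => two_le_card f x hx
  obtain ⟨c, p₀, hp⟩ := exists_pcount_le f r hr
  have hfin : ∀ M, {x | Cl x ∧ Nn x ≤ M}.Finite := by
    intro M
    refine Set.Finite.subset (Set.Finite.biUnion (Finset.range (M + 1)).finite_toSet
      (fun n _ => (hp n).1)) ?_
    intro x hx
    refine Set.mem_biUnion (x := Nn x) ?_ ⟨hx.1, rfl⟩
    rw [Finset.mem_coe, Finset.mem_range]
    exact Nat.lt_succ_of_le hx.2
  -- summability for real exponents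
  have hsummable : ∀ σ : ℝ, (r : ℝ) < σ → LSeriesSummable a σ := by
    intro σ hσ
    have hσ0 : 0 < σ := lt_of_le_of_lt (Nat.cast_nonneg r) hσ
    set K : ℝ := ∑' n, gw c p₀ r σ n with hKdef
    have hK : ∀ T : Finset X, (∀ x ∈ T, Cl x) → ∑ x ∈ T, ((Nn x : ℝ)) ^ (-σ) ≤ K := by
      intro T hT
      have e := Finset.sum_comp (s := T) (fun n : ℕ => (n : ℝ) ^ (-σ)) Nn
      rw [e]
      set π : ℕ → ℕ := fun n =>
        {x : X | IsClosed ({x} : Set X) ∧ Nat.card (X.residueField x) = n}.ncard with hπ
      have hbound := sum_le_tsum_gw c p₀ r σ hσ (T.image Nn) π (fun n => (hp n).2.1)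
        (fun n => (hp n).2.2.1) (fun n => (hp n).2.2.2)
      refine le_trans (Finset.sum_le_sum fun n _ => ?_) hbound
      rw [nsmul_eq_mul]
      refine mul_le_mul_of_nonneg_right ?_ (Real.rpow_nonneg (Nat.cast_nonneg _) _)
      have hsub : (↑(T.filter (fun x => Nn x = n)) : Set X) ⊆
          {x : X | IsClosed ({x} : Set X) ∧ Nat.card (X.residueField x) = n} := by
        intro x hx
        have hx' := Finset.mem_filter.mp (Finset.mem_coe.mp hx)
        exact ⟨hT x hx'.1, hx'.2⟩
      have := Set.ncard_le_ncard hsub (hp n).1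
      rw [Set.ncard_coe_finset] at this
      exact_mod_cast this
    have hpartial := sum_range_le h2 hfin σ K hσ0 hK
    have hsum : Summable (fun n : ℕ => (acount Cl Nn n : ℝ) * (n : ℝ) ^ (-σ)) :=
      summable_of_sum_range_le
        (fun n => mul_nonneg (Nat.cast_nonneg _) (Real.rpow_nonneg (Nat.cast_nonneg _) _))
        hpartial
    refine Summable.of_norm_bounded hsum (fun n => ?_)
    rw [LSeries.norm_term_eq]
    split_ifs with hn0
    · exact mul_nonneg (Nat.cast_nonneg _) (Real.rpow_nonneg (Nat.cast_nonneg _) _)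
    · rw [ha n, Complex.norm_natCast, Complex.ofReal_re, Real.rpow_neg (Nat.cast_nonneg _),
        div_eq_mul_inv]
  have habs : LSeries.abscissaOfAbsConv a ≤ (r : ℝ) :=
    LSeries.abscissaOfAbsConv_le_of_forall_lt_LSeriesSummable hsummable
  refine ⟨habs, fun s hs => ?_⟩
  have hsa : LSeriesSummable a s :=
    LSeriesSummable_of_abscissaOfAbsConv_lt_re (lt_of_le_of_lt habs (by exact_mod_cast hs))
  set b : ℕ → ℂ := fun n => bcoef h2 hfin n with hb
  have hsb : LSeriesSummable b s := by
    refine Summable.of_norm_bounded hsa.norm (fun n => ?_)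
    refine LSeries.norm_term_le s ?_
    rw [ha n, Complex.norm_natCast]
    exact norm_bcoef_le h2 hfin n
  have hconv : LSeries (a ⍟ b) s = LSeries a s * LSeries b s := LSeries_convolution' hsa hsb
  have hdelta : LSeries (a ⍟ b) s = 1 := by
    have : LSeries (a ⍟ b) s = LSeries δ s := by
      refine LSeries_congr (fun {n} hn => ?_) s
      rw [LSeries.convolution_def]
      show ∑ p ∈ n.divisorsAntidiagonal, a p.1 * b p.2 = LSeries.delta n
      have := conv_eq h2 hfin n hn
      simp only [ha, hb]
      rw [this]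
      rfl
    rw [this, LSeries_delta]
    rfl
  rw [hdelta] at hconv
  exact left_ne_zero_of_mul_eq_one hconv.symm

end Groth.Agent.Lib.Lead.ZCyc
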